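import Mathlib
import Cfsg.Agent.Lib.HallHigman.Eigen
import Cfsg.Agent.Lib.HallHigman.Unipotent

/-!
# Commutants of commuting operators of finite order, block by block, and the arithmetic of the block sizes
-/

set_option autoImplicit false
set_option linter.style.haveILetI false
set_option linter.unusedSectionVars false

namespace Cfsg.Agent.TwoGenSolvable

open Finset HallHigman

variable {k : Type*} [Field k] {V : Type*} [AddCommGroup V] [Module k V] [FiniteDimensional k V] {r : ℕ}
  {ζ : k} {S : Module.End k V}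

/-- The eigenspace of `ζ ^ i`. -/
abbrev eig (ζ : k) (S : Module.End k V) (i : Fin r) : Submodule k V := Module.End.eigenspace S (ζ ^ (i : ℕ))

theorem eig_apply {i : Fin r} {v : V} (hv : v ∈ eig ζ S i) : S v = ζ ^ (i : ℕ) • v :=
  Module.End.mem_eigenspace_iff.mp hv

theorem eig_zero (h0 : 0 < r) : eig ζ S (⟨0, h0⟩ : Fin r) = LinearMap.ker (S - 1) := by
  ext v
  simp [Module.End.mem_eigenspace_iff, sub_eq_zero]

/-- `V` is the sum of the eigenspaces. -/
theorem sum_finrank_eig (hζ : IsPrimitiveRoot ζ r) (hr0 : (r : k) ≠ 0) (hr : 0 < r) (hS : S ^ r = 1) :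
    ∑ i : Fin r, Module.finrank k (eig ζ S i) = Module.finrank k V := by
  classical
  let Φ : V →ₗ[k] ∀ i, eig ζ S i :=
    LinearMap.pi fun i => (proj ζ S i).codRestrict _ (proj_mem_eigenspace hζ hS i)
  have hinj : Function.Injective Φ := by
    refine (injective_iff_map_eq_zero Φ).2 fun v hv => ?_
    rw [← Module.End.one_apply (M := V) (R := k) v, ← sum_proj hζ hr0 hr (S := S), LinearMap.sum_apply]
    exact Finset.sum_eq_zero fun i _ => congrArg Subtype.val (congrFun hv i)
  have hsurj : Function.Surjective Φ := fun g => ⟨∑ i, (g i : V), funext fun j => Subtype.ext (by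
    show proj ζ S j (∑ i, (g i : V)) = _
    rw [map_sum, Finset.sum_eq_single j (fun i _ hij => by
      rw [proj_apply_of_eigen hζ hr0 j i (eig_apply (g i).2), if_neg hij.symm]) (by simp),
      proj_apply_of_eigen hζ hr0 j j (eig_apply (g j).2), if_pos rfl])⟩
  rw [(LinearEquiv.ofBijective Φ ⟨hinj, hsurj⟩).finrank_eq, Module.finrank_pi_fintype]

/-- Block commutants embed in the joint commutant. -/
theorem sum_block_le (hζ : IsPrimitiveRoot ζ r) (hr0 : (r : k) ≠ 0) (hr : 0 < r) (hS : S ^ r = 1)
    {T : Module.End k V} (hT : S * T = T * S) (hTi : ∀ i : Fin r, ∀ v ∈ eig ζ S i, T v ∈ eig ζ S i) :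
    ∑ i : Fin r, Module.finrank k (commutant (T.restrict (hTi i))) ≤
      Module.finrank k (commutant S ⊓ commutant T : Submodule k (Module.End k V)) := by
  classical
  let L : (∀ i : Fin r, commutant (T.restrict (hTi i))) →ₗ[k] Module.End k V :=
    ∑ i : Fin r, (LinearMap.llcomp k V (eig ζ S i) V (eig ζ S i).subtype) ∘ₗ
      (LinearMap.lcomp k (eig ζ S i) ((proj ζ S i).codRestrict (eig ζ S i) (proj_mem_eigenspace hζ hS i))) ∘ₗ
      (commutant (T.restrict (hTi i))).subtype ∘ₗ LinearMap.proj i
  have hLj : ∀ g j (v : eig ζ S j), L g (v : V) = ((g j : Module.End k (eig ζ S j)) v : V) := by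
    intro g j v
    simp only [L, LinearMap.sum_apply, LinearMap.coe_comp, Function.comp_apply, LinearMap.llcomp_apply,
      LinearMap.lcomp_apply, LinearMap.proj_apply, Submodule.subtype_apply]
    rw [Finset.sum_eq_single j (fun i _ hij => by
      have : (proj ζ S i).codRestrict (eig ζ S i) (proj_mem_eigenspace hζ hS i) (v : V) = 0 := Subtype.ext (by
        show proj ζ S i (v : V) = 0
        rw [proj_apply_of_eigen hζ hr0 i j (eig_apply v.2), if_neg hij])
      rw [this, map_zero, Submodule.coe_zero]) (by simp)]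
    have : (proj ζ S j).codRestrict (eig ζ S j) (proj_mem_eigenspace hζ hS j) (v : V) = v := Subtype.ext (by
      show proj ζ S j (v : V) = v
      rw [proj_apply_of_eigen hζ hr0 j j (eig_apply v.2), if_pos rfl])
    rw [this]
  have hext : ∀ f f' : Module.End k V, (∀ (j : Fin r) (v : eig ζ S j), f (v : V) = f' (v : V)) → f = f' := by
    intro f f' h
    rw [← mul_one f, ← mul_one f', ← sum_proj hζ hr0 hr (S := S), Finset.mul_sum, Finset.mul_sum]
    exact Finset.sum_congr rfl fun i _ => LinearMap.ext fun v => h i ⟨_, proj_mem_eigenspace hζ hS i v⟩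
  have hmem : ∀ g, L g ∈ commutant S ⊓ commutant T := fun g =>
    ⟨hext _ _ fun j v => by
      show S (L g (v : V)) = L g (S (v : V))
      rw [eig_apply v.2, map_smul, hLj, eig_apply ((g j : Module.End k (eig ζ S j)) v).2],
    hext _ _ fun j v => by
      show T (L g (v : V)) = L g (T (v : V))
      rw [hLj, show L g (T (v : V)) = _ from hLj g j ⟨T v, hTi j v v.2⟩]
      exact congrArg Subtype.val (LinearMap.congr_fun (mem_commutant.1 (g j).2) v)⟩
  have hinj : Function.Injective (L.codRestrict _ hmem) := by
    intro g g' h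
    refine funext fun j => Subtype.ext (LinearMap.ext fun v => Subtype.ext ?_)
    rw [← hLj, ← hLj]
    exact LinearMap.congr_fun (congrArg Subtype.val h) (v : V)
  have h := LinearMap.finrank_le_finrank_of_injective hinj
  rwa [Module.finrank_pi_fintype] at h

theorem finrank_commutant_one : Module.finrank k (commutant (1 : Module.End k V)) = Module.finrank k V ^ 2 := by
  have : commutant (1 : Module.End k V) = ⊤ := by
    ext f
    simp [mem_commutant]
  rw [this, finrank_top, Module.finrank_linearMap, pow_two]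

/-- The squares of the block sizes add up to at most the commutant. -/
theorem sum_sq_le_commutant (hζ : IsPrimitiveRoot ζ r) (hr0 : (r : k) ≠ 0) (hr : 0 < r) (hS : S ^ r = 1) :
    ∑ i : Fin r, Module.finrank k (eig ζ S i) ^ 2 ≤ Module.finrank k (commutant S) := by
  refine le_trans (le_of_eq ?_) ((sum_block_le hζ hr0 hr hS (T := 1) (by rw [mul_one, one_mul])
    fun i v hv => hv).trans (Submodule.finrank_mono inf_le_left))
  refine Finset.sum_congr rfl fun i _ => ?_
  rw [show (1 : Module.End k V).restrict (fun v hv => hv : ∀ v ∈ eig ζ S i, (1 : Module.End k V) v ∈ eig ζ S i) =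
    (1 : Module.End k (eig ζ S i)) from LinearMap.ext fun v => Subtype.ext rfl, finrank_commutant_one]

/-- An operator with `T ^ q = 1` has commutant at least `d ^ 2 / q`. -/
theorem sq_le_mul_commutant [IsAlgClosed k] {q : ℕ} [hq : Fact q.Prime] {T : Module.End k V} (hT : T ^ q = 1) :
    Module.finrank k V ^ 2 ≤ q * Module.finrank k (commutant T) := by
  by_cases hqk : (q : k) = 0
  · have hN : (T - 1) ^ q = 0 := by
      cases subsingleton_or_nontrivial V with
      | inl h => exact Subsingleton.elim _ _
      | inr h =>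
        haveI : CharP k q := by
          obtain ⟨c, hc⟩ := CharP.exists k
          rcases (Nat.dvd_prime hq.out).mp ((CharP.cast_eq_zero_iff k c q).mp hqk) with e | e
          · subst e; exact absurd rfl (CharP.char_ne_one k 1)
          · subst e; exact hc
        haveI : CharP (Module.End k V) q :=
          charP_of_injective_algebraMap (algebraMap k (Module.End k V)).injective q
        rw [sub_pow_char_of_commute (p := q) (Commute.one_right T), hT, one_pow, sub_self]
    refine (sq_finrank_le_of_nilpotent q (T - 1) hN).trans (le_of_eq ?_)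
    rw [show commutant (T - 1) = commutant T from ?_]
    ext f
    simp only [mem_commutant, sub_mul, mul_sub, one_mul, mul_one, sub_left_inj]
  · haveI : NeZero (q : k) := ⟨hqk⟩
    obtain ⟨η, hη⟩ := HasEnoughRootsOfUnity.exists_primitiveRoot k q
    calc Module.finrank k V ^ 2 = (∑ i : Fin q, Module.finrank k (eig η T i)) ^ 2 := by
          rw [sum_finrank_eig hη hqk hq.out.pos hT]
      _ ≤ (Finset.univ : Finset (Fin q)).card * ∑ i : Fin q, Module.finrank k (eig η T i) ^ 2 :=
          sq_sum_le_card_mul_sum_sq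
      _ ≤ q * Module.finrank k (commutant T) := by
          rw [Finset.card_univ, Fintype.card_fin]
          exact Nat.mul_le_mul_left q (sum_sq_le_commutant hη hqk hq.out.pos hT)

theorem one_mem_commutant (T : Module.End k V) : (1 : Module.End k V) ∈ commutant T := by
  rw [mem_commutant, mul_one, one_mul]

theorem self_mem_commutant (T : Module.End k V) : T ∈ commutant T := rfl

/-- The commutant of a scalar is everything. -/
theorem finrank_commutant_of_scalar {T : Module.End k V} {c : k} (h : T = c • 1) :
    Module.finrank k (commutant T) = Module.finrank k V ^ 2 := by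
  rw [← finrank_commutant_one]
  rw [show commutant T = commutant (1 : Module.End k V) from ?_]
  subst h
  ext f
  simp [mem_commutant]

/-- In dimension at most two the commutant has at least the dimension of the space. -/
theorem finrank_le_commutant_of_le_two (T : Module.End k V) (h : Module.finrank k V ≤ 2) :
    Module.finrank k V ≤ Module.finrank k (commutant T) := by
  classical
  by_cases hsc : ∃ c : k, T = c • (1 : Module.End k V)
  · obtain ⟨c, hc⟩ := hsc
    rw [finrank_commutant_of_scalar hc, pow_two]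
    exact Nat.le_mul_self _
  cases subsingleton_or_nontrivial V with
  | inl hV => simp [Module.finrank_zero_of_subsingleton]
  | inr hV =>
    have hli : LinearIndependent k ![(1 : Module.End k V), T] := by
      rw [LinearIndependent.pair_iff]
      intro a b hab
      by_cases hb : b = 0
      · refine ⟨?_, hb⟩
        rw [hb, zero_smul, add_zero, smul_eq_zero] at hab
        exact hab.resolve_right one_ne_zero
      · refine absurd ⟨-(b⁻¹ * a), ?_⟩ hsc
        rw [neg_smul, mul_smul, eq_neg_iff_add_eq_zero, ← inv_smul_smul₀ hb T, ← smul_add, add_comm, hab, smul_zero]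
    have hle : Submodule.span k (Set.range ![(1 : Module.End k V), T]) ≤ commutant T := by
      rw [Submodule.span_le]
      rintro _ ⟨i, rfl⟩
      fin_cases i
      · exact one_mem_commutant T
      · exact self_mem_commutant T
    have := Submodule.finrank_mono hle
    rw [finrank_span_eq_card hli, Fintype.card_fin] at this
    omega

/-- Block sizes with nearly minimal sum of squares. -/
theorem block_sizes {p n : ℕ} (hp : p.Prime) (hp3 : 3 < p) (f : Fin p → ℕ) (hn : ∑ i, f i = n)
    (hdvd : ¬ p ∣ n) (h : p * ∑ i, f i ^ 2 + 1 ≤ n ^ 2 + p) :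
    p * ∑ i, f i ^ 2 + 1 = n ^ 2 + p ∧
      ∃ c : ℕ, (∀ i, f i = c ∨ f i = c + 1) ∧ (n = p * c + 1 ∨ n + 1 = p * (c + 1)) := by
  set c := n / p with hc
  set s := n % p with hs
  have hns : n = p * c + s := by rw [hc, hs, Nat.div_add_mod]
  have hs0 : 0 < s := Nat.pos_of_ne_zero fun e => hdvd (Nat.dvd_of_mod_eq_zero e)
  have hsp : s < p := Nat.mod_lt _ hp.pos
  have hterm : ∀ i, (0 : ℤ) ≤ ((f i : ℤ) - c) * ((f i : ℤ) - c - 1) := fun i => by
    rcases le_or_gt (f i : ℤ) c with hle | hgt
    · exact mul_nonneg_of_nonpos_of_nonpos (by linarith) (by linarith)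
    · exact mul_nonneg (by linarith) (by omega)
  set E : ℤ := ∑ i, ((f i : ℤ) - c) * ((f i : ℤ) - c - 1) with hE
  have hnZ : ∑ i, (f i : ℤ) = (p : ℤ) * c + s := by
    rw [← Nat.cast_sum, hn, hns]
    push_cast
    ring
  have hEeq : E = (∑ i, (f i : ℤ) ^ 2) - (2 * c + 1) * ((p : ℤ) * c + s) + p * (c * (c + 1)) := by
    rw [hE, ← hnZ, Finset.mul_sum, ← Finset.sum_sub_distrib, show (p : ℤ) * (c * (c + 1)) =
      ∑ _i : Fin p, (c : ℤ) * (c + 1) by simp, ← Finset.sum_add_distrib]
    exact Finset.sum_congr rfl fun i _ => by ring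
  have hZ : (p : ℤ) * (∑ i, (f i : ℤ) ^ 2) + 1 ≤ ((p : ℤ) * c + s) ^ 2 + p := by
    rw [hns] at h
    exact_mod_cast h
  have hkey : (p : ℤ) * E + s * (p - s) ≤ p - 1 := by rw [hEeq]; nlinarith
  have hE0 : 0 ≤ E := Finset.sum_nonneg fun i _ => hterm i
  have hsp' : (1 : ℤ) ≤ p - s := by omega
  have hs0' : (1 : ℤ) ≤ s := by omega
  have hE' : E = 0 := by
    by_contra hne
    have h1 : (1 : ℤ) ≤ E := by omega
    nlinarith
  rw [hE', mul_zero, zero_add] at hkey
  have hcase : s = 1 ∨ s + 1 = p := by
    by_contra hno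
    push Not at hno
    have h2 : (2 : ℤ) ≤ s := by omega
    have h3 : (2 : ℤ) ≤ p - s := by omega
    nlinarith [mul_nonneg (sub_nonneg.mpr h2) (sub_nonneg.mpr h3)]
  have hlow : ((p : ℤ) * c + s) ^ 2 + p - 1 ≤ p * ∑ i, (f i : ℤ) ^ 2 := by
    have h4 : ∑ i, (f i : ℤ) ^ 2 = (2 * c + 1) * ((p : ℤ) * c + s) - p * (c * (c + 1)) := by linarith
    rw [h4]
    rcases hcase with e | e
    · rw [e]; push_cast; nlinarith
    · have e' : (p : ℤ) = s + 1 := by omega
      rw [e']; nlinarith
  refine ⟨le_antisymm h ?_, c, fun i => ?_, ?_⟩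
  · have : ((n ^ 2 + p : ℕ) : ℤ) ≤ ((p * ∑ i, f i ^ 2 + 1 : ℕ) : ℤ) := by
      rw [hns]; push_cast; linarith
    exact_mod_cast this
  · have := (Finset.sum_eq_zero_iff_of_nonneg fun j _ => hterm j).mp hE' i (Finset.mem_univ i)
    rcases mul_eq_zero.mp this with h | h <;> omega
  · rcases hcase with e | e
    · exact Or.inl (by rw [hns, e])
    · exact Or.inr (by rw [hns, Nat.mul_succ]; omega)

end Cfsg.Agent.TwoGenSolvable
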