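import Mathlib
import Cfsg.Agent.Lib.PGroup.Frattini

/-!
# An `r`-group moved by two operators on a set every point of which one of them fixes
-/

set_option autoImplicit false
set_option linter.style.haveILetI false

namespace Cfsg.Agent.TwoGenSolvable

open Subgroup MulAction
open scoped commutatorElement

variable {W : Type*} [Group W] {Ω : Type*} [MulAction W Ω]

/-- If every point is fixed by one operator or by all members of a family, compatible with automorphisms that
move all of the `r`-group `W`, then `W` fixes every point. -/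
theorem smul_eq_of_perm [Finite W] {r : ℕ} [Fact r.Prime] (hW : IsPGroup r W) {σ : MulAut W} {ι : Type*}
    {τ : ι → MulAut W} (hσ : closure (Set.range fun w => σ w * w⁻¹) = ⊤)
    (hτ : closure (⋃ i, Set.range fun w => τ i w * w⁻¹) = ⊤)
    {x : Equiv.Perm Ω} {z : ι → Equiv.Perm Ω} (hx : ∀ (w : W) (χ : Ω), x (w • χ) = σ w • x χ)
    (hz : ∀ i (w : W) (χ : Ω), z i (w • χ) = τ i w • z i χ)
    (hfix : ∀ χ, x χ = χ ∨ ∀ i, z i χ = χ) (w : W) (χ : Ω) :
    w • χ = χ := by
  classical
  -- the block stabiliser of a point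
  set B : Subgroup W := stabilizer W χ ⊔ commutator W with hB
  by_contra hne
  have hBt : B ≠ ⊤ := fun h => hne (by
    have : stabilizer W χ = ⊤ := frattini_nongenerating
      (top_unique (h.symm.le.trans (sup_le_sup_left (PGroup.commutator_le_frattini hW) _)))
    exact mem_stabilizer_iff.mp (this ▸ mem_top w))
  haveI hBn : B.Normal := Normal.of_commutator_le W le_sup_right
  have hst : ∀ a u : W, u • a • χ = a • χ → u ∈ B := by
    intro a u h
    have h1 : a⁻¹ * u * a ∈ B := mem_sup_left (mem_stabilizer_iff.mpr (by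
      rw [mul_smul, mul_smul, h, inv_smul_smul]))
    have h2 := hBn.conj_mem _ h1 a
    rwa [show a * (a⁻¹ * u * a) * a⁻¹ = u by group] at h2
  -- a fixed point of either operator makes its automorphism preserve `B`
  have hinv : ∀ (θ : MulAut W) (e : Equiv.Perm Ω), (∀ (w : W) (η : Ω), e (w • η) = θ w • e η) → ∀ a : W,
      e (a • χ) = a • χ → ∀ b ∈ B, θ b ∈ B := by
    intro θ e he a ha b hb
    rw [hB] at hb
    have hle : stabilizer W χ ⊔ commutator W ≤ B.comap θ.toMonoidHom := by
      refine sup_le (fun s hs => ?_) ?_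
      · have h1 : (a * s * a⁻¹) • (a • χ) = a • χ := by
          rw [← mul_smul, inv_mul_cancel_right, mul_smul, mem_stabilizer_iff.mp hs]
        have h2 := hst a _ (by
          have := he (a * s * a⁻¹) (a • χ)
          rw [h1, ha] at this
          exact this.symm)
        show θ s ∈ B
        have h3 := hBn.conj_mem _ h2 (θ a)⁻¹
        simpa [map_mul, map_inv, mul_assoc] using h3
      · rw [commutator_def, commutator_le]
        intro u _ v _
        show θ ⁅u, v⁆ ∈ B
        rw [map_commutatorElement]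
        exact mem_sup_right (commutator_mem_commutator (mem_top _) (mem_top _))
    exact hle hb
  -- the subgroup on which an automorphism is trivial mod `B`
  let Fx : MulAut W → Subgroup W := fun θ =>
    { carrier := {u | θ u * u⁻¹ ∈ B}
      one_mem' := by simp [one_mem]
      mul_mem' := fun {u v} hu hv => by
        have := mul_mem hu (hBn.conj_mem _ hv u)
        simpa [map_mul, mul_assoc] using this
      inv_mem' := fun {u} hu => by
        have := hBn.conj_mem _ (inv_mem hu) u⁻¹
        simpa [map_inv, mul_assoc] using this }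
  have key : ∀ (θ : MulAut W) (e : Equiv.Perm Ω), (∀ (w : W) (η : Ω), e (w • η) = θ w • e η) → ∀ a : W,
      e (a • χ) = a • χ → B ≤ Fx θ ∧ (∀ u, e (u • χ) = u • χ → u * a⁻¹ ∈ Fx θ) ∧
        ∀ u, u ∈ Fx θ → θ u ∈ Fx θ := by
    intro θ e he a ha
    refine ⟨fun b hb => mul_mem (hinv θ e he a ha b hb) (inv_mem hb), fun u hu => ?_, fun u hu => ?_⟩
    · have h1 : θ (u * a⁻¹) • (a • χ) = u • χ := by
        have := he (u * a⁻¹) (a • χ)
        rwa [← mul_smul, inv_mul_cancel_right, hu, ha, eq_comm] at this
      refine hst u _ ?_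
      conv_lhs => rw [show u • χ = (u * a⁻¹) • a • χ by rw [← mul_smul, inv_mul_cancel_right]]
      rw [← mul_smul, inv_mul_cancel_right, h1]
    · show θ (θ u) * (θ u)⁻¹ ∈ B
      rw [← map_inv, ← map_mul]
      exact hinv θ e he a ha _ hu
  set F : Subgroup W := Fx σ with hFdef
  set E : Subgroup W := ⨅ i, Fx (τ i) with hEdef
  have hFt : F ≠ ⊤ := fun h => hBt (by
    rw [← top_le_iff, ← hσ, closure_le]
    rintro _ ⟨u, rfl⟩
    exact (h ▸ mem_top u : u ∈ F))
  have hEt : E ≠ ⊤ := fun h => hBt (by
    rw [← top_le_iff, ← hτ, closure_le, Set.iUnion_subset_iff]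
    rintro i _ ⟨u, rfl⟩
    exact (iInf_le (fun i => Fx (τ i)) i) (h ▸ mem_top u : u ∈ E))
  -- both kinds of operators fix points of the orbit
  obtain ⟨a, ha⟩ : ∃ a : W, x (a • χ) = a • χ := by
    by_contra hno
    push Not at hno
    refine hEt (top_unique fun u _ => mem_iInf.mpr fun i => ?_)
    have h1 := (key (τ i) (z i) (hz i) 1 ((hfix _).resolve_left (hno 1) i)).2.1 u
      ((hfix _).resolve_left (hno u) i)
    simpa using h1
  obtain ⟨b, hb⟩ : ∃ b : W, ∀ i, z i (b • χ) = b • χ := by
    by_contra hno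
    refine hFt (top_unique fun u _ => ?_)
    have hno' : ∀ v : W, x (v • χ) = v • χ := fun v => (hfix _).resolve_right fun h => hno ⟨v, h⟩
    simpa using (key σ x hx 1 (hno' 1)).2.1 u (hno' u)
  obtain ⟨hBF, hF, hFσ⟩ := key σ x hx a ha
  have hE : ∀ u, (∀ i, z i (u • χ) = u • χ) → u * b⁻¹ ∈ E := fun u hu =>
    mem_iInf.mpr fun i => (key (τ i) (z i) (hz i) b (hb i)).2.1 u (hu i)
  set c : W := b * a⁻¹ with hc
  have hcov : ∀ u : W, u ∈ F ∨ u * c⁻¹ ∈ E := fun u => by
    rcases hfix ((u * a) • χ) with h | h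
    · exact Or.inl (by simpa using hF _ h)
    · refine Or.inr ?_
      have := hE _ h
      rwa [hc, mul_inv_rev, inv_inv, ← mul_assoc]
  obtain ⟨f, hf⟩ : ∃ f, f ∉ F := not_forall.mp fun h => hFt ((eq_top_iff' F).mpr h)
  have hcE : c ∉ E := fun hcE => by
    -- otherwise `W` is the union of two proper subgroups
    have hcov' : ∀ u : W, u ∈ F ∨ u ∈ E := fun u => (hcov u).imp_right fun h => by
      simpa using mul_mem h hcE
    obtain ⟨e, he⟩ : ∃ e, e ∉ E := not_forall.mp fun h => hEt ((eq_top_iff' E).mpr h)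
    have heF := (hcov' e).resolve_right he
    have hfE := (hcov' f).resolve_left hf
    rcases hcov' (f * e) with h | h
    · exact hf (by simpa using mul_mem h (inv_mem heF))
    · exact he (by simpa using mul_mem (inv_mem hfE) h)
  have hEF : E ≤ F := fun e he => (hcov e).resolve_right fun h => hcE (by
    have := inv_mem (mul_mem (inv_mem he) h)
    simpa using this)
  -- hence `F` has index two and contains all the `σ w * w⁻¹`
  have hcoset : ∀ u v : W, u ∉ F → v ∉ F → u * v⁻¹ ∈ F := fun u v hu hv => by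
    have h1 := hEF ((hcov u).resolve_left hu)
    have h2 := hEF ((hcov v).resolve_left hv)
    simpa [mul_assoc] using mul_mem h1 (inv_mem h2)
  apply hFt
  rw [← top_le_iff, ← hσ, closure_le]
  rintro _ ⟨u, rfl⟩
  by_cases hu : u ∈ F
  · exact mul_mem (hFσ u hu) (inv_mem hu)
  refine hcoset _ _ (fun h => hu ?_) hu
  have hinj : Function.Injective fun v : F => (⟨σ v, hFσ v v.2⟩ : F) := fun v v' hvv =>
    Subtype.ext (σ.injective (congrArg Subtype.val hvv))
  obtain ⟨v, hv⟩ := (Finite.injective_iff_surjective.mp hinj) ⟨σ u, h⟩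
  rw [← σ.injective (congrArg Subtype.val hv)]
  exact v.2

end Cfsg.Agent.TwoGenSolvable
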