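import Mathlib
import Cfsg.Agent.Lib.FixedDim.Irreducible
import Cfsg.Agent.Lib.TwoGenSolvable.Perm

/-!
# The set-up of the module lemma: abelian normal subgroups of the moved `r`-group act by scalars
-/

set_option autoImplicit false
set_option linter.style.haveILetI false

namespace Cfsg.Agent.TwoGenSolvable

open Subgroup FixedDim
open scoped commutatorElement IsMulCommutative

universe uk uV

/-- `x` moves all of `W`. -/
def Moves {Γ : Type*} [Group Γ] (x : Γ) (W : Subgroup Γ) : Prop :=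
  W ≤ closure ((fun w => ⁅x, w⁆) '' (W : Set Γ))

theorem Moves.eq_bot_of_commute {Γ : Type*} [Group Γ] {x : Γ} {W : Subgroup Γ} (h : Moves x W)
    (hc : ∀ w ∈ W, x * w = w * x) : W = ⊥ := by
  rw [eq_bot_iff]
  refine h.trans ((closure_le _).mpr ?_)
  rintro _ ⟨w, hw, rfl⟩
  exact mem_bot.mpr (commutatorElement_eq_one_iff_mul_comm.mpr (hc w hw))

theorem Moves.closure_eq_top {Γ : Type*} [Group Γ] {x : Γ} {W : Subgroup Γ} [W.Normal] (h : Moves x W) :
    closure (Set.range fun w : W => (MulAut.conjNormal x : MulAut W) w * w⁻¹) = ⊤ := by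
  refine map_injective W.subtype_injective ?_
  rw [← MonoidHom.range_eq_map, range_subtype, MonoidHom.map_closure]
  refine le_antisymm ((closure_le _).mpr ?_) (h.trans (closure_mono ?_))
  · rintro _ ⟨w, -, rfl⟩
    exact w.2
  · rintro _ ⟨w, hw, rfl⟩
    exact ⟨(MulAut.conjNormal x : MulAut W) ⟨w, hw⟩ * (⟨w, hw⟩ : W)⁻¹, ⟨_, rfl⟩, by
      simp [commutatorElement_def]⟩

variable {k : Type uk} [Field k] {V : Type uV} [AddCommGroup V] [Module k V]
  {Γ : Type*} [Group Γ]

/-- The hypotheses of the module lemma: the `r`-group `W` is moved by `x` of order dividing `p` and by a set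
`Δ` of elements of order dividing `q` commuting with `x`; either `Δ` is trivial on the fixed points of `x`, or
there are none. -/
structure DData (ρ : Γ →* Module.End k V) (p q r : ℕ) (x : Γ) (Δ : Set Γ) (W : Subgroup Γ) : Prop where
  inj : Function.Injective ρ
  irr : NoInvariant ρ
  gen : W ⊔ closure (insert x Δ) = ⊤
  comm : ∀ δ ∈ Δ, x * δ = δ * x
  xp : x ^ p = 1
  dq : ∀ δ ∈ Δ, δ ^ q = 1
  pgroup : IsPGroup r W
  movex : Moves x W
  moveD : W ≤ closure (⋃ δ ∈ Δ, (fun w => ⁅δ, w⁆) '' (W : Set Γ))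
  central : ∀ w ∈ W, x * w = w * x → ∀ δ ∈ Δ, δ * w = w * δ
  rK : (r : k) ≠ 0
  pK : (p : k) ≠ 0
  rp : r ≠ p
  fix : (p ≠ q ∧ ∀ δ ∈ Δ, ∀ v, ρ x v = v → ρ δ v = v) ∨ (Δ = {x} ∧ ∀ v, ρ x v = v → v = 0)

/-- The hypotheses of the module lemma: the `r`-group `W` is moved by the commuting `x` and `z` of orders
dividing `p` and `q`; either `z` is trivial on the fixed points of `x`, or there are none. -/
structure LData (ρ : Γ →* Module.End k V) (p q r : ℕ) (x z : Γ) (W : Subgroup Γ) : Prop where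
  inj : Function.Injective ρ
  irr : NoInvariant ρ
  gen : W ⊔ closure {x, z} = ⊤
  comm : x * z = z * x
  xp : x ^ p = 1
  zq : z ^ q = 1
  pgroup : IsPGroup r W
  movex : Moves x W
  movez : Moves z W
  central : ∀ w ∈ W, x * w = w * x → z * w = w * z
  rK : (r : k) ≠ 0
  pK : (p : k) ≠ 0
  rp : r ≠ p
  fix : (p ≠ q ∧ ∀ v, ρ x v = v → ρ z v = v) ∨ (z = x ∧ ∀ v, ρ x v = v → v = 0)

theorem LData.toDData {ρ : Γ →* Module.End k V} {p q r : ℕ} {x z : Γ} {W : Subgroup Γ}
    (h : LData ρ p q r x z W) : DData ρ p q r x {z} W where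
  inj := h.inj
  irr := h.irr
  gen := h.gen
  comm := by rintro δ rfl; exact h.comm
  xp := h.xp
  dq := by rintro δ rfl; exact h.zq
  pgroup := h.pgroup
  movex := h.movex
  moveD := h.movez.trans (closure_mono (by simp))
  central := by rintro w hw hxw δ rfl; exact h.central w hw hxw
  rK := h.rK
  pK := h.pK
  rp := h.rp
  fix := h.fix.imp (fun h => ⟨h.1, by rintro δ rfl; exact h.2⟩) fun h => ⟨by rw [h.1], h.2⟩

variable {ρ : Γ →* Module.End k V} {p q r : ℕ} {x z : Γ} {Δ : Set Γ} {W : Subgroup Γ}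

theorem DData.exists_eq_mul [W.Normal] (h : DData ρ p q r x Δ W) (g : Γ) :
    ∃ w ∈ W, ∃ c ∈ closure (insert x Δ), g = w * c := by
  obtain ⟨w, hw, c, hc, e⟩ := mem_sup_of_normal_left.mp
    (show g ∈ W ⊔ closure (insert x Δ) by rw [h.gen]; trivial)
  exact ⟨w, hw, c, hc, e.symm⟩

theorem DData.commute_x (h : DData ρ p q r x Δ W) {c : Γ} (hc : c ∈ closure (insert x Δ)) :
    x * c = c * x := by
  have : closure (insert x Δ) ≤ centralizer {x} := by
    rw [closure_le]
    rintro g (rfl | hg)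
    · exact mem_centralizer_singleton_iff.mpr rfl
    · exact mem_centralizer_singleton_iff.mpr (h.comm g hg).symm
  exact (mem_centralizer_singleton_iff.mp (this hc)).symm

variable [Finite Γ] [FiniteDimensional k V] [Nontrivial V] [IsAlgClosed k]
  (A : Subgroup Γ) [A.Normal] [IsMulCommutative A]

omit [Nontrivial V] [FiniteDimensional k V] in
/-- Operators agreeing on every weight space are equal. -/
theorem eq_of_eqOn_wsp (hA : (Nat.card A : k) ≠ 0) (σ : A →* Module.End k V) (f g : Module.End k V)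
    (h : ∀ χ, ∀ v ∈ wsp σ χ, f v = g v) : f = g := by
  haveI := (card_chars (K := k) (A := A) hA).1
  letI := Fintype.ofFinite (A →* kˣ)
  refine LinearMap.ext fun v => smul_right_injective V hA ?_
  show (Nat.card A : k) • f v = (Nat.card A : k) • g v
  have hv : (Nat.card A : k) • v = ∑ χ, wproj σ χ v := by
    rw [← LinearMap.sum_apply, sum_wproj σ hA]; rfl
  rw [← map_smul, ← map_smul, hv, map_sum, map_sum]
  exact Finset.sum_congr rfl fun χ _ => h χ _ (wproj_mem σ χ v)

omit [FiniteDimensional k V] [Nontrivial V] in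
/-- The weights are conjugate. -/
theorem exists_tw_eq (hirr : NoInvariant ρ) (hA : (Nat.card A : k) ≠ 0) {χ₀ : A →* kˣ}
    (hχ₀ : wsp (ρ.comp A.subtype) χ₀ ≠ ⊥) {ψ : A →* kˣ} (hψ : wsp (ρ.comp A.subtype) ψ ≠ ⊥) :
    ∃ g : Γ, tw A g χ₀ = ψ := by
  letI := charAction (K := k) A
  set σ := ρ.comp A.subtype
  let U : Submodule k V := ⨆ g : Γ, wsp σ (tw A g χ₀)
  have hUle : ∀ g, wsp σ (tw A g χ₀) ≤ U := fun g => le_iSup (fun g => wsp σ (tw A g χ₀)) g
  have hUtop : U = ⊤ := by
    refine (hirr U fun g u hu => ?_).resolve_left fun h => hχ₀ ?_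
    · have hle : U ≤ U.comap (ρ g) := iSup_le fun h v hv => hUle (g * h) (by
        rw [show tw A (g * h) χ₀ = tw A g (tw A h χ₀) from mul_smul g h χ₀]
        exact map_wsp ρ A g hv)
      exact hle hu
    · have := hUle 1
      rw [show tw A 1 χ₀ = χ₀ from one_smul Γ χ₀, h, le_bot_iff] at this
      exact this
  by_contra hno
  push Not at hno
  apply hψ
  rw [← wproj_eq_zero_iff σ hA]
  have hle : U ≤ LinearMap.ker (wproj σ ψ) := iSup_le fun g v hv =>
    LinearMap.mem_ker.mpr (wproj_of_mem_ne σ (hno g) hv)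
  rw [hUtop, top_le_iff] at hle
  exact LinearMap.ker_eq_top.mp hle

omit [Finite Γ] [FiniteDimensional k V] [Nontrivial V] [IsAlgClosed k] in
theorem pow_apply_mem_wsp (g : Γ) {χ : A →* kˣ} {v : V} (hv : v ∈ wsp (ρ.comp A.subtype) χ) (i : ℕ) :
    ρ (g ^ i) v ∈ wsp (ρ.comp A.subtype) (tw A (g ^ i) χ) :=
  map_wsp ρ A _ hv

omit [Nontrivial V] in
/-- On a weight moved by `x` the elements of `Δ` are trivial. -/
theorem DData.trivial_of_moved [Fact p.Prime] [Fact q.Prime] (h : DData ρ p q r x Δ W) (hz : z ∈ Δ)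
    (hpq : p ≠ q) (hfix : ∀ v, ρ x v = v → ρ z v = v) (hA : (Nat.card A : k) ≠ 0) {χ : A →* kˣ}
    (hχ : wsp (ρ.comp A.subtype) χ ≠ ⊥) (hmov : tw A x χ ≠ χ) :
    tw A z χ = χ ∧ ∀ v ∈ wsp (ρ.comp A.subtype) χ, ρ z v = v := by
  classical
  letI act := charAction (K := k) A
  set σ := ρ.comp A.subtype
  have hp := (Fact.out : p.Prime)
  have hper : ∀ i, tw A (x ^ i) χ = χ → p ∣ i := by
    intro i hi
    by_contra hpi
    apply hmov
    obtain ⟨m, hm⟩ := Nat.exists_mul_mod_eq_one_of_coprime ((Nat.Prime.coprime_iff_not_dvd hp).mpr hpi).symm hp.one_lt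
    have h1 : x = (x ^ i) ^ m := by
      rw [← pow_mul, ← Nat.mod_add_div (i * m) p, pow_add, pow_mul, h.xp, one_pow, mul_one]
      rw [hm.2, pow_one]
    have h2 : x ^ i ∈ MulAction.stabilizer Γ χ := hi
    have h3 := pow_mem h2 m
    rw [← h1] at h3
    exact h3
  have hdist : ∀ g : Γ, ∀ i ∈ Finset.range p, ∀ j ∈ Finset.range p,
      tw A (g * x ^ i) χ = tw A (g * x ^ j) χ → i = j := by
    intro g i hi j hj e
    rw [Finset.mem_range] at hi hj
    wlog hle : i ≤ j generalizing i j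
    · exact (this j hj i hi e.symm (le_of_not_ge hle)).symm
    have e' : tw A (x ^ i) χ = tw A (x ^ j) χ := by
      have := congrArg (fun η => g⁻¹ • η) e
      change g⁻¹ • ((g * x ^ i) • χ) = g⁻¹ • ((g * x ^ j) • χ) at this
      rwa [smul_smul, smul_smul, inv_mul_cancel_left, inv_mul_cancel_left] at this
    have h2 : tw A (x ^ (j - i)) χ = χ := by
      change x ^ i • χ = x ^ j • χ at e'
      rw [show x ^ j = x ^ i * x ^ (j - i) by rw [← pow_add, Nat.add_sub_cancel' hle], mul_smul] at e'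
      exact (MulAction.injective (x ^ i) e').symm
    have := Nat.eq_zero_of_dvd_of_lt (hper _ h2) (by omega)
    omega
  -- compare the components of `z u = u` for the orbit sum `u`
  have key : ∀ v ∈ wsp σ χ, v ≠ 0 → tw A z χ = χ ∧ ρ z v = v := by
    intro v hv hv0
    set u : V := ∑ i ∈ Finset.range p, ρ (x ^ i) v with hu
    have hxu : ρ x u = u := by
      have h1 := Finset.sum_range_succ' (fun i => ρ (x ^ i) v) p
      rw [Finset.sum_range_succ, h.xp, ← pow_zero x] at h1
      rw [hu, map_sum, add_right_cancel h1]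
      exact Finset.sum_congr rfl fun i _ => by rw [pow_succ', map_mul, Module.End.mul_apply]
    have hzu : ∑ i ∈ Finset.range p, ρ (z * x ^ i) v = ∑ i ∈ Finset.range p, ρ (x ^ i) v := by
      have := hfix u hxu
      rw [hu, map_sum] at this
      refine Eq.trans (Finset.sum_congr rfl fun i _ => ?_) this
      rw [map_mul, Module.End.mul_apply]
    have hzv : ρ z v ∈ wsp σ (tw A z χ) := map_wsp ρ A z hv
    have hzv0 : ρ z v ≠ 0 := fun e => hv0 (rho_injective ρ z (e.trans (map_zero _).symm))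
    have hL : wproj σ (tw A z χ) (∑ i ∈ Finset.range p, ρ (z * x ^ i) v) = (Nat.card A : k) • ρ z v := by
      rw [map_sum, Finset.sum_eq_single 0 (fun i hi hi0 => wproj_of_mem_ne σ
        (fun e => hi0 (hdist z i hi 0 (Finset.mem_range.mpr hp.pos) (by rw [pow_zero, mul_one]; exact e)))
        (map_wsp ρ A _ hv)) (by simp [hp.pos]), pow_zero, mul_one, wproj_of_mem_same σ hzv]
    obtain ⟨j, hj, hje⟩ : ∃ j ∈ Finset.range p, tw A (x ^ j) χ = tw A z χ := by
      by_contra hno
      push Not at hno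
      rw [hzu, map_sum, Finset.sum_eq_zero fun i hi => wproj_of_mem_ne σ (hno i hi) (pow_apply_mem_wsp A x hv i),
        eq_comm, smul_eq_zero] at hL
      exact hzv0 (hL.resolve_left hA)
    have hR : (Nat.card A : k) • ρ (x ^ j) v = (Nat.card A : k) • ρ z v := by
      rw [← hL, hzu, map_sum, Finset.sum_eq_single j (fun i hi hij => wproj_of_mem_ne σ
        (fun e => hij (hdist 1 i hi j hj (by rw [one_mul, one_mul]; exact e.trans hje.symm)))
        (pow_apply_mem_wsp A x hv i)) (fun h => absurd hj h),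
        ← hje, wproj_of_mem_same σ (pow_apply_mem_wsp A x hv j)]
    have hjv : ρ z v = ρ (x ^ j) v := (smul_right_injective V hA hR).symm
    have hpow : ∀ n, ρ (z ^ n) v = ρ (x ^ (j * n)) v := by
      intro n
      induction n with
      | zero => simp
      | succ n ih =>
        rw [pow_succ', map_mul, Module.End.mul_apply, ih, ← Module.End.mul_apply, ← map_mul,
          ((show Commute x z from h.comm z hz).pow_left (j * n)).symm.eq, map_mul, Module.End.mul_apply, hjv,
          ← Module.End.mul_apply, ← map_mul, ← pow_add, Nat.mul_succ]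
    have h1 := hpow q
    rw [h.dq z hz, map_one, Module.End.one_apply] at h1
    have h2 : tw A (x ^ (j * q)) χ = χ := by
      by_contra hne
      have h3 := wproj_of_mem_ne σ hne (pow_apply_mem_wsp A x hv (j * q))
      rw [← h1, wproj_of_mem_same σ hv, smul_eq_zero] at h3
      exact hv0 (h3.resolve_left hA)
    have hj0 : j = 0 := Nat.eq_zero_of_dvd_of_lt
      ((Nat.Prime.dvd_mul hp).mp (hper _ h2) |>.resolve_right fun e =>
        hpq ((Nat.prime_dvd_prime_iff_eq hp Fact.out).mp e)) (Finset.mem_range.mp hj)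
    subst hj0
    rw [pow_zero, map_one, Module.End.one_apply] at hjv
    rw [pow_zero] at hje
    exact ⟨hje.symm.trans (one_smul Γ χ), hjv⟩
  obtain ⟨v, hv, hv0⟩ := (Submodule.ne_bot_iff _).mp hχ
  refine ⟨(key v hv hv0).1, fun w hw => ?_⟩
  by_cases hw0 : w = 0
  · rw [hw0, map_zero]
  · exact (key w hw hw0).2

/-- Abelian normal subgroups inside `W` act by scalars. -/
theorem DData.exists_scalar_of_abelian [Fact p.Prime] [Fact q.Prime] [Fact r.Prime] [W.Normal]
    (h : DData ρ p q r x Δ W) (hAW : A ≤ W) {a : Γ} (ha : a ∈ A) : ∃ c : k, ρ a = c • (1 : Module.End k V) := by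
  classical
  have hA : (Nat.card A : k) ≠ 0 := card_ne_zero_of_normal ρ h.inj h.irr A
  letI act := charAction (K := k) A
  set σ := ρ.comp A.subtype with hσ
  let Ω := {χ : A →* kˣ // wsp σ χ ≠ ⊥}
  letI : MulAction Γ Ω :=
    { smul := fun g χ => ⟨tw A g χ.1, wsp_tw_ne_bot ρ A g χ.2⟩
      one_smul := fun χ => Subtype.ext (one_smul Γ χ.1)
      mul_smul := fun g g' χ => Subtype.ext (mul_smul g g' χ.1) }
  have hfixpt : ∀ χ : Ω, x • χ = χ ∨ ∀ δ : Δ, (δ : Γ) • χ = χ := by
    intro χ
    by_cases hc : tw A x χ.1 = χ.1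
    · exact Or.inl (Subtype.ext hc)
    rcases h.fix with ⟨hpq, hfix⟩ | ⟨-, hfix⟩
    · exact Or.inr fun δ => Subtype.ext (h.trivial_of_moved A δ.2 hpq (hfix δ δ.2) hA χ.2 hc).1
    · exfalso
      -- the orbit sum would be fixed
      obtain ⟨v, hv, hv0⟩ := (Submodule.ne_bot_iff _).mp χ.2
      set u : V := ∑ i ∈ Finset.range p, ρ (x ^ i) v with hu
      have hxu : ρ x u = u := by
        have h1 := Finset.sum_range_succ' (fun i => ρ (x ^ i) v) p
        rw [Finset.sum_range_succ, h.xp, ← pow_zero x] at h1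
        rw [hu, map_sum, add_right_cancel h1]
        exact Finset.sum_congr rfl fun i _ => by rw [pow_succ', map_mul, Module.End.mul_apply]
      have h2 : wproj σ χ.1 u = (Nat.card A : k) • v := by
        rw [hu, map_sum, Finset.sum_eq_single 0 (fun i hi hi0 => wproj_of_mem_ne σ ?_
          (pow_apply_mem_wsp A x hv i)) (by simp [(Fact.out : p.Prime).pos]), pow_zero, map_one,
          Module.End.one_apply, wproj_of_mem_same σ hv]
        intro e
        apply hc
        have hord : p.Coprime i := (Nat.Prime.coprime_iff_not_dvd Fact.out).mpr fun hd =>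
          hi0 (Nat.eq_zero_of_dvd_of_lt hd (Finset.mem_range.mp hi))
        obtain ⟨m, hm⟩ := Nat.exists_mul_mod_eq_one_of_coprime hord.symm (Fact.out : p.Prime).one_lt
        have h1 : x = (x ^ i) ^ m := by
          rw [← pow_mul, ← Nat.mod_add_div (i * m) p, pow_add, pow_mul, h.xp, one_pow, mul_one, hm.2, pow_one]
        rw [h1]
        exact pow_mem (show x ^ i ∈ MulAction.stabilizer Γ χ.1 from e) m
      rw [hfix u hxu, map_zero, eq_comm, smul_eq_zero] at h2
      exact hv0 (h2.resolve_left hA)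
  -- `W` fixes every weight
  have hWfix : ∀ w ∈ W, ∀ χ : Ω, w • χ = χ := by
    intro w hw χ
    have hconj : ∀ g : Γ, ∀ (v : W) (η : Ω), g • (v • η) = (MulAut.conjNormal g : MulAut W) v • g • η := by
      intro g v η
      show g • ((v : Γ) • η) = ((MulAut.conjNormal g : MulAut W) v : Γ) • g • η
      rw [MulAut.conjNormal_apply, smul_smul, smul_smul, inv_mul_cancel_right]
    refine smul_eq_of_perm (ι := Δ) (τ := fun δ => (MulAut.conjNormal (δ : Γ) : MulAut W)) h.pgroup
      h.movex.closure_eq_top ?_ (x := MulAction.toPerm x) (z := fun δ : Δ => MulAction.toPerm (δ : Γ))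
      (hconj x) (fun δ => hconj δ) hfixpt (⟨w, hw⟩ : W) χ
    refine map_injective W.subtype_injective ?_
    rw [← MonoidHom.range_eq_map, range_subtype, MonoidHom.map_closure]
    refine le_antisymm ((closure_le _).mpr ?_) (h.moveD.trans (closure_mono ?_))
    · rintro _ ⟨v, -, rfl⟩
      exact v.2
    · intro g hg
      simp only [Set.mem_iUnion] at hg
      obtain ⟨δ, hδ, v, hv, rfl⟩ := hg
      exact ⟨(MulAut.conjNormal δ : MulAut W) ⟨v, hv⟩ * (⟨v, hv⟩ : W)⁻¹,
        Set.mem_iUnion.mpr ⟨⟨δ, hδ⟩, _, rfl⟩, by simp [commutatorElement_def]⟩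
  obtain ⟨χ₀, hχ₀⟩ : ∃ χ, wsp σ χ ≠ ⊥ := by
    by_contra hno
    push Not at hno
    obtain ⟨v, hv⟩ := exists_ne (0 : V)
    refine hv ?_
    have := eq_of_eqOn_wsp A hA σ 1 0 fun χ u hu => by
      rw [hno χ, Submodule.mem_bot] at hu
      rw [hu, map_zero, map_zero]
    exact LinearMap.congr_fun this v
  let ω₀ : Ω := ⟨χ₀, hχ₀⟩
  have htrans : ∀ χ : Ω, ∃ c ∈ closure (insert x Δ), c • ω₀ = χ := by
    intro χ
    obtain ⟨g, hg⟩ := exists_tw_eq A h.irr hA hχ₀ χ.2
    obtain ⟨w, hw, c, hc, rfl⟩ := h.exists_eq_mul g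
    refine ⟨c, hc, ?_⟩
    rw [← hWfix w hw (c • ω₀), smul_smul]
    exact Subtype.ext hg
  by_cases hxω : x • ω₀ = ω₀
  · -- `x` fixes every weight, so centralises `A`, so `z` does too
    have hxall : ∀ χ : Ω, x • χ = χ := fun χ => by
      obtain ⟨c, hc, rfl⟩ := htrans χ
      rw [smul_smul, h.commute_x hc, mul_smul, hxω]
    have hzall : ∀ δ ∈ Δ, ∀ χ : Ω, δ • χ = χ := fun z hz χ => Subtype.ext (MonoidHom.ext fun b => by
      show χ.1 (MulAut.conjNormal z⁻¹ b) = χ.1 b
      congr 1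
      refine Subtype.ext ?_
      rw [MulAut.conjNormal_apply, inv_inv]
      have hbx : x * (b : Γ) = b * x := by
        refine h.inj (eq_of_eqOn_wsp A hA σ _ _ fun η v hv => ?_)
        rw [map_mul, map_mul, Module.End.mul_apply, Module.End.mul_apply, show ρ (b : Γ) v = _ from hv b,
          map_smul]
        by_cases hv0 : v = 0
        · simp [hv0]
        have hη : wsp σ η ≠ ⊥ := (Submodule.ne_bot_iff _).mpr ⟨v, hv, hv0⟩
        have h1 : tw A x η = η := congrArg Subtype.val (hxall ⟨η, hη⟩)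
        have h2 := map_wsp ρ A x hv b
        rw [h1] at h2
        exact h2.symm
      have := h.central _ (hAW b.2) hbx z hz
      rw [mul_assoc, ← this, inv_mul_cancel_left])
    have hone : ∀ χ : Ω, χ = ω₀ := fun χ => by
      obtain ⟨c, hc, rfl⟩ := htrans χ
      have : closure (insert x Δ) ≤ MulAction.stabilizer Γ ω₀ := by
        rw [closure_le]
        rintro g (rfl | hg)
        · exact hxall ω₀
        · exact hzall g hg ω₀
      exact this hc
    refine ⟨(χ₀ ⟨a, ha⟩ : k), eq_of_eqOn_wsp A hA σ _ _ fun η v hv => ?_⟩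
    by_cases hv0 : v = 0
    · simp [hv0]
    have hη : η = χ₀ := congrArg Subtype.val (hone ⟨η, (Submodule.ne_bot_iff _).mpr ⟨v, hv, hv0⟩⟩)
    subst hη
    exact (hv ⟨a, ha⟩ : _)
  · -- all weights are moved, so `Δ` is trivial and `W` too
    rcases h.fix with ⟨hpq, hfix⟩ | ⟨rfl, -⟩
    · have hz1 : ∀ z ∈ Δ, z = 1 := fun z hz => by
        refine h.inj (eq_of_eqOn_wsp A hA σ _ _ fun η v hv => ?_)
        rw [map_one, Module.End.one_apply]
        by_cases hv0 : v = 0
        · simp [hv0]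
        have hη : wsp σ η ≠ ⊥ := (Submodule.ne_bot_iff _).mpr ⟨v, hv, hv0⟩
        refine (h.trivial_of_moved A hz hpq (hfix z hz) hA hη fun e => hxω ?_).2 v hv
        obtain ⟨c, hc, hce⟩ := htrans ⟨η, hη⟩
        have h1 : x • (⟨η, hη⟩ : Ω) = ⟨η, hη⟩ := Subtype.ext e
        rw [← hce, smul_smul, h.commute_x hc, mul_smul] at h1
        exact MulAction.injective c h1
      have hWbot : W = ⊥ := by
        rw [eq_bot_iff]
        refine h.moveD.trans ((closure_le _).mpr fun g hg => ?_)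
        simp only [Set.mem_iUnion] at hg
        obtain ⟨δ, hδ, v, -, rfl⟩ := hg
        simp [hz1 δ hδ]
      exact ⟨1, by rw [mem_bot.mp (hWbot ▸ hAW ha : a ∈ (⊥ : Subgroup Γ)), map_one, one_smul]⟩
    · exact absurd ((hfixpt ω₀).elim id fun h' => h' ⟨x, rfl⟩) hxω

end Cfsg.Agent.TwoGenSolvable
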