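import Mathlib
import Cfsg.Agent.Lib.FixedDim.Irreducible
import Cfsg.Agent.Lib.FittingHeight.TwistedAlgebra

/-!
# Representations of groups of class two with scalar centre and nondegenerate commutator pairing

`End V` has a basis indexed by `W ⧸ Z(W)`; operators normalising the image of `W` permute it up to scalars.
-/

set_option autoImplicit false
set_option linter.style.haveILetI false

namespace Cfsg.Agent.TwoGenSolvable

open Subgroup
open scoped commutatorElement

variable {k : Type*} [Field k] {V : Type*} [AddCommGroup V] [Module k V]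
  {W : Type*} [Group W]

/-- `W` has class two, its centre acts by scalars and only the centre has trivial commutators in the image. -/
structure IsScalarClassTwo (π : W →* Module.End k V) : Prop where
  scalar : ∀ w ∈ center W, ∃ c : k, π w = c • (1 : Module.End k V)
  comm : ∀ a b : W, ⁅a, b⁆ ∈ center W
  nondeg : ∀ a : W, (∀ b : W, π ⁅a, b⁆ = 1) → a ∈ center W

variable [Finite W] [FiniteDimensional k V] [Nontrivial V] {π : W →* Module.End k V}

omit [Finite W] [FiniteDimensional k V] [Nontrivial V] in
theorem IsScalarClassTwo.scalarSub_eq (h : IsScalarClassTwo π) : FittingHeight.scalarSub π = center W := by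
  refine le_antisymm (fun a ha => h.nondeg a fun b => ?_) fun a ha => h.scalar a ha
  obtain ⟨c, hc⟩ := ha
  have h1 : π a * π b = π b * π a := by
    rw [hc, smul_mul_assoc, mul_smul_comm, one_mul, mul_one]
  rw [commutatorElement_def, map_mul, map_mul, map_mul, h1, ← map_mul, ← map_mul, ← map_mul, ← map_one π]
  congr 1
  group

omit [Finite W] [FiniteDimensional k V] [Nontrivial V] in
theorem IsScalarClassTwo.comm_scalar (h : IsScalarClassTwo π) (a b : W) :
    ∃ c : k, π a * π b = c • (π b * π a) := by
  obtain ⟨c, hc⟩ := h.scalar _ (h.comm a b)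
  refine ⟨c, ?_⟩
  rw [← map_mul, ← map_mul, show a * b = ⁅a, b⁆ * (b * a) by group, map_mul, hc, smul_mul_assoc, one_mul]

omit [Finite W] [FiniteDimensional k V] [Nontrivial V] in
theorem IsScalarClassTwo.mem_scalarSub (h : IsScalarClassTwo π) (a : W)
    (ha : ∀ b, π a * π b = π b * π a) : a ∈ FittingHeight.scalarSub π := by
  rw [h.scalarSub_eq]
  refine h.nondeg a fun b => ?_
  rw [commutatorElement_def, map_mul, map_mul, map_mul, ha b, ← map_mul, ← map_mul, ← map_mul, ← map_one π]
  congr 1
  group

omit [FiniteDimensional k V] in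
theorem IsScalarClassTwo.linearIndependent (h : IsScalarClassTwo π) :
    LinearIndependent k (fun m : W ⧸ center W => π m.out) := by
  suffices ∀ (S : Subgroup W) [S.Normal], S = FittingHeight.scalarSub π →
      LinearIndependent k (fun m : W ⧸ S => π m.out) from this _ h.scalarSub_eq.symm
  rintro S _ rfl
  classical
  let _ : Fintype (W ⧸ FittingHeight.scalarSub π) := Fintype.ofFinite _
  exact FittingHeight.linearIndependent_transOp h.comm_scalar h.mem_scalarSub

theorem IsScalarClassTwo.finrank_sq [IsAlgClosed k] (h : IsScalarClassTwo π) (hW : (Nat.card W : k) ≠ 0)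
    (hirr : FixedDim.NoInvariant π) :
    Module.finrank k V ^ 2 = (center W).index := by
  classical
  obtain ⟨n, hn, ⟨e⟩⟩ := FittingHeight.exists_matrix h.comm_scalar h.mem_scalarSub
  rw [h.scalarSub_eq] at hn
  have hn0 : 0 < n := Nat.pos_of_ne_zero fun h0 => by
    subst h0
    exact Subgroup.index_ne_zero_of_finite hn.symm
  let i₀ : Fin n := ⟨0, hn0⟩
  let R : (Fin n → k) →ₗ[k] Module.End k (Fin n → k) :=
    { toFun := fun u => (LinearMap.proj i₀ : (Fin n → k) →ₗ[k] k).smulRight u
      map_add' := fun u v => LinearMap.ext fun w => by simp [smul_add]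
      map_smul' := fun c u => LinearMap.ext fun w => by
        simp only [RingHom.id_apply, LinearMap.smul_apply, LinearMap.smulRight_apply]
        exact smul_comm _ _ _ }
  have hR : ∀ (A : Module.End k (Fin n → k)) u, A * R u = R (A u) := fun A u =>
    LinearMap.ext fun w => by simp [R]
  set e₀ : Fin n → k := Pi.single i₀ 1 with he₀
  have hidem : R e₀ * R e₀ = R e₀ := by
    rw [hR]
    congr 1
    simp [R, he₀]
  have hz0 : ((e.symm (R e₀) : FittingHeight.spanAlg π) : Module.End k V) ≠ 0 := by
    intro h0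
    have h1 : e.symm (R e₀) = 0 := Subtype.ext h0
    have h2 : R e₀ = 0 := by rw [← e.apply_symm_apply (R e₀), h1, map_zero]
    have h3 := congrFun (LinearMap.congr_fun h2 e₀) i₀
    simp [R, he₀] at h3
  obtain ⟨v, hv⟩ : ∃ v : V, ((e.symm (R e₀) : FittingHeight.spanAlg π) : Module.End k V) v ≠ 0 := by
    by_contra hne
    push Not at hne
    exact hz0 (LinearMap.ext hne)
  set v₁ := ((e.symm (R e₀) : FittingHeight.spanAlg π) : Module.End k V) v with hv₁
  let L : (Fin n → k) →ₗ[k] V :=
    { toFun := fun u => ((e.symm (R u) : FittingHeight.spanAlg π) : Module.End k V) v₁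
      map_add' := fun u w => by rw [map_add, map_add, AddMemClass.coe_add, LinearMap.add_apply]
      map_smul' := fun c u => by
        rw [map_smul, map_smul, SetLike.val_smul, LinearMap.smul_apply, RingHom.id_apply] }
  have hLA : ∀ A u, L (A u) = ((e.symm A : FittingHeight.spanAlg π) : Module.End k V) (L u) := by
    intro A u
    show ((e.symm (R (A u)) : FittingHeight.spanAlg π) : Module.End k V) v₁ =
      ((e.symm A : FittingHeight.spanAlg π) : Module.End k V)
        (((e.symm (R u) : FittingHeight.spanAlg π) : Module.End k V) v₁)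
    rw [← hR, map_mul, MulMemClass.coe_mul]
    rfl
  have hLe : L e₀ = v₁ := by
    show ((e.symm (R e₀) : FittingHeight.spanAlg π) : Module.End k V) v₁ = v₁
    conv_lhs => rw [hv₁, ← Module.End.mul_apply, ← MulMemClass.coe_mul, ← map_mul, hidem]
  have hsurj : LinearMap.range L = ⊤ := by
    refine (hirr _ fun g u hu => ?_).resolve_left fun hb => hv ?_
    · obtain ⟨w, rfl⟩ := hu
      exact ⟨e ⟨π g, FittingHeight.apply_mem_spanAlg g⟩ w, by rw [hLA, e.symm_apply_apply]⟩
    · exact hLe.symm.trans ((Submodule.eq_bot_iff _).1 hb _ ⟨e₀, rfl⟩)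
  have hinj : Function.Injective L := by
    rw [← LinearMap.ker_eq_bot, Submodule.eq_bot_iff]
    intro u hu
    rw [LinearMap.mem_ker] at hu
    by_contra hu0
    obtain ⟨j, hj⟩ : ∃ j, u j ≠ 0 := by
      by_contra hne
      push Not at hne
      exact hu0 (funext hne)
    have hA : ((u j)⁻¹ • (LinearMap.proj j : (Fin n → k) →ₗ[k] k).smulRight e₀) u = e₀ := by
      simp [hj]
    have h1 := hLA ((u j)⁻¹ • (LinearMap.proj j : (Fin n → k) →ₗ[k] k).smulRight e₀) u
    rw [hA, hLe, hu, map_zero] at h1
    exact hv h1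
  have hd := (LinearEquiv.ofBijective L ⟨hinj, LinearMap.range_eq_top.1 hsurj⟩).finrank_eq
  rw [Module.finrank_fin_fun] at hd
  rw [← hd, sq, hn]

theorem IsScalarClassTwo.span_eq_top [IsAlgClosed k] (h : IsScalarClassTwo π) (hW : (Nat.card W : k) ≠ 0)
    (hirr : FixedDim.NoInvariant π) :
    Submodule.span k (Set.range fun m : W ⧸ center W => π m.out) = ⊤ := by
  classical
  let _ : Fintype (W ⧸ center W) := Fintype.ofFinite _
  refine Submodule.eq_top_of_finrank_eq ?_
  rw [finrank_span_eq_card h.linearIndependent, Module.finrank_linearMap, ← sq, h.finrank_sq hW hirr,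
    Subgroup.index_eq_card, Nat.card_eq_fintype_card]

/-- Irreducible representations with the same central character are isomorphic. -/
theorem IsScalarClassTwo.exists_intertwiner (h : IsScalarClassTwo π) (hW : (Nat.card W : k) ≠ 0)
    (hirr : FixedDim.NoInvariant π) {V' : Type*} [AddCommGroup V'] [Module k V'] [FiniteDimensional k V']
    [Nontrivial V'] (π' : W →* Module.End k V') (hirr' : FixedDim.NoInvariant π')
    (hc : ∀ w ∈ center W, ∀ c : k, π w = c • (1 : Module.End k V) → π' w = c • (1 : Module.End k V')) :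
    ∃ T : V ≃ₗ[k] V', ∀ w v, T (π w v) = π' w (T v) := by
  classical
  let _ : Fintype (W ⧸ center W) := Fintype.ofFinite _
  have h' : IsScalarClassTwo π' := by
    refine ⟨fun w hw => ?_, h.comm, fun a ha => h.nondeg a fun b => ?_⟩
    · obtain ⟨c, hc'⟩ := h.scalar w hw
      exact ⟨c, hc w hw c hc'⟩
    · obtain ⟨c, hc'⟩ := h.scalar _ (h.comm a b)
      have h1 := hc _ (h.comm a b) c hc'
      rw [ha b] at h1
      have hc1 : c = 1 := smul_left_injective k (one_ne_zero (α := Module.End k V'))
        (h1.symm.trans (one_smul k _).symm)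
      rw [hc', hc1, one_smul]
  -- averaging over `W ⧸ center W`
  let φ : (V →ₗ[k] V') → W → (V →ₗ[k] V') := fun f w => π' w ∘ₗ f ∘ₗ π w⁻¹
  have hφz : ∀ f, ∀ z ∈ center W, ∀ w, φ f (w * z) = φ f w := by
    intro f z hz w
    obtain ⟨c, hc'⟩ := h.scalar z hz
    obtain ⟨d, hd⟩ := h.scalar z⁻¹ (inv_mem hz)
    have hcd : c * d = 1 := by
      have h1 : π z * π z⁻¹ = 1 := by rw [← map_mul, mul_inv_cancel, map_one]
      rw [hc', hd, smul_mul_smul_comm, one_mul] at h1
      exact smul_left_injective k (one_ne_zero (α := Module.End k V)) (h1.trans (one_smul k _).symm)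
    refine LinearMap.ext fun v => ?_
    show π' (w * z) (f (π (w * z)⁻¹ v)) = π' w (f (π w⁻¹ v))
    rw [mul_inv_rev, map_mul, map_mul, hc z hz c hc', hd]
    simp only [Module.End.mul_apply, LinearMap.smul_apply, Module.End.one_apply, map_smul, smul_smul,
      mul_comm d c, hcd, one_smul]
  let T : (V →ₗ[k] V') → (V →ₗ[k] V') := fun f => ∑ m : W ⧸ center W, φ f m.out
  have hT : ∀ f w v, T f (π w v) = π' w (T f v) := by
    intro f w v
    have h1 : ∀ m : W ⧸ center W, φ f m.out (π w v) = π' w (φ f (w⁻¹ * m.out) v) := by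
      intro m
      show π' m.out (f (π m.out⁻¹ (π w v))) = π' w (π' (w⁻¹ * m.out) (f (π (w⁻¹ * m.out)⁻¹ v)))
      rw [← Module.End.mul_apply (π m.out⁻¹), ← map_mul, ← Module.End.mul_apply (π' w), ← map_mul,
        mul_inv_cancel_left, mul_inv_rev, inv_inv]
    have h2 : ∀ m : W ⧸ center W, φ f (w⁻¹ * m.out) = φ f ((w : W ⧸ center W)⁻¹ * m).out := by
      intro m
      obtain ⟨⟨z, hz⟩, hzm⟩ := QuotientGroup.mk_out_eq_mul (center W) (w⁻¹ * m.out)
      rw [show ((w : W ⧸ center W)⁻¹ * m) = ((w⁻¹ * m.out : W) : W ⧸ center W) by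
        rw [QuotientGroup.mk_mul, QuotientGroup.mk_inv, QuotientGroup.out_eq'], hzm, hφz f z hz]
    show (∑ m : W ⧸ center W, φ f m.out) (π w v) = π' w ((∑ m : W ⧸ center W, φ f m.out) v)
    simp only [LinearMap.sum_apply, h1, h2, map_sum]
    exact Fintype.sum_bijective _ (Group.mulLeft_bijective _) _ _ fun _ => rfl
  obtain ⟨f, hf⟩ : ∃ f, T f ≠ 0 := by
    by_contra hne
    push Not at hne
    obtain ⟨v, hv⟩ := exists_ne (0 : V)
    obtain ⟨ψ, hψ⟩ : ∃ ψ : V →ₗ[k] k, ψ v ≠ 0 := by
      by_contra h0
      push Not at h0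
      exact hv ((Module.forall_dual_apply_eq_zero_iff k v).1 h0)
    have h2 : ∑ m : W ⧸ center W, ψ (π m.out⁻¹ (π (1 : W ⧸ center W).out v)) • π' m.out = 0 := by
      refine LinearMap.ext fun u => ?_
      have := LinearMap.congr_fun (hne (ψ.smulRight u)) (π (1 : W ⧸ center W).out v)
      simp only [T, φ, LinearMap.sum_apply, LinearMap.comp_apply, LinearMap.smulRight_apply, map_smul,
        LinearMap.zero_apply] at this
      simpa [LinearMap.sum_apply] using this
    have h3 := Fintype.linearIndependent_iff.1 h'.linearIndependent _ h2 1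
    rw [← Module.End.mul_apply, ← map_mul, inv_mul_cancel, map_one] at h3
    exact hψ h3
  refine ⟨LinearEquiv.ofBijective (T f) ⟨?_, ?_⟩, hT f⟩
  · rw [← LinearMap.ker_eq_bot]
    refine (hirr _ fun g u hu => ?_).resolve_right fun htop => hf (LinearMap.ker_eq_top.1 htop)
    rw [LinearMap.mem_ker] at hu ⊢
    rw [hT, hu, map_zero]
  · rw [← LinearMap.range_eq_top]
    refine (hirr' _ fun g u hu => ?_).resolve_left fun hbot => hf (LinearMap.range_eq_bot.1 hbot)
    obtain ⟨v, rfl⟩ := hu
    exact ⟨π g v, hT f g v⟩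

/-- The endomorphisms commuting with operators that permute the monomial basis up to scalars: at most one
dimension for each orbit. -/
theorem IsScalarClassTwo.finrank_fixed_le [IsAlgClosed k] (h : IsScalarClassTwo π) (hW : (Nat.card W : k) ≠ 0)
    (hirr : FixedDim.NoInvariant π) {H : Type*} [Group H] [MulAction H (W ⧸ center W)]
    (S : H → (Module.End k V)ˣ)
    (hS : ∀ (a : H) (m : W ⧸ center W), ∃ c : k, (S a : Module.End k V) * π m.out *
      ((S a)⁻¹ : (Module.End k V)ˣ) = c • π (a • m).out)
    (F : Submodule k (Module.End k V)) (hF : ∀ f ∈ F, ∀ a : H, (S a : Module.End k V) * f = f * S a) :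
    Module.finrank k F ≤ Nat.card (MulAction.orbitRel.Quotient H (W ⧸ center W)) := by
  classical
  let _ : Fintype (W ⧸ center W) := Fintype.ofFinite _
  let O := MulAction.orbitRel.Quotient H (W ⧸ center W)
  let _ : Fintype O := Fintype.ofFinite _
  let b := Module.Basis.mk h.linearIndependent (h.span_eq_top hW hirr).ge
  have hb : ∀ m, b m = π m.out := fun m => by simp [b]
  choose c hc using hS
  have hkey : ∀ f ∈ F, ∀ a m, b.repr f (a • m) = b.repr f m * c a m := by
    intro f hf a m
    have h1 : (S a : Module.End k V) * f * ((S a)⁻¹ : (Module.End k V)ˣ) = f := by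
      rw [hF f hf a, Units.mul_inv_cancel_right]
    have h2 : ∑ m, (b.repr f m * c a m) • b (a • m) = f := by
      conv_rhs => rw [← h1]
      conv_rhs => enter [1, 2]; rw [← b.sum_repr f]
      simp only [Finset.mul_sum, Finset.sum_mul, mul_smul_comm, smul_mul_assoc, hb, hc, smul_smul]
    have h3 : ∑ m, (b.repr f (a⁻¹ • m) * c a (a⁻¹ • m)) • b m = f := by
      refine ((Fintype.sum_bijective (a • ·) (MulAction.bijective a)
        (fun m => (b.repr f m * c a m) • b (a • m)) _ fun m => ?_).symm).trans h2
      rw [inv_smul_smul]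
    have h4 := b.repr_sum_self fun m => b.repr f (a⁻¹ • m) * c a (a⁻¹ • m)
    simp only [h3] at h4
    rw [congrFun h4 (a • m), inv_smul_smul]
  let L : F →ₗ[k] (O → k) :=
    { toFun := fun f o => b.repr (f : Module.End k V) o.out
      map_add' := fun f g => funext fun o => by simp
      map_smul' := fun r f => funext fun o => by simp }
  have hL : Function.Injective L := by
    rw [← LinearMap.ker_eq_bot, Submodule.eq_bot_iff]
    intro f hf
    rw [LinearMap.mem_ker] at hf
    refine Subtype.ext (b.repr.map_eq_zero_iff.1 (Finsupp.ext fun m => ?_))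
    obtain ⟨a, ha⟩ := Quotient.mk_out (s := MulAction.orbitRel H (W ⧸ center W)) m
    have ha' : a • m = (Quotient.mk'' m : O).out := ha
    have h1 := hkey _ f.2 a⁻¹ (a • m)
    rw [inv_smul_smul, ha', show b.repr (f : Module.End k V) (Quotient.mk'' m : O).out = 0 from
      congrFun hf _, zero_mul] at h1
    rw [h1]
    rfl
  have h5 := LinearMap.finrank_le_finrank_of_injective hL
  rwa [Module.finrank_pi, ← Nat.card_eq_fintype_card] at h5

end Cfsg.Agent.TwoGenSolvable
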