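import Mathlib
import Cfsg.Agent.Lib.TwoGenSolvable.LBase
import Cfsg.Agent.Lib.TwoGenSolvable.Monomial
import Cfsg.Agent.Lib.TwoGenSolvable.Blocks
import Cfsg.Agent.Lib.HallHigman.Twisted
import Cfsg.Agent.Lib.PGroup.Class2

/-!
# Faithful irreducible groups `W⟨γ⟩` with `W` of class two and scalar centre
-/

set_option autoImplicit false
set_option linter.style.haveILetI false
set_option linter.unusedSectionVars false

namespace Cfsg.Agent.TwoGenSolvable

open Subgroup FixedDim HallHigman
open scoped commutatorElement IsMulCommutative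

universe uk uV

/-- A faithful irreducible `W⟨γ⟩` in which the `r`-group `W` has class two and scalar centre. -/
structure SData {k : Type uk} [Field k] {V : Type uV} [AddCommGroup V] [Module k V] {Γ : Type*} [Group Γ]
    (ρ : Γ →* Module.End k V) (r : ℕ) (γ : Γ) (W : Subgroup Γ) : Prop where
  inj : Function.Injective ρ
  irr : NoInvariant ρ
  gen : W ⊔ zpowers γ = ⊤
  pgroup : IsPGroup r W
  rK : (r : k) ≠ 0
  comm : ∀ a b : W, ⁅a, b⁆ ∈ center W
  center_scalar : ∀ {a : W}, a ∈ center W → ∃ c : k, ρ a = c • (1 : Module.End k V)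

variable {k : Type uk} [Field k] [IsAlgClosed k] {V : Type uV} [AddCommGroup V] [Module k V]
  [FiniteDimensional k V] [Nontrivial V] {Γ : Type*} [Group Γ] [Finite Γ]
  {ρ : Γ →* Module.End k V} {r : ℕ} [Fact r.Prime] {γ : Γ} {W : Subgroup Γ} [W.Normal]

theorem SData.mem_center_of_scalar (h : SData ρ r γ W) {g : Γ} {c : k}
    (hg : ρ g = c • (1 : Module.End k V)) : g ∈ center Γ :=
  mem_center_iff.mpr fun b => h.inj (by rw [map_mul, map_mul, hg, mul_smul_comm, smul_mul_assoc, mul_one, one_mul])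

/-- The centre of `W` is centralised by the whole group. -/
theorem SData.conjNormal_center (h : SData ρ r γ W) (g : Γ) {a : W} (ha : a ∈ center W) :
    (MulAut.conjNormal g : MulAut W) a = a := by
  obtain ⟨c, hc⟩ := h.center_scalar ha
  refine Subtype.ext ?_
  rw [MulAut.conjNormal_apply, mem_center_iff.mp (h.mem_center_of_scalar hc) g, mul_inv_cancel_right]

theorem SData.isScalarClassTwo (h : SData ρ r γ W) : IsScalarClassTwo (ρ.comp W.subtype) where
  scalar _ ha := h.center_scalar ha
  comm := h.comm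
  nondeg a ha := mem_center_iff.mpr fun b => (commutatorElement_eq_one_iff_mul_comm.mp (Subtype.ext
    (h.inj ((ha b).trans (map_one ρ).symm)) : ⁅a, b⁆ = 1)).symm

/-- An element moving all of `W` fixes only the trivial coset of the centre. -/
theorem SData.mem_center_of_fixed (h : SData ρ r γ W) {g : Γ} (hg : Moves g W) {a : W}
    (ha : (MulAut.conjNormal g : MulAut W) a * a⁻¹ ∈ center W) : a ∈ center W := by
  set θ : MulAut W := MulAut.conjNormal g
  let D : W →* W ⧸ center W :=
    { toFun := fun w => ((θ w * w⁻¹ : W) : W ⧸ center W)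
      map_one' := by simp
      map_mul' := fun u v => by
        rw [← QuotientGroup.mk_mul, QuotientGroup.eq]
        have e : (θ (u * v) * (u * v)⁻¹)⁻¹ * (θ u * u⁻¹ * (θ v * v⁻¹)) = ⁅u, v * (θ v)⁻¹⁆ := by
          rw [map_mul, commutatorElement_def]
          group
        rw [e]
        exact h.comm _ _ }
  have hD : ∀ c ∈ center W, D c = 1 := fun c hc => by
    show ((θ c * c⁻¹ : W) : W ⧸ center W) = 1
    rw [h.conjNormal_center g hc, mul_inv_cancel]; rfl
  let D' : W ⧸ center W →* W ⧸ center W := QuotientGroup.lift _ D hD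
  have hsurj : Function.Surjective D' := by
    intro m
    obtain ⟨w, rfl⟩ := QuotientGroup.mk_surjective m
    have hle : closure (Set.range fun w : W => θ w * w⁻¹) ≤ D'.range.comap (QuotientGroup.mk' (center W)) := by
      rw [closure_le]
      rintro _ ⟨u, rfl⟩
      exact ⟨(u : W ⧸ center W), rfl⟩
    exact hle (hg.closure_eq_top ▸ mem_top w)
  have h1 : D' (a : W ⧸ center W) = D' 1 := by
    rw [map_one]
    exact (QuotientGroup.eq_one_iff _).mpr ha
  exact (QuotientGroup.eq_one_iff a).mp ((Finite.injective_iff_surjective.mpr hsurj) h1)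

theorem SData.card_ne_zero (h : SData ρ r γ W) : (Nat.card W : k) ≠ 0 := by
  obtain ⟨n, hn⟩ := h.pgroup.exists_card_eq
  rw [hn, Nat.cast_pow]
  exact pow_ne_zero _ h.rK

/-- A coset of the centre fixed by `a` is fixed by the powers of `a`. -/
theorem SData.fixed_of_mem_zpowers (h : SData ρ r γ W) {a b : Γ} (hb : b ∈ zpowers a) {w : W}
    (hw : (MulAut.conjNormal a : MulAut W) w * w⁻¹ ∈ center W) :
    (MulAut.conjNormal b : MulAut W) w * w⁻¹ ∈ center W := by
  let N : Subgroup Γ :=
    { carrier := {g | (MulAut.conjNormal g : MulAut W) w * w⁻¹ ∈ center W}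
      one_mem' := by simp [one_mem]
      mul_mem' := fun {u v} hu hv => by
        show (MulAut.conjNormal (u * v) : MulAut W) w * w⁻¹ ∈ center W
        have e : (MulAut.conjNormal (u * v) : MulAut W) w * w⁻¹ =
            (MulAut.conjNormal u : MulAut W) ((MulAut.conjNormal v : MulAut W) w * w⁻¹) *
              ((MulAut.conjNormal u : MulAut W) w * w⁻¹) := by
          rw [map_mul, MulAut.mul_apply, map_mul, map_inv]
          group
        rw [e, h.conjNormal_center u hv]
        exact mul_mem hv hu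
      inv_mem' := fun {u} hu => by
        show (MulAut.conjNormal u⁻¹ : MulAut W) w * w⁻¹ ∈ center W
        have e : (MulAut.conjNormal u⁻¹ : MulAut W) w * w⁻¹ =
            (MulAut.conjNormal u⁻¹ : MulAut W) ((MulAut.conjNormal u : MulAut W) w * w⁻¹)⁻¹ := by
          rw [map_inv (MulAut.conjNormal : Γ →* MulAut W), MulAut.inv_def, map_inv, map_mul, map_inv,
            MulEquiv.symm_apply_apply, mul_inv_rev, inv_inv]
        rw [e, h.conjNormal_center u⁻¹ (inv_mem hu)]
        exact inv_mem hu }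
  exact zpowers_le.mpr (show a ∈ N from hw) hb

/-- `W` itself is irreducible. -/
theorem SData.irreducible (h : SData ρ r γ W) : NoInvariant (ρ.comp W.subtype) := by
  classical
  set π := ρ.comp W.subtype with hπ
  -- a minimal invariant subspace
  have hwf : ∃ U : Submodule k V, U ≠ ⊥ ∧ (∀ w, ∀ u ∈ U, π w u ∈ U) ∧
      ∀ U' : Submodule k V, U' ≠ ⊥ → (∀ w, ∀ u ∈ U', π w u ∈ U') → U' ≤ U → U' = U := by
    have hne : {U : Submodule k V | U ≠ ⊥ ∧ ∀ w, ∀ u ∈ U, π w u ∈ U}.Nonempty :=
      ⟨⊤, top_ne_bot, fun _ _ _ => trivial⟩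
    obtain ⟨U, ⟨hU0, hUi⟩, hmin⟩ := WellFounded.has_min wellFounded_lt _ hne
    exact ⟨U, hU0, hUi, fun U' h0 hi hle => eq_of_le_of_not_lt hle (hmin U' ⟨h0, hi⟩)⟩
  obtain ⟨U, hU0, hUi, hmin⟩ := hwf
  suffices hUtop : U = ⊤ by
    intro U' hU'
    by_cases h0 : U' = ⊥
    · exact Or.inl h0
    · exact Or.inr (by rw [hmin U' h0 hU' (hUtop ▸ le_top), hUtop])
  haveI : Nontrivial U := Submodule.nontrivial_iff_ne_bot.mpr hU0
  let πU : W →* Module.End k U :=
    { toFun := fun w => (π w).restrict (hUi w)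
      map_one' := by ext u; simp
      map_mul' := fun a b => by ext u; simp }
  have hπU : ∀ (w : W) (u : U), ((πU w u : U) : V) = ρ (w : Γ) (u : V) := fun w u => rfl
  have hscal : ∀ {w : W} {c : k}, ρ (w : Γ) = c • (1 : Module.End k V) → πU w = c • (1 : Module.End k U) :=
    fun {w c} hw => LinearMap.ext fun u => Subtype.ext (by rw [hπU, hw]; rfl)
  have hscal' : ∀ {w : W} {c d : k}, ρ (w : Γ) = c • (1 : Module.End k V) →
      πU w = d • (1 : Module.End k U) → d = c := fun {w c d} hw hd =>
    smul_left_injective k (one_ne_zero (α := Module.End k U)) (hd.symm.trans (hscal hw))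
  have hU2 : IsScalarClassTwo πU :=
    ⟨fun w hw => (h.center_scalar hw).imp fun c hc => hscal hc, h.comm, fun a ha => by
      refine h.isScalarClassTwo.nondeg a fun b => ?_
      obtain ⟨c, hc⟩ := h.center_scalar (h.comm a b)
      have h1 := hscal' hc ((ha b).trans (one_smul k _).symm)
      show ρ _ = 1
      rw [show ((⁅a, b⁆ : W) : Γ) = W.subtype ⁅a, b⁆ from rfl] at *
      rw [hc, ← h1, one_smul]⟩
  have hUirr : NoInvariant πU := by
    intro S hS
    by_cases h0 : S = ⊥
    · exact Or.inl h0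
    refine Or.inr ?_
    have h1 := hmin (S.map U.subtype)
      (fun e => h0 (Submodule.map_injective_of_injective U.subtype_injective (e.trans (Submodule.map_bot _).symm)))
      (by
        rintro w _ ⟨u, hu, rfl⟩
        exact ⟨_, hS w u hu, rfl⟩)
      (Submodule.map_subtype_le _ _)
    refine eq_top_iff.mpr fun u _ => ?_
    obtain ⟨v, hv, hvu⟩ := (h1.symm ▸ u.2 : (u : V) ∈ S.map U.subtype)
    rwa [← U.subtype_injective hvu]
  -- `U` composed with conjugation by `γ` is again `U`
  let θ : MulAut W := MulAut.conjNormal γ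
  have hWK : (Nat.card W : k) ≠ 0 := by
    obtain ⟨n, hn⟩ := h.pgroup.exists_card_eq
    rw [hn, Nat.cast_pow]
    exact pow_ne_zero _ h.rK
  obtain ⟨T, hT⟩ := hU2.exists_intertwiner hWK hUirr (πU.comp θ.toMonoidHom) (by
    intro S hS
    refine hUirr S fun w u hu => ?_
    have := hS (θ.symm w) u hu
    simpa using this) fun w hw c hc => by
      show πU (θ w) = _
      rw [h.conjNormal_center γ hw, hc]
  -- an eigenvector on the intertwiners into `V`
  let L : Submodule k (U →ₗ[k] V) :=
    { carrier := {φ | ∀ (w : W) (u : U), φ (πU w u) = ρ (w : Γ) (φ u)}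
      zero_mem' := fun w u => by simp
      add_mem' := fun {a b} ha hb w u => by simp [ha w u, hb w u]
      smul_mem' := fun c a ha w u => by simp [ha w u] }
  let Φ : Module.End k L :=
    { toFun := fun φ => ⟨(ρ γ) ∘ₗ (φ : U →ₗ[k] V) ∘ₗ T.symm.toLinearMap, fun w u => by
        show ρ γ (φ.1 (T.symm (πU w u))) = ρ (w : Γ) (ρ γ (φ.1 (T.symm u)))
        obtain ⟨v, rfl⟩ := θ.surjective w
        have h1 : T.symm (πU (θ v) u) = πU v (T.symm u) := by
          rw [LinearEquiv.symm_apply_eq, hT v, LinearEquiv.apply_symm_apply]; rfl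
        rw [h1, φ.2 v, ← Module.End.mul_apply, ← map_mul, ← Module.End.mul_apply, ← map_mul]
        congr 2
        show γ * (v : Γ) = ((MulAut.conjNormal γ : MulAut W) v : Γ) * γ
        rw [MulAut.conjNormal_apply, inv_mul_cancel_right]⟩
      map_add' := fun a b => by
        refine Subtype.ext (LinearMap.ext fun u => ?_)
        simp
      map_smul' := fun c a => by
        refine Subtype.ext (LinearMap.ext fun u => ?_)
        simp }
  haveI : Nontrivial L := by
    refine ⟨⟨⟨U.subtype, fun w u => hπU w u⟩, 0, fun e => ?_⟩⟩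
    obtain ⟨u, hu⟩ := exists_ne (0 : U)
    exact hu (Subtype.ext (LinearMap.congr_fun (congrArg Subtype.val e) u))
  obtain ⟨μ, hμ⟩ := Module.End.exists_eigenvalue Φ
  obtain ⟨⟨φ, hφL⟩, hφe, hφ0⟩ := hμ.exists_hasEigenvector
  rw [Module.End.mem_eigenspace_iff] at hφe
  have hγφ : ∀ u : U, ρ γ (φ u) = μ • φ (T u) := fun u => by
    have := LinearMap.congr_fun (congrArg Subtype.val hφe) (T u)
    simpa [Φ] using this
  -- the range of `φ` is invariant under the whole group
  let N : Subgroup Γ :=
    { carrier := {g | ∀ v ∈ LinearMap.range φ, ρ g v ∈ LinearMap.range φ}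
      one_mem' := fun v hv => by simpa using hv
      mul_mem' := fun {a b} ha hb v hv => by rw [map_mul, Module.End.mul_apply]; exact ha _ (hb v hv)
      inv_mem' := fun {a} ha v hv => by
        obtain ⟨n, hn⟩ := (isOfFinOrder_of_finite a).mem_powers_iff_mem_zpowers.mpr (inv_mem (mem_zpowers a))
        rw [← hn]
        clear hn
        induction n with
        | zero => simpa using hv
        | succ n ih =>
          show ρ (a ^ (n + 1)) v ∈ _
          rw [pow_succ', map_mul, Module.End.mul_apply]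
          exact ha _ ih }
  have hWN : W ≤ N := by
    rintro w hw _ ⟨u, rfl⟩
    exact ⟨πU ⟨w, hw⟩ u, hφL ⟨w, hw⟩ u⟩
  have hγN : γ ∈ N := by
    rintro _ ⟨u, rfl⟩
    exact ⟨μ • T u, by rw [map_smul, hγφ]⟩
  have hN : N = ⊤ := by
    rw [eq_top_iff, ← h.gen, sup_le_iff, zpowers_le]
    exact ⟨hWN, hγN⟩
  rcases h.irr (LinearMap.range φ) (fun g v hv => (hN ▸ mem_top g : g ∈ N) v hv) with hr | hr
  · exact absurd (Subtype.ext (LinearMap.range_eq_bot.mp hr)) hφ0
  · refine Submodule.eq_top_of_finrank_eq (le_antisymm (Submodule.finrank_le U) ?_)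
    have h2 := LinearMap.finrank_range_add_finrank_ker φ
    rw [hr, finrank_top] at h2
    omega

/-- The bound on operators commuting with `g`, when `⟨g⟩` permutes `W ⧸ Z(W)` freely away from the identity. -/
theorem SData.orbit_bound (h : SData ρ r γ W) (g : Γ) (F : Submodule k (Module.End k V))
    (hF : ∀ f ∈ F, ρ g * f = f * ρ g)
    (hfree : ∀ a ∈ zpowers g, a ≠ 1 → ∀ w : W, (MulAut.conjNormal a : MulAut W) w * w⁻¹ ∈ center W →
      w ∈ center W) :
    orderOf g * Module.finrank k F + 1 ≤ Module.finrank k V ^ 2 + orderOf g := by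
  classical
  set H := zpowers g
  have hZ : ∀ a : Γ, center W ≤ (center W).comap (MulAut.conjNormal a : MulAut W).toMonoidHom := fun a w hw => by
    show (MulAut.conjNormal a : MulAut W) w ∈ center W
    rwa [h.conjNormal_center a hw]
  letI : MulAction H (W ⧸ center W) :=
    { smul := fun a m => QuotientGroup.map (center W) (center W) _ (hZ (a : Γ)) m
      one_smul := fun m => by
        induction m using QuotientGroup.induction_on with | H w => ?_
        show (((MulAut.conjNormal ((1 : H) : Γ) : MulAut W) w : W) : W ⧸ center W) = _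
        simp
      mul_smul := fun a b m => by
        induction m using QuotientGroup.induction_on with | H w => ?_
        show (((MulAut.conjNormal ((a * b : H) : Γ) : MulAut W) w : W) : W ⧸ center W) =
          (((MulAut.conjNormal (a : Γ) : MulAut W) ((MulAut.conjNormal (b : Γ) : MulAut W) w) : W) : W ⧸ center W)
        rw [Subgroup.coe_mul, map_mul, MulAut.mul_apply] }
  have hsmul : ∀ (a : H) (w : W), a • (w : W ⧸ center W) = (((MulAut.conjNormal (a : Γ) : MulAut W) w : W) : W ⧸ center W) :=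
    fun a w => rfl
  let S : H → (Module.End k V)ˣ := fun a => ρ.toHomUnits (a : Γ)
  have hSv : ∀ a : H, (S a : Module.End k V) = ρ (a : Γ) := fun a => rfl
  have hbound := h.isScalarClassTwo.finrank_fixed_le h.card_ne_zero h.irreducible S (fun a m => by
    set w := (MulAut.conjNormal (a : Γ) : MulAut W) m.out
    have hw : ((a • m).out)⁻¹ * w ∈ center W := by
      rw [← QuotientGroup.eq, QuotientGroup.out_eq', ← hsmul, QuotientGroup.out_eq']
    obtain ⟨c, hc⟩ := h.center_scalar hw
    refine ⟨c, ?_⟩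
    have e : (S a : Module.End k V) * (ρ.comp W.subtype) m.out * ((S a)⁻¹ : (Module.End k V)ˣ) = ρ (w : Γ) := by
      rw [show ((S a)⁻¹ : (Module.End k V)ˣ) = ρ.toHomUnits ((a : Γ)⁻¹) from (map_inv ρ.toHomUnits _).symm, hSv]
      show ρ _ * ρ _ * ρ _ = _
      rw [← map_mul, ← map_mul]
      rfl
    rw [e, show (w : Γ) = (((a • m).out : W) : Γ) * ((((a • m).out)⁻¹ * w : W) : Γ) by simp, map_mul, hc,
      mul_smul_comm, mul_one]
    rfl) F (fun f hf a => by
      have hle : zpowers g ≤
          ({ carrier := {g | ρ g * f = f * ρ g}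
             one_mem' := by simp
             mul_mem' := fun {u v} hu hv => by
               show ρ (u * v) * f = f * ρ (u * v)
               rw [map_mul, mul_assoc, hv, ← mul_assoc, hu, mul_assoc]
             inv_mem' := fun {u} hu => by
               show ρ u⁻¹ * f = f * ρ u⁻¹
               calc ρ u⁻¹ * f = ρ u⁻¹ * f * (ρ u * ρ u⁻¹) := by rw [← map_mul, mul_inv_cancel, map_one, mul_one]
                 _ = ρ u⁻¹ * (ρ u * f) * ρ u⁻¹ := by rw [hu]; simp only [mul_assoc]
                 _ = f * ρ u⁻¹ := by rw [← mul_assoc (ρ u⁻¹), ← map_mul, inv_mul_cancel, map_one, one_mul] } :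
            Subgroup Γ) := zpowers_le.mpr (hF f hf)
      rw [hSv]
      exact hle a.2)
  have horb := card_orbits_free (A := H) (X := W ⧸ center W) (r := orderOf g) (Nat.card_zpowers g)
    ((1 : W) : W ⧸ center W) (fun a => by rw [hsmul, map_one]) fun m hm a ha => by
      by_contra ha1
      induction m using QuotientGroup.induction_on with | H w => ?_
      rw [hsmul, QuotientGroup.eq_iff_div_mem, div_eq_mul_inv] at ha
      exact hm ((QuotientGroup.eq_one_iff w).mpr (hfree a a.2 (fun e => ha1 (Subtype.ext e)) w ha))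
  rw [h.isScalarClassTwo.finrank_sq h.card_ne_zero h.irreducible, Subgroup.index_eq_card, horb]
  have := Nat.mul_le_mul_left (orderOf g) hbound
  omega

/-- A power of an element of prime order that is not trivial generates it. -/
theorem mem_zpowers_pow_of_ne_one {g : Γ} {P : ℕ} (hP : P.Prime) (hg : g ^ P = 1) {n : ℕ} (hn : g ^ n ≠ 1) :
    g ∈ zpowers (g ^ n) := by
  have hcop : n.Coprime P := (hP.coprime_iff_not_dvd.mpr fun ⟨j, hj⟩ =>
    hn (by rw [hj, pow_mul, hg, one_pow])).symm
  obtain ⟨m, hm⟩ := Nat.exists_mul_mod_eq_one_of_coprime hcop hP.one_lt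
  have h1 : (g ^ n) ^ m = g := by
    rw [← pow_mul, ← Nat.mod_add_div (n * m) P, pow_add, pow_mul g P, hg, one_pow, mul_one, hm.2, pow_one]
  have h2 : (g ^ n) ^ m ∈ zpowers (g ^ n) := pow_mem (mem_zpowers _) m
  rwa [h1] at h2

theorem SData.center_ne_top (h : SData ρ r γ W) {x : Γ} (hx : Moves x W) (hW : W ≠ ⊥) : center W ≠ ⊤ := fun e => by
  refine hW (hx.eq_bot_of_commute fun w hw => ?_)
  obtain ⟨c, hc⟩ := h.center_scalar (a := ⟨w, hw⟩) (e ▸ mem_top _)
  exact mem_center_iff.mp (h.mem_center_of_scalar hc) x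

theorem SData.free_x {p : ℕ} [Fact p.Prime] (h : SData ρ r γ W) {x : Γ} (hx : Moves x W) (hxp : x ^ p = 1) (a : Γ) (ha : a ∈ zpowers x) (ha1 : a ≠ 1) (w : W)
    (hw : (MulAut.conjNormal a : MulAut W) w * w⁻¹ ∈ center W) : w ∈ center W := by
  obtain ⟨n, rfl⟩ := (isOfFinOrder_of_finite x).mem_powers_iff_mem_zpowers.mpr ha
  exact h.mem_center_of_fixed hx (h.fixed_of_mem_zpowers (mem_zpowers_pow_of_ne_one Fact.out hxp ha1) hw)

theorem SData.ne_top_dim (h : SData ρ r γ W) {p : ℕ} [Fact p.Prime] (hrp : r ≠ p) {x : Γ} (hx : Moves x W) (hW : W ≠ ⊥) :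
    (∃ m, Module.finrank k V = r ^ m) ∧ Module.finrank k V ≠ 1 ∧ ¬ p ∣ Module.finrank k V := by
  set n := Module.finrank k V
  obtain ⟨j, hj⟩ := (h.pgroup.to_quotient (center W)).exists_card_eq
  have hsq : n ^ 2 = r ^ j := by
    rw [h.isScalarClassTwo.finrank_sq h.card_ne_zero h.irreducible, Subgroup.index_eq_card, hj]
  have hr := (Fact.out : r.Prime)
  obtain ⟨m, -, hm⟩ := (Nat.dvd_prime_pow hr).mp (hsq ▸ dvd_pow_self n two_ne_zero : n ∣ r ^ j)
  refine ⟨⟨m, hm⟩, fun e => h.center_ne_top hx hW ?_, fun hd => hrp ?_⟩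
  · have h1 := h.isScalarClassTwo.finrank_sq h.card_ne_zero h.irreducible
    rw [show Module.finrank k V = 1 from e, one_pow] at h1
    exact Subgroup.index_eq_one.mp h1.symm
  · rw [hm] at hd
    exact ((Nat.prime_dvd_prime_iff_eq Fact.out hr).mp ((Fact.out : p.Prime).dvd_of_dvd_pow hd)).symm

/-- The eigenspaces of `x` are as equal as possible. -/
theorem SData.eig_facts {p : ℕ} [Fact p.Prime] (h : SData ρ r γ W) (hpK : (p : k) ≠ 0) (hrp : r ≠ p)
    {x : Γ} (hx : Moves x W) (hxp : x ^ p = 1) (hp3 : 3 < p) (hW : W ≠ ⊥) {ζ : k}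
    (hζ : IsPrimitiveRoot ζ p) :
    p * ∑ i : Fin p, Module.finrank k (eig ζ (ρ x) i) ^ 2 + 1 = Module.finrank k V ^ 2 + p ∧
      ∃ c : ℕ, (∀ i : Fin p, Module.finrank k (eig ζ (ρ x) i) = c ∨ Module.finrank k (eig ζ (ρ x) i) = c + 1) ∧
        (Module.finrank k V = p * c + 1 ∨ Module.finrank k V + 1 = p * (c + 1)) := by
  have hp := (Fact.out : p.Prime)
  have hS : ρ x ^ p = 1 := by rw [← map_pow, hxp, map_one]
  have hord : orderOf x = p := orderOf_eq_prime hxp (fun e => hW (hx.eq_bot_of_commute fun w _ => by rw [e, one_mul, mul_one]))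
  have h1 := h.orbit_bound x (commutant (ρ x)) (fun f hf => hf) (h.free_x hx hxp)
  rw [hord] at h1
  have h2 := Nat.mul_le_mul_left p (sum_sq_le_commutant hζ hpK hp.pos hS)
  exact block_sizes hp hp3 _ (sum_finrank_eig hζ hpK hp.pos hS) (h.ne_top_dim (p := p) hrp hx hW).2.2 (by omega)

end Cfsg.Agent.TwoGenSolvable
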