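import Mathlib
import Cfsg.Agent.Lib.TwoGenSolvable.LBase
import Cfsg.Agent.Lib.TwoGenSolvable.SStruct
import Cfsg.Agent.Lib.PGroup.Class2

/-!
# The structure in the module lemma: class two and elementary top
-/

set_option autoImplicit false
set_option linter.style.haveILetI false
set_option linter.unusedSectionVars false

namespace Cfsg.Agent.TwoGenSolvable

open Subgroup FixedDim
open scoped commutatorElement IsMulCommutative

universe uk uV

variable {k : Type uk} [Field k] [IsAlgClosed k] {V : Type uV} [AddCommGroup V] [Module k V]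
  [FiniteDimensional k V] [Nontrivial V] {Γ : Type*} [Group Γ] [Finite Γ]
  {ρ : Γ →* Module.End k V} {p q r : ℕ} [Fact p.Prime] [Fact q.Prime] [Fact r.Prime] {x z : Γ} {Δ : Set Γ}
  {W : Subgroup Γ} [W.Normal]

theorem DData.mem_center_of_scalar (h : DData ρ p q r x Δ W) {g : Γ} {c : k}
    (hg : ρ g = c • (1 : Module.End k V)) : g ∈ center Γ :=
  mem_center_iff.mpr fun b => h.inj (by rw [map_mul, map_mul, hg, mul_smul_comm, smul_mul_assoc, mul_one, one_mul])

/-- Elements of characteristic abelian subgroups of `W` act by scalars. -/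
theorem DData.scalar_of_char (h : DData ρ p q r x Δ W) (A : Subgroup W) [A.Characteristic] [IsMulCommutative A]
    {a : W} (ha : a ∈ A) : ∃ c : k, ρ a = c • (1 : Module.End k V) := by
  haveI : IsMulCommutative (A.map W.subtype) := PGroup.isMulCommutative_of_forall <| by
    rintro _ ⟨u, hu, rfl⟩ _ ⟨v, hv, rfl⟩
    rw [← map_mul, ← map_mul, show u * v = v * u from congrArg Subtype.val (mul_comm' (⟨u, hu⟩ : A) ⟨v, hv⟩)]
  exact h.exists_scalar_of_abelian (A.map W.subtype) (map_subtype_le A) ⟨a, ha, rfl⟩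

theorem DData.mem_center_of_char (h : DData ρ p q r x Δ W) (A : Subgroup W) [A.Characteristic]
    [IsMulCommutative A] {a : W} (ha : a ∈ A) : a ∈ center W := by
  obtain ⟨c, hc⟩ := h.scalar_of_char A ha
  exact mem_center_iff.mpr fun b => Subtype.ext (mem_center_iff.mp (h.mem_center_of_scalar hc) b)

theorem DData.center_scalar (h : DData ρ p q r x Δ W) {a : W} (ha : a ∈ center W) :
    ∃ c : k, ρ a = c • (1 : Module.End k V) :=
  h.scalar_of_char (center W) ha

/-- The centre of `W` is centralised by the whole group. -/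
theorem DData.conjNormal_center (h : DData ρ p q r x Δ W) (g : Γ) {a : W} (ha : a ∈ center W) :
    (MulAut.conjNormal g : MulAut W) a = a := by
  obtain ⟨c, hc⟩ := h.center_scalar ha
  refine Subtype.ext ?_
  rw [MulAut.conjNormal_apply, mem_center_iff.mp (h.mem_center_of_scalar hc) g, mul_inv_cancel_right]

theorem DData.commutator_mem_center (h : DData ρ p q r x Δ W) (a b : W) : ⁅a, b⁆ ∈ center W := by
  classical
  haveI : Group.IsNilpotent W := h.pgroup.isNilpotent
  suffices hle : commutator W ≤ center W from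
    hle (commutator_mem_commutator (mem_top a) (mem_top b))
  obtain ⟨n, hn⟩ := Subgroup.nilpotent_iff_lowerCentralSeries.mp (inferInstance : Group.IsNilpotent W)
  by_contra hle
  have hex : ∃ i, Subgroup.lowerCentralSeries (⊤ : Subgroup W) i ≤ center W := ⟨n, hn ▸ bot_le⟩
  obtain ⟨j, hj⟩ : ∃ j, Nat.find hex = j + 2 := by
    refine ⟨Nat.find hex - 2, ?_⟩
    have h0 : Nat.find hex ≠ 0 := fun e => hle (le_trans le_top (by simpa [e] using Nat.find_spec hex))
    have h1 : Nat.find hex ≠ 1 := fun e => hle (by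
      have := Nat.find_spec hex
      rw [e, Subgroup.lowerCentralSeries_succ, Subgroup.lowerCentralSeries_zero, ← commutator_def] at this
      exact this)
    omega
  set A := Subgroup.lowerCentralSeries (⊤ : Subgroup W) (j + 1) with hA
  have hAW : ∀ a ∈ A, ∀ u : W, ⁅a, u⁆ ∈ center W := fun a ha u => by
    have := Nat.find_spec hex
    rw [hj, show j + 2 = (j + 1) + 1 from rfl, Subgroup.lowerCentralSeries_succ] at this
    exact this (commutator_mem_commutator ha (mem_top u))
  have hAC : A ≤ commutator W := by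
    rw [hA]
    refine ((Subgroup.lowerCentralSeries_antitone _) (show 1 ≤ j + 1 by omega)).trans ?_
    rw [Subgroup.lowerCentralSeries_succ, Subgroup.lowerCentralSeries_zero, ← commutator_def]
  have hcomm : ∀ a ∈ A, ∀ b ∈ commutator W, a * b = b * a := by
    intro a ha b hb
    have hle' : commutator W ≤ centralizer {a} := by
      rw [commutator_def, commutator_le]
      intro u _ v _
      refine mem_centralizer_singleton_iff.mpr ?_
      have key : ∀ u, a * u * a⁻¹ = ⁅a, u⁆ * u := fun u => by group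
      have h1 : a * ⁅u, v⁆ * a⁻¹ = ⁅⁅a, u⁆ * u, ⁅a, v⁆ * v⁆ := by rw [← key, ← key]; group
      have hc1 := mem_center_iff.mp (hAW a ha u)
      have hc2 := mem_center_iff.mp (hAW a ha v)
      have h2 : ⁅⁅a, u⁆ * u, ⁅a, v⁆ * v⁆ = ⁅u, v⁆ := by
        generalize ⁅a, u⁆ = c at hc1 ⊢
        generalize ⁅a, v⁆ = d at hc2 ⊢
        calc ⁅c * u, d * v⁆ = c * (u * d) * v * (u⁻¹ * c⁻¹) * (v⁻¹ * d⁻¹) := by group
          _ = c * (d * u) * v * (u⁻¹ * c⁻¹) * (v⁻¹ * d⁻¹) := by rw [hc2 u]
          _ = (d * (u * v * u⁻¹ * v⁻¹)) * d⁻¹ := by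
            rw [← mul_assoc c d u, hc2 c]
            calc d * c * u * v * (u⁻¹ * c⁻¹) * (v⁻¹ * d⁻¹) = d * (c * (u * v * u⁻¹)) * c⁻¹ * v⁻¹ * d⁻¹ := by group
              _ = d * ((u * v * u⁻¹) * c) * c⁻¹ * v⁻¹ * d⁻¹ := by rw [hc1 (u * v * u⁻¹)]
              _ = d * (u * v * u⁻¹ * v⁻¹) * d⁻¹ := by group
          _ = ⁅u, v⁆ := by rw [← hc2 (u * v * u⁻¹ * v⁻¹), mul_inv_cancel_right, commutatorElement_def]
      rw [h2] at h1
      exact (mul_inv_eq_iff_eq_mul.mp h1).symm
    exact (mem_centralizer_singleton_iff.mp (hle' hb)).symm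
  haveI : IsMulCommutative A := PGroup.isMulCommutative_of_forall fun a ha b hb => hcomm a ha b (hAC hb)
  have hfin : A ≤ center W := fun a ha => h.mem_center_of_char A ha
  exact Nat.find_min hex (show j + 1 < Nat.find hex by omega) hfin

theorem DData.pow_mem_center (h : DData ρ p q r x Δ W) (a : W) : a ^ r ∈ center W := by
  classical
  have hc := h.commutator_mem_center
  have hpow : ∀ (n : ℕ) (a b : W), ⁅a ^ n, b⁆ = ⁅a, b⁆ ^ n := by
    intro n a b
    induction n with
    | zero => simp
    | succ n ih => rw [pow_succ, PGroup.commutator_mul_left (hc a b), ih, pow_succ]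
  have hpow' : ∀ (n : ℕ) (a b : W), ⁅a, b ^ n⁆ = ⁅a, b⁆ ^ n := by
    intro n a b
    rw [← commutatorElement_inv, hpow, ← inv_pow, commutatorElement_inv]
  have hex : ∃ e, ∀ a b : W, ⁅a, b⁆ ^ r ^ e = 1 := by
    obtain ⟨n, hn⟩ := h.pgroup.exists_card_eq
    exact ⟨n, fun a b => by rw [← hn]; exact pow_card_eq_one'⟩
  have he : Nat.find hex ≤ 1 := by
    by_contra hge
    obtain ⟨j, hj⟩ : ∃ j, Nat.find hex = j + 2 := ⟨Nat.find hex - 2, by omega⟩
    set N := r ^ (j + 1) with hN
    let A : Subgroup W := closure (Set.range fun a : W => a ^ N)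
    haveI : A.Characteristic := characteristic_iff_map_le.mpr fun φ => by
      rw [MonoidHom.map_closure]
      refine closure_mono ?_
      rintro _ ⟨_, ⟨a, rfl⟩, rfl⟩
      exact ⟨φ a, (map_pow φ.toMonoidHom a N).symm⟩
    haveI : IsMulCommutative A := Subgroup.isMulCommutative_closure (by
      rintro _ ⟨a, rfl⟩ _ ⟨b, rfl⟩
      rw [← commutatorElement_eq_one_iff_mul_comm, hpow, hpow', ← pow_mul,
        show N * N = r ^ (j + 2) * r ^ j by rw [hN, ← pow_add, ← pow_add]; congr 1; omega, pow_mul, ← hj,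
        Nat.find_spec hex a b, one_pow])
    refine Nat.find_min hex (show j + 1 < Nat.find hex by omega) fun a b => ?_
    rw [← hN, ← hpow, commutatorElement_eq_one_iff_mul_comm]
    exact (mem_center_iff.mp (h.mem_center_of_char A (subset_closure ⟨a, rfl⟩)) b).symm
  refine mem_center_iff.mpr fun b => (commutatorElement_eq_one_iff_mul_comm.mp ?_).symm
  rw [hpow]
  have := Nat.find_spec hex a b
  rcases Nat.le_one_iff_eq_zero_or_eq_one.mp he with e | e <;> rw [e] at this
  · rw [pow_zero, pow_one] at this; rw [this, one_pow]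
  · rwa [pow_one] at this

/-- A single element of `⟨x, z⟩` generates it. -/
theorem LData.exists_generator (h : LData ρ p q r x z W) :
    ∃ γ : Γ, x ∈ zpowers γ ∧ z ∈ zpowers γ := by
  rcases h.fix with ⟨hpq, -⟩ | ⟨e, -⟩
  · have hx : x ∈ zpowers (x * z) := by
      obtain ⟨m, hm⟩ := Nat.exists_mul_mod_eq_one_of_coprime
        ((Nat.coprime_primes Fact.out Fact.out).mpr hpq).symm (Fact.out : p.Prime).one_lt
      have h1 : x = (x ^ q) ^ m := by
        rw [← pow_mul, ← Nat.mod_add_div (q * m) p, pow_add, pow_mul, h.xp, one_pow, mul_one, hm.2, pow_one]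
      have h2 : (x * z) ^ q = x ^ q := by rw [(show Commute x z from h.comm).mul_pow, h.zq, mul_one]
      have h3 : ((x * z) ^ q) ^ m ∈ zpowers (x * z) := pow_mem (pow_mem (mem_zpowers (x * z)) q) m
      rwa [h2, ← h1] at h3
    refine ⟨x * z, hx, ?_⟩
    simpa using mul_mem (inv_mem hx) (mem_zpowers (x * z))
  · exact ⟨x, mem_zpowers x, e ▸ mem_zpowers x⟩

/-- The set-up of the module lemma has class two, scalar centre and cyclic complement. -/
theorem LData.toSData (h : LData ρ p q r x z W) :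
    ∃ γ : Γ, x ∈ zpowers γ ∧ z ∈ zpowers γ ∧ SData ρ r γ W := by
  obtain ⟨γ, hx, hz⟩ := h.exists_generator
  refine ⟨γ, hx, hz, ⟨h.inj, h.irr, ?_, h.pgroup, h.rK, h.toDData.commutator_mem_center, h.toDData.center_scalar⟩⟩
  rw [eq_top_iff, ← h.gen]
  refine sup_le_sup_left ((closure_le _).mpr ?_) _
  rintro g (rfl | rfl) <;> assumption

theorem LData.mem_center_of_scalar (h : LData ρ p q r x z W) {g : Γ} {c : k}
    (hg : ρ g = c • (1 : Module.End k V)) : g ∈ center Γ :=
  h.toDData.mem_center_of_scalar hg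

end Cfsg.Agent.TwoGenSolvable
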