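import Mathlib
import Cfsg.Agent.Lib.TwoGenSolvable.Monomial
import Cfsg.Agent.Lib.HallHigman.Eigen
import Cfsg.Agent.Lib.HallHigman.Twisted

/-!
# The monomial bound for one semiregular operator (helper90)
-/

set_option autoImplicit false
set_option linter.style.haveILetI false

namespace Cfsg.Agent.TwoGenSolvable

open Subgroup

variable {k : Type*} [Field k] [IsAlgClosed k] {V : Type*} [AddCommGroup V] [Module k V] [FiniteDimensional k V]
  [Nontrivial V] {W : Type*} [Group W] [Finite W] {π : W →* Module.End k V}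

theorem IsScalarClassTwo.one_lt_finrank (h : IsScalarClassTwo π) (hW : (Nat.card W : k) ≠ 0)
    (hirr : FixedDim.NoInvariant π) (hne : center W ≠ ⊤) : 1 < Module.finrank k V := by
  by_contra hle
  have h1 := h.finrank_sq hW hirr
  have : (center W).index ≤ 1 := by rw [← h1]; nlinarith
  have h0 := Subgroup.index_ne_zero_of_finite (H := center W)
  exact hne (Subgroup.index_eq_one.1 (by omega))

/-- The centraliser of `g` against the orbits. -/
theorem IsScalarClassTwo.monomial_bound (h : IsScalarClassTwo π) (hW : (Nat.card W : k) ≠ 0)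
    (hirr : FixedDim.NoInvariant π) (hne : center W ≠ ⊤) {N : ℕ} (hN : 0 < N) (g : (Module.End k V)ˣ)
    (σ : MulAut W)
    (hσ : ∀ w, (g : Module.End k V) * π w * ((g⁻¹ : (Module.End k V)ˣ) : Module.End k V) = π (σ w))
    (hσN : ∀ w, (σ ^ N) w * w⁻¹ ∈ center W)
    (hsemi : ∀ i, 0 < i → i < N → ∀ w, (σ ^ i) w * w⁻¹ ∈ center W → w ∈ center W) :
    N * Module.finrank k (HallHigman.commutant (g : Module.End k V)) + 1 ≤ Module.finrank k V ^ 2 + N := by
  classical
  haveI : (center W).Characteristic := inferInstance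
  let τ : MulAut W →* MulAut (W ⧸ center W) :=
    { toFun := fun f => QuotientGroup.congr _ _ f (Subgroup.characteristic_iff_map_eq.mp inferInstance f)
      map_one' := MulEquiv.ext fun q => QuotientGroup.induction_on q fun w => rfl
      map_mul' := fun f f' => MulEquiv.ext fun q => QuotientGroup.induction_on q fun w => rfl }
  have hτ : ∀ f w, τ f ((w : W) : W ⧸ center W) = ((f w : W) : W ⧸ center W) := fun f w => rfl
  have hgi : ∀ (i : ℕ) w, ((g ^ i : (Module.End k V)ˣ) : Module.End k V) * π w *
      (((g ^ i)⁻¹ : (Module.End k V)ˣ) : Module.End k V) = π ((σ ^ i) w) := by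
    intro i
    induction i with
    | zero => intro w; simp
    | succ i ih =>
      intro w
      rw [pow_succ', pow_succ', mul_inv_rev, Units.val_mul, Units.val_mul, MulAut.mul_apply, ← hσ, ← ih w]
      simp only [mul_assoc]
  have hmk : ∀ (i : ℕ) (w : W), (τ σ ^ i) (w : W ⧸ center W) = ((σ ^ i) w : W) := fun i w => by
    rw [← map_pow, hτ]
  have hiff : ∀ (i : ℕ) (w : W),
      (τ σ ^ i) (w : W ⧸ center W) = (w : W ⧸ center W) ↔ (σ ^ i) w * w⁻¹ ∈ center W := fun i w => by
    rw [hmk, QuotientGroup.eq_iff_div_mem, div_eq_mul_inv]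
  obtain ⟨w₀, hw₀⟩ : ∃ w₀, w₀ ∉ center W := by
    by_contra hall
    push Not at hall
    exact hne ((eq_top_iff' _).2 hall)
  have hord : orderOf (τ σ) = N := by
    refine (orderOf_eq_iff hN).2 ⟨?_, fun i hi hi0 he => ?_⟩
    · refine MulEquiv.ext fun q => ?_
      induction q using QuotientGroup.induction_on with | _ w => ?_
      exact (hiff N w).2 (hσN w)
    · exact hw₀ (hsemi i hi0 hi w₀ ((hiff i w₀).1 (by rw [he]; rfl)))
  let H := zpowers (τ σ)
  letI : MulAction H (W ⧸ center W) := MulAction.compHom _ H.subtype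
  have hcardH : Nat.card H = N := by rw [Nat.card_zpowers, hord]
  have hex : ∀ a : H, ∃ i, i < N ∧ (a : MulAut (W ⧸ center W)) = τ σ ^ i := by
    intro a
    obtain ⟨i, hi⟩ := (mem_powers_iff_mem_zpowers (x := τ σ)).2 a.2
    refine ⟨i % N, Nat.mod_lt _ hN, ?_⟩
    rw [← hord, pow_mod_orderOf]
    exact hi.symm
  choose idx hidx hidx' using hex
  let S : H → (Module.End k V)ˣ := fun a => g ^ idx a
  have hS : ∀ (a : H) (m : W ⧸ center W), ∃ c : k, (S a : Module.End k V) * π m.out *
      ((S a)⁻¹ : (Module.End k V)ˣ) = c • π (a • m).out := by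
    intro a m
    have ha : a • m = (((σ ^ idx a) m.out : W) : W ⧸ center W) := by
      conv_lhs => rw [← QuotientGroup.out_eq' m]
      show (a : MulAut (W ⧸ center W)) _ = _
      rw [hidx' a, hmk]
    obtain ⟨⟨z, hz⟩, hzm⟩ := QuotientGroup.mk_out_eq_mul (center W) ((σ ^ idx a) m.out)
    obtain ⟨c, hc⟩ := h.scalar _ (inv_mem hz)
    refine ⟨c, ?_⟩
    show ((g ^ idx a : (Module.End k V)ˣ) : Module.End k V) * π m.out * _ = _
    rw [hgi, ha, hzm]
    conv_lhs => rw [show (σ ^ idx a) m.out = (σ ^ idx a) m.out * z * z⁻¹ by group, map_mul, hc,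
      mul_smul_comm, mul_one]
  have hb := h.finrank_fixed_le hW hirr S hS (HallHigman.commutant (g : Module.End k V)) fun f hf a => by
    show ((g ^ idx a : (Module.End k V)ˣ) : Module.End k V) * f = f * _
    rw [Units.val_pow_eq_pow_val]
    exact ((show Commute (g : Module.End k V) f from hf).pow_left _).eq
  have h1 : ∀ a : H, a • ((1 : W) : W ⧸ center W) = ((1 : W) : W ⧸ center W) := fun a => by
    show (a : MulAut (W ⧸ center W)) _ = _
    rw [QuotientGroup.mk_one, map_one]
  have hfree : ∀ m : W ⧸ center W, m ≠ ((1 : W) : W ⧸ center W) → ∀ a : H, a • m = m → a = 1 := by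
    intro m hm a ha
    induction m using QuotientGroup.induction_on with | _ w => ?_
    have hi : idx a = 0 := by
      by_contra hi0
      refine hm ?_
      have := hsemi (idx a) (Nat.pos_of_ne_zero hi0) (hidx a) w ((hiff _ w).1 (by rw [← hidx' a]; exact ha))
      rw [QuotientGroup.mk_one, QuotientGroup.eq_one_iff]
      exact this
    exact Subtype.ext (by rw [hidx' a, hi, pow_zero]; rfl)
  have hcount := HallHigman.card_orbits_free hcardH ((1 : W) : W ⧸ center W) h1 hfree
  rw [← h.finrank_sq hW hirr |>.trans (Subgroup.index_eq_card _)] at hcount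
  have h2 := Nat.mul_le_mul_left N hb
  omega

end Cfsg.Agent.TwoGenSolvable
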