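import Mathlib
import Cfsg.Agent.Lib.TwoGenSolvable.Monomial

/-!
# Operators permuting the monomial basis: the count; irreducibility of the top
-/

set_option autoImplicit false
set_option linter.style.haveILetI false
set_option linter.unusedSectionVars false

namespace Cfsg.Agent.TwoGenSolvable

open Subgroup

universe uk uV

variable {k : Type uk} [Field k] [IsAlgClosed k] {V : Type uV} [AddCommGroup V] [Module k V]
  [FiniteDimensional k V] [Nontrivial V] {Γ : Type*} [Group Γ] [Finite Γ] {ρ : Γ →* Module.End k V}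
  {W : Subgroup Γ} [W.Normal]

theorem fixedCoset_iff (θ : MulAut W) (hθ : ∀ w ∈ center W, θ w ∈ center W) (w : W) :
    QuotientGroup.map (center W) (center W) θ.toMonoidHom hθ (w : W ⧸ center W) = (w : W ⧸ center W) ↔
      θ w * w⁻¹ ∈ center W := by
  show ((θ w : W) : W ⧸ center W) = (w : W ⧸ center W) ↔ _
  rw [QuotientGroup.eq_iff_div_mem, div_eq_mul_inv]

/-- Burnside's count of the orbits of `H` on `W ⧸ Z(W)` bounds the operators commuting with `H`. -/
theorem card_mul_finrank_le (h : IsScalarClassTwo (ρ.comp W.subtype)) (hW : (Nat.card W : k) ≠ 0)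
    (hirr : FixedDim.NoInvariant (ρ.comp W.subtype))
    (hc : ∀ (g : Γ) {w : W}, w ∈ center W → (MulAut.conjNormal g : MulAut W) w = w)
    (H : Subgroup Γ) [Fintype H] (F : Submodule k (Module.End k V))
    (hF : ∀ f ∈ F, ∀ a ∈ H, ρ a * f = f * ρ a) :
    Nat.card H * Module.finrank k F ≤ ∑ a : H, Nat.card {m : W ⧸ center W //
      (MulAut.conjNormal (a : Γ) : MulAut W) m.out * m.out⁻¹ ∈ center W} := by
  classical
  have hZ : ∀ a : Γ, center W ≤ (center W).comap (MulAut.conjNormal a : MulAut W).toMonoidHom := fun a w hw => by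
    show (MulAut.conjNormal a : MulAut W) w ∈ center W
    rwa [hc a hw]
  letI act : MulAction H (W ⧸ center W) :=
    { smul := fun a m => QuotientGroup.map (center W) (center W) _ (hZ (a : Γ)) m
      one_smul := fun m => by
        induction m using QuotientGroup.induction_on with | H w => ?_
        show (((MulAut.conjNormal ((1 : H) : Γ) : MulAut W) w : W) : W ⧸ center W) = _
        simp
      mul_smul := fun a b m => by
        induction m using QuotientGroup.induction_on with | H w => ?_
        show (((MulAut.conjNormal ((a * b : H) : Γ) : MulAut W) w : W) : W ⧸ center W) =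
          (((MulAut.conjNormal (a : Γ) : MulAut W) ((MulAut.conjNormal (b : Γ) : MulAut W) w) : W) : W ⧸ center W)
        rw [Subgroup.coe_mul, map_mul, MulAut.mul_apply] }
  have hsmul : ∀ (a : H) (w : W), a • (w : W ⧸ center W) =
      (((MulAut.conjNormal (a : Γ) : MulAut W) w : W) : W ⧸ center W) := fun a w => rfl
  let S : H → (Module.End k V)ˣ := fun a => ρ.toHomUnits (a : Γ)
  have hSv : ∀ a : H, (S a : Module.End k V) = ρ (a : Γ) := fun a => rfl
  have hbound := h.finrank_fixed_le hW hirr S (fun a m => by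
    set w := (MulAut.conjNormal (a : Γ) : MulAut W) m.out
    have hw : ((a • m).out)⁻¹ * w ∈ center W := by
      rw [← QuotientGroup.eq, QuotientGroup.out_eq', ← hsmul, QuotientGroup.out_eq']
    obtain ⟨c, hc'⟩ := h.scalar _ hw
    refine ⟨c, ?_⟩
    have e : (S a : Module.End k V) * (ρ.comp W.subtype) m.out * ((S a)⁻¹ : (Module.End k V)ˣ) = ρ (w : Γ) := by
      rw [show ((S a)⁻¹ : (Module.End k V)ˣ) = ρ.toHomUnits ((a : Γ)⁻¹) from (map_inv ρ.toHomUnits _).symm, hSv]
      show ρ _ * ρ _ * ρ _ = _
      rw [← map_mul, ← map_mul]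
      rfl
    rw [e, show (w : Γ) = (((a • m).out : W) : Γ) * ((((a • m).out)⁻¹ * w : W) : Γ) by simp, map_mul,
      show ρ ((((a • m).out)⁻¹ * w : W) : Γ) = c • (1 : Module.End k V) from hc', mul_smul_comm, mul_one]
    rfl) F (fun f hf a => by rw [hSv]; exact hF f hf a a.2)
  letI := Fintype.ofFinite (W ⧸ center W)
  letI := Fintype.ofFinite (MulAction.orbitRel.Quotient H (W ⧸ center W))
  have hb := MulAction.sum_card_fixedBy_eq_card_orbits_mul_card_group H (W ⧸ center W)
  simp only [← Nat.card_eq_fintype_card] at hb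
  refine le_trans (Nat.mul_le_mul_left _ hbound) (le_of_eq ?_)
  rw [mul_comm, ← hb]
  refine Finset.sum_congr rfl fun a _ => Nat.card_congr (Equiv.subtypeEquivRight fun m => ?_)
  show a • m = m ↔ _
  rw [← fixedCoset_iff _ (hZ (a : Γ)), QuotientGroup.out_eq']
  exact Iff.rfl

/-- An `x`-invariant subgroup above the centre has image of order `1` modulo `p`. -/
theorem card_map_modEq_one {p : ℕ} [Fact p.Prime] {x : Γ} (hox : orderOf x = p)
    (hc : ∀ (g : Γ) {w : W}, w ∈ center W → (MulAut.conjNormal g : MulAut W) w = w)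
    (hfree : ∀ w : W, (MulAut.conjNormal x : MulAut W) w * w⁻¹ ∈ center W → w ∈ center W)
    (Y : Subgroup W) (hYx : ∀ w ∈ Y, (MulAut.conjNormal x : MulAut W) w ∈ Y) :
    Nat.card (Y.map (QuotientGroup.mk' (center W))) ≡ 1 [MOD p] := by
  set π := QuotientGroup.mk' (center W)
  set Y' := Y.map π with hY'
  have hfix' : ∀ (a : Γ) (y : W ⧸ center W), a ∈ zpowers x → y ∈ Y' →
      QuotientGroup.map (center W) (center W) (MulAut.conjNormal a : MulAut W).toMonoidHom
        (fun w hw => by
          show (MulAut.conjNormal a : MulAut W) w ∈ center W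
          rwa [hc a hw]) y ∈ Y' := by
    rintro a y ha ⟨w, hw, rfl⟩
    refine ⟨(MulAut.conjNormal a : MulAut W) w, ?_, rfl⟩
    obtain ⟨j, rfl⟩ := (isOfFinOrder_of_finite x).mem_powers_iff_mem_zpowers.mpr ha
    show (MulAut.conjNormal (x ^ j) : MulAut W) w ∈ Y
    induction j with
    | zero => simpa using hw
    | succ j ih => rw [pow_succ', map_mul, MulAut.mul_apply]; exact hYx _ (ih (pow_mem (mem_zpowers x) j))
  letI : MulAction (zpowers x) Y' :=
    { smul := fun a y => ⟨_, hfix' a y a.2 y.2⟩
      one_smul := fun y => Subtype.ext (by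
        obtain ⟨w, hw⟩ := QuotientGroup.mk_surjective (y : W ⧸ center W)
        show QuotientGroup.map _ _ _ _ (y : W ⧸ center W) = (y : W ⧸ center W)
        rw [← hw]
        show (((MulAut.conjNormal ((1 : zpowers x) : Γ) : MulAut W) w : W) : W ⧸ center W) = _
        simp)
      mul_smul := fun a b y => Subtype.ext (by
        obtain ⟨w, hw⟩ := QuotientGroup.mk_surjective (y : W ⧸ center W)
        show QuotientGroup.map _ _ _ _ (y : W ⧸ center W) =
          QuotientGroup.map _ _ _ _ (QuotientGroup.map _ _ _ _ (y : W ⧸ center W))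
        rw [← hw]
        show (((MulAut.conjNormal ((a * b : zpowers x) : Γ) : MulAut W) w : W) : W ⧸ center W) =
          (((MulAut.conjNormal (a : Γ) : MulAut W) ((MulAut.conjNormal (b : Γ) : MulAut W) w) : W) : W ⧸ center W)
        rw [Subgroup.coe_mul, map_mul, MulAut.mul_apply]) }
  have hP : IsPGroup p (zpowers x) := IsPGroup.of_card (n := 1) (by rw [Nat.card_zpowers, hox, pow_one])
  have hfx : Nat.card (MulAction.fixedPoints (zpowers x) Y') = 1 := by
    rw [Nat.card_eq_one_iff_unique]
    refine ⟨⟨fun u v => ?_⟩, ⟨⟨1, fun a => Subtype.ext (map_one _)⟩⟩⟩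
    have key : ∀ u : MulAction.fixedPoints (zpowers x) Y', ((u : Y') : W ⧸ center W) = 1 := fun u => by
      obtain ⟨w, hw⟩ := QuotientGroup.mk_surjective ((u : Y') : W ⧸ center W)
      have h1 := congrArg Subtype.val (u.2 ⟨x, mem_zpowers x⟩)
      change QuotientGroup.map _ _ _ _ ((u : Y') : W ⧸ center W) = ((u : Y') : W ⧸ center W) at h1
      rw [← hw] at h1 ⊢
      change (((MulAut.conjNormal x : MulAut W) w : W) : W ⧸ center W) = (w : W ⧸ center W) at h1
      rw [QuotientGroup.eq_iff_div_mem, div_eq_mul_inv] at h1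
      exact (QuotientGroup.eq_one_iff w).mpr (hfree w h1)
    exact Subtype.ext (Subtype.ext ((key u).trans (key v).symm))
  have hmod := hP.card_modEq_card_fixedPoints Y'
  rw [hfx] at hmod
  exact hmod

/-- If `x` of order `p` moves every non-trivial coset and `|W : Z(W)| = r ^ (2 m)` with `r ^ m = 2 p - 1`, then
`x` acts irreducibly on `W ⧸ Z(W)`. -/
theorem top_irreducible {p r m : ℕ} [Fact p.Prime] [Fact r.Prime] {x : Γ} (hox : orderOf x = p) (hp3 : 3 < p)
    (hWr : IsPGroup r W) (hc : ∀ (g : Γ) {w : W}, w ∈ center W → (MulAut.conjNormal g : MulAut W) w = w)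
    (hfree : ∀ w : W, (MulAut.conjNormal x : MulAut W) w * w⁻¹ ∈ center W → w ∈ center W)
    (htot : Nat.card (W ⧸ center W) = r ^ (2 * m)) (hrm : r ^ m + 1 = 2 * p)
    (Y : Subgroup W) (hZY : center W ≤ Y) (hYx : ∀ w ∈ Y, (MulAut.conjNormal x : MulAut W) w ∈ Y) :
    Y = center W ∨ Y = ⊤ := by
  set π := QuotientGroup.mk' (center W)
  set Y' := Y.map π with hY'
  have hYc : Y'.comap π = Y := by rw [hY', comap_map_eq, QuotientGroup.ker_mk', sup_of_le_left hZY]
  have hmod : Nat.card Y' ≡ 1 [MOD p] := card_map_modEq_one hox hc hfree Y hYx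
  obtain ⟨j, hj⟩ := ((hWr.to_quotient (center W)).to_subgroup Y').exists_card_eq
  rw [hj] at hmod
  have hr1 := (Fact.out : r.Prime).one_lt
  have hjle : j ≤ 2 * m := (Nat.pow_le_pow_iff_right hr1).mp
    (hj ▸ htot ▸ Subgroup.card_le_card_group Y')
  rcases (show j = 0 ∨ j = 2 * m ∨ (0 < j ∧ j < 2 * m) by omega) with e | e | ⟨hj0, hj2⟩
  · left
    rw [e, pow_zero, Subgroup.card_eq_one] at hj
    rw [← hYc, hj, MonoidHom.comap_bot, QuotientGroup.ker_mk']
  · right
    rw [e, ← htot] at hj
    rw [← hYc, (Subgroup.card_eq_iff_eq_top Y').mp hj, comap_top]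
  · exfalso
    have hr3 : 3 ≤ r := by
      by_contra hr
      have hr2 : r = 2 := by omega
      rw [hr2] at hrm
      rcases m with _ | m
      · omega
      · rw [pow_succ] at hrm; omega
    have hZ : ((r : ZMod p)) ^ m = -1 := by
      have : ((r ^ m + 1 : ℕ) : ZMod p) = 0 := by rw [hrm]; simp
      push_cast at this
      exact eq_neg_of_add_eq_zero_left this
    have hjZ : ((r : ZMod p)) ^ j = 1 := by
      have := (ZMod.natCast_eq_natCast_iff _ _ _).mpr hmod
      simpa using this
    have hsmall : ∀ i, i < m → r ^ i + 1 < p := by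
      intro i hi
      have h1 : r * r ^ i ≤ r ^ m := by rw [← pow_succ']; exact Nat.pow_le_pow_right (by omega) hi
      have h2 : 3 * r ^ i ≤ r * r ^ i := Nat.mul_le_mul_right _ hr3
      omega
    rcases lt_trichotomy j m with hlt | heq | hgt
    · have h1 : ((r ^ j : ℕ) : ZMod p) = ((1 : ℕ) : ZMod p) := by simpa using hjZ
      have h2 := (ZMod.natCast_eq_natCast_iff _ _ _).mp h1
      rw [Nat.ModEq, Nat.mod_eq_of_lt (by have := hsmall j hlt; omega), Nat.one_mod_eq_one.mpr (by omega)] at h2
      exact absurd h2 (Nat.one_lt_pow (by omega) hr1).ne'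
    · rw [heq, hZ] at hjZ
      have h1 : ((2 : ℕ) : ZMod p) = 0 := by push_cast; linear_combination -hjZ
      rw [ZMod.natCast_eq_zero_iff] at h1
      have := Nat.le_of_dvd two_pos h1
      omega
    · have h1 : ((r ^ (j - m) + 1 : ℕ) : ZMod p) = 0 := by
        push_cast
        have h2 : (r : ZMod p) ^ (j - m) * (r : ZMod p) ^ m = 1 := by
          rw [← pow_add, Nat.sub_add_cancel hgt.le]; exact hjZ
        rw [hZ] at h2
        linear_combination -h2
      rw [ZMod.natCast_eq_zero_iff] at h1
      have := Nat.le_of_dvd (Nat.succ_pos _) h1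
      have := hsmall (j - m) (by omega)
      omega


end Cfsg.Agent.TwoGenSolvable
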