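import Mathlib
import Cfsg.Agent.Lib.TwoGenSolvable.LStruct
import Cfsg.Agent.Lib.TwoGenSolvable.Orbit
import Cfsg.Agent.Lib.TwoGenSolvable.MonomialBound
import Cfsg.Agent.Lib.TwoGenSolvable.Blocks

/-!
# The module lemma for a set of involutions
-/

set_option autoImplicit false
set_option linter.style.haveILetI false
set_option linter.unusedSectionVars false

namespace Cfsg.Agent.TwoGenSolvable

open Subgroup FixedDim HallHigman
open scoped commutatorElement

universe uk uV

/-- The exceptional configuration for a set `Δ` of involutions. -/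
structure DExceptional {k : Type uk} [Field k] {V : Type uV} [AddCommGroup V] [Module k V]
    {Γ : Type*} [Group Γ] (ρ : Γ →* Module.End k V) (p r : ℕ) (x : Γ) (Δ : Set Γ) (W : Subgroup Γ) [W.Normal] :
    Prop where
  exists_pow : ∃ m, r ^ m + 1 = 2 * p
  dim : Module.finrank k V + 1 = 2 * p
  line : Module.finrank k (LinearMap.ker (ρ x - 1)) = 1
  irreducible : NoInvariant (ρ.comp W.subtype)
  classTwo : IsScalarClassTwo (ρ.comp W.subtype)
  top_irr : ∀ Y : Subgroup W, center W ≤ Y → (∀ w ∈ Y, (MulAut.conjNormal x : MulAut W) w ∈ Y) →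
    Y = center W ∨ Y = ⊤
  sign : ∀ δ ∈ Δ, (∀ w : W, (MulAut.conjNormal δ : MulAut W) w * w⁻¹ ∈ center W) ∨
    ∀ w : W, (MulAut.conjNormal δ : MulAut W) w * w ∈ center W
  fixed_center : ∀ w : W, (MulAut.conjNormal x : MulAut W) w = w → w ∈ center W

variable {k : Type uk} [Field k] [IsAlgClosed k] {V : Type uV} [AddCommGroup V] [Module k V]
  [FiniteDimensional k V] [Nontrivial V]

/-- Schur. -/
theorem exists_scalar_of_commute {W : Type*} [Group W] {π : W →* Module.End k V} (hirr : NoInvariant π)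
    (f : Module.End k V) (hf : ∀ w, π w * f = f * π w) : ∃ c : k, f = c • 1 := by
  obtain ⟨c, hc⟩ := Module.End.exists_eigenvalue f
  refine ⟨c, ?_⟩
  rcases hirr (Module.End.eigenspace f c) (fun w u hu => by
    rw [Module.End.mem_eigenspace_iff] at hu ⊢
    rw [← Module.End.mul_apply, ← hf, Module.End.mul_apply, hu, map_smul]) with h | h
  · exact absurd h hc
  · exact LinearMap.ext fun v => Module.End.mem_eigenspace_iff.mp (by rw [h]; trivial)

/-- The eigenspaces of an operator of order `p` inducing a fixed-point-free automorphism of the top. -/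
theorem IsScalarClassTwo.eig_sizes {W : Type*} [Group W] [Finite W] {π : W →* Module.End k V}
    (h : IsScalarClassTwo π) (hW : (Nat.card W : k) ≠ 0) (hirr : NoInvariant π) (hne : center W ≠ ⊤)
    {p r : ℕ} [Fact p.Prime] [Fact r.Prime] (hp3 : 3 < p) (hrp : r ≠ p) (hWr : IsPGroup r W) (hr2 : r ≠ 2)
    (hpK : (p : k) ≠ 0) (g : (Module.End k V)ˣ) (hg : g ^ p = 1) (σ : MulAut W) (hσp : σ ^ p = 1)
    (hσ : ∀ w, (g : Module.End k V) * π w * ((g⁻¹ : (Module.End k V)ˣ) : Module.End k V) = π (σ w))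
    (hsemi : ∀ i, 0 < i → i < p → ∀ w, (σ ^ i) w * w⁻¹ ∈ center W → w ∈ center W)
    {ζ : k} (hζ : IsPrimitiveRoot ζ p) :
    (∃ m, Module.finrank k V = r ^ m ∧ (center W).index = r ^ (2 * m)) ∧
      p * ∑ i : Fin p, Module.finrank k (eig ζ (g : Module.End k V) i) ^ 2 + 1 = Module.finrank k V ^ 2 + p ∧
      ∃ c : ℕ, 1 ≤ c ∧ (∀ i : Fin p, Module.finrank k (eig ζ (g : Module.End k V) i) = c ∨
          Module.finrank k (eig ζ (g : Module.End k V) i) = c + 1) ∧
        (Module.finrank k V = p * c + 1 ∨ Module.finrank k V + 1 = p * (c + 1)) := by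
  classical
  have hp := (Fact.out : p.Prime)
  have hr := (Fact.out : r.Prime)
  set n := Module.finrank k V with hn
  obtain ⟨j, hj⟩ := (hWr.to_quotient (center W)).exists_card_eq
  have hsq : n ^ 2 = r ^ j := by rw [h.finrank_sq hW hirr, Subgroup.index_eq_card, hj]
  obtain ⟨m, -, hm⟩ := (Nat.dvd_prime_pow hr).mp (hsq ▸ dvd_pow_self n two_ne_zero : n ∣ r ^ j)
  have hidx : (center W).index = r ^ (2 * m) := by
    rw [← h.finrank_sq hW hirr, show Module.finrank k V = r ^ m from hm, ← pow_mul, mul_comm]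
  have hn1 : 1 < n := h.one_lt_finrank hW hirr hne
  have hdvd : ¬ p ∣ n := fun hd => hrp (by
    rw [hm] at hd
    exact ((Nat.prime_dvd_prime_iff_eq hp hr).mp (hp.dvd_of_dvd_pow hd)).symm)
  have hS : (g : Module.End k V) ^ p = 1 := by rw [← Units.val_pow_eq_pow_val, hg]; rfl
  have h1 := h.monomial_bound hW hirr hne hp.pos g σ hσ (fun w => by rw [hσp]; simp [one_mem]) hsemi
  have h2 := Nat.mul_le_mul_left p (sum_sq_le_commutant hζ hpK hp.pos hS)
  obtain ⟨hsum, c, hc, hnc⟩ := block_sizes hp hp3 _ (sum_finrank_eig hζ hpK hp.pos hS) hdvd (by omega)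
  refine ⟨⟨m, hm, hidx⟩, hsum, c, ?_, hc, hnc⟩
  by_contra hc0
  have hc00 : c = 0 := by omega
  subst hc00
  have hnp : n + 1 = p := by rcases hnc with e | e <;> omega
  obtain ⟨a, ha⟩ := (hr.odd_of_ne_two hr2).pow (n := m)
  obtain ⟨b, hb⟩ := hp.odd_of_ne_two (by omega)
  omega

variable {Γ : Type*} [Group Γ] [Finite Γ] {ρ : Γ →* Module.End k V} {p q r : ℕ} [Fact p.Prime] [Fact q.Prime]
  [Fact r.Prime] {x : Γ} {Δ : Set Γ} {W : Subgroup Γ} [W.Normal]

theorem DData.classTwo (h : DData ρ p q r x Δ W) : IsScalarClassTwo (ρ.comp W.subtype) where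
  scalar _ ha := h.center_scalar ha
  comm := h.commutator_mem_center
  nondeg a ha := mem_center_iff.mpr fun b => (commutatorElement_eq_one_iff_mul_comm.mp (Subtype.ext
    (h.inj ((ha b).trans (map_one ρ).symm)) : ⁅a, b⁆ = 1)).symm

/-- The elements fixing the coset of `w` modulo the centre. -/
def DData.fixer (h : DData ρ p q r x Δ W) (w : W) : Subgroup Γ where
  carrier := {g | (MulAut.conjNormal g : MulAut W) w * w⁻¹ ∈ center W}
  one_mem' := by simp [one_mem]
  mul_mem' := fun {u v} hu hv => by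
    show (MulAut.conjNormal (u * v) : MulAut W) w * w⁻¹ ∈ center W
    have e : (MulAut.conjNormal (u * v) : MulAut W) w * w⁻¹ =
        (MulAut.conjNormal u : MulAut W) ((MulAut.conjNormal v : MulAut W) w * w⁻¹) *
          ((MulAut.conjNormal u : MulAut W) w * w⁻¹) := by
      rw [map_mul, MulAut.mul_apply, map_mul, map_inv]
      group
    rw [e, h.conjNormal_center u hv]
    exact mul_mem hv hu
  inv_mem' := fun {u} hu => by
    show (MulAut.conjNormal u⁻¹ : MulAut W) w * w⁻¹ ∈ center W
    have e : (MulAut.conjNormal u⁻¹ : MulAut W) w * w⁻¹ =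
        (MulAut.conjNormal u⁻¹ : MulAut W) ((MulAut.conjNormal u : MulAut W) w * w⁻¹)⁻¹ := by
      rw [map_inv (MulAut.conjNormal : Γ →* MulAut W), MulAut.inv_def, map_inv, map_mul, map_inv,
        MulEquiv.symm_apply_apply, mul_inv_rev, inv_inv]
    rw [e, h.conjNormal_center u⁻¹ (inv_mem hu)]
    exact inv_mem hu

/-- The map `w ↦ [g, w]` modulo the centre. -/
def DData.devHom (h : DData ρ p q r x Δ W) (g : Γ) : W →* W ⧸ center W where
  toFun w := (((MulAut.conjNormal g : MulAut W) w * w⁻¹ : W) : W ⧸ center W)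
  map_one' := by simp
  map_mul' u v := by
    set θ : MulAut W := MulAut.conjNormal g
    rw [← QuotientGroup.mk_mul, QuotientGroup.eq]
    have e : (θ (u * v) * (u * v)⁻¹)⁻¹ * (θ u * u⁻¹ * (θ v * v⁻¹)) = ⁅u, v * (θ v)⁻¹⁆ := by
      rw [map_mul, commutatorElement_def]
      group
    rw [e]
    exact h.commutator_mem_center _ _

theorem DData.mem_ker_devHom (h : DData ρ p q r x Δ W) {g : Γ} {w : W} :
    w ∈ (h.devHom g).ker ↔ (MulAut.conjNormal g : MulAut W) w * w⁻¹ ∈ center W :=
  QuotientGroup.eq_one_iff _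

theorem DData.free_x (h : DData ρ p q r x Δ W) (w : W)
    (hw : (MulAut.conjNormal x : MulAut W) w * w⁻¹ ∈ center W) : w ∈ center W := by
  set D' : W ⧸ center W →* W ⧸ center W := QuotientGroup.lift _ (h.devHom x) fun c hc => by
    rw [h.mem_ker_devHom, h.conjNormal_center x hc, mul_inv_cancel]
    exact one_mem _
  have hsurj : Function.Surjective D' := by
    intro m
    obtain ⟨w, rfl⟩ := QuotientGroup.mk_surjective m
    have hle : closure (Set.range fun w : W => (MulAut.conjNormal x : MulAut W) w * w⁻¹) ≤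
        D'.range.comap (QuotientGroup.mk' (center W)) := by
      rw [closure_le]
      rintro _ ⟨u, rfl⟩
      exact ⟨(u : W ⧸ center W), rfl⟩
    exact hle (h.movex.closure_eq_top ▸ mem_top w)
  have h1 : D' (w : W ⧸ center W) = D' 1 := by
    rw [map_one]
    exact (QuotientGroup.eq_one_iff _).mpr hw
  exact (QuotientGroup.eq_one_iff w).mp ((Finite.injective_iff_surjective.mpr hsurj) h1)

/-- With `Δ` a set of involutions trivial on the fixed points of `x`, only the exceptional configuration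
occurs for odd `r`. -/
theorem DData.exceptional (h : DData ρ p q r x Δ W) (hq : q = 2) (hp3 : 3 < p) (hr2 : r ≠ 2) (hW : W ≠ ⊥)
    (hfix : ∀ δ ∈ Δ, ∀ v, ρ x v = v → ρ δ v = v) : DExceptional ρ p r x Δ W := by
  classical
  subst hq
  have hp := (Fact.out : p.Prime)
  set π := ρ.comp W.subtype with hπ
  have hcl := h.classTwo
  have hZne : center W ≠ ⊤ := fun e => hW (h.movex.eq_bot_of_commute fun w hw => by
    obtain ⟨c, hc⟩ := h.center_scalar (a := ⟨w, hw⟩) (e ▸ mem_top _)
    exact mem_center_iff.mp (h.mem_center_of_scalar hc) x)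
  have hWK : (Nat.card W : k) ≠ 0 := by
    obtain ⟨n, hn⟩ := h.pgroup.exists_card_eq
    rw [hn, Nat.cast_pow]
    exact pow_ne_zero _ h.rK
  have hx1 : x ≠ 1 := fun e => hW (h.movex.eq_bot_of_commute fun w _ => by rw [e, one_mul, mul_one])
  have hox : orderOf x = p := orderOf_eq_prime h.xp hx1
  set σx : MulAut W := MulAut.conjNormal x with hσx
  have hσp : σx ^ p = 1 := by rw [hσx, ← map_pow, h.xp, map_one]
  have hsemi : ∀ i, 0 < i → i < p → ∀ w, (σx ^ i) w * w⁻¹ ∈ center W → w ∈ center W := by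
    intro i hi hip w hw
    rw [hσx, ← map_pow] at hw
    have hxi : x ^ i ≠ 1 := pow_ne_one_of_lt_orderOf hi.ne' (hox ▸ hip)
    exact h.free_x w (zpowers_le.mpr (show x ^ i ∈ h.fixer w from hw)
      (mem_zpowers_pow_of_ne_one hp h.xp hxi))
  obtain ⟨ζ, hζ⟩ : ∃ ζ : k, IsPrimitiveRoot ζ p := by
    haveI : NeZero (p : k) := ⟨h.pK⟩
    exact HasEnoughRootsOfUnity.exists_primitiveRoot k p
  -- a minimal `W`-invariant subspace
  obtain ⟨U, hU0, hUi, hmin⟩ : ∃ U : Submodule k V, U ≠ ⊥ ∧ (∀ w, ∀ u ∈ U, π w u ∈ U) ∧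
      ∀ U' : Submodule k V, U' ≠ ⊥ → (∀ w, ∀ u ∈ U', π w u ∈ U') → U' ≤ U → U' = U := by
    have hne : {U : Submodule k V | U ≠ ⊥ ∧ ∀ w, ∀ u ∈ U, π w u ∈ U}.Nonempty :=
      ⟨⊤, top_ne_bot, fun _ _ _ => trivial⟩
    obtain ⟨U, ⟨hU0, hUi⟩, hmin⟩ := WellFounded.has_min wellFounded_lt _ hne
    exact ⟨U, hU0, hUi, fun U' h0 hi hle => eq_of_le_of_not_lt hle (hmin U' ⟨h0, hi⟩)⟩
  haveI : Nontrivial U := Submodule.nontrivial_iff_ne_bot.mpr hU0
  let πU : W →* Module.End k U :=
    { toFun := fun w => (π w).restrict (hUi w)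
      map_one' := by ext u; simp
      map_mul' := fun a b => by ext u; simp }
  have hπU : ∀ (w : W) (u : U), ((πU w u : U) : V) = ρ (w : Γ) (u : V) := fun w u => rfl
  have hscal : ∀ {w : W} {c : k}, ρ (w : Γ) = c • (1 : Module.End k V) → πU w = c • (1 : Module.End k U) :=
    fun {w c} hw => LinearMap.ext fun u => Subtype.ext (by rw [hπU, hw]; rfl)
  have hU2 : IsScalarClassTwo πU :=
    ⟨fun w hw => (h.center_scalar hw).imp fun c hc => hscal hc, h.commutator_mem_center, fun a ha => by
      refine hcl.nondeg a fun b => ?_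
      obtain ⟨c, hc⟩ := h.center_scalar (h.commutator_mem_center a b)
      have h1 : c = 1 := smul_left_injective k (one_ne_zero (α := Module.End k U))
        (((hscal hc).symm.trans (ha b)).trans (one_smul k _).symm)
      show ρ ((⁅a, b⁆ : W) : Γ) = 1
      rw [hc, h1, one_smul]⟩
  have hUirr : NoInvariant πU := by
    intro S hS
    by_cases h0 : S = ⊥
    · exact Or.inl h0
    refine Or.inr ?_
    have h1 := hmin (S.map U.subtype)
      (fun e => h0 (Submodule.map_injective_of_injective U.subtype_injective (e.trans (Submodule.map_bot _).symm)))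
      (by
        rintro w _ ⟨u, hu, rfl⟩
        exact ⟨_, hS w u hu, rfl⟩)
      (Submodule.map_subtype_le _ _)
    refine eq_top_iff.mpr fun u _ => ?_
    obtain ⟨v, hv, hvu⟩ := (h1.symm ▸ u.2 : (u : V) ∈ S.map U.subtype)
    rwa [← U.subtype_injective hvu]
  -- intertwiners for the elements of `{x} ∪ Δ`
  have hint : ∀ g : Γ, ∃ T : U ≃ₗ[k] U, ∀ w v, T (πU w v) = πU ((MulAut.conjNormal g : MulAut W) w) (T v) :=
    fun g => hU2.exists_intertwiner hWK hUirr (πU.comp (MulAut.conjNormal g : MulAut W).toMonoidHom) (by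
      intro S hS
      refine hUirr S fun w u hu => ?_
      have := hS ((MulAut.conjNormal g : MulAut W).symm w) u hu
      simpa using this) fun w hw c hc => by
        show πU ((MulAut.conjNormal g : MulAut W) w) = _
        rw [h.conjNormal_center g hw, hc]
  obtain ⟨T₀, hT₀⟩ := hint x
  -- normalise the one for `x`
  obtain ⟨T, hT, hTp⟩ : ∃ T : U ≃ₗ[k] U, (∀ w v, T (πU w v) = πU (σx w) (T v)) ∧
      (T : U →ₗ[k] U) ^ p = 1 := by
    have hit : ∀ (i : ℕ) w v, ((T₀ : U →ₗ[k] U) ^ i) (πU w v) = πU ((σx ^ i) w) (((T₀ : U →ₗ[k] U) ^ i) v) := by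
      intro i
      induction i with
      | zero => intro w v; simp
      | succ i ih =>
        intro w v
        rw [pow_succ', pow_succ', Module.End.mul_apply, ih, Module.End.mul_apply, MulAut.mul_apply]
        exact hT₀ _ _
    obtain ⟨c, hc⟩ := exists_scalar_of_commute hUirr ((T₀ : U →ₗ[k] U) ^ p) fun w => LinearMap.ext fun v => by
      rw [Module.End.mul_apply, Module.End.mul_apply, hit, hσp, MulAut.one_apply]
    have hc0 : c ≠ 0 := fun e => by
      obtain ⟨v, hv⟩ := exists_ne (0 : U)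
      refine hv ((Function.Injective.iterate T₀.injective p) ?_)
      have h1 := LinearMap.congr_fun hc v
      rw [e, zero_smul, Module.End.pow_apply] at h1
      simpa using h1
    obtain ⟨a, ha⟩ := IsAlgClosed.exists_pow_nat_eq c⁻¹ hp.pos
    have ha0 : a ≠ 0 := fun e => hc0 (by rw [e, zero_pow hp.pos.ne', eq_comm, inv_eq_zero] at ha; exact ha)
    refine ⟨T₀.trans (LinearEquiv.smulOfNeZero k U a ha0), fun w v => ?_, ?_⟩
    · show a • T₀ (πU w v) = πU (σx w) (a • T₀ v)
      rw [map_smul, hT₀]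
    · rw [show ((T₀.trans (LinearEquiv.smulOfNeZero k U a ha0) : U ≃ₗ[k] U) : U →ₗ[k] U) =
        a • (T₀ : U →ₗ[k] U) from rfl, smul_pow, hc, smul_smul, ha, inv_mul_cancel₀ hc0, one_smul]
  let gT : (Module.End k U)ˣ :=
    ⟨(T : U →ₗ[k] U), (T.symm : U →ₗ[k] U), LinearMap.ext fun u => by simp, LinearMap.ext fun u => by simp⟩
  obtain ⟨-, -, c, hc1, hc, -⟩ := hU2.eig_sizes hWK hUirr hZne hp3 h.rp h.pgroup hr2 h.pK gT
    (Units.ext (by rw [Units.val_pow_eq_pow_val]; exact hTp)) σx hσp
    (fun w => LinearMap.ext fun v => by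
      show T (πU w (T.symm v)) = _
      rw [hT, LinearEquiv.apply_symm_apply]) hsemi hζ
  -- an eigenvector on the intertwiners into `V`
  let L : Submodule k (U →ₗ[k] V) :=
    { carrier := {φ | ∀ (w : W) (u : U), φ (πU w u) = ρ (w : Γ) (φ u)}
      zero_mem' := fun w u => by simp
      add_mem' := fun {a b} ha hb w u => by simp [ha w u, hb w u]
      smul_mem' := fun c a ha w u => by simp [ha w u] }
  have hmemL : ∀ (g : Γ) (T' : U ≃ₗ[k] U),
      (∀ w v, T' (πU w v) = πU ((MulAut.conjNormal g : MulAut W) w) (T' v)) → ∀ φ ∈ L,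
      (ρ g) ∘ₗ φ ∘ₗ T'.symm.toLinearMap ∈ L := by
    intro g T' hT' φ hφ w u
    show ρ g (φ (T'.symm (πU w u))) = ρ (w : Γ) (ρ g (φ (T'.symm u)))
    obtain ⟨v, rfl⟩ := (MulAut.conjNormal g : MulAut W).surjective w
    have h1 : T'.symm (πU ((MulAut.conjNormal g : MulAut W) v) u) = πU v (T'.symm u) := by
      rw [LinearEquiv.symm_apply_eq, hT' v, LinearEquiv.apply_symm_apply]
    rw [h1, hφ v, ← Module.End.mul_apply, ← map_mul, ← Module.End.mul_apply, ← map_mul]
    congr 2
    rw [MulAut.conjNormal_apply, inv_mul_cancel_right]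
  let Φ : Module.End k L :=
    { toFun := fun φ => ⟨(ρ x) ∘ₗ (φ : U →ₗ[k] V) ∘ₗ T.symm.toLinearMap, hmemL x T hT φ φ.2⟩
      map_add' := fun a b => by
        refine Subtype.ext (LinearMap.ext fun u => ?_)
        simp
      map_smul' := fun c a => by
        refine Subtype.ext (LinearMap.ext fun u => ?_)
        simp }
  haveI : Nontrivial L := by
    refine ⟨⟨⟨U.subtype, fun w u => hπU w u⟩, 0, fun e => ?_⟩⟩
    obtain ⟨u, hu⟩ := exists_ne (0 : U)
    exact hu (Subtype.ext (LinearMap.congr_fun (congrArg Subtype.val e) u))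
  obtain ⟨μ, hμ⟩ := Module.End.exists_eigenvalue Φ
  obtain ⟨⟨φ, hφL⟩, hφe, hφ0⟩ := hμ.exists_hasEigenvector
  rw [Module.End.mem_eigenspace_iff] at hφe
  have hxφ : ∀ u : U, ρ x (φ u) = μ • φ (T u) := fun u => by
    have := LinearMap.congr_fun (congrArg Subtype.val hφe) (T u)
    simpa [Φ] using this
  have hφne : φ ≠ 0 := fun e => hφ0 (Subtype.ext e)
  have hφinj : Function.Injective φ := by
    rcases hUirr (LinearMap.ker φ) (fun w u hu => by
      rw [LinearMap.mem_ker] at hu ⊢
      rw [hφL, hu, map_zero]) with e | e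
    · exact LinearMap.ker_eq_bot.mp e
    · exact absurd (LinearMap.ker_eq_top.mp e) hφne
  have hiter : ∀ (i : ℕ) u, ρ (x ^ i) (φ u) = μ ^ i • φ (((T : U →ₗ[k] U) ^ i) u) := by
    intro i
    induction i with
    | zero => intro u; simp
    | succ i ih =>
      intro u
      rw [pow_succ', map_mul, Module.End.mul_apply, ih, map_smul, hxφ, smul_smul, pow_succ μ,
        pow_succ' (T : U →ₗ[k] U)]
      rfl
  have hμp : μ ^ p = 1 := by
    obtain ⟨u, hu⟩ := exists_ne (0 : U)
    have h1 := hiter p u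
    rw [h.xp, map_one, hTp, Module.End.one_apply, Module.End.one_apply] at h1
    refine smul_left_injective k (fun e => hu (hφinj (e.trans (map_zero φ).symm))) ?_
    show μ ^ p • φ u = (1 : k) • φ u
    rw [← h1, one_smul]
  have hμ0 : μ ≠ 0 := fun e => by rw [e, zero_pow hp.pos.ne'] at hμp; exact zero_ne_one hμp
  obtain ⟨i, hi, hie⟩ := hζ.eq_pow_of_pow_eq_one (ξ := μ⁻¹) (by rw [inv_pow, hμp, inv_one])
  obtain ⟨u₀, hu₀, hu₀0⟩ : ∃ u ∈ eig ζ (gT : Module.End k U) (⟨i, hi⟩ : Fin p), u ≠ 0 := by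
    refine (Submodule.ne_bot_iff _).mp fun e => ?_
    have h1 : Module.finrank k (eig ζ (gT : Module.End k U) (⟨i, hi⟩ : Fin p)) = 0 := by rw [e, finrank_bot]
    rcases hc ⟨i, hi⟩ with e' | e' <;> omega
  have hfx : ρ x (φ u₀) = φ u₀ := by
    rw [hxφ, show T u₀ = μ⁻¹ • u₀ from (eig_apply hu₀).trans (by rw [hie]), map_smul, smul_smul,
      mul_inv_cancel₀ hμ0, one_smul]
  -- so the range of `φ` is invariant
  have hrange : ∀ δ ∈ Δ, ∀ v ∈ LinearMap.range φ, ρ δ v ∈ LinearMap.range φ := by
    intro δ hδ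
    obtain ⟨T', hT'⟩ := hint δ
    set ψ : U →ₗ[k] V := (ρ δ) ∘ₗ φ ∘ₗ T'.symm.toLinearMap with hψ
    have hψL : ψ ∈ L := hmemL δ T' hT' φ hφL
    have hψinj : Function.Injective ψ := (rho_injective ρ δ).comp (hφinj.comp T'.symm.injective)
    have hle : LinearMap.range φ ≤ LinearMap.range ψ := by
      rintro _ ⟨v, rfl⟩
      have htop := (hUirr ((LinearMap.range ψ).comap φ) (fun w u hu => by
        obtain ⟨t, ht⟩ := hu
        exact ⟨πU w t, by rw [hψL, ht, hφL]⟩)).resolve_left fun e => hu₀0 (by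
          rw [← Submodule.mem_bot k, ← e]
          refine ⟨T' u₀, ?_⟩
          show ρ δ (φ (T'.symm (T' u₀))) = φ u₀
          rw [LinearEquiv.symm_apply_apply]
          exact hfix δ hδ _ hfx)
      exact (htop ▸ Submodule.mem_top : v ∈ (LinearMap.range ψ).comap φ)
    have heq := Submodule.eq_of_le_of_finrank_eq hle (by
      rw [LinearMap.finrank_range_of_inj hφinj, LinearMap.finrank_range_of_inj hψinj])
    rintro _ ⟨v, rfl⟩
    rw [heq]
    refine ⟨T' v, ?_⟩
    show ρ δ (φ (T'.symm (T' v))) = _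
    rw [LinearEquiv.symm_apply_apply]
  have hrtop : LinearMap.range φ = ⊤ := by
    refine (h.irr _ fun g v hv => ?_).resolve_left fun e => hφne (LinearMap.range_eq_bot.mp e)
    let N : Submonoid Γ :=
      { carrier := {g | ∀ v ∈ LinearMap.range φ, ρ g v ∈ LinearMap.range φ}
        one_mem' := fun v hv => by simpa using hv
        mul_mem' := fun {a b} ha hb v hv => by rw [map_mul, Module.End.mul_apply]; exact ha _ (hb v hv) }
    have hS : (W : Set Γ) ∪ insert x Δ ⊆ N := by
      rintro g (hg | rfl | hg)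
      · rintro _ ⟨u, rfl⟩
        exact ⟨πU ⟨g, hg⟩ u, hφL ⟨g, hg⟩ u⟩
      · rintro _ ⟨u, rfl⟩
        exact ⟨μ • T u, by rw [map_smul, hxφ]⟩
      · exact hrange g hg
    have hg : g ∈ closure ((W : Set Γ) ∪ insert x Δ) := by
      rw [Subgroup.closure_union, Subgroup.closure_eq, h.gen]; trivial
    rw [← mem_toSubmonoid, closure_toSubmonoid_of_finite] at hg
    exact (Submonoid.closure_le.mpr hS) hg v hv
  have hirrW : NoInvariant π := by
    intro S hS
    rcases hUirr (S.comap φ) (fun w u hu => by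
      show φ (πU w u) ∈ S
      rw [hφL]; exact hS w _ hu) with e | e
    · refine Or.inl ((Submodule.eq_bot_iff S).mpr fun v hv => ?_)
      obtain ⟨u, rfl⟩ := (hrtop ▸ Submodule.mem_top : v ∈ LinearMap.range φ)
      rw [(Submodule.mem_bot k).mp (e ▸ hv : u ∈ (⊥ : Submodule k U)), map_zero]
    · refine Or.inr (eq_top_iff.mpr fun v _ => ?_)
      obtain ⟨u, rfl⟩ := (hrtop ▸ Submodule.mem_top : v ∈ LinearMap.range φ)
      exact (e ▸ Submodule.mem_top : u ∈ S.comap φ)
  -- count in `V`
  obtain ⟨⟨m, hm, hidx⟩, hsum, c, hc1, hc, hnc⟩ := hcl.eig_sizes hWK hirrW hZne hp3 h.rp h.pgroup hr2 h.pK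
    (ρ.toHomUnits x) (by rw [← map_pow, h.xp, map_one]) σx hσp (fun w => by
      rw [show ((ρ.toHomUnits x)⁻¹ : (Module.End k V)ˣ) = ρ.toHomUnits x⁻¹ from (map_inv ρ.toHomUnits _).symm]
      show ρ x * ρ (w : Γ) * ρ x⁻¹ = ρ ((σx w : W) : Γ)
      rw [← map_mul, ← map_mul]
      rfl) hsemi hζ
  set d : Fin p → ℕ := fun i => Module.finrank k (eig ζ (ρ x) i)
  replace hsum : p * ∑ i, d i ^ 2 + 1 = Module.finrank k V ^ 2 + p := hsum
  replace hc : ∀ i, d i = c ∨ d i = c + 1 := hc
  set n := Module.finrank k V with hn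
  set i₀ : Fin p := ⟨0, hp.pos⟩ with hi₀
  have htot : Nat.card (W ⧸ center W) = r ^ (2 * m) := by rw [← Subgroup.index_eq_card, hidx]
  -- the bound from one element of `Δ`
  have key : ∀ δ ∈ Δ, ¬ (∀ w : W, (MulAut.conjNormal δ : MulAut W) w * w⁻¹ ∈ center W) →
      ∃ s, p * d i₀ ^ 2 + 1 ≤ s + p ∧ (2 * p + 1) * s ≤ n ^ 2 := by
    intro δ hδ hnt
    set Y := (h.devHom δ).ker with hY
    set π' := QuotientGroup.mk' (center W)
    refine ⟨Nat.card (Y.map π'), ?_, ?_⟩
    · have hδ1 : δ ≠ 1 := fun e => hnt fun w => by simp [e, one_mem]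
      have hoδ : orderOf δ = 2 := orderOf_eq_prime (h.dq δ hδ) hδ1
      have hcomm : Commute x δ := h.comm δ hδ
      have hord : orderOf (x * δ) = p * 2 := by
        rw [hcomm.orderOf_mul_eq_mul_orderOf_of_coprime (by
          rw [hox, hoδ]; exact (Nat.coprime_primes hp Nat.prime_two).mpr (by omega)), hox, hoδ]
      set H := zpowers (x * δ) with hH
      haveI : Fintype H := Fintype.ofFinite H
      have hTi : ∀ i : Fin p, ∀ v ∈ eig ζ (ρ x) i, ρ δ v ∈ eig ζ (ρ x) i := fun i v hv => by
        rw [Module.End.mem_eigenspace_iff, ← Module.End.mul_apply, ← map_mul, hcomm.eq, map_mul,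
          Module.End.mul_apply, eig_apply hv, map_smul]
      have h1 := card_mul_finrank_le hcl hWK hirrW (fun g w hw => h.conjNormal_center g hw) H
        (commutant (ρ x) ⊓ commutant (ρ δ)) (fun f hf a ha => by
          let C : Submonoid Γ :=
            { carrier := {g | ρ g * f = f * ρ g}
              one_mem' := by simp
              mul_mem' := fun {u v} hu hv => by
                show ρ (u * v) * f = f * ρ (u * v)
                rw [map_mul, mul_assoc, hv, ← mul_assoc, hu, mul_assoc] }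
          obtain ⟨j, rfl⟩ := (isOfFinOrder_of_finite (x * δ)).mem_powers_iff_mem_zpowers.mpr ha
          exact pow_mem (C.mul_mem (show x ∈ C from hf.1) (show δ ∈ C from hf.2)) j)
      have hcardH : Nat.card H = p * 2 := by rw [hH, Nat.card_zpowers, hord]
      rw [hcardH] at h1
      have h2 := sum_block_le hζ h.pK hp.pos (S := ρ x) (by rw [← map_pow, h.xp, map_one]) (T := ρ δ)
        (by rw [← map_mul, ← map_mul, hcomm.eq]) hTi
      set e : Fin p → ℕ := fun i => Module.finrank k (commutant ((ρ δ).restrict (hTi i)))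
      have he0 : e i₀ = d i₀ ^ 2 := by
        refine finrank_commutant_of_scalar (c := (1 : k)) (LinearMap.ext fun v => Subtype.ext ?_)
        have hv := eig_apply v.2
        rw [show ((i₀ : Fin p) : ℕ) = 0 from rfl, pow_zero, one_smul] at hv
        simpa using hfix δ hδ _ hv
      have hle : ∀ i, d i ^ 2 + (if i = i₀ then d i₀ ^ 2 else 0) ≤ 2 * e i := fun i => by
        split_ifs with hi
        · subst hi; rw [he0]; omega
        · refine sq_le_mul_commutant (LinearMap.ext fun v => Subtype.ext ?_)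
          rw [pow_two, Module.End.mul_apply, LinearMap.coe_restrict_apply, LinearMap.coe_restrict_apply,
            ← Module.End.mul_apply, ← map_mul, ← pow_two, h.dq δ hδ, map_one]
          rfl
      have h3 := Finset.sum_le_sum fun i (_ : i ∈ Finset.univ) => hle i
      rw [Finset.sum_add_distrib, Finset.sum_ite_eq' Finset.univ i₀, if_pos (Finset.mem_univ _),
        ← Finset.mul_sum] at h3
      -- the fixed points of the elements of `H`
      have hδH : δ ∈ H := by
        have hxm : x ∈ H := by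
          obtain ⟨j, hj⟩ : ∃ j, x = (x * δ) ^ j := by
            obtain ⟨a, ha⟩ := hp.odd_of_ne_two (by omega)
            refine ⟨2 * (a + 1), ?_⟩
            rw [hcomm.mul_pow, pow_mul δ, h.dq δ hδ, one_pow, mul_one, show 2 * (a + 1) = p + 1 by omega,
              pow_succ, h.xp, one_mul]
          have h4 : (x * δ) ^ j ∈ H := pow_mem (mem_zpowers _) j
          rwa [← hj] at h4
        simpa using mul_mem (inv_mem hxm) (mem_zpowers (x * δ))
      have hother : ∀ a : H, (a : Γ) ≠ 1 → (a : Γ) ≠ δ → Nat.card {m : W ⧸ center W //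
          (MulAut.conjNormal (a : Γ) : MulAut W) m.out * m.out⁻¹ ∈ center W} ≤ 1 := by
        intro a ha1 haδ
        haveI : Subsingleton {m : W ⧸ center W //
            (MulAut.conjNormal (a : Γ) : MulAut W) m.out * m.out⁻¹ ∈ center W} := by
          refine ⟨fun u v => Subtype.ext ?_⟩
          have key : ∀ u : {m : W ⧸ center W //
              (MulAut.conjNormal (a : Γ) : MulAut W) m.out * m.out⁻¹ ∈ center W}, u.1 = 1 := fun u => by
            rw [← QuotientGroup.out_eq' u.1]
            refine (QuotientGroup.eq_one_iff _).mpr (h.free_x _ ?_)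
            obtain ⟨j, hj⟩ := (isOfFinOrder_of_finite (x * δ)).mem_powers_iff_mem_zpowers.mpr a.2
            have ha : (a : Γ) ∈ h.fixer u.1.out := u.2
            change (x * δ) ^ j = a at hj
            have hne : x ^ (j * 2) ≠ 1 := fun e => by
              have hpj : p ∣ j := by
                rw [← orderOf_dvd_iff_pow_eq_one, hox] at e
                exact ((Nat.Prime.dvd_mul hp).mp e).resolve_right fun e' => by
                  have := Nat.le_of_dvd two_pos e'; omega
              obtain ⟨l, rfl⟩ := hpj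
              rw [hcomm.mul_pow, pow_mul x, h.xp, one_pow, one_mul] at hj
              rcases Nat.even_or_odd (p * l) with ⟨b, hb⟩ | ⟨b, hb⟩
              · exact ha1 (by rw [← hj, hb, ← two_mul, pow_mul, h.dq δ hδ, one_pow])
              · exact haδ (by rw [← hj, hb, pow_succ, pow_mul, h.dq δ hδ, one_pow, one_mul])
            refine zpowers_le.mpr (?_ : x ^ (j * 2) ∈ h.fixer u.1.out)
              (mem_zpowers_pow_of_ne_one hp h.xp hne)
            have h5 : ((x * δ) ^ j) ^ 2 ∈ h.fixer u.1.out := by rw [hj]; exact pow_mem ha 2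
            rwa [← pow_mul, hcomm.mul_pow, mul_comm j 2, pow_mul δ, h.dq δ hδ, one_pow, mul_one, mul_comm 2 j] at h5
          rw [key u, key v]
        exact Finite.card_le_one_iff_subsingleton.mpr inferInstance
      set f : H → ℕ := fun a => Nat.card {m : W ⧸ center W //
        (MulAut.conjNormal (a : Γ) : MulAut W) m.out * m.out⁻¹ ∈ center W} with hf
      have hf1 : f 1 ≤ n ^ 2 := by
        rw [hn, hcl.finrank_sq hWK hirrW, Subgroup.index_eq_card]
        exact Nat.card_le_card_of_injective _ Subtype.val_injective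
      have hfδ : f ⟨δ, hδH⟩ ≤ Nat.card (Y.map π') := by
        refine Nat.card_le_card_of_injective (fun u => ⟨u.1, u.1.out, ?_, QuotientGroup.out_eq' _⟩)
          fun u v huv => by
            have h9 := congrArg Subtype.val huv
            exact Subtype.ext h9
        exact h.mem_ker_devHom.mpr u.2
      have hne1 : (⟨δ, hδH⟩ : H) ≠ 1 := fun e => hδ1 (congrArg Subtype.val e)
      have h4 : ∑ a, f a ≤ n ^ 2 + Nat.card (Y.map π') + (p * 2 - 2) := by
        have hcard : (((Finset.univ : Finset H).erase 1).erase ⟨δ, hδH⟩).card = p * 2 - 2 := by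
          rw [Finset.card_erase_of_mem (Finset.mem_erase.mpr ⟨hne1, Finset.mem_univ _⟩),
            Finset.card_erase_of_mem (Finset.mem_univ _), Finset.card_univ, ← Nat.card_eq_fintype_card, hH,
            Nat.card_zpowers, hord]
          omega
        rw [← Finset.add_sum_erase _ _ (Finset.mem_univ (1 : H)),
          ← Finset.add_sum_erase _ _ (Finset.mem_erase.mpr ⟨hne1, Finset.mem_univ (⟨δ, hδH⟩ : H)⟩), ← hcard,
          ← add_assoc]
        refine add_le_add (add_le_add hf1 hfδ) ((Finset.sum_le_card_nsmul _ _ 1 fun a ha => ?_).trans (by simp))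
        simp only [Finset.mem_erase] at ha
        exact hother a (fun e => ha.2.1 (Subtype.ext e)) (fun e => ha.1 (Subtype.ext e))
      have h5 := Nat.mul_le_mul_left (p * 2) h2
      have h6 : p * (∑ i, d i ^ 2 + d i₀ ^ 2) ≤ p * 2 * ∑ i, e i := by
        rw [mul_assoc]; exact Nat.mul_le_mul_left p h3
      have h7 : p * 2 * ∑ i, e i ≤ n ^ 2 + Nat.card (Y.map π') + (p * 2 - 2) := (h5.trans h1).trans h4
      rw [Nat.mul_add] at h6
      omega
    · -- the image of `[δ, ·]` is non-trivial and of order `1` modulo `p`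
      have hYx : ∀ w ∈ Y, σx w ∈ Y := fun w hw => by
        change w ∈ (h.devHom δ).ker at hw
        show σx w ∈ (h.devHom δ).ker
        rw [h.mem_ker_devHom] at hw ⊢
        rw [hσx, show (MulAut.conjNormal δ : MulAut W) ((MulAut.conjNormal x : MulAut W) w) =
          (MulAut.conjNormal x : MulAut W) ((MulAut.conjNormal δ : MulAut W) w) by
            rw [← MulAut.mul_apply, ← map_mul, ← h.comm δ hδ, map_mul, MulAut.mul_apply],
          ← map_inv, ← map_mul, h.conjNormal_center x hw]
        exact hw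
      have hZY : center W ≤ Y := fun w hw => by
        show w ∈ (h.devHom δ).ker
        rw [h.mem_ker_devHom, h.conjNormal_center δ hw, mul_inv_cancel]
        exact one_mem _
      have hmod := card_map_modEq_one (W := W) hox (fun g w hw => h.conjNormal_center g hw) h.free_x Y hYx
      have hcomap : (Y.map π').comap π' = Y := by rw [comap_map_eq, QuotientGroup.ker_mk', sup_of_le_left hZY]
      have hidx' : Y.index * Nat.card (Y.map π') = n ^ 2 := by
        rw [hn, hcl.finrank_sq hWK hirrW, Subgroup.index_eq_card (center W), ← hcomap,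
          index_comap_of_surjective _ (QuotientGroup.mk'_surjective _), hcomap, mul_comm, card_mul_index]
      have hlt : Y.index ≠ 1 := fun e => hnt fun w => h.mem_ker_devHom.mp (by
        show w ∈ Y
        rw [Subgroup.index_eq_one.mp e]; trivial)
      have hdvd : Y.index ∣ r ^ (2 * m) := ⟨_, by rw [hidx', pow_mul', ← hm]⟩
      obtain ⟨l, -, hl⟩ := (Nat.dvd_prime_pow (Fact.out : r.Prime)).mp hdvd
      obtain ⟨a, ha⟩ := ((Fact.out : r.Prime).odd_of_ne_two hr2).pow (n := l)
      have h1m : Y.index ≡ 1 [MOD p] := by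
        have h2 := (Nat.ModEq.mul_left Y.index hmod)
        rw [hidx', mul_one] at h2
        refine h2.symm.trans ?_
        rw [show n ^ 2 = Nat.card ((⊤ : Subgroup W).map π') by
          rw [map_top_of_surjective π' (QuotientGroup.mk'_surjective _), card_top, hn,
            hcl.finrank_sq hWK hirrW, Subgroup.index_eq_card]]
        exact card_map_modEq_one hox (fun g w hw => h.conjNormal_center g hw) h.free_x ⊤ fun _ _ => mem_top _
      have h2p : 2 * p + 1 ≤ Y.index := by
        by_contra hsmall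
        have h1le : 1 ≤ Y.index := by rw [hl]; exact Nat.one_le_pow _ _ (Fact.out : r.Prime).pos
        obtain ⟨b, hb⟩ := (Nat.modEq_iff_dvd' h1le).mp h1m.symm
        rcases b with _ | _ | b
        · omega
        · obtain ⟨b', hb'⟩ := hp.odd_of_ne_two (by omega)
          omega
        · have : p * 2 ≤ p * (b + 1 + 1) := Nat.mul_le_mul_left p (by omega)
          omega
      calc (2 * p + 1) * Nat.card (Y.map π') ≤ Y.index * Nat.card (Y.map π') := Nat.mul_le_mul_right _ h2p
        _ = n ^ 2 := hidx'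
  obtain ⟨δ₀, hδ₀, hnt⟩ : ∃ δ ∈ Δ, ¬ ∀ w : W, (MulAut.conjNormal δ : MulAut W) w * w⁻¹ ∈ center W := by
    by_contra hall
    push Not at hall
    refine hZne (top_unique fun w _ => ?_)
    have hle : closure (⋃ δ ∈ Δ, (fun w => ⁅δ, w⁆) '' (W : Set Γ)) ≤ (center W).map W.subtype := by
      rw [closure_le]
      intro g hg
      simp only [Set.mem_iUnion] at hg
      obtain ⟨δ, hδ, v, hv, rfl⟩ := hg
      exact ⟨_, hall δ hδ ⟨v, hv⟩, by simp [commutatorElement_def]⟩
    obtain ⟨w', hw', e⟩ := hle (h.moveD w.2)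
    rwa [← W.subtype_injective e]
  obtain ⟨s, hs1, hs2⟩ := key δ₀ hδ₀ hnt
  -- only `n = 2p - 1` remains
  have hd0 : c ≤ d i₀ ∧ d i₀ ≤ c + 1 := by rcases hc i₀ with e | e <;> omega
  have hsq : p * c ^ 2 + 1 ≤ s + p :=
    le_trans (by gcongr; exact hd0.1) hs1
  obtain ⟨a, ha⟩ := ((Fact.out : r.Prime).odd_of_ne_two hr2).pow (n := m)
  rw [← hm] at ha
  obtain ⟨b, hb⟩ := hp.odd_of_ne_two (by omega)
  have hc2 : c ≤ 2 := by
    by_contra hc3
    obtain ⟨t, rfl⟩ : ∃ t, c = t + 3 := ⟨c - 3, by omega⟩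
    have hnle : n + 1 ≤ p * (t + 4) := by
      rcases hnc with e | e <;> nlinarith [hp.two_le]
    have h8 : (2 * p + 1) * (p * (t + 3) ^ 2 + 1) ≤ n ^ 2 + (2 * p + 1) * p := by
      have := Nat.mul_le_mul_left (2 * p + 1) hsq
      nlinarith
    have h9 : (n + 1) ^ 2 ≤ (p * (t + 4)) ^ 2 := Nat.pow_le_pow_left hnle 2
    nlinarith
  have hdim : n + 1 = 2 * p ∧ c = 1 := by
    interval_cases c
    · rcases hnc with e | e
      · exfalso; rw [mul_one] at e; omega
      · exact ⟨by omega, rfl⟩
    · exfalso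
      rcases hnc with e | e
      · rw [e] at hs2
        have h10 : s ≤ p * 2 + 1 := by
          refine Nat.le_of_mul_le_mul_left ?_ (show 0 < 2 * p + 1 by omega)
          calc (2 * p + 1) * s ≤ (p * 2 + 1) ^ 2 := hs2
            _ = (2 * p + 1) * (p * 2 + 1) := by ring
        norm_num at hsq
        omega
      · omega
  obtain ⟨hdim, hc1'⟩ := hdim
  subst hc1'
  have hline : d i₀ = 1 := by
    rcases hc i₀ with e | e
    · exact e
    exfalso
    rw [e] at hs1
    have h10 : s < 2 * p := by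
      by_contra hge
      have := Nat.mul_le_mul_left (2 * p + 1) (not_lt.mp hge)
      have h11 : n ^ 2 < (2 * p) ^ 2 := Nat.pow_lt_pow_left (by omega) two_ne_zero
      nlinarith
    norm_num at hs1
    omega
  have hrm : r ^ m + 1 = 2 * p := by rw [← hm]; exact hdim
  have hirrtop := fun Y hZY hYx => top_irreducible (W := W) hox hp3 h.pgroup
    (fun g w hw => h.conjNormal_center g hw) h.free_x htot hrm Y hZY hYx
  refine
    { exists_pow := ⟨m, hrm⟩
      dim := hdim
      line := by rw [← eig_zero (ζ := ζ) hp.pos]; exact hline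
      irreducible := hirrW
      classTwo := hcl
      top_irr := hirrtop
      sign := fun δ hδ => ?_
      fixed_center := fun w hw => h.free_x w (by rw [hw, mul_inv_cancel]; exact one_mem _) }
  set θ : MulAut W := MulAut.conjNormal δ with hθ
  rcases hirrtop (h.devHom δ).ker
      (fun w hw => by rw [h.mem_ker_devHom, h.conjNormal_center δ hw, mul_inv_cancel]; exact one_mem _)
      (fun w hw => by
        rw [h.mem_ker_devHom] at hw ⊢
        rw [show (MulAut.conjNormal δ : MulAut W) ((MulAut.conjNormal x : MulAut W) w) =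
          (MulAut.conjNormal x : MulAut W) ((MulAut.conjNormal δ : MulAut W) w) by
            rw [← MulAut.mul_apply, ← map_mul, ← h.comm δ hδ, map_mul, MulAut.mul_apply],
          ← map_inv, ← map_mul, h.conjNormal_center x hw]
        exact hw) with e | e
  · refine Or.inr fun w => ?_
    rw [← e, h.mem_ker_devHom]
    have h2 : θ (θ w) = w := by
      rw [← MulAut.mul_apply, hθ, ← map_mul, ← pow_two, h.dq δ hδ, map_one, MulAut.one_apply]
    rw [map_mul, h2, mul_inv_rev, ← mul_assoc, ← commutatorElement_def]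
    exact h.commutator_mem_center _ _
  · exact Or.inl fun w => h.mem_ker_devHom.mp (e ▸ mem_top w)

end Cfsg.Agent.TwoGenSolvable
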