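import Mathlib
import Cfsg.Agent.Lib.FixedDim.Irreducible

/-!
# Composition factors of a representation
-/

set_option autoImplicit false
set_option linter.style.haveILetI false

namespace Cfsg.Agent.TwoGenSolvable

open FixedDim

universe uk uV

variable {k : Type uk} [Field k] {V : Type uV} [AddCommGroup V] [Module k V] {Γ : Type*} [Group Γ]
  (ρ : Γ →* Module.End k V)

/-- `U₂ / U₁` is an irreducible factor. -/
structure IsFactor (U₁ U₂ : Submodule k V) : Prop where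
  lt : U₁ < U₂
  inv₁ : ∀ g, ∀ u ∈ U₁, ρ g u ∈ U₁
  inv₂ : ∀ g, ∀ u ∈ U₂, ρ g u ∈ U₂
  min : ∀ U : Submodule k V, (∀ g, ∀ u ∈ U, ρ g u ∈ U) → U₁ ≤ U → U ≤ U₂ → U = U₁ ∨ U = U₂

variable {ρ}

/-- The representation on a factor. -/
def IsFactor.rep {U₁ U₂ : Submodule k V} (h : IsFactor ρ U₁ U₂) :
    Γ →* Module.End k (↥U₂ ⧸ U₁.comap U₂.subtype) where
  toFun g := (U₁.comap U₂.subtype).mapQ (U₁.comap U₂.subtype) ((ρ g).restrict (h.inv₂ g))
    fun _ hu => h.inv₁ g _ hu
  map_one' := by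
    refine Submodule.linearMap_qext _ (LinearMap.ext fun u => congrArg Submodule.Quotient.mk (Subtype.ext ?_))
    show ρ 1 (u : V) = u
    rw [map_one, Module.End.one_apply]
  map_mul' := fun g g' => by
    refine Submodule.linearMap_qext _ (LinearMap.ext fun u => congrArg Submodule.Quotient.mk (Subtype.ext ?_))
    show ρ (g * g') (u : V) = ρ g (ρ g' u)
    rw [map_mul, Module.End.mul_apply]

theorem IsFactor.rep_mk {U₁ U₂ : Submodule k V} (h : IsFactor ρ U₁ U₂) (g : Γ) (u : U₂) :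
    h.rep g (Submodule.Quotient.mk u) = Submodule.Quotient.mk ⟨ρ g u, h.inv₂ g u u.2⟩ :=
  rfl

theorem IsFactor.rep_mk_eq_self {U₁ U₂ : Submodule k V} (h : IsFactor ρ U₁ U₂) (g : Γ) (u : U₂) :
    h.rep g (Submodule.Quotient.mk u) = Submodule.Quotient.mk u ↔ ρ g u - u ∈ U₁ := by
  rw [h.rep_mk, Submodule.Quotient.eq, Submodule.mem_comap]
  rfl

theorem IsFactor.nontrivial {U₁ U₂ : Submodule k V} (h : IsFactor ρ U₁ U₂) :
    Nontrivial (↥U₂ ⧸ U₁.comap U₂.subtype) := by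
  rw [Submodule.Quotient.nontrivial_iff]
  intro e
  exact h.lt.not_ge fun u hu => (Submodule.eq_top_iff'.1 e ⟨u, hu⟩ :)

theorem IsFactor.irreducible {U₁ U₂ : Submodule k V} (h : IsFactor ρ U₁ U₂) : NoInvariant h.rep := by
  intro U hU
  set U' : Submodule k V := (U.comap (U₁.comap U₂.subtype).mkQ).map U₂.subtype with hU'
  have hinv : ∀ g, ∀ u ∈ U', ρ g u ∈ U' := by
    rintro g _ ⟨u, hu, rfl⟩
    exact ⟨⟨ρ g u, h.inv₂ g u u.2⟩, hU g _ hu, rfl⟩
  have h1 : U₁ ≤ U' := fun u hu => by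
    refine ⟨⟨u, h.lt.le hu⟩, ?_, rfl⟩
    show (Submodule.Quotient.mk _ : ↥U₂ ⧸ U₁.comap U₂.subtype) ∈ U
    rw [(Submodule.Quotient.mk_eq_zero _).2 (show (⟨u, h.lt.le hu⟩ : U₂) ∈ U₁.comap U₂.subtype from hu)]
    exact zero_mem _
  have h2 : U' ≤ U₂ := Submodule.map_subtype_le _ _
  rcases h.min U' hinv h1 h2 with e | e
  · refine Or.inl ((Submodule.eq_bot_iff _).2 fun q hq => ?_)
    obtain ⟨u, rfl⟩ := Submodule.Quotient.mk_surjective _ q
    exact (Submodule.Quotient.mk_eq_zero _).2 (show (u : V) ∈ U₁ from e ▸ ⟨u, hq, rfl⟩)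
  · refine Or.inr (Submodule.eq_top_iff'.2 fun q => ?_)
    obtain ⟨u, rfl⟩ := Submodule.Quotient.mk_surjective _ q
    obtain ⟨u', hu', e'⟩ := (show (u : V) ∈ U' by rw [e]; exact u.2)
    rwa [Subtype.ext e'] at hu'

/-- A vector fixed by `a` modulo an invariant subspace is congruent to one fixed by `a`, when the order of `a`
is invertible. -/
theorem exists_fixed_lift {U : Submodule k V} {a : Γ} (hU : ∀ u ∈ U, ρ a u ∈ U) {n : ℕ} (hn : a ^ n = 1)
    (hnk : (n : k) ≠ 0) {u : V} (hu : ρ a u - u ∈ U) : ∃ u', ρ a u' = u' ∧ u' - u ∈ U := by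
  refine ⟨(n : k)⁻¹ • ∑ i ∈ Finset.range n, ρ (a ^ i) u, ?_, ?_⟩
  · rw [map_smul, map_sum]
    congr 1
    simp only [← Module.End.mul_apply, ← map_mul, ← pow_succ']
    have := Finset.sum_range_succ' (fun i => ρ (a ^ i) u) n
    rw [Finset.sum_range_succ, hn, pow_zero] at this
    exact (add_right_cancel this).symm
  · have hi : ∀ i : ℕ, ρ (a ^ i) u - u ∈ U := by
      intro i
      induction i with
      | zero => simp
      | succ i ih =>
        have := U.add_mem (hU _ ih) hu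
        rwa [map_sub, ← Module.End.mul_apply, ← map_mul, ← pow_succ', sub_add_sub_cancel] at this
    have := U.smul_mem (n : k)⁻¹ (U.sum_mem fun i (_ : i ∈ Finset.range n) => hi i)
    rwa [Finset.sum_sub_distrib, Finset.sum_const, Finset.card_range, ← Nat.cast_smul_eq_nsmul k, smul_sub,
      inv_smul_smul₀ hnk] at this

theorem IsFactor.exists_fixed {U₁ U₂ : Submodule k V} (h : IsFactor ρ U₁ U₂) {a : Γ} {n : ℕ} (hn : a ^ n = 1)
    (hnk : (n : k) ≠ 0) {v : ↥U₂ ⧸ U₁.comap U₂.subtype} (hv : h.rep a v = v) :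
    ∃ u : U₂, ρ a u = u ∧ Submodule.Quotient.mk u = v := by
  obtain ⟨u, rfl⟩ := Submodule.Quotient.mk_surjective _ v
  obtain ⟨u', hf, hd⟩ := exists_fixed_lift (h.inv₁ a) hn hnk ((h.rep_mk_eq_self a u).1 hv)
  have hu' : u' ∈ U₂ := by simpa using U₂.add_mem (h.lt.le hd) u.2
  exact ⟨⟨u', hu'⟩, hf, (Submodule.Quotient.eq _).2 hd⟩

/-- `ker (g - 1) ≤ ker (h - 1)` passes to factors when the order of `g` is invertible. -/
theorem IsFactor.fixed_le {U₁ U₂ : Submodule k V} (h : IsFactor ρ U₁ U₂) {a b : Γ} {n : ℕ} (hn : a ^ n = 1)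
    (hnk : (n : k) ≠ 0) (hab : ∀ v, ρ a v = v → ρ b v = v) :
    ∀ v, h.rep a v = v → h.rep b v = v := by
  intro v hv
  obtain ⟨u, hu, rfl⟩ := h.exists_fixed hn hnk hv
  rw [h.rep_mk_eq_self, hab _ hu, sub_self]
  exact zero_mem _

theorem IsFactor.no_fixed {U₁ U₂ : Submodule k V} (h : IsFactor ρ U₁ U₂) {a : Γ} {n : ℕ} (hn : a ^ n = 1)
    (hnk : (n : k) ≠ 0) (ha : ∀ v, ρ a v = v → v = 0) :
    ∀ v, h.rep a v = v → v = 0 := by
  intro v hv
  obtain ⟨u, hu, rfl⟩ := h.exists_fixed hn hnk hv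
  rw [show u = 0 from Subtype.ext (ha _ hu), Submodule.Quotient.mk_zero]

/-- An image of a factor under an operator normalising the representation. -/
theorem IsFactor.map {U₁ U₂ : Submodule k V} (h : IsFactor ρ U₁ U₂) (S : V ≃ₗ[k] V) (σ : MulAut Γ)
    (hS : ∀ g v, S (ρ g v) = ρ (σ g) (S v)) :
    IsFactor ρ (U₁.map (S : V →ₗ[k] V)) (U₂.map (S : V →ₗ[k] V)) := by
  have hS' : ∀ g v, ρ g (S v) = S (ρ (σ.symm g) v) := fun g v => by
    rw [hS, MulEquiv.apply_symm_apply]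
  have hinv : ∀ {U : Submodule k V}, (∀ g, ∀ u ∈ U, ρ g u ∈ U) →
      ∀ g, ∀ u ∈ U.map (S : V →ₗ[k] V), ρ g u ∈ U.map (S : V →ₗ[k] V) := by
    rintro U hU g _ ⟨u, hu, rfl⟩
    exact ⟨ρ (σ.symm g) u, hU _ u hu, (hS' g u).symm⟩
  refine ⟨Submodule.map_strictMono_of_injective S.injective h.lt, hinv h.inv₁, hinv h.inv₂,
    fun U hU h1 h2 => ?_⟩
  have e : (U.comap (S : V →ₗ[k] V)).map (S : V →ₗ[k] V) = U :=
    Submodule.map_comap_eq_of_surjective S.surjective U
  rcases h.min (U.comap (S : V →ₗ[k] V))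
    (fun g u hu => by
      show S (ρ g u) ∈ U
      rw [hS]; exact hU _ _ hu)
    (Submodule.map_le_iff_le_comap.1 h1)
    (fun u hu => by
      obtain ⟨u', hu', e'⟩ := h2 hu
      rwa [← S.injective e']) with e' | e'
  · exact Or.inl (by rw [← e, e'])
  · exact Or.inr (by rw [← e, e'])

variable [Finite Γ] [FiniteDimensional k V]

omit [Finite Γ] in
/-- Every non-zero invariant subspace is the top of a factor. -/
theorem exists_isFactor {U : Submodule k V} (hU : ∀ g, ∀ u ∈ U, ρ g u ∈ U) (hne : U ≠ ⊥) :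
    ∃ U₁ : Submodule k V, IsFactor ρ U₁ U := by
  obtain ⟨U₁, ⟨hi, hlt⟩, hmax⟩ := wellFounded_gt.has_min
    {U₁ : Submodule k V | (∀ g, ∀ u ∈ U₁, ρ g u ∈ U₁) ∧ U₁ < U}
    ⟨⊥, fun g u hu => by rw [Submodule.mem_bot] at hu; simp [hu], bot_lt_iff_ne_bot.2 hne⟩
  refine ⟨U₁, hlt, hi, hU, fun U' hi' h1 h2 => ?_⟩
  by_contra hc
  push Not at hc
  exact hmax U' ⟨hi', lt_of_le_of_ne h2 hc.2⟩ (lt_of_le_of_ne h1 (Ne.symm hc.1))

omit [Finite Γ] in
/-- A subgroup of invertible order that acts non-trivially does so on some factor. -/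
theorem exists_factor_nontrivial (W : Subgroup Γ) (hW : (Nat.card W : k) ≠ 0) {w : Γ} (hw : w ∈ W)
    (hne : ρ w ≠ 1) :
    ∃ (U₁ U₂ : Submodule k V) (h : IsFactor ρ U₁ U₂), ∃ w' ∈ W, h.rep w' ≠ 1 := by
  by_contra hcon
  push Not at hcon
  have hwN : w ^ Nat.card W = 1 := by
    have h1 : (⟨w, hw⟩ : W) ^ Nat.card W = 1 := pow_card_eq_one'
    exact congrArg Subtype.val h1
  have key : ∀ U : Submodule k V, (∀ g, ∀ u ∈ U, ρ g u ∈ U) → ∀ u ∈ U, ρ w u = u := by
    intro U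
    induction U using WellFoundedLT.induction with
    | ind U ih =>
      intro hU u hu
      rcases eq_or_ne U ⊥ with rfl | hne'
      · rw [(Submodule.mem_bot k).1 hu, map_zero]
      obtain ⟨U₁, hf⟩ := exists_isFactor hU hne'
      have hd : ρ w u - u ∈ U₁ := (hf.rep_mk_eq_self w ⟨u, hu⟩).1 (by
        rw [hcon U₁ U hf w hw, Module.End.one_apply])
      have hfix : ρ w (ρ w u - u) = ρ w u - u := ih U₁ hf.lt hf.inv₁ _ hd
      have hi : ∀ i : ℕ, ρ (w ^ i) u = u + i • (ρ w u - u) := by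
        intro i
        induction i with
        | zero => simp
        | succ i ih' =>
          rw [pow_succ', map_mul, Module.End.mul_apply, ih', map_add, map_nsmul, hfix, succ_nsmul]
          abel
      have h0 := hi (Nat.card W)
      rw [hwN, map_one, Module.End.one_apply, left_eq_add, ← Nat.cast_smul_eq_nsmul k, smul_eq_zero,
        sub_eq_zero] at h0
      exact h0.resolve_left hW
  exact hne (LinearMap.ext fun v => key ⊤ (fun _ _ _ => Submodule.mem_top) v Submodule.mem_top)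

omit [Finite Γ] [FiniteDimensional k V] in
theorem mem_ker_sub_one {W : Type*} [AddCommGroup W] [Module k W] {T : Module.End k W} {v : W} :
    v ∈ LinearMap.ker (T - 1) ↔ T v = v := by
  rw [LinearMap.mem_ker, LinearMap.sub_apply, Module.End.one_apply, sub_eq_zero]

omit [Finite Γ] in
/-- The fixed space on `U₂` maps into that on the factor with kernel the fixed space on `U₁`; onto if the order
is invertible. -/
theorem IsFactor.finrank_fixed {U₁ U₂ : Submodule k V} (h : IsFactor ρ U₁ U₂) (g : Γ) :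
    Module.finrank k ↥(U₂ ⊓ LinearMap.ker (ρ g - 1)) ≤
        Module.finrank k ↥(U₁ ⊓ LinearMap.ker (ρ g - 1)) + Module.finrank k (LinearMap.ker (h.rep g - 1)) ∧
      ∀ n : ℕ, g ^ n = 1 → (n : k) ≠ 0 →
        Module.finrank k ↥(U₁ ⊓ LinearMap.ker (ρ g - 1)) + Module.finrank k (LinearMap.ker (h.rep g - 1)) ≤
          Module.finrank k ↥(U₂ ⊓ LinearMap.ker (ρ g - 1)) := by
  set F : Submodule k V := LinearMap.ker (ρ g - 1) with hF
  set ψ := (U₁.comap U₂.subtype).mkQ.comp (Submodule.inclusion (inf_le_left : U₂ ⊓ F ≤ U₂)) with hψ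
  have hrn := LinearMap.finrank_range_add_finrank_ker ψ
  have hle : LinearMap.range ψ ≤ LinearMap.ker (h.rep g - 1) := by
    rintro _ ⟨u, rfl⟩
    refine mem_ker_sub_one.2 ((h.rep_mk_eq_self g _).2 ?_)
    show ρ g (u : V) - u ∈ U₁
    rw [mem_ker_sub_one.1 u.2.2, sub_self]
    exact zero_mem _
  have hker : Module.finrank k (LinearMap.ker ψ) = Module.finrank k ↥(U₁ ⊓ F) := by
    rw [LinearEquiv.finrank_eq (Submodule.equivMapOfInjective (U₂ ⊓ F).subtype Subtype.val_injective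
      (LinearMap.ker ψ))]
    have e : (LinearMap.ker ψ).map (U₂ ⊓ F).subtype = U₁ ⊓ F := by
      refine le_antisymm ?_ fun x hx => ?_
      · rintro _ ⟨u, hu, rfl⟩
        have hu' : (Submodule.Quotient.mk (Submodule.inclusion (inf_le_left : U₂ ⊓ F ≤ U₂) u) :
            ↥U₂ ⧸ U₁.comap U₂.subtype) = 0 := LinearMap.mem_ker.1 hu
        exact ⟨((Submodule.Quotient.mk_eq_zero (U₁.comap U₂.subtype)).1 hu' :), u.2.2⟩
      · exact ⟨⟨x, h.lt.le hx.1, hx.2⟩, LinearMap.mem_ker.2 ((Submodule.Quotient.mk_eq_zero _).2 hx.1), rfl⟩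
    rw [e]
  refine ⟨?_, fun n hn hnk => ?_⟩
  · have := Submodule.finrank_mono hle
    omega
  · have heq : LinearMap.ker (h.rep g - 1) ≤ LinearMap.range ψ := fun v hv => by
      obtain ⟨u, hu, rfl⟩ := h.exists_fixed hn hnk (mem_ker_sub_one.1 hv)
      exact ⟨⟨u, u.2, mem_ker_sub_one.2 hu⟩, rfl⟩
    have := Submodule.finrank_mono heq
    omega

omit [Finite Γ] in
/-- Inequalities between fixed spaces add up over the factors. -/
theorem fixed_bound_of_factors {a b : Γ} {n : ℕ} (hn : a ^ n = 1) (hnk : (n : k) ≠ 0)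
    (h : ∀ (U₁ U₂ : Submodule k V) (hf : IsFactor ρ U₁ U₂),
      2 * Module.finrank k (LinearMap.ker (hf.rep b - 1)) ≤
        Module.finrank k (↥U₂ ⧸ U₁.comap U₂.subtype) + Module.finrank k (LinearMap.ker (hf.rep a - 1))) :
    2 * Module.finrank k (LinearMap.ker (ρ b - 1)) ≤
      Module.finrank k V + Module.finrank k (LinearMap.ker (ρ a - 1)) := by
  have key : ∀ U : Submodule k V, (∀ g, ∀ u ∈ U, ρ g u ∈ U) →
      2 * Module.finrank k ↥(U ⊓ LinearMap.ker (ρ b - 1)) ≤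
        Module.finrank k U + Module.finrank k ↥(U ⊓ LinearMap.ker (ρ a - 1)) := by
    intro U
    induction U using WellFoundedLT.induction with
    | ind U ih =>
      intro hU
      rcases eq_or_ne U ⊥ with rfl | hne'
      · rw [bot_inf_eq, finrank_bot]; omega
      obtain ⟨U₁, hf⟩ := exists_isFactor hU hne'
      have h1 := ih U₁ hf.lt hf.inv₁
      have h2 := (hf.finrank_fixed b).1
      have h3 := (hf.finrank_fixed a).2 n hn hnk
      have h4 := h U₁ U hf
      have h5 := Submodule.finrank_quotient_add_finrank (U₁.comap U.subtype)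
      rw [LinearEquiv.finrank_eq (Submodule.comapSubtypeEquivOfLe hf.lt.le)] at h5
      omega
  have := key ⊤ fun _ _ _ => Submodule.mem_top
  rwa [top_inf_eq, top_inf_eq, finrank_top] at this

end Cfsg.Agent.TwoGenSolvable
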