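import Mathlib
import Cfsg.Prelude.Def_Solvable
import Cfsg.Prelude.Def_Local
import Cfsg.Prelude.Def_Amalgam

/-!
# Definitions for the proof that two-generated solvability implies solvability

`x` is a central element of order `p ≥ 5` of a Sylow `p`-subgroup of a minimal counterexample; `z` is a central
element of order `q` of `O_q(C(x))`.
-/

set_option autoImplicit false

namespace Cfsg.Agent.TwoGenSolvable

open Subgroup

variable {G : Type*} [Group G]

/-- `O_{p'}(H)` inside the ambient group. -/
def ppOf (p : ℕ) (H : Subgroup G) : Subgroup G :=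
  (Cfsg.pPrimeCore p H).map H.subtype

/-- A minimal counterexample. -/
structure MinCE (G : Type*) [Group G] : Prop where
  simple : IsSimpleGroup G
  not_solvable : ¬ Group.IsSolvable G
  proper : ∀ H : Subgroup G, H ≠ ⊤ → Group.IsSolvable H
  pair : ∀ a b : G, closure ({a, b} : Set G) ≠ ⊤

/-- The element `x`. -/
structure XCtx (p : ℕ) (x : G) : Prop extends MinCE G where
  prime : p.Prime
  five_le : 5 ≤ p
  order_x : orderOf x = p
  central : ∃ S : Sylow p G, x ∈ (S : Subgroup G) ∧ ∀ s ∈ (S : Subgroup G), x * s = s * x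

/-- The element `z`. -/
structure QCtx (p q : ℕ) (x z : G) : Prop extends XCtx p x where
  qprime : q.Prime
  order_z : orderOf z = q
  z_mem : z ∈ Cfsg.pCoreOf q (centralizer ({x} : Set G))
  z_central : ∀ d ∈ Cfsg.pCoreOf q (centralizer ({x} : Set G)), z * d = d * z
  z_eq_x : q = p → z = x

/-- `W` is normalised by `x` and `z` and moved by `z`. -/
structure IsMoved (x z : G) (W : Subgroup G) : Prop where
  x_norm : x ∈ normalizer (W : Set G)
  z_norm : z ∈ normalizer (W : Set G)
  eq : ⁅W, zpowers z⁆ = W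

/-- `z` is good in `H`: it lies in `O_{q',q}` of `O_{p'}(H)` when `q ≠ p`, and the moved `r`-subgroups
(`r ≠ q`) of `O_{p'}(H)` lie in its `r`-cores. -/
def Good (p q : ℕ) (x z : G) (H : Subgroup G) : Prop :=
  (q ≠ p → z ∈ (Cfsg.pPrimePCore q (ppOf p H)).map (ppOf p H).subtype) ∧
    ∀ r : ℕ, r.Prime → r ≠ q → ∀ W : Subgroup G, W ≤ ppOf p H → IsMoved x z W → IsPGroup r W →
      W ≤ Cfsg.pCoreOf r (ppOf p H)

/-- `z` is good in every solvable subgroup containing `x` and `z`. -/
def AllGood (p q : ℕ) (x z : G) : Prop :=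
  ∀ H : Subgroup G, Group.IsSolvable H → x ∈ H → z ∈ H → Good p q x z H

/-- A member: a non-trivial moved `s`-subgroup, `s ≠ q`. -/
structure IsMember (q : ℕ) (x z : G) (s : ℕ) (B : Subgroup G) : Prop where
  sprime : s.Prime
  ne_q : s ≠ q
  ne_bot : B ≠ ⊥
  pgroup : IsPGroup s B
  moved : IsMoved x z B

end Cfsg.Agent.TwoGenSolvable
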