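import Mathlib
import Cfsg.Agent.Lib.TwoGenSolvable.Setup

/-!
# Definitions: good elements, maximal members, linked members
-/

set_option autoImplicit false

namespace Cfsg.Agent.TwoGenSolvable

open Subgroup
open scoped commutatorElement

variable {G : Type*} [Group G]

/-- An element `z` that is good everywhere. -/
structure ZCtx (p q : ℕ) (x z : G) : Prop extends QCtx p q x z where
  good : AllGood p q x z

/-- A maximal member. -/
structure IsMaxMember (q : ℕ) (x z : G) (s : ℕ) (B : Subgroup G) : Prop extends IsMember q x z s B where
  maximal : ∀ B' : Subgroup G, IsMember q x z s B' → B ≤ B' → B' = B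

/-- Equal, or of different primes and commuting. -/
def Linked (s t : ℕ) (B Y : Subgroup G) : Prop :=
  B = Y ∨ (s ≠ t ∧ ∀ b ∈ B, ∀ y ∈ Y, b * y = y * b)

/-- Any two distinct maximal members have different primes and commute. -/
def OneCluster (q : ℕ) (x z : G) : Prop :=
  ∀ (s t : ℕ) (B Y : Subgroup G), IsMaxMember q x z s B → IsMaxMember q x z t Y →
    Linked s t B Y

end Cfsg.Agent.TwoGenSolvable
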