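import Mathlib
import Cfsg.Agent.Lib.TwoGenSolvable.Setup
import Cfsg.Agent.Lib.CharInt.Burnside
import Cfsg.Agent.Lib.ZJControl.Local
import Cfsg.Agent.Lib.OddOrder.Stability
import Cfsg.Agent.Lib.Quadratic.Stability
import Cfsg.Agent.Lib.PSL2.ClassSizes.Abelian
import Cfsg.Agent.Lib.PCore.HallHigman
import Cfsg.Agent.Lib.PCore.Extras
import Cfsg.Agent.Lib.Balance.CharP

/-!
# Foundations: quadratic action of `x`, `O_{p'}`-cores of solvable subgroups containing `x`
-/

set_option autoImplicit false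
set_option linter.style.haveILetI false

set_option linter.unusedSectionVars false

namespace Cfsg.Agent.TwoGenSolvable

open Subgroup
open scoped commutatorElement Pointwise

universe u

variable {G : Type u} [Group G] [Finite G] {p q : ℕ} {x z : G}

/-! ### Auxiliary facts on `O_{p',p}` -/

section aux

variable {X : Type u} [Group X] [Finite X]

theorem pow_mem_of_mem_pPrimePCore {y : X} (hy : y ∈ Cfsg.pPrimePCore p X) :
    ∃ k, y ^ p ^ k ∈ Cfsg.pPrimeCore p X := by
  obtain ⟨k, hk⟩ := PCore.isPGroup_pCore ⟨_, (show QuotientGroup.mk' _ y ∈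
    Cfsg.pCore p (X ⧸ Cfsg.pPrimeCore p X) from hy)⟩
  exact ⟨k, (QuotientGroup.eq_one_iff _).1 (congrArg Subtype.val hk)⟩

theorem mem_pPrimeCore_of_coprime {y : X} (hy : y ∈ Cfsg.pPrimePCore p X) (hc : (orderOf y).Coprime p) :
    y ∈ Cfsg.pPrimeCore p X := by
  obtain ⟨k, hk⟩ := pow_mem_of_mem_pPrimePCore hy
  obtain ⟨m, hm⟩ := exists_pow_eq_self_of_coprime (x := y) (Nat.Coprime.pow_left k hc.symm)
  rw [← hm]
  exact pow_mem hk m

/-- A quadratic element lies in `O_{p',p}` (`p ≥ 5`, solvable). -/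
theorem mem_pPrimePCore_of_quadratic [Fact p.Prime] [Group.IsSolvable X] (hp5 : 5 ≤ p) {a : X} (S : Sylow p X)
    (hq : ⁅⁅(S : Subgroup X), zpowers a⁆, zpowers a⁆ = ⊥) : a ∈ Cfsg.pPrimePCore p X := by
  set π := QuotientGroup.mk' (Cfsg.pPrimeCore p X)
  have hπ : Function.Surjective π := QuotientGroup.mk'_surjective _
  have hs : Cfsg.IsPSolvable p (X ⧸ Cfsg.pPrimeCore p X) :=
    PCore.isPSolvable_quotient PCore.isPSolvable_of_isSolvable _
  set V := Cfsg.pCore p (X ⧸ Cfsg.pPrimeCore p X) with hV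
  have hVS : V ≤ (S : Subgroup X).map π := by
    rw [← Sylow.coe_mapSurjective hπ S]
    exact PCore.pCore_le_sylow _
  have hqV : ⁅⁅V, zpowers (π a)⁆, zpowers (π a)⁆ = ⊥ := by
    refine le_bot_iff.1 (le_trans (commutator_mono (commutator_mono hVS le_rfl) le_rfl) (le_of_eq ?_))
    rw [← MonoidHom.map_zpowers, ← map_commutator, ← map_commutator, hq, Subgroup.map_bot]
  have hst : Cfsg.IsPStableOn p V :=
    OddOrder.isPStableOn_of_elementary (fun N _ W _ hW =>
      Quadratic.isPStableOn_of_pSolvable hp5 (PCore.isPSolvable_quotient hs N) W hW) V PCore.isPGroup_pCore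
  have hc : centralizer (V : Set (X ⧸ Cfsg.pPrimeCore p X)) ≤ V :=
    PCore.centralizer_pCore_le_of_isSolvable PCore.pPrimeCore_quotient_self_eq_bot
  have h1 := hst (π a) hqV
  show π a ∈ V
  rw [hV, ← PCore.comap_pCore_quotient (centralizer (V : Set (X ⧸ Cfsg.pPrimeCore p X)))
    (PCore.isPGroup_pCore.to_le hc)]
  exact h1

/-- An element centralising `O_p` of `X / O_{p'}(X)` modulo `O_{p'}(X)` lies in `O_{p',p}(X)`. -/
theorem mem_pPrimePCore_of_forall [Fact p.Prime] [Group.IsSolvable X] {y : X}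
    (h : ∀ c ∈ Cfsg.pPrimePCore p X, y * c * y⁻¹ * c⁻¹ ∈ Cfsg.pPrimeCore p X) : y ∈ Cfsg.pPrimePCore p X := by
  refine PCore.centralizer_pCore_le_of_isSolvable PCore.pPrimeCore_quotient_self_eq_bot
    (mem_centralizer_iff.2 fun v hv => ?_)
  obtain ⟨c, rfl⟩ := QuotientGroup.mk'_surjective (Cfsg.pPrimeCore p X) v
  have h1 : QuotientGroup.mk' (Cfsg.pPrimeCore p X) (y * c * y⁻¹ * c⁻¹) = 1 :=
    (QuotientGroup.eq_one_iff _).2 (h c hv)
  rw [map_mul, map_mul, map_mul, map_inv, map_inv, mul_inv_eq_one, mul_inv_eq_iff_eq_mul] at h1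
  exact h1.symm

end aux

theorem mem_ppOf {H : Subgroup G} {g : G} :
    g ∈ ppOf p H ↔ ∃ hg : g ∈ H, (⟨g, hg⟩ : H) ∈ Cfsg.pPrimeCore p H := by
  constructor
  · rintro ⟨y, hy, rfl⟩
    exact ⟨y.2, hy⟩
  · rintro ⟨hg, h⟩
    exact ⟨⟨g, hg⟩, h, rfl⟩

theorem ppOf_le (p : ℕ) (H : Subgroup G) : ppOf p H ≤ H := map_subtype_le _

theorem coprime_card_ppOf (p : ℕ) (H : Subgroup G) : (Nat.card (ppOf p H)).Coprime p := by
  rw [ppOf, card_map_of_injective H.subtype_injective]
  exact PCore.coprime_card_pPrimeCore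

theorem coprime_orderOf_of_mem {R : Subgroup G} (hR : (Nat.card R).Coprime p) {g : G} (hg : g ∈ R) :
    (orderOf g).Coprime p :=
  hR.coprime_dvd_left (R.orderOf_dvd_natCard hg)

theorem le_normalizer_ppOf (p : ℕ) (H : Subgroup G) : H ≤ normalizer (ppOf p H : Set G) := by
  refine le_trans ?_ (le_normalizer_map H.subtype)
  rw [normalizer_eq_top_iff.mpr PCore.pPrimeCore_normal, ← MonoidHom.range_eq_map, range_subtype]

theorem le_ppOf {H R : Subgroup G} (hRH : R ≤ H) (hR : (Nat.card R).Coprime p)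
    (hn : H ≤ normalizer (R : Set G)) : R ≤ ppOf p H := by
  haveI := Coprime.normal_subgroupOf_of_le_normalizer hn
  intro g hg
  refine ⟨⟨g, hRH hg⟩, PCore.le_pPrimeCore (N := R.subgroupOf H) ?_ hg, rfl⟩
  rwa [Nat.card_congr (subgroupOfEquivOfLe hRH).toEquiv]

theorem mem_ppOf_of_coprime {H : Subgroup G} {g : G} (hg : g ∈ H)
    (h : (⟨g, hg⟩ : H) ∈ Cfsg.pPrimePCore p H) (hc : (orderOf g).Coprime p) : g ∈ ppOf p H :=
  mem_ppOf.2 ⟨hg, mem_pPrimeCore_of_coprime h (by rwa [← orderOf_submonoid])⟩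

omit [Finite G] in
theorem MinCE.ne_top_of_normalizer {U : Subgroup G} (h : MinCE G) (hU : Group.IsNilpotent U) (h1 : U ≠ ⊥) :
    normalizer (U : Set G) ≠ ⊤ := by
  intro ht
  haveI := h.simple
  rcases (normalizer_eq_top_iff.mp ht).eq_bot_or_eq_top with hb | he
  · exact h1 hb
  · subst he
    refine h.not_solvable ?_
    haveI : Group.IsSolvable ↥(⊤ : Subgroup G) := inferInstance
    exact Group.isSolvable_of_surjective (f := (topEquiv (G := G)).toMonoidHom) (topEquiv (G := G)).surjective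

theorem MinCE.solvable_normalizer (h : MinCE G) [Fact p.Prime] {U : Subgroup G} (hU : IsPGroup p U)
    (h1 : U ≠ ⊥) : Group.IsSolvable ↥(normalizer (U : Set G)) :=
  h.proper _ (h.ne_top_of_normalizer hU.isNilpotent h1)

theorem MinCE.isNormalizerPStable (h : MinCE G) [Fact p.Prime] (hp5 : 5 ≤ p) :
    Cfsg.IsNormalizerPStable p G := by
  intro U hU g hg hq
  set N := normalizer (U : Set G) with hN
  by_cases h1 : U = ⊥
  · have : (centralizer (U : Set G)).subgroupOf N = ⊤ := by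
      rw [eq_top_iff]
      intro y _
      refine mem_subgroupOf.2 (mem_centralizer_iff.2 fun u hu => ?_)
      rw [h1] at hu
      obtain rfl : u = 1 := hu
      rw [one_mul, mul_one]
    rw [show (QuotientGroup.mk ⟨g, hg⟩ : ↥N ⧸ _) = 1 from (QuotientGroup.eq_one_iff _).2 (this ▸ mem_top _)]
    exact one_mem _
  haveI := h.solvable_normalizer hU h1
  haveI : (U.subgroupOf N).Normal := normal_in_normalizer
  have hUp : IsPGroup p ↥(U.subgroupOf N) := hU.comap_subtype
  have hs : Cfsg.IsPSolvable p N := PCore.isPSolvable_of_isSolvable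
  have hst : Cfsg.IsPStableOn p (U.subgroupOf N) :=
    OddOrder.isPStableOn_of_elementary (fun M _ W _ hW =>
      Quadratic.isPStableOn_of_pSolvable hp5 (PCore.isPSolvable_quotient hs M) W hW) _ hUp
  have hq' : ⁅⁅U.subgroupOf N, zpowers (⟨g, hg⟩ : N)⁆, zpowers (⟨g, hg⟩ : N)⁆ = ⊥ := by
    apply map_injective N.subtype_injective
    rw [map_commutator, map_commutator, MonoidHom.map_zpowers, Subgroup.map_bot,
      map_subgroupOf_eq_of_le le_normalizer]
    exact hq
  have hC : centralizer ((U.subgroupOf N : Subgroup N) : Set N) = (centralizer (U : Set G)).subgroupOf N := by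
    ext y
    rw [mem_subgroupOf, mem_centralizer_iff, mem_centralizer_iff]
    exact ⟨fun hy u hu => congrArg Subtype.val (hy ⟨u, le_normalizer hu⟩ hu),
      fun hy u hu => Subtype.ext (hy u hu)⟩
  exact (PCore.mem_pCore_congr (QuotientGroup.quotientMulEquivOfEq hC)).2 (hst ⟨g, hg⟩ hq')

theorem XCtx.ne_one (h : XCtx p x) : x ≠ 1 := fun e => h.prime.ne_one (by rw [← h.order_x, e, orderOf_one])

/-- A minimal counterexample has a suitable `x`. -/
theorem MinCE.exists_xCtx (h : MinCE G) : ∃ (p : ℕ) (x : G), XCtx p x := by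
  haveI := h.simple
  obtain ⟨p, hp, hp5, hpd⟩ : ∃ p, p.Prime ∧ 5 ≤ p ∧ p ∣ Nat.card G := by
    by_contra hne
    push Not at hne
    refine h.not_solvable (CharInt.isSolvable_of_card_eq Nat.prime_two Nat.prime_three (a := (Nat.card G).factorization 2)
      (b := (Nat.card G).factorization 3) ?_)
    have hsub : (Nat.card G).primeFactors ⊆ {2, 3} := fun r hr => by
      have hr' := Nat.mem_primeFactors.mp hr
      have h5 : r < 5 := by
        by_contra h5
        exact hne r hr'.1 (by omega) hr'.2.1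
      have := hr'.1.two_le
      simp only [Finset.mem_insert, Finset.mem_singleton]
      by_contra hn
      push Not at hn
      have : r = 4 := by omega
      subst this
      norm_num at hr'
    conv_lhs => rw [← Nat.prod_factorization_pow_eq_self (n := Nat.card G) Nat.card_pos.ne']
    rw [Finsupp.prod_of_support_subset _ (s := {2, 3}) hsub _ fun i _ => pow_zero i,
      Finset.prod_pair (by norm_num)]
  haveI := Fact.mk hp
  obtain ⟨S⟩ : Nonempty (Sylow p G) := inferInstance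
  haveI : Nontrivial (S : Subgroup G) := by
    rw [nontrivial_iff_ne_bot]
    intro hb
    refine S.not_dvd_index ?_
    rw [hb, index_bot]
    exact hpd
  haveI := S.2.center_nontrivial
  obtain ⟨c, hc⟩ := exists_prime_orderOf_dvd_card' (G := center (S : Subgroup G)) p (by
    obtain ⟨n, hn⟩ := IsPGroup.iff_card.1 (S.2.to_subgroup (center (S : Subgroup G)))
    rw [hn]
    refine dvd_pow_self p fun h0 => ?_
    have := Finite.one_lt_card (α := center (S : Subgroup G))
    rw [hn, h0, pow_zero] at this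
    exact lt_irrefl 1 this)
  exact ⟨p, ((c : (S : Subgroup G)) : G), h, hp, hp5, by rw [orderOf_submonoid, orderOf_submonoid, hc],
    S, (c : (S : Subgroup G)).2, fun s hs => (congrArg Subtype.val (mem_center_iff.1 c.2 ⟨s, hs⟩)).symm⟩

theorem XCtx.conj (h : XCtx p x) (g : G) : XCtx p (g * x * g⁻¹) := by
  obtain ⟨S, hxS, hS⟩ := h.central
  refine ⟨h.toMinCE, h.prime, h.five_le, ?_, g • S, ?_, ?_⟩
  · rw [show g * x * g⁻¹ = MulAut.conj g x from rfl, MulEquiv.orderOf_eq]
    exact h.order_x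
  · rw [Sylow.coe_subgroup_smul]
    exact ⟨x, hxS, rfl⟩
  · intro s hs
    rw [Sylow.coe_subgroup_smul] at hs
    obtain ⟨t, ht, rfl⟩ := hs
    show g * x * g⁻¹ * (g * t * g⁻¹) = g * t * g⁻¹ * (g * x * g⁻¹)
    calc g * x * g⁻¹ * (g * t * g⁻¹) = g * (x * t) * g⁻¹ := by group
      _ = g * (t * x) * g⁻¹ := by rw [hS t ht]
      _ = _ := by group

theorem XCtx.solvable_centralizer (h : XCtx p x) : Group.IsSolvable ↥(centralizer ({x} : Set G)) := by
  refine h.proper _ fun htop => ?_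
  haveI := h.simple
  have hx : x ∈ center G := mem_center_iff.2 fun y => by
    have := mem_centralizer_singleton_iff.1 (htop ▸ mem_top y : y ∈ centralizer ({x} : Set G))
    exact this
  rcases (inferInstance : (center G).Normal).eq_bot_or_eq_top with hb | ht
  · rw [hb, mem_bot] at hx
    exact h.ne_one hx
  · exact h.not_solvable (Group.isSolvable_of_comm fun a b => mem_center_iff.1 (ht ▸ mem_top b) a)

/-- F0: conjugates of `x` in a common `p`-subgroup commute. -/
theorem XCtx.conj_commute (h : XCtx p x) {Q : Subgroup G} (hQ : IsPGroup p Q) {g g' : G}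
    (hg : g * x * g⁻¹ ∈ Q) (hg' : g' * x * g'⁻¹ ∈ Q) :
    g * x * g⁻¹ * (g' * x * g'⁻¹) = g' * x * g'⁻¹ * (g * x * g⁻¹) := by
  haveI := Fact.mk h.prime
  have h2 : p ≠ 2 := by have := h.five_le; omega
  obtain ⟨S, hxS, hS⟩ := h.central
  obtain ⟨R, hQR⟩ := hQ.exists_le_sylow
  obtain ⟨u, hu⟩ := MulAction.exists_smul_eq G R S
  have hQS : ∀ y ∈ Q, u * y * u⁻¹ ∈ (S : Subgroup G) := fun y hy => by
    rw [← hu, Sylow.coe_subgroup_smul]
    exact ⟨y, hQR hy, rfl⟩
  have hJ : x ∈ Cfsg.centerThompsonAOf (S : Subgroup G) :=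
    PSLSizes.center_le_centerThompsonAOf hxS fun y hy => (hS y hy).symm
  have hmem : ∀ a : G, a * x * a⁻¹ ∈ (S : Subgroup G) → a * x * a⁻¹ ∈ Cfsg.centerThompsonAOf (S : Subgroup G) := by
    intro a ha
    obtain ⟨n, hn, hne⟩ := ZJControl.controlled_of_constrained_locals h2 (ZJControl.isZJLike_A h2) S
      (Replacement.isStronglyClosed_self _) (h.toMinCE.isNormalizerPStable h.five_le)
      (fun U hUS hU => by
        haveI := h.toMinCE.solvable_normalizer (S.2.to_le hUS) hU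
        exact PCore.isPConstrained_of_isPSolvable PCore.isPSolvable_of_isSolvable)
      {x} (Set.singleton_subset_iff.2 hxS) a (by rintro b (rfl : b = x); exact ha)
    rw [hne x rfl]
    exact (mem_normalizer_iff.1 hn x).1 hJ
  have e : ∀ a : G, u * (a * x * a⁻¹) * u⁻¹ = (u * a) * x * (u * a)⁻¹ := fun a => by group
  have h1 := hmem (u * g) (e g ▸ hQS _ hg)
  have h1' := hmem (u * g') (e g' ▸ hQS _ hg')
  have h3 := mem_centralizer_iff.1 (mem_inf.1 h1).2 _ (mem_inf.1 h1').1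
  rw [← e, ← e] at h3
  have h4 := congrArg (fun y => u⁻¹ * y * u) h3
  simpa [mul_assoc] using h4.symm

theorem XCtx.quadratic (h : XCtx p x) {Q : Subgroup G} (hQ : IsPGroup p Q) (hx : x ∈ Q) :
    ⁅⁅Q, zpowers x⁆, zpowers x⁆ = ⊥ := by
  rw [commutator_eq_bot_iff_le_centralizer, commutator_le]
  rintro t ht _ ⟨i, rfl⟩
  refine mem_centralizer_iff.2 ?_
  rintro _ ⟨j, rfl⟩
  have hc : Commute (t * x * t⁻¹) x := by
    have := h.conj_commute hQ (g := t) (g' := 1) (mul_mem (mul_mem ht hx) (inv_mem ht)) (by simpa using hx)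
    simpa [Commute, SemiconjBy] using this
  show x ^ j * ⁅t, x ^ i⁆ = ⁅t, x ^ i⁆ * x ^ j
  rw [commutatorElement_def, ← conj_zpow, ← zpow_neg]
  exact ((hc.symm.zpow_zpow j i).mul_right ((Commute.refl x).zpow_zpow j (-i))).eq

theorem XCtx.mem_pPrimePCore (h : XCtx p x) {H : Subgroup G} (hH : Group.IsSolvable H) (hxH : x ∈ H) :
    (⟨x, hxH⟩ : H) ∈ Cfsg.pPrimePCore p H := by
  haveI := Fact.mk h.prime
  haveI := hH
  have hx : IsPGroup p (zpowers (⟨x, hxH⟩ : H)) := IsPGroup.of_card (n := 1) (by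
    rw [Nat.card_zpowers, pow_one, ← orderOf_submonoid]; exact h.order_x)
  obtain ⟨T, hT⟩ := hx.exists_le_sylow
  refine mem_pPrimePCore_of_quadratic h.five_le T (map_injective H.subtype_injective ?_)
  rw [map_commutator, map_commutator, MonoidHom.map_zpowers, Subgroup.map_bot]
  exact h.quadratic (T.2.map _) ⟨_, hT (mem_zpowers _), rfl⟩

/-- F1: `x` lies in `O_{p',p}` of every solvable subgroup containing it. -/
theorem XCtx.pow_mem_ppOf (h : XCtx p x) {H : Subgroup G} (hH : Group.IsSolvable H) (hxH : x ∈ H) :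
    ∃ N : Subgroup G, N ≤ H ∧ ppOf p H ≤ N ∧ H ≤ normalizer (N : Set G) ∧ x ∈ N ∧
      ∀ n ∈ N, ∃ k, n ^ p ^ k ∈ ppOf p H := by
  refine ⟨(Cfsg.pPrimePCore p H).map H.subtype, map_subtype_le _, map_mono PCore.pPrimeCore_le_pPrimePCore, ?_,
    ⟨_, h.mem_pPrimePCore hH hxH, rfl⟩, ?_⟩
  · refine le_trans ?_ (le_normalizer_map H.subtype)
    rw [normalizer_eq_top_iff.mpr PCore.pPrimePCore_normal, ← MonoidHom.range_eq_map, range_subtype]
  · rintro _ ⟨n, hn, rfl⟩
    obtain ⟨k, hk⟩ := pow_mem_of_mem_pPrimePCore hn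
    exact ⟨k, _, hk, map_pow _ _ _⟩

/-- F2: the commutator of `x` with a `p'`-subgroup it normalises lies in `O_{p'}(H)`. -/
theorem XCtx.commutator_le_ppOf (h : XCtx p x) {H R : Subgroup G} (hH : Group.IsSolvable H) (hxH : x ∈ H)
    (hRH : R ≤ H) (hR : (Nat.card R).Coprime p) (hxR : x ∈ normalizer (R : Set G)) :
    ⁅R, zpowers x⁆ ≤ ppOf p H := by
  rw [commutator_le]
  rintro r hr _ ⟨i, rfl⟩
  have hxi : x ^ i ∈ normalizer (R : Set G) := zpow_mem hxR i
  have hmem : ⁅r, x ^ i⁆ ∈ R := by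
    rw [commutatorElement_def, show r * x ^ i * r⁻¹ * (x ^ i)⁻¹ = r * (x ^ i * r⁻¹ * (x ^ i)⁻¹) by group]
    exact mul_mem hr ((mem_normalizer_iff.1 hxi r⁻¹).1 (inv_mem hr))
  refine mem_ppOf_of_coprime (hRH hmem) ?_ (coprime_orderOf_of_mem hR hmem)
  set a : H := ⟨x, hxH⟩ ^ i
  have ha : a ∈ Cfsg.pPrimePCore p H := zpow_mem (h.mem_pPrimePCore hH hxH) i
  have he : (⟨⁅r, x ^ i⁆, hRH hmem⟩ : H) = ⟨r, hRH hr⟩ * a * (⟨r, hRH hr⟩ : H)⁻¹ * a⁻¹ :=
    Subtype.ext (by simp [a, commutatorElement_def])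
  rw [he]
  exact mul_mem (PCore.pPrimePCore_normal.conj_mem a ha _) (inv_mem ha)

/-- F2': a conjugate of `x` in `H` commutes with `x` after conjugating by `O_{p'}(H)`. -/
theorem XCtx.exists_conj_commute (h : XCtx p x) {H : Subgroup G} (hH : Group.IsSolvable H) (hxH : x ∈ H)
    {g : G} (hg : g * x * g⁻¹ ∈ H) :
    ∃ θ ∈ ppOf p H, (θ * g) * x * (θ * g)⁻¹ * x = x * ((θ * g) * x * (θ * g)⁻¹) := by
  haveI := Fact.mk h.prime
  set a : H := ⟨x, hxH⟩
  set b : H := ⟨g * x * g⁻¹, hg⟩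
  set N := Cfsg.pPrimePCore p H with hN
  have ha : a ∈ N := h.mem_pPrimePCore hH hxH
  have hb : b ∈ N := (h.conj g).mem_pPrimePCore hH hg
  have hord : ∀ (y : H) (hy : y ∈ N), orderOf (y : G) = p → IsPGroup p (zpowers (⟨y, hy⟩ : N)) :=
    fun y hy hyp => IsPGroup.of_card (n := 1) (by rw [Nat.card_zpowers, pow_one, ← orderOf_submonoid, ← orderOf_submonoid]; exact hyp)
  obtain ⟨T1, hT1⟩ := (hord a ha h.order_x).exists_le_sylow
  obtain ⟨T2, hT2⟩ := (hord b hb (h.conj g).order_x).exists_le_sylow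
  obtain ⟨n, hn⟩ := MulAction.exists_smul_eq N T2 T1
  obtain ⟨m, hm⟩ := PCore.relIndex_pPrimePCore (G := H) (p := p)
  have htop := PCore.sylow_sup_eq_top T2 ((Cfsg.pPrimeCore p H).subgroupOf N) hm
  obtain ⟨θ, hθ, t, ht, rfl⟩ : ∃ θ ∈ (Cfsg.pPrimeCore p H).subgroupOf N, ∃ t ∈ (T2 : Subgroup N), θ * t = n := by
    have := mem_top n
    rw [← htop, sup_comm, mem_sup_of_normal_left] at this
    exact this
  have hbT : θ * ⟨b, hb⟩ * θ⁻¹ ∈ (T1 : Subgroup N) := by
    rw [← hn, Sylow.coe_subgroup_smul]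
    refine ⟨t⁻¹ * ⟨b, hb⟩ * t, mul_mem (mul_mem (inv_mem ht) (hT2 (mem_zpowers _))) ht, ?_⟩
    show θ * t * (t⁻¹ * ⟨b, hb⟩ * t) * (θ * t)⁻¹ = θ * ⟨b, hb⟩ * θ⁻¹
    group
  set f := H.subtype.comp N.subtype with hf
  have hxf : x ∈ (T1 : Subgroup N).map f := ⟨⟨a, ha⟩, hT1 (mem_zpowers _), rfl⟩
  have hyf : ((θ : H) : G) * (g * x * g⁻¹) * ((θ : H) : G)⁻¹ ∈ (T1 : Subgroup N).map f :=
    ⟨_, hbT, by simp [f, b]⟩
  refine ⟨((θ : H) : G), mem_ppOf.2 ⟨(θ : H).2, hθ⟩, ?_⟩
  have h1 := h.conj_commute (T1.2.map f) (g := ((θ : H) : G) * g) (g' := 1)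
    (by rwa [mul_inv_rev, show ((θ : H) : G) * g * x * (g⁻¹ * ((θ : H) : G)⁻¹) =
      ((θ : H) : G) * (g * x * g⁻¹) * ((θ : H) : G)⁻¹ by group]) (by simpa using hxf)
  simpa using h1

/-- `O_{p'}` of a subgroup generated by conjugates of `x` lies in that of any solvable overgroup. -/
theorem XCtx.ppOf_mono (h : XCtx p x) {A H : Subgroup G} (hH : Group.IsSolvable H) (hAH : A ≤ H)
    {a : G} (hA : A = closure {x, a * x * a⁻¹}) :
    ppOf p A ≤ ppOf p H := by
  haveI := hH
  intro c hc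
  have hcA := ppOf_le p A hc
  have hle : A ≤ (Cfsg.pPrimePCore p H).map H.subtype := by
    subst hA
    rw [closure_le]
    have hax : a * x * a⁻¹ ∈ H := hAH (subset_closure (by simp))
    rintro y (rfl | rfl)
    · exact ⟨_, h.mem_pPrimePCore hH (hAH (subset_closure (by simp))), rfl⟩
    · exact ⟨_, (h.conj a).mem_pPrimePCore hH hax, rfl⟩
  obtain ⟨c', hc', rfl⟩ := hle hcA
  exact mem_ppOf_of_coprime c'.2 hc' (coprime_orderOf_of_mem (coprime_card_ppOf p A) hc)

/-- F4: for `A = ⟨x, x^a⟩`, `a ∈ A`, the centraliser of `x` in `O_{p'}(A)` lies in `O_{p'}(C(x))`. -/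
theorem XCtx.inf_centralizer_le (h : XCtx p x) {a : G} (ha : a ∈ closure ({x, a * x * a⁻¹} : Set G)) :
    ppOf p (closure {x, a * x * a⁻¹}) ⊓ centralizer ({x} : Set G) ≤ ppOf p (centralizer ({x} : Set G)) := by
  haveI := Fact.mk h.prime
  haveI := h.solvable_centralizer
  set A := closure ({x, a * x * a⁻¹} : Set G) with hA
  rintro k ⟨hkA, hkC⟩
  have hkc := coprime_orderOf_of_mem (coprime_card_ppOf p A) hkA
  refine mem_ppOf_of_coprime hkC (mem_pPrimePCore_of_forall fun c hc => ?_) hkc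
  set H := closure ({x, a * (c : G)} : Set G) with hH
  have hHs : Group.IsSolvable H := h.proper _ (h.pair _ _)
  have hac : a * (c : G) ∈ H := subset_closure (by simp)
  have hxH : x ∈ H := subset_closure (by simp)
  have hcx : (c : G) * x = x * c := mem_centralizer_singleton_iff.1 c.2
  have hAH : A ≤ H := by
    rw [hA, closure_le]
    rintro y (rfl | rfl)
    · exact hxH
    · have := mul_mem (mul_mem hac hxH) (inv_mem hac)
      rwa [mul_inv_rev, show a * (c : G) * x * ((c : G)⁻¹ * a⁻¹) = a * ((c : G) * x * (c : G)⁻¹) * a⁻¹ by group,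
        hcx, mul_inv_cancel_right] at this
  have hcH : (c : G) ∈ H := by
    have := mul_mem (inv_mem (hAH ha)) hac
    rwa [inv_mul_cancel_left] at this
  have hkH := h.ppOf_mono hHs hAH hA hkA
  have hcomm : k * (c : G) * k⁻¹ * (c : G)⁻¹ ∈ ppOf p H := by
    rw [show k * (c : G) * k⁻¹ * (c : G)⁻¹ = k * ((c : G) * k⁻¹ * (c : G)⁻¹) by group]
    exact mul_mem hkH ((mem_normalizer_iff.1 (le_normalizer_ppOf p H hcH) _).1 (inv_mem hkH))
  refine mem_pPrimeCore_of_coprime ?_ ?_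
  · exact mul_mem (PCore.pPrimePCore_normal.conj_mem c hc _) (inv_mem hc)
  · have := coprime_orderOf_of_mem (coprime_card_ppOf p H) hcomm
    rwa [← orderOf_submonoid]

theorem QCtx.commute (h : QCtx p q x z) : x * z = z * x := by
  exact (mem_centralizer_singleton_iff.1 (PCore.pCoreOf_le _ h.z_mem)).symm

/-- Elements of `O_q(C(x))` in a solvable `H ∋ x` lie in `O_{p'}(H)` (`q ≠ p`). -/
theorem QCtx.pCoreOf_inf_le (h : QCtx p q x z) (hqp : q ≠ p) {H : Subgroup G} (hH : Group.IsSolvable H)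
    (hxH : x ∈ H) :
    Cfsg.pCoreOf q (centralizer ({x} : Set G)) ⊓ H ≤ ppOf p H := by
  haveI := Fact.mk h.prime
  haveI := hH
  haveI := Fact.mk h.qprime
  rintro d ⟨hdD, hdH⟩
  have hD := PCore.isPGroup_pCoreOf (p := q) (centralizer ({x} : Set G))
  have hqc : ∀ e ∈ Cfsg.pCoreOf q (centralizer ({x} : Set G)), (orderOf e).Coprime p := fun e he => by
    obtain ⟨n, hn⟩ := hD ⟨e, he⟩
    exact ((Nat.coprime_primes h.qprime h.prime).2 hqp).pow_left n |>.coprime_dvd_left
      (orderOf_dvd_of_pow_eq_one (congrArg Subtype.val hn))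
  set π := QuotientGroup.mk' (Cfsg.pPrimeCore p H)
  set a : H := ⟨x, hxH⟩
  set y : H := ⟨d, hdH⟩
  have hdC := PCore.pCoreOf_le _ hdD
  have hxy : a * y = y * a := Subtype.ext (mem_centralizer_singleton_iff.1 hdC).symm
  have hap : IsPGroup p (zpowers a) := IsPGroup.of_card (n := 1) (by
    rw [Nat.card_zpowers, pow_one, ← orderOf_submonoid]; exact h.order_x)
  have hN : ∀ K : Subgroup (H ⧸ Cfsg.pPrimeCore p H), K ≤ normalizer
      (Cfsg.pCore p (H ⧸ Cfsg.pPrimeCore p H) : Set (H ⧸ Cfsg.pPrimeCore p H)) := fun K => by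
    rw [normalizer_eq_top_iff.mpr inferInstance]
    exact le_top
  refine mem_ppOf_of_coprime hdH ?_ (hqc d hdD)
  refine PCore.centralizer_pCore_le_of_isSolvable PCore.pPrimeCore_quotient_self_eq_bot
    (mem_centralizer_iff.2 fun v hv => (Balance.commute_of_commute_fixed (R := (zpowers a).map π)
      PCore.isPGroup_pCore (hap.map π) (hN _) (hN _ (mem_zpowers (π y)))
      ((hqc d hdD).coprime_dvd_left ((orderOf_map_dvd π y).trans (orderOf_submonoid y).symm.dvd))
      ?_ ?_ v hv).eq.symm)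
  · rintro _ ⟨_, ⟨i, rfl⟩, rfl⟩
    exact ((show Commute a y from hxy).symm.zpow_right i).map π
  · intro w hw hwR
    have hw' : w ∈ centralizer (((zpowers a).map π : Subgroup _) : Set _) :=
      mem_centralizer_iff.2 fun r hr => (hwR r hr).eq
    rw [← PCore.map_centralizer_mk' _ PCore.coprime_card_pPrimeCore hap] at hw'
    obtain ⟨c, hc, rfl⟩ := hw'
    have hcC : (c : G) ∈ centralizer ({x} : Set G) := mem_centralizer_singleton_iff.2
      (congrArg Subtype.val (mem_centralizer_iff.1 hc a (mem_zpowers a))).symm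
    have hcd : (c : G) * d * (c : G)⁻¹ * d⁻¹ ∈ Cfsg.pCoreOf q (centralizer ({x} : Set G)) :=
      mul_mem ((mem_normalizer_iff.1 (PCore.le_normalizer_pCoreOf _ hcC) d).1 hdD) (inv_mem hdD)
    have hcw : c ∈ Cfsg.pPrimePCore p H := hw
    have hmem : c * y * c⁻¹ * y⁻¹ ∈ Cfsg.pPrimePCore p H := by
      rw [show c * y * c⁻¹ * y⁻¹ = c * (y * c⁻¹ * y⁻¹) by group]
      exact mul_mem hcw (PCore.pPrimePCore_normal.conj_mem _ (inv_mem hcw) y)
    have h1 : π (c * y * c⁻¹ * y⁻¹) = 1 := (QuotientGroup.eq_one_iff _).2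
      (mem_pPrimeCore_of_coprime hmem (by rw [← orderOf_submonoid]; exact hqc _ hcd))
    rw [map_mul, map_mul, map_mul, map_inv, map_inv, mul_inv_eq_one, mul_inv_eq_iff_eq_mul] at h1
    exact h1.symm

end Cfsg.Agent.TwoGenSolvable
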