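import Mathlib
import Cfsg.Agent.Lib.HallHigman.Bridge

/-!
# The representation afforded by an elementary abelian section, over an algebraically closed field
-/

set_option autoImplicit false
set_option linter.style.haveILetI false

namespace Cfsg.Agent.TwoGenSolvable

open Subgroup
open scoped commutatorElement

variable {G : Type*} [Group G] [Finite G]

/-- `M / L` is an elementary abelian `s`-section. -/
structure IsESection (s : ℕ) (M L : Subgroup G) : Prop where
  le : L ≤ M
  norm : M ≤ normalizer (L : Set G)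
  comm : ∀ a ∈ M, ∀ b ∈ M, ⁅a, b⁆ ∈ L
  exp : ∀ a ∈ M, a ^ s ∈ L

/-- An action on a finite vector space over `ZMod s`, extended to the algebraic closure: fixed-point freeness
and, for elements of order prime to `s`, inclusions of fixed spaces are kept. -/
theorem exists_rep_of_action {s : ℕ} [Fact s.Prime] {H : Type*} [Monoid H] {W : Type*} [AddCommGroup W]
    [Finite W] [Module (ZMod s) W] (act : H → W →+ W) (hone : ∀ w, act 1 w = w)
    (hmul : ∀ g h w, act (g * h) w = act g (act h w)) :
    ∃ (m : ℕ) (ρ : H →* Module.End (AlgebraicClosure (ZMod s)) (Fin m → AlgebraicClosure (ZMod s))),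
      Nat.card W = s ^ m ∧
      (∀ g, ρ g = 1 ↔ ∀ w, act g w = w) ∧
      (∀ g, (∀ w, act g w = w → w = 0) → ∀ v, ρ g v = v → v = 0) ∧
      (∀ (g h : H) (n : ℕ), g ^ n = 1 → ¬ s ∣ n → (∀ w, act g w = w → act h w = w) →
        ∀ v, ρ g v = v → ρ h v = v) := by
  classical
  let f : H →* Module.End (ZMod s) W :=
    { toFun := fun g => (act g).toZModLinearMap s
      map_one' := LinearMap.ext hone
      map_mul' := fun g h => LinearMap.ext (hmul g h) }
  let b := Module.finBasis (ZMod s) W
  let φ : ZMod s →+* AlgebraicClosure (ZMod s) := algebraMap _ _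
  let Φ : Module.End (ZMod s) W →+* Module.End (AlgebraicClosure (ZMod s))
      (Fin (Module.finrank (ZMod s) W) → AlgebraicClosure (ZMod s)) :=
    (Matrix.toLinAlgEquiv' (R := AlgebraicClosure (ZMod s))).toRingEquiv.toRingHom.comp
      (φ.mapMatrix.comp (LinearMap.toMatrixAlgEquiv b).toRingEquiv.toRingHom)
  have hΦ : Function.Injective Φ := fun A B e =>
    (LinearMap.toMatrixAlgEquiv b).injective (Matrix.map_injective φ.injective
      ((Matrix.toLinAlgEquiv' (R := AlgebraicClosure (ZMod s))).injective e))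
  refine ⟨_, Φ.toMonoidHom.comp f, ?_, fun g => ?_, fun g hg v hv => ?_, fun g h n hgn hsn hgh v hv => ?_⟩
  · rw [Module.natCard_eq_pow_finrank (K := ZMod s) (V := W), Nat.card_zmod]
  · exact (map_eq_one_iff Φ hΦ (x := f g)).trans ⟨fun e w => LinearMap.congr_fun e w, fun e => LinearMap.ext e⟩
  · have hinj : Function.Injective (f g - 1 : Module.End (ZMod s) W) := by
      refine (injective_iff_map_eq_zero _).2 fun w hw => hg w ?_
      rw [LinearMap.sub_apply, sub_eq_zero, Module.End.one_apply] at hw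
      exact hw
    have hu : IsUnit (f g - 1) :=
      (Module.End.isUnit_iff _).2 ⟨hinj, LinearMap.injective_iff_surjective.1 hinj⟩
    have hu' := ((Module.End.isUnit_iff _).1 (hu.map Φ)).1
    refine hu' ?_
    rw [map_sub, map_one, LinearMap.sub_apply, Module.End.one_apply, map_zero]
    exact sub_eq_zero.2 hv
  · set S : Module.End (ZMod s) W := ∑ i ∈ Finset.range n, f g ^ i with hS
    have hfg : f g * S = S := by
      have h1 : (f g - 1) * S = f g ^ n - 1 := by rw [hS, mul_geom_sum]
      rw [← map_pow, hgn, map_one, sub_self, sub_mul, one_mul, sub_eq_zero] at h1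
      exact h1
    have hfh : f h * S = S := LinearMap.ext fun w => hgh (S w) (LinearMap.congr_fun hfg w)
    have hpow : ∀ i : ℕ, (Φ (f g) ^ i) v = v := by
      intro i
      induction i with
      | zero => simp
      | succ i ih => rw [pow_succ, Module.End.mul_apply, show Φ (f g) v = v from hv, ih]
    have hSv : Φ S v = (n : AlgebraicClosure (ZMod s)) • v := by
      rw [hS, map_sum, LinearMap.sum_apply, Finset.sum_congr rfl fun i _ => by rw [map_pow, hpow i],
        Finset.sum_const, Finset.card_range, Nat.cast_smul_eq_nsmul]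
    haveI : CharP (AlgebraicClosure (ZMod s)) s := charP_of_injective_algebraMap φ.injective s
    have hn0 : (n : AlgebraicClosure (ZMod s)) ≠ 0 := fun e =>
      hsn ((CharP.cast_eq_zero_iff (AlgebraicClosure (ZMod s)) s n).1 e)
    have h2 : Φ (f h) (Φ S v) = Φ S v := by rw [← Module.End.mul_apply, ← map_mul, hfh]
    rw [hSv, map_smul] at h2
    exact smul_right_injective _ hn0 h2

theorem IsESection.exists_rep {s : ℕ} [Fact s.Prime] {M L : Subgroup G} (h : IsESection s M L) :
    ∃ (m : ℕ) (ρ : ↥(normalizer (M : Set G) ⊓ normalizer (L : Set G)) →*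
        Module.End (AlgebraicClosure (ZMod s)) (Fin m → AlgebraicClosure (ZMod s))),
      L.relIndex M = s ^ m ∧
      (∀ g : ↥(normalizer (M : Set G) ⊓ normalizer (L : Set G)), ρ g = 1 ↔ ∀ a ∈ M, ⁅(g : G), a⁆ ∈ L) ∧
      (∀ g : ↥(normalizer (M : Set G) ⊓ normalizer (L : Set G)), (∀ a ∈ M, ⁅(g : G), a⁆ ∈ L → a ∈ L) → ∀ v, ρ g v = v → v = 0) ∧
      (∀ (g h : ↥(normalizer (M : Set G) ⊓ normalizer (L : Set G))) (n : ℕ), g ^ n = 1 → ¬ s ∣ n →
        (∀ a ∈ M, ⁅(g : G), a⁆ ∈ L → ⁅(h : G), a⁆ ∈ L) → ∀ v, ρ g v = v → ρ h v = v) := by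
  classical
  set N : Subgroup G := normalizer (M : Set G) ⊓ normalizer (L : Set G) with hN
  haveI hnorm : (L.subgroupOf M).Normal := normal_subgroupOf_of_le_normalizer h.norm
  set Q := ↥M ⧸ L.subgroupOf M with hQ
  let π : ↥M →* Q := QuotientGroup.mk' _
  have hπ : ∀ x y : ↥M, π x = π y ↔ (x : G) * (y : G)⁻¹ ∈ L := fun x y => by
    rw [QuotientGroup.mk'_eq_mk', ]
    constructor
    · rintro ⟨z, hz, e⟩
      have hz' := inv_mem ((mem_normalizer_iff.1 (h.norm x.2) z).1 hz)
      rw [← e]
      simpa [mul_assoc] using hz'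
    · intro hxy
      refine ⟨x⁻¹ * y, ?_, by group⟩
      have hz' := inv_mem ((mem_normalizer_iff'.1 (h.norm x.2) ((y : G)⁻¹)).2 hxy)
      show ((x⁻¹ * y : ↥M) : G) ∈ L
      simpa using hz'
  letI : CommGroup Q :=
    { (inferInstance : Group Q) with
      mul_comm := by
        intro a b
        obtain ⟨a, rfl⟩ := QuotientGroup.mk'_surjective _ a
        obtain ⟨b, rfl⟩ := QuotientGroup.mk'_surjective _ b
        show π a * π b = π b * π a
        rw [← map_mul, ← map_mul, hπ]
        have := h.comm a a.2 b b.2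
        rw [commutatorElement_def] at this
        simpa [mul_assoc] using this }
  letI : Module (ZMod s) (Additive Q) := AddCommGroup.zmodModule fun v => by
    obtain ⟨a, ha⟩ := QuotientGroup.mk'_surjective _ v.toMul
    rw [← toMul_eq_one, toMul_nsmul, ← ha, ← map_pow, ← map_one π, hπ]
    simpa using h.exp a a.2
  have hmap : ∀ g : ↥N, L.subgroupOf M ≤
      (L.subgroupOf M).comap (M.normalizerMonoidHom ⟨g, g.2.1⟩).toMonoidHom := fun g x hx =>
    (mem_normalizer_iff.1 g.2.2 _).1 hx
  let act : ↥N → Q →* Q := fun g =>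
    QuotientGroup.map _ _ (M.normalizerMonoidHom ⟨g, g.2.1⟩).toMonoidHom (hmap g)
  have hact : ∀ (g : ↥N) (a : ↥M), act g (π a) =
      π ⟨(g : G) * a * (g : G)⁻¹, (mem_normalizer_iff.1 g.2.1 _).1 a.2⟩ := fun g a => rfl
  let f : ↥N → Additive Q →+ Additive Q := fun g => MonoidHom.toAdditive (act g)
  have hfix : ∀ (g : ↥N) (a : ↥M),
      f g (Additive.ofMul (π a)) = Additive.ofMul (π a) ↔ ⁅(g : G), (a : G)⁆ ∈ L := fun g a => by
    show Additive.ofMul (act g (π a)) = _ ↔ _
    rw [Additive.ofMul.injective.eq_iff, hact, hπ, commutatorElement_def]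
  have hall : ∀ p : Additive Q → Prop, (∀ a : ↥M, p (Additive.ofMul (π a))) → ∀ w, p w := fun p hp w => by
    obtain ⟨a, ha⟩ := QuotientGroup.mk'_surjective _ w.toMul
    have := hp a
    rwa [show π a = w.toMul from ha, ofMul_toMul] at this
  have hone : ∀ w, f 1 w = w := hall _ fun a => (hfix 1 a).2 (by simp)
  have hmul : ∀ g g' w, f (g * g') w = f g (f g' w) := fun g g' => hall _ fun a => by
    show Additive.ofMul (act (g * g') (π a)) = Additive.ofMul (act g (act g' (π a)))
    rw [hact, hact, hact]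
    refine congrArg Additive.ofMul (congrArg π (Subtype.ext ?_))
    simp [mul_assoc]
  obtain ⟨m, ρ, hcard, h1, h2, h3⟩ := exists_rep_of_action (s := s) (W := Additive Q) (H := ↥N) f hone hmul
  refine ⟨m, ρ, ?_, fun g => (h1 g).trans ⟨fun e a ha => ?_, fun e => ?_⟩, fun g hg => h2 g ?_,
    fun g g' n hgn hn hgg => h3 g g' n hgn hn ?_⟩
  · exact hcard
  · exact (hfix g ⟨a, ha⟩).1 (e _)
  · exact hall _ fun a => (hfix g a).2 (e a a.2)
  · refine hall _ fun a ha => ?_
    rw [← toMul_eq_one, toMul_ofMul, ← map_one π, hπ]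
    simpa using hg a a.2 ((hfix g a).1 ha)
  · exact hall _ fun a ha => (hfix g' a).2 (hgg a a.2 ((hfix g a).1 ha))

end Cfsg.Agent.TwoGenSolvable
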