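import Mathlib
import Cfsg.Agent.Lib.TwoGenSolvable.Found
import Cfsg.Agent.Lib.TwoGenSolvable.Clusters
import Cfsg.Agent.Lib.TwoGenSolvable.SectionRep
import Cfsg.Agent.Lib.FixedDim.MaximalPair
import Cfsg.Agent.Lib.Coprime.Commutator
import Cfsg.Agent.Lib.Coprime.Sylow
import Cfsg.Agent.Lib.AbelianPComplement.Local

/-!
# Conjugates of `x` generating twisted subgroups; inheritance of goodness
-/

set_option autoImplicit false
set_option linter.style.haveILetI false

namespace Cfsg.Agent.TwoGenSolvable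

open Subgroup
open scoped commutatorElement

universe u

variable {G : Type u} [Group G] [Finite G] {p q : ℕ} {x z : G}

/-- A conjugate of `x` by an element of a `p'`-group normalised by `x` comes from an element of the subgroup
the two generate. -/
theorem exists_conj_mem [Fact p.Prime] (hx : orderOf x = p) {P : Subgroup G} (hPp : (Nat.card P).Coprime p)
    (hxP : x ∈ normalizer (P : Set G)) {g : G} (hg : g ∈ P) :
    ∃ a ∈ P, a ∈ closure ({x, g * x * g⁻¹} : Set G) ∧ a * x * a⁻¹ = g * x * g⁻¹ := by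
  set A := closure ({x, g * x * g⁻¹} : Set G) with hA
  have hp := (Fact.out : p.Prime)
  have hgx : g * x * g⁻¹ ∈ normalizer (P : Set G) :=
    mul_mem (mul_mem (le_normalizer hg) hxP) (inv_mem (le_normalizer hg))
  have hXP : zpowers x ≤ normalizer (P : Set G) := zpowers_le.2 hxP
  have hAX : A ≤ zpowers x ⊔ P := by
    rw [hA, closure_le]
    rintro y (rfl | rfl)
    · exact mem_sup_left (mem_zpowers _)
    · exact mul_mem (mul_mem (mem_sup_right hg) (mem_sup_left (mem_zpowers _))) (inv_mem (mem_sup_right hg))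
  haveI := (Fact.out : p.Prime).one_lt
  -- `⟨x⟩` is a Sylow `p`-subgroup of `A`
  have hxA : x ∈ A := subset_closure (by simp)
  have hgA : g * x * g⁻¹ ∈ A := subset_closure (by simp)
  have hdisj : zpowers x ⊓ P = ⊥ := Coprime.disjoint_of_coprime_card (by
    rw [Nat.card_zpowers, hx]; exact hPp.symm)
  set K := A ⊓ P with hK
  have hcard : Nat.card A = p * Nat.card K := by
    have h1 : A = zpowers x ⊔ K := by
      refine le_antisymm (fun y hy => ?_) (sup_le (zpowers_le.2 hxA) inf_le_left)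
      obtain ⟨a, ha, b, hb, rfl⟩ := (Coprime.mem_sup_iff_of_le_normalizer hXP).1 (hAX hy)
      refine mul_mem (mem_sup_left ha) (mem_sup_right ⟨?_, hb⟩)
      have := mul_mem (inv_mem (zpowers_le.2 hxA ha)) hy
      rwa [inv_mul_cancel_left] at this
    have h2 : zpowers x ≤ normalizer (K : Set G) := zpowers_le.2
      (inf_normalizer_le_normalizer_inf ⟨le_normalizer hxA, hxP⟩)
    rw [h1, Coprime.card_sup_of_le_normalizer h2 (le_bot_iff.1 ((inf_le_inf_left _ inf_le_right).trans hdisj.le)),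
      Nat.card_zpowers, hx]
  have hKp : (Nat.card K).Coprime p := hPp.coprime_dvd_left (card_dvd_of_le inf_le_right)
  have hsyl : ∀ y ∈ A, orderOf y = p → ∃ S : Sylow p A, (S : Subgroup A) = (zpowers y).subgroupOf A := by
    intro y hy hyo
    have hc : Nat.card ((zpowers y).subgroupOf A) = p := by
      rw [Coprime.card_subgroupOf (zpowers_le.2 hy), Nat.card_zpowers, hyo]
    refine ⟨Sylow.ofCard ((zpowers y).subgroupOf A) ?_, Sylow.coe_ofCard _ _⟩
    rw [hc, hcard, Nat.factorization_mul hp.ne_zero (Nat.card_pos.ne'), Finsupp.add_apply,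
      hp.factorization_self, Nat.factorization_eq_zero_of_not_dvd (hp.coprime_iff_not_dvd.1 hKp.symm), pow_one]
  obtain ⟨S, hS⟩ := hsyl x hxA hx
  obtain ⟨T, hT⟩ := hsyl _ hgA (by rw [show g * x * g⁻¹ = MulAut.conj g x from rfl, MulEquiv.orderOf_eq, hx])
  obtain ⟨b, hb⟩ := MulAction.exists_smul_eq A S T
  obtain ⟨a, ha, k, hk, hak⟩ : ∃ a ∈ zpowers x, ∃ k ∈ P, k * a = (b : G) := by
    obtain ⟨n, hn, a, ha, e⟩ := (Coprime.mem_sup_iff_of_le_normalizer' hXP).1 (hAX b.2)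
    exact ⟨a, ha, n, hn, e⟩
  have hkA : k ∈ A := by
    have := mul_mem b.2 (inv_mem (zpowers_le.2 hxA ha))
    rwa [← hak, mul_inv_cancel_right] at this
  refine ⟨k, hk, hkA, ?_⟩
  have hmem : k * x * k⁻¹ ∈ zpowers (g * x * g⁻¹) := by
    have h1 : (⟨x, hxA⟩ : A) ∈ (S : Subgroup A) := by rw [hS]; exact mem_subgroupOf.2 (mem_zpowers x)
    have h2 : b * ⟨x, hxA⟩ * b⁻¹ ∈ (T : Subgroup A) := by
      rw [← hb, Sylow.coe_subgroup_smul]
      exact ⟨_, h1, rfl⟩
    rw [hT, mem_subgroupOf] at h2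
    have hax : Commute a x := by
      obtain ⟨i, rfl⟩ := ha
      exact (Commute.refl x).zpow_left i
    have h3 : (b : G) * x * (b : G)⁻¹ = k * x * k⁻¹ := by
      rw [← hak, mul_inv_rev, show k * a * x * (a⁻¹ * k⁻¹) = k * (a * x * a⁻¹) * k⁻¹ by group, hax.eq,
        mul_inv_cancel_right]
    rw [← h3]
    exact h2
  obtain ⟨i, hi : (g * x * g⁻¹) ^ i = k * x * k⁻¹⟩ := hmem
  -- equal, as both are congruent to `x` modulo `P`
  have hcong : ∀ c ∈ P, c * x * c⁻¹ * x⁻¹ ∈ P := fun c hc => by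
    rw [show c * x * c⁻¹ * x⁻¹ = c * (x * c⁻¹ * x⁻¹) by group]
    exact mul_mem hc ((mem_normalizer_iff.1 hxP _).1 (inv_mem hc))
  have hx1 : (x : G) ^ i * x⁻¹ ∈ P := by
    have h4 : g * x ^ i * g⁻¹ * x⁻¹ ∈ P := by
      have := hcong k hk
      rwa [← hi, conj_zpow] at this
    have h5 : g * x ^ i * g⁻¹ * (x ^ i)⁻¹ ∈ P := by
      rw [show g * x ^ i * g⁻¹ * (x ^ i)⁻¹ = g * (x ^ i * g⁻¹ * (x ^ i)⁻¹) by group]
      exact mul_mem hg ((mem_normalizer_iff.1 (zpow_mem hxP i) _).1 (inv_mem hg))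
    have := mul_mem (inv_mem h5) h4
    rwa [show (g * x ^ i * g⁻¹ * (x ^ i)⁻¹)⁻¹ * (g * x ^ i * g⁻¹ * x⁻¹) = x ^ i * x⁻¹ by group] at this
  have hxi : x ^ i = x := by
    have : x ^ i * x⁻¹ ∈ zpowers x ⊓ P :=
      mem_inf.2 ⟨(zpowers x).mul_mem ((zpowers x).zpow_mem (mem_zpowers x) i) ((zpowers x).inv_mem (mem_zpowers x)), hx1⟩
    rw [hdisj, mem_bot, mul_inv_eq_one] at this
    exact this
  show k * x * k⁻¹ = g * x * g⁻¹
  rw [← hi, conj_zpow, hxi]

/-- Twisting: if `⟨x, x^v⟩ = R⟨x⟩` and the minimal section `U / L` has no fixed points of `R`, then a twisted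
pair of conjugates covers `U R ⟨x⟩` modulo `L`. -/
theorem exists_twist_cover {s : ℕ} [Fact p.Prime] [Fact s.Prime] (hp3 : 3 < p) (hsp : s ≠ p)
    (hx : orderOf x = p) {L U R : Subgroup G} {v : G} (hUL : IsESection s U L) (hne : U ≠ L)
    (hxU : x ∈ normalizer (U : Set G)) (hxL : x ∈ normalizer (L : Set G))
    (hRU : R ≤ normalizer (U : Set G)) (hRL : R ≤ normalizer (L : Set G))
    (hxR : x ∈ normalizer (R : Set G)) (hgen : closure ({x, v * x * v⁻¹} : Set G) = R ⊔ zpowers x) (hv : v ∈ R)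
    (hRs : (Nat.card R).Coprime s) (hsol : Group.IsSolvable ↥(R ⊔ zpowers x))
    (hfix : ∀ u ∈ U, (∀ r ∈ R, ⁅r, u⁆ ∈ L) → u ∈ L)
    (hmin : ∀ U' : Subgroup G, L ≤ U' → U' ≤ U → R ⊔ zpowers x ≤ normalizer (U' : Set G) → U' = L ∨ U' = U) :
    ∃ u ∈ U, U ⊔ R ⊔ zpowers x ≤ closure ({x, u * v * x * (u * v)⁻¹} : Set G) ⊔ L := by
  have hs := (Fact.out : s.Prime)
  set A := R ⊔ zpowers x with hA
  have hXA : zpowers x ≤ A := le_sup_right
  have hAU : A ≤ normalizer (U : Set G) := sup_le hRU (zpowers_le.2 hxU)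
  have hAL : A ≤ normalizer (L : Set G) := sup_le hRL (zpowers_le.2 hxL)
  set K := U ⊔ A with hK
  have hKL : K ≤ normalizer (L : Set G) := sup_le hUL.norm hAL
  haveI : (L.subgroupOf K).Normal := Coprime.normal_subgroupOf_of_le_normalizer hKL
  set π := QuotientGroup.mk' (L.subgroupOf K) with hπ
  have hπ1 : ∀ y : K, π y = 1 ↔ (y : G) ∈ L := fun y => (QuotientGroup.eq_one_iff y).trans mem_subgroupOf
  have hUK : U ≤ K := le_sup_left
  have hAK : A ≤ K := le_sup_right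
  have hLK : L ≤ K := hUL.le.trans hUK
  haveI : (U.subgroupOf K).Normal :=
    Coprime.normal_subgroupOf_of_le_normalizer (sup_le le_normalizer hAU)
  set Ub := (U.subgroupOf K).map π with hUb
  haveI : Ub.Normal := Normal.map inferInstance π (QuotientGroup.mk'_surjective _)
  have hUcomm : ∀ a ∈ Ub, ∀ b ∈ Ub, a * b = b * a := by
    rintro _ ⟨a, ha, rfl⟩ _ ⟨b, hb, rfl⟩
    rw [← map_mul, ← map_mul, ← mul_inv_eq_one, ← map_inv, ← map_mul, hπ1]
    simpa [commutatorElement_def, mul_assoc] using hUL.comm _ ha _ hb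
  haveI : IsMulCommutative Ub := ⟨⟨fun a b => Subtype.ext (hUcomm a a.2 b b.2)⟩⟩
  have hUbq : ∀ a ∈ Ub, a ^ s = 1 := by
    rintro _ ⟨a, ha, rfl⟩
    rw [← map_pow, hπ1]
    simpa using hUL.exp _ ha
  have hUne : Ub ≠ ⊥ := by
    intro e
    refine hne (le_antisymm (fun a ha => (hπ1 ⟨a, hUK ha⟩).1 (mem_bot.1 (e ▸ ?_))) hUL.le)
    exact ⟨⟨a, hUK ha⟩, ha, rfl⟩
  have hUbs : IsPGroup s Ub := fun a => ⟨1, Subtype.ext (by simpa using hUbq a a.2)⟩
  have hcopR : (Nat.card R).Coprime (Nat.card Ub) := by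
    obtain ⟨n, hn⟩ := IsPGroup.iff_card.1 hUbs
    rw [hn]
    exact hRs.pow_right n
  set A' := A.subgroupOf K with hA'
  set R' := R.subgroupOf K with hR'
  set X' := (zpowers x).subgroupOf K with hX'
  have hRA : R ≤ A := le_sup_left
  have hxK : x ∈ K := hAK (hXA (mem_zpowers x))
  have htop : A'.map π ⊔ Ub = ⊤ := by
    rw [hUb, ← Subgroup.map_sup, ← map_top_of_surjective π (QuotientGroup.mk'_surjective _)]
    congr 1
    refine map_injective K.subtype_injective ?_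
    rw [Subgroup.map_sup, map_subgroupOf_eq_of_le hAK, map_subgroupOf_eq_of_le hUK, ← MonoidHom.range_eq_map,
      range_subtype, sup_comm]
  have hcopX : (Nat.card (zpowers x)).Coprime (Nat.card Ub) := by
    obtain ⟨n, hn⟩ := IsPGroup.iff_card.1 hUbs
    rw [hn, Nat.card_zpowers, hx]
    exact ((Nat.coprime_primes Fact.out hs).2 hsp.symm).pow_right n
  have hcopA : (Nat.card (A'.map π)).Coprime (Nat.card Ub) := by
    have h1 : Nat.card A ∣ Nat.card R * Nat.card (zpowers x) := by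
      rw [hA, sup_comm]
      refine dvd_trans ?_ (dvd_of_eq (mul_comm (Nat.card (zpowers x)) (Nat.card R)))
      exact AbelianPComplement.card_sup_dvd_mul (zpowers_le.2 hxR)
    exact ((hcopR.mul_left hcopX).coprime_dvd_left h1).coprime_dvd_left
      ((card_map_dvd _ _).trans (dvd_of_eq (Coprime.card_subgroupOf hAK)))
  have hAUb : A'.map π ⊓ Ub = ⊥ := Coprime.disjoint_of_coprime_card hcopA
  have hPb : Nat.card (X'.map π) = p := by
    have hd : Nat.card (X'.map π) ∣ p := (card_map_dvd _ _).trans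
      (dvd_of_eq ((Coprime.card_subgroupOf (hXA.trans hAK)).trans (by rw [Nat.card_zpowers, hx])))
    refine ((Nat.dvd_prime Fact.out).1 hd).resolve_left fun h1 => ?_
    have hxL1 : x ∈ L := (hπ1 ⟨x, hxK⟩).1 (mem_bot.1 ((Subgroup.card_eq_one.1 h1) ▸
      ⟨⟨x, hxK⟩, mem_zpowers x, rfl⟩))
    have hxL' : x ∈ U := hUL.le hxL1
    have hvA : v * x * v⁻¹ ∈ L := (mem_normalizer_iff.1 (hRL hv) x).1 hxL1
    have hAL' : A ≤ L := by
      rw [← hgen, closure_le]
      rintro y (rfl | rfl)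
      · exact hxL1
      · exact hvA
    refine hne (le_antisymm (fun a ha => hfix a ha fun r hr => ?_) hUL.le)
    rw [commutatorElement_def, show r * a * r⁻¹ * a⁻¹ = r * (a * r⁻¹ * a⁻¹) by group]
    exact mul_mem (hAL' (hRA hr)) ((mem_normalizer_iff.1 (hUL.norm ha) _).1 (inv_mem (hAL' (hRA hr))))
  have hgen' : A'.map π = X'.map π ⊔ (X'.map π).map (MulAut.conj (π ⟨v, hAK (hRA hv)⟩)).toMonoidHom := by
    have e1 : A' = X' ⊔ X'.map (MulAut.conj (⟨v, hAK (hRA hv)⟩ : K)).toMonoidHom := by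
      refine map_injective K.subtype_injective ?_
      rw [Subgroup.map_sup, map_subgroupOf_eq_of_le hAK, map_map,
        show K.subtype.comp (MulAut.conj (⟨v, hAK (hRA hv)⟩ : K)).toMonoidHom
          = (MulAut.conj v).toMonoidHom.comp K.subtype from MonoidHom.ext fun y => rfl,
        ← map_map, map_subgroupOf_eq_of_le (hXA.trans hAK), MonoidHom.map_zpowers, ← hgen]
      rw [zpowers_eq_closure, zpowers_eq_closure, ← Subgroup.closure_union, Set.singleton_union]
      rfl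
    conv_lhs => rw [e1, Subgroup.map_sup, map_map]
    rw [map_map]
    congr 2
  have hAR : A'.map π ≤ normalizer ((R'.map π : Subgroup (K ⧸ L.subgroupOf K)) : Set (K ⧸ L.subgroupOf K)) := by
    refine le_trans (map_mono fun g hg => ?_) (le_normalizer_map π)
    refine mem_normalizer_iff.2 fun m => ?_
    exact mem_normalizer_iff.1 (sup_le le_normalizer (zpowers_le.2 hxR) (show (g : G) ∈ A from hg)) (m : G)
  have hfix' : Ub ⊓ centralizer ((R'.map π : Subgroup _) : Set (K ⧸ L.subgroupOf K)) = ⊥ := by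
    refine (Subgroup.eq_bot_iff_forall _).2 ?_
    rintro _ ⟨⟨a, ha, rfl⟩, hc⟩
    rw [hπ1]
    refine hfix a ha fun r hr => ?_
    have h1 := mem_centralizer_iff.1 hc (π ⟨r, hAK (hRA hr)⟩) ⟨_, hr, rfl⟩
    rw [← map_mul, ← map_mul, ← mul_inv_eq_one, ← map_inv, ← map_mul, hπ1] at h1
    simpa [commutatorElement_def, mul_assoc] using h1
  have hirr : ∀ N : Subgroup (K ⧸ L.subgroupOf K), N ≤ Ub → A'.map π ≤ normalizer (N : Set (K ⧸ L.subgroupOf K)) →
      N = ⊥ ∨ N = Ub := by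
    intro N hN hNA
    set U' := (N.comap π).map K.subtype with hU'
    have h1 : L ≤ U' := fun a ha => ⟨⟨a, hLK ha⟩, by
      show π ⟨a, hLK ha⟩ ∈ N
      rw [(hπ1 ⟨a, hLK ha⟩).2 ha]
      exact one_mem _, rfl⟩
    have h2 : U' ≤ U := by
      rintro _ ⟨a, ha, rfl⟩
      obtain ⟨b, hb, e⟩ := hN (show π a ∈ N from ha)
      have h3 := (hπ1 (b⁻¹ * a)).1 (by rw [map_mul, map_inv, e, inv_mul_cancel])
      have := mul_mem (show (b : G) ∈ U from hb) (hUL.le h3)
      simpa using this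
    have h3 : A ≤ normalizer (U' : Set G) := by
      intro a ha
      have h4 : (⟨a, hAK ha⟩ : K) ∈ normalizer ((N.comap π : Subgroup K) : Set K) := by
        refine mem_normalizer_iff.2 fun m => ?_
        show π m ∈ N ↔ π (_ * m * _) ∈ N
        rw [map_mul, map_mul, map_inv]
        exact mem_normalizer_iff.1 (hNA ⟨_, ha, rfl⟩) (π m)
      exact le_normalizer_map K.subtype ⟨_, h4, rfl⟩
    have hback : N = (U'.subgroupOf K).map π := by
      rw [hU', show ((N.comap π).map K.subtype).subgroupOf K = N.comap π from comap_map_eq_self_of_injective K.subtype_injective _,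
        map_comap_eq_self_of_surjective (QuotientGroup.mk'_surjective _)]
    rcases hmin U' h1 h2 h3 with e | e
    · left
      rw [hback, e, eq_bot_iff]
      rintro _ ⟨a, ha, rfl⟩
      exact mem_bot.2 ((hπ1 a).2 ha)
    · right
      rw [hback, e]
  obtain ⟨ub, hub, hBtop⟩ := FixedDim.exists_twist (p := p) (q := s) (U := Ub) (A := A'.map π) (R := R'.map π)
    (P := X'.map π) hp3 hUbq hUne (Coprime.isSolvable_map π A' (Coprime.isSolvable_subgroupOf hAK hsol)) htop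
    hAUb hPb (mem_map_of_mem π (show (⟨v, hAK (hRA hv)⟩ : K) ∈ A' from hRA hv)) hgen'
    (map_mono fun g hg => hRA hg) hAR
    (hcopR.coprime_dvd_left ((card_map_dvd _ _).trans (dvd_of_eq (Coprime.card_subgroupOf (hRA.trans hAK)))))
    hfix' hirr
  obtain ⟨u₀, hu₀, rfl⟩ := hub
  refine ⟨u₀, hu₀, ?_⟩
  set B := closure ({x, (u₀ : G) * v * x * ((u₀ : G) * v)⁻¹} : Set G) with hB
  have hBK : B ≤ K := by
    rw [hB, closure_le]
    rintro y (rfl | rfl)
    · exact hxK
    · exact mul_mem (mul_mem (mul_mem u₀.2 (hAK (hRA hv))) hxK) (inv_mem (mul_mem u₀.2 (hAK (hRA hv))))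
  intro g hg
  have hgK : g ∈ K := by
    revert g
    rw [sup_assoc]
    exact fun g hg => hg
  have h1 : π ⟨g, hgK⟩ ∈ (B.subgroupOf K).map π := by
    refine (show (⊤ : Subgroup (K ⧸ L.subgroupOf K)) ≤ _ from ?_) (mem_top _)
    rw [← hBtop, ← map_mul]
    refine sup_le (map_mono fun y hy => ?_) ?_
    · exact zpowers_le.2 (show x ∈ B from subset_closure (by simp)) hy
    · rw [map_map, map_le_iff_le_comap]
      rintro ⟨y, hyK⟩ hy
      obtain ⟨i, rfl⟩ := mem_zpowers_iff.1 (show y ∈ zpowers x from hy)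
      refine ⟨u₀ * ⟨v, hAK (hRA hv)⟩ * ⟨x ^ i, hyK⟩ * (u₀ * ⟨v, hAK (hRA hv)⟩)⁻¹, ?_, ?_⟩
      · show (u₀ : G) * v * x ^ i * ((u₀ : G) * v)⁻¹ ∈ B
        rw [← conj_zpow]
        exact zpow_mem (subset_closure (by simp)) i
      · simp only [MonoidHom.coe_comp, Function.comp_apply]; show π _ = π _ * π _ * (π _)⁻¹; rw [← map_mul, ← map_inv, ← map_mul]
  obtain ⟨b, hb, e⟩ := h1
  have h2 := (hπ1 (b⁻¹ * ⟨g, hgK⟩)).1 (by rw [map_mul, map_inv, e, inv_mul_cancel])
  rw [show g = (b : G) * ((b⁻¹ * ⟨g, hgK⟩ : K) : G) by simp]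
  exact mul_mem (mem_sup_left (show (b : G) ∈ B from hb)) (mem_sup_right h2)

omit [Finite G] in
/-- Goodness passes to subgroups. -/
theorem Good.mono [Finite G] (h : QCtx p q x z) {H₀ H : Subgroup G} (hH : Group.IsSolvable H) (hle : H₀ ≤ H)
    (hx : x ∈ H₀) (hz : z ∈ H₀) (hg : Good p q x z H)
    (hWx : ∀ r : ℕ, r.Prime → r ≠ q → ∀ W : Subgroup G, W ≤ ppOf p H₀ → IsMoved x z W → IsPGroup r W →
      ⁅W, zpowers x⁆ = W) : Good p q x z H₀ := by
  haveI := hH
  have hH₀ : Group.IsSolvable H₀ := Coprime.isSolvable_of_le hle hH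
  set T₀ := ppOf p H₀
  set T := ppOf p H
  refine ⟨fun hqp => ?_, fun r hr hrq W hW hm hWr => ?_⟩
  · haveI := Fact.mk h.qprime
    have hzT₀ : z ∈ T₀ := h.pCoreOf_inf_le hqp hH₀ hx ⟨h.z_mem, hz⟩
    obtain ⟨e, he, hez⟩ := hg.1 hqp
    set N := (Cfsg.pPrimePCore q T).map T.subtype with hN
    set O := ppOf q T with hO
    have hH₀N : H₀ ≤ normalizer (N : Set G) := hle.trans
      (FixedDim.le_normalizer_map_char (le_normalizer_ppOf p H) _)
    have hH₀O : H₀ ≤ normalizer (O : Set G) := hle.trans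
      (FixedDim.le_normalizer_map_char (le_normalizer_ppOf p H) (Cfsg.pPrimeCore q T))
    have hT₀H : T₀ ≤ H₀ := ppOf_le p H₀
    set O₀ := (O.subgroupOf T₀) with hO₀
    set N₀ := (N.subgroupOf T₀) with hN₀
    haveI : O₀.Normal := Coprime.normal_subgroupOf_of_le_normalizer (hT₀H.trans hH₀O)
    haveI : N₀.Normal := Coprime.normal_subgroupOf_of_le_normalizer (hT₀H.trans hH₀N)
    have hO₀c : (Nat.card O₀).Coprime q := (coprime_card_ppOf q T).coprime_dvd_left
      ((card_comap_dvd_of_injective O T₀.subtype T₀.subtype_injective))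
    have hpow : ∀ n ∈ N₀, ∃ k, n ^ q ^ k ∈ O₀ := by
      intro n hn
      obtain ⟨n', hn', e'⟩ := (show (n : G) ∈ N from hn)
      obtain ⟨k, hk⟩ := pow_mem_of_mem_pPrimePCore hn'
      refine ⟨k, mem_subgroupOf.2 ⟨_, hk, ?_⟩⟩
      rw [map_pow, SubgroupClass.coe_pow]
      exact congrArg (· ^ q ^ k) e'
    have hzN₀ : (⟨z, hzT₀⟩ : T₀) ∈ N₀ := mem_subgroupOf.2 ⟨e, he, hez⟩
    refine ⟨⟨z, hzT₀⟩, ?_, rfl⟩
    have hle' : O₀ ≤ Cfsg.pPrimeCore q T₀ := PCore.le_pPrimeCore hO₀c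
    show QuotientGroup.mk' (Cfsg.pPrimeCore q T₀) ⟨z, hzT₀⟩ ∈ Cfsg.pCore q (T₀ ⧸ Cfsg.pPrimeCore q T₀)
    haveI : (N₀.map (QuotientGroup.mk' (Cfsg.pPrimeCore q T₀))).Normal :=
      Normal.map inferInstance _ (QuotientGroup.mk'_surjective _)
    refine PCore.le_pCore (N := N₀.map (QuotientGroup.mk' (Cfsg.pPrimeCore q T₀))) ?_ ⟨_, hzN₀, rfl⟩
    rintro ⟨_, n, hn, rfl⟩
    obtain ⟨k, hk⟩ := hpow n hn
    refine ⟨k, Subtype.ext ?_⟩
    rw [SubgroupClass.coe_pow, ← map_pow]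
    exact (QuotientGroup.eq_one_iff _).2 (hle' hk)
  · haveI := Fact.mk hr
    have hWH : W ≤ H₀ := hW.trans (ppOf_le p H₀)
    have hWT : W ≤ T := by
      rw [← hWx r hr hrq W hW hm hWr]
      exact h.toXCtx.commutator_le_ppOf hH (hle hx) (hWH.trans hle)
        ((coprime_card_ppOf p H₀).coprime_dvd_left (card_dvd_of_le hW)) hm.x_norm
    have h1 := hg.2 r hr hrq W hWT hm hWr
    have h2 : Cfsg.pCoreOf r T ⊓ T₀ ≤ Cfsg.pCoreOf r T₀ :=
      PCore.le_pCoreOf inf_le_right ((PCore.isPGroup_pCoreOf T).to_le inf_le_left)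
        (Coprime.le_normalizer_inf_of_le ((ppOf_le p H₀).trans (hle.trans
          (FixedDim.le_normalizer_map_char (le_normalizer_ppOf p H) _))) le_normalizer)
    exact (le_inf h1 hW).trans h2

end Cfsg.Agent.TwoGenSolvable
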