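import Mathlib
import Cfsg.Agent.Lib.TwoGenSolvable.LStruct

/-!
# The exceptional configuration of the module lemma
-/

set_option autoImplicit false
set_option linter.style.haveILetI false
set_option linter.unusedSectionVars false

namespace Cfsg.Agent.TwoGenSolvable

open Subgroup FixedDim HallHigman
open scoped commutatorElement

universe uk uV

/-- The exceptional configuration of the module lemma. -/
structure LExceptional {k : Type uk} [Field k] {V : Type uV} [AddCommGroup V] [Module k V]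
    {Γ : Type*} [Group Γ] (ρ : Γ →* Module.End k V) (p q r : ℕ) (x z : Γ) (W : Subgroup Γ) [W.Normal] : Prop where
  q_two : q = 2
  exists_pow : ∃ m, r ^ m + 1 = 2 * p
  dim : Module.finrank k V + 1 = 2 * p
  line : Module.finrank k (LinearMap.ker (ρ x - 1)) = 1
  eig_two : ∀ ζ : k, IsPrimitiveRoot ζ p → ∀ i : Fin p, (i : ℕ) ≠ 0 → Module.finrank k (eig ζ (ρ x) i) = 2
  nonscalar : ∀ ζ : k, IsPrimitiveRoot ζ p → ∀ i : Fin p, (i : ℕ) ≠ 0 →
    ¬ ∃ c : k, ∀ v ∈ eig ζ (ρ x) i, ρ z v = c • v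
  neg : ∀ w : W, (MulAut.conjNormal z : MulAut W) w * w ∈ center W
  top_irr : ∀ Y : Subgroup W, center W ≤ Y → (∀ w ∈ Y, (MulAut.conjNormal x : MulAut W) w ∈ Y) →
    Y = center W ∨ Y = ⊤
  fixed_center : ∀ w : W, (MulAut.conjNormal x : MulAut W) w = w → w ∈ center W

variable {k : Type uk} [Field k] [IsAlgClosed k] {V : Type uV} [AddCommGroup V] [Module k V]
  [FiniteDimensional k V] [Nontrivial V] {Γ : Type*} [Group Γ] [Finite Γ]
  {ρ : Γ →* Module.End k V} {p q r : ℕ} [Fact p.Prime] [Fact q.Prime] [Fact r.Prime] {x z : Γ}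
  {W : Subgroup Γ} [W.Normal]

theorem LData.x_ne_one (h : LData ρ p q r x z W) (hW : W ≠ ⊥) : x ≠ 1 :=
  fun e => hW (h.movex.eq_bot_of_commute fun w _ => by rw [e, one_mul, mul_one])

end Cfsg.Agent.TwoGenSolvable
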