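import Mathlib
import Cfsg.Agent.Lib.TwoGenSolvable.LCount
import Cfsg.Agent.Lib.TwoGenSolvable.Orbit

/-!
# The module lemma: the two outcomes
-/

set_option autoImplicit false
set_option linter.style.haveILetI false
set_option linter.unusedSectionVars false

namespace Cfsg.Agent.TwoGenSolvable

open Subgroup FixedDim HallHigman
open scoped commutatorElement

universe uk uV

variable {k : Type uk} [Field k] [IsAlgClosed k] {V : Type uV} [AddCommGroup V] [Module k V]
  [FiniteDimensional k V] [Nontrivial V] {Γ : Type*} [Group Γ] [Finite Γ]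
  {ρ : Γ →* Module.End k V} {p q r : ℕ} [Fact p.Prime] [Fact q.Prime] [Fact r.Prime] {x z : Γ}
  {W : Subgroup Γ} [W.Normal]

theorem exists_zeta (hpK : (p : k) ≠ 0) : ∃ ζ : k, IsPrimitiveRoot ζ p := by
  haveI : NeZero (p : k) := ⟨hpK⟩
  exact HasEnoughRootsOfUnity.exists_primitiveRoot k p

/-- No fixed points of `x`: `r = 2` and the dimension is `p - 1`. -/
theorem LData.of_no_fixed (h : LData ρ p q r x z W) (hp3 : 3 < p) (hW : W ≠ ⊥)
    (hx0 : ∀ v, ρ x v = v → v = 0) : r = 2 ∧ Module.finrank k V + 1 = p := by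
  have hp := (Fact.out : p.Prime)
  obtain ⟨ζ, hζ⟩ := exists_zeta (k := k) h.pK
  obtain ⟨γ, -, -, hS⟩ := h.toSData
  obtain ⟨-, c, hc, hn⟩ := hS.eig_facts h.pK h.rp h.movex h.xp hp3 hW hζ
  have h0 : Module.finrank k (eig ζ (ρ x) (⟨0, hp.pos⟩ : Fin p)) = 0 := by
    rw [eig_zero, Submodule.finrank_eq_zero, Submodule.eq_bot_iff]
    exact fun v hv => hx0 v (sub_eq_zero.mp hv)
  have hc0 : c = 0 := by rcases hc ⟨0, hp.pos⟩ with e | e <;> omega
  subst hc0
  obtain ⟨⟨m, hm⟩, hne, -⟩ := hS.ne_top_dim (p := p) h.rp h.movex hW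
  have hn1 : Module.finrank k V + 1 = p := by rcases hn with e | e <;> omega
  refine ⟨?_, hn1⟩
  have hodd : Odd p := hp.odd_of_ne_two (by omega)
  rcases (Fact.out : r.Prime).eq_two_or_odd' with e | e
  · exact e
  · exfalso
    have := e.pow (n := m)
    rw [← hm] at this
    obtain ⟨a, ha⟩ := this
    obtain ⟨b, hb⟩ := hodd
    omega

theorem LData.z_ne_one (h : LData ρ p q r x z W) (hW : W ≠ ⊥) : z ≠ 1 :=
  fun e => hW (h.movez.eq_bot_of_commute fun w _ => by rw [e, one_mul, mul_one])

theorem LData.free_xz (h : LData ρ p q r x z W) {γ : Γ} (hSD : SData ρ r γ W) (hpq : p ≠ q) (a : Γ) (ha : a ∈ zpowers (x * z)) (ha1 : a ≠ 1)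
    (w : W) (hw : (MulAut.conjNormal a : MulAut W) w * w⁻¹ ∈ center W) : w ∈ center W := by
  obtain ⟨n, rfl⟩ := (isOfFinOrder_of_finite (x * z)).mem_powers_iff_mem_zpowers.mpr ha
  have hcz := (show Commute x z from h.comm)
  by_cases hnq : x ^ (n * q) = 1
  · have hxn : x ^ n = 1 := by
      obtain ⟨j, hj⟩ : p ∣ n := ((Nat.Prime.dvd_mul (Fact.out : p.Prime)).mp (orderOf_eq_prime h.xp
        (fun e => ha1 (by
          rw [show (fun i => (x * z) ^ i) n = (x * z) ^ n from rfl] at *
          have hWb : W = ⊥ := h.movex.eq_bot_of_commute fun w _ => by rw [e, one_mul, mul_one]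
          have hz : z = 1 := by
            refine h.inj ?_
            rw [map_one]
            rcases h.fix with ⟨-, hfix⟩ | ⟨rfl, -⟩
            · exact LinearMap.ext fun v => hfix v (by rw [e, map_one]; rfl)
            · rw [e, map_one]
          rw [e, hz, one_mul, one_pow])) ▸ orderOf_dvd_of_pow_eq_one hnq)).resolve_right fun e =>
        hpq ((Nat.prime_dvd_prime_iff_eq Fact.out Fact.out).mp e)
      rw [hj, pow_mul, h.xp, one_pow]
    change (x * z) ^ n ≠ 1 at ha1
    change (MulAut.conjNormal ((x * z) ^ n) : MulAut W) w * w⁻¹ ∈ center W at hw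
    rw [hcz.mul_pow, hxn, one_mul] at ha1 hw
    exact hSD.mem_center_of_fixed h.movez
      (hSD.fixed_of_mem_zpowers (mem_zpowers_pow_of_ne_one Fact.out h.zq ha1) hw)
  · have h1 : x ∈ zpowers (x ^ (n * q)) := mem_zpowers_pow_of_ne_one Fact.out h.xp hnq
    have h2 : x ^ (n * q) = ((x * z) ^ n) ^ q := by
      rw [← pow_mul, hcz.mul_pow, mul_comm n q, pow_mul z, h.zq, one_pow, mul_one]
    have h3 : x ^ (n * q) ∈ zpowers ((x * z) ^ n) := by rw [h2]; exact pow_mem (mem_zpowers _) q
    exact hSD.mem_center_of_fixed h.movex (hSD.fixed_of_mem_zpowers (zpowers_le.mpr h3 h1) hw)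

/-- `z` trivial on the fixed points of `x`: only the exceptional configuration. -/
theorem LData.exceptional (h : LData ρ p q r x z W) (hp3 : 3 < p) (hW : W ≠ ⊥) (hpq : p ≠ q)
    (hfix : ∀ v, ρ x v = v → ρ z v = v) : LExceptional ρ p q r x z W := by
  classical
  have hp := (Fact.out : p.Prime)
  have hq := (Fact.out : q.Prime)
  have hS : ρ x ^ p = 1 := by rw [← map_pow, h.xp, map_one]
  have hTS : ρ x * ρ z = ρ z * ρ x := by rw [← map_mul, ← map_mul, h.comm]
  have hox : orderOf x = p := orderOf_eq_prime h.xp (h.x_ne_one hW)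
  have hoz : orderOf z = q := orderOf_eq_prime h.zq (h.z_ne_one hW)
  have hord : orderOf (x * z) = p * q := by
    rw [(show Commute x z from h.comm).orderOf_mul_eq_mul_orderOf_of_coprime
      (by rw [hox, hoz]; exact (Nat.coprime_primes hp hq).mpr hpq), hox, hoz]
  obtain ⟨γ, -, -, hSD⟩ := h.toSData
  set n := Module.finrank k V with hn_def
  obtain ⟨⟨m, hm⟩, hne1, -⟩ := hSD.ne_top_dim (p := p) h.rp h.movex hW
  -- the joint count
  have main : ∀ ζ : k, IsPrimitiveRoot ζ p → q = 2 ∧ n + 1 = 2 * p ∧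
      Module.finrank k (eig ζ (ρ x) (⟨0, hp.pos⟩ : Fin p)) = 1 ∧
      ∀ i : Fin p, (i : ℕ) ≠ 0 → Module.finrank k (eig ζ (ρ x) i) = 2 ∧
        ¬ ∃ c : k, ∀ v ∈ eig ζ (ρ x) i, ρ z v = c • v := by
    intro ζ hζ
    have hTi : ∀ i : Fin p, ∀ v ∈ eig ζ (ρ x) i, ρ z v ∈ eig ζ (ρ x) i := fun i v hv => by
      rw [Module.End.mem_eigenspace_iff, ← Module.End.mul_apply, hTS, Module.End.mul_apply, eig_apply hv,
        map_smul]
    let d : Fin p → ℕ := fun i => Module.finrank k (eig ζ (ρ x) i)
    let e : Fin p → ℕ := fun i => Module.finrank k (commutant ((ρ z).restrict (hTi i)))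
    obtain ⟨hsum0, c, hc0, hnc0⟩ := hSD.eig_facts h.pK h.rp h.movex h.xp hp3 hW hζ
    have hsum : p * ∑ i, d i ^ 2 + 1 = n ^ 2 + p := hsum0
    have hc : ∀ i, d i = c ∨ d i = c + 1 := hc0
    have hnc : n = p * c + 1 ∨ n + 1 = p * (c + 1) := hnc0
    have hsd : ∑ i, d i = n := sum_finrank_eig hζ h.pK hp.pos hS
    have hJ : p * q * (∑ i, e i) + 1 ≤ n ^ 2 + p * q := by
      have h1 := hSD.orbit_bound (x * z) (commutant (ρ x) ⊓ commutant (ρ z)) (fun f hf => by
        rw [map_mul, mul_assoc, mem_commutant.1 hf.2, ← mul_assoc, mem_commutant.1 hf.1, mul_assoc])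
        (h.free_xz hSD hpq)
      rw [hord, ← hn_def] at h1
      have h2 : ∑ i, e i ≤ _ := sum_block_le hζ h.pK hp.pos hS hTS hTi
      have := Nat.mul_le_mul_left (p * q) h2
      omega
    set i₀ : Fin p := ⟨0, hp.pos⟩ with hi₀
    have he0 : e i₀ = d i₀ ^ 2 := by
      refine finrank_commutant_of_scalar (c := (1 : k)) (LinearMap.ext fun v => Subtype.ext ?_)
      have hv := eig_apply v.2
      rw [show ((i₀ : Fin p) : ℕ) = 0 from rfl, pow_zero, one_smul] at hv
      simpa using hfix _ hv
    have heq : ∀ i, d i ^ 2 ≤ q * e i := fun i => by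
      refine sq_le_mul_commutant (LinearMap.ext fun v => Subtype.ext ?_)
      have hpow : ∀ (j : ℕ) (u : eig ζ (ρ x) i),
          ((((ρ z).restrict (hTi i)) ^ j) u : V) = ρ (z ^ j) (u : V) := fun j u => by
        induction j with
        | zero => simp
        | succ j ih =>
          rw [pow_succ', Module.End.mul_apply, LinearMap.coe_restrict_apply, ih, pow_succ', map_mul,
            Module.End.mul_apply]
      rw [hpow, h.zq, map_one]
      rfl
    -- so the fixed space is at most a line
    have hq2 := hq.two_le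
    have hd0 : d i₀ ≤ 1 := by
      have hle : ∀ i, d i ^ 2 + (if i = i₀ then (q - 1) * d i₀ ^ 2 else 0) ≤ q * e i := fun i => by
        split_ifs with hi
        · subst hi
          rw [he0]
          obtain ⟨s, hs⟩ : ∃ s, q = s + 1 := ⟨q - 1, by omega⟩
          rw [hs, Nat.add_sub_cancel, Nat.succ_mul, add_comm]
        · exact heq i
      have h1 := Finset.sum_le_sum fun i (_ : i ∈ Finset.univ) => hle i
      rw [Finset.sum_add_distrib, Finset.sum_ite_eq' Finset.univ i₀, if_pos (Finset.mem_univ _),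
        ← Finset.mul_sum] at h1
      by_contra hgt
      have h4 : 4 ≤ d i₀ ^ 2 := by
        have := Nat.pow_le_pow_left (show 2 ≤ d i₀ by omega) 2
        simpa using this
      obtain ⟨s, hs⟩ : ∃ s, q = s + 1 := ⟨q - 1, by omega⟩
      rw [hs, Nat.add_sub_cancel] at h1
      rw [hs] at hJ
      have hs1 : 1 ≤ s := by omega
      have h5 := Nat.mul_le_mul_left p h1
      have h6 : p * s * 4 ≤ p * s * d i₀ ^ 2 := Nat.mul_le_mul_left _ h4
      have h7 : 1 ≤ p * s := Nat.mul_pos hp.pos hs1
      nlinarith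
    have hc1 : c ≤ 1 := by rcases hc i₀ with e' | e' <;> omega
    have hd2 : ∀ i, d i ≤ 2 := fun i => by rcases hc i with e' | e' <;> omega
    have hde : ∀ i, d i ≤ e i := fun i => finrank_le_commutant_of_le_two _ (hd2 i)
    have hle : n ≤ ∑ i, e i := hsd ▸ Finset.sum_le_sum fun i _ => hde i
    have hc' : c = 1 := by
      by_contra hne
      have hc0 : c = 0 := by omega
      subst hc0
      have hnp : n + 1 = p := by rcases hnc with e' | e' <;> omega
      have h5 := Nat.mul_le_mul_left (p * q) hle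
      have h6 : p * 2 * n ≤ p * q * n := by gcongr
      nlinarith
    subst hc'
    rcases hnc with e' | e'
    · exfalso
      rw [mul_one] at e'
      have h5 := Nat.mul_le_mul_left (p * q) hle
      have h6 : p * 2 * p ≤ p * q * p := by gcongr
      rw [e'] at h5 hJ
      nlinarith
    have hn2 : n + 1 = 2 * p := by omega
    have hq2' : q = 2 := by
      by_contra hne
      have h5 := Nat.mul_le_mul_left (p * q) hle
      have h6 : p * 3 * n ≤ p * q * n := by gcongr; omega
      have h7 : n + 1 ≤ p * q * (n + 1) := Nat.le_mul_of_pos_left _ (Nat.mul_pos hp.pos hq.pos)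
      nlinarith
    have heqsum : ∑ i, e i = n := by
      refine le_antisymm ?_ hle
      rw [hq2'] at hJ
      by_contra hgt
      have h5 : p * 2 * (n + 1) ≤ p * 2 * ∑ i, e i := Nat.mul_le_mul_left _ (by omega)
      have hp' : (2 * p : ℕ) = n + 1 := hn2.symm
      nlinarith
    have heach : ∀ i, d i = e i := fun i => (Finset.sum_eq_sum_iff_of_le fun j _ => hde j).mp
      (hsd.trans heqsum.symm) i (Finset.mem_univ i)
    have hd01 : d i₀ = 1 := by rcases hc i₀ with e'' | e'' <;> omega
    refine ⟨hq2', hn2, hd01, fun i hi => ?_⟩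
    have hi' : d i = 2 := by
      by_contra hne
      have hlt : ∑ j, d j < ∑ j : Fin p, (if j = i₀ then 1 else 2) := by
        refine Finset.sum_lt_sum (fun j _ => ?_) ⟨i, Finset.mem_univ i, ?_⟩
        · split_ifs with hj
          · rw [hj, hd01]
          · exact hd2 j
        · rw [if_neg fun hi₀' => hi (congrArg Fin.val hi₀')]
          rcases hc i with e'' | e'' <;> omega
      rw [hsd, Finset.sum_ite, Finset.filter_eq' Finset.univ i₀, if_pos (Finset.mem_univ _),
        Finset.filter_ne' Finset.univ i₀] at hlt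
      simp [Finset.card_erase_of_mem] at hlt
      omega
    refine ⟨hi', fun ⟨a, ha⟩ => ?_⟩
    have h1 : e i = d i ^ 2 := finrank_commutant_of_scalar (c := a) (LinearMap.ext fun v => Subtype.ext (ha _ v.2))
    rw [← heach i, hi'] at h1
    norm_num at h1
  obtain ⟨ζ, hζ⟩ := exists_zeta (k := k) h.pK
  obtain ⟨hq2, hn2, hline, -⟩ := main ζ hζ
  have hrm : r ^ m + 1 = 2 * p := by rw [← hm]; exact hn2
  refine
    { q_two := hq2
      exists_pow := ⟨m, hrm⟩
      dim := hn2
      line := by rw [← eig_zero (ζ := ζ) hp.pos]; exact hline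
      eig_two := fun ζ' hζ' i hi => ((main ζ' hζ').2.2.2 i hi).1
      nonscalar := fun ζ' hζ' i hi => ((main ζ' hζ').2.2.2 i hi).2
      neg := fun w => ?_
      top_irr := ?_
      fixed_center := fun w hw => hSD.mem_center_of_fixed h.movex (by rw [hw, mul_inv_cancel]; exact one_mem _) }
  · refine hSD.mem_center_of_fixed h.movez ?_
    set θ : MulAut W := MulAut.conjNormal z
    have h2 : θ (θ w) = w := by
      rw [← MulAut.mul_apply, ← map_mul, ← pow_two, ← hq2, h.zq, map_one, MulAut.one_apply]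
    rw [map_mul, h2, mul_inv_rev, ← mul_assoc, ← commutatorElement_def]
    exact hSD.comm _ _
  · intro Y hZY hYx
    exact top_irreducible hox hp3 h.pgroup (fun g w hw => hSD.conjNormal_center g hw)
      (fun w hw => hSD.mem_center_of_fixed h.movex hw)
      (by rw [← Subgroup.index_eq_card, ← hSD.isScalarClassTwo.finrank_sq hSD.card_ne_zero hSD.irreducible, hm,
        ← pow_mul, mul_comm]) hrm Y hZY hYx

end Cfsg.Agent.TwoGenSolvable
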