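import Mathlib
import Cfsg.Agent.Lib.TwoGenSolvable.Found
import Cfsg.Agent.Lib.TwoGenSolvable.SectionRep

/-!
# Moved pairs and sections on which they act
-/

set_option autoImplicit false

namespace Cfsg.Agent.TwoGenSolvable

open Subgroup
open scoped commutatorElement

universe u

variable {G : Type u} [Group G] {p q : ℕ} {x z : G}

/-- A moved pair: `R` is an `x`-invariant `r`-group normalising the `q`-group `S`, `S R` is normalised by `z`
and `z` moves all of `S R / S`. -/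
structure IsPair (q : ℕ) (x z : G) (r : ℕ) (S R : Subgroup G) : Prop where
  rprime : r.Prime
  ne_q : r ≠ q
  qgroup : IsPGroup q S
  rgroup : IsPGroup r R
  x_normS : x ∈ normalizer (S : Set G)
  z_normS : z ∈ normalizer (S : Set G)
  x_normR : x ∈ normalizer (R : Set G)
  normS : R ≤ normalizer (S : Set G)
  z_norm : z ∈ normalizer ((S ⊔ R : Subgroup G) : Set G)
  move : R ≤ ⁅S ⊔ R, zpowers z⁆ ⊔ S

/-- A moved pair `S, R` inside `H` acting non-trivially on an elementary abelian `s`-section `M / L` on which `z`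
fixes everything fixed by `x`. Either `M ≤ S` (then `s = q`) or `S = 1` (then `s ≠ q`). -/
structure BadSect [Finite G] (p q : ℕ) (x z : G) (H : Subgroup G) (r s : ℕ) (S R M L : Subgroup G) : Prop where
  pair : IsPair q x z r S R
  sprime : s.Prime
  s_ne_p : s ≠ p
  s_ne_r : s ≠ r
  r_ne_p : r ≠ p
  S_le : S ≤ H
  R_le : R ≤ H
  M_le : M ≤ H
  sect : IsESection s M L
  cop : (Nat.card M).Coprime p
  kind : (s = q ∧ M ≤ S) ∨ (s ≠ q ∧ S = ⊥ ∧ (Nat.card M).Coprime q)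
  x_normM : x ∈ normalizer (M : Set G)
  x_normL : x ∈ normalizer (L : Set G)
  z_normM : z ∈ normalizer (M : Set G)
  z_normL : z ∈ normalizer (L : Set G)
  R_normM : R ≤ normalizer (M : Set G)
  R_normL : R ≤ normalizer (L : Set G)
  triv : ∀ a ∈ S, ∀ m ∈ M, ⁅a, m⁆ ∈ L
  nontriv : ¬ ⁅M, R⁆ ≤ L
  fixz : q ≠ p → ∀ m ∈ ⁅M, R⁆ ⊔ L, x * m = m * x → ⁅z, m⁆ ∈ L

/-- A normal subgroup `T` of `H` acting as a non-trivially moved `r`-group on a section `M / L` normalised by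
`H`, such that on the part moved by any conjugate-type element `z'` the elements central in `O_q(C(x)) ∩ H` fix what
`x` fixes. -/
structure KillSect [Finite G] (p q : ℕ) (x z : G) (H : Subgroup G) (r s : ℕ) (T M L : Subgroup G) : Prop where
  rprime : r.Prime
  sprime : s.Prime
  s_ne_p : s ≠ p
  s_ne_r : s ≠ r
  r_ne_p : r ≠ p
  r_ne_q : r ≠ q
  T_le : T ≤ H
  T_cop : (Nat.card T).Coprime p
  T_norm : H ≤ normalizer (T : Set G)
  T_pow : ∀ t ∈ T, ∃ k : ℕ, ∀ m ∈ M, ⁅t ^ r ^ k, m⁆ ∈ L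
  M_le : M ≤ H
  M_norm : H ≤ normalizer (M : Set G)
  L_norm : H ≤ normalizer (L : Set G)
  sect : IsESection s M L
  M_cop : (Nat.card M).Coprime p
  nontriv : ¬ ⁅M, ⁅T, zpowers z⁆⁆ ≤ L
  fixz : ∀ z' : G, QCtx p q x z' → z' ∈ H → ∀ m ∈ ⁅M, ⁅T, zpowers z'⁆⁆ ⊔ L, x * m = m * x →
    ∀ δ ∈ Cfsg.pCoreOf q (centralizer ({x} : Set G)), δ ∈ H →
      (∀ d ∈ Cfsg.pCoreOf q (centralizer ({x} : Set G)), d ∈ H → δ * d = d * δ) → ⁅δ, m⁆ ∈ L

end Cfsg.Agent.TwoGenSolvable
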