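import Mathlib
import Cfsg.Agent.Lib.TwoGenSolvable.Found
import Cfsg.Agent.Lib.TwoGenSolvable.SectionRep
import Cfsg.Agent.Lib.Coprime.Commutator
import Cfsg.Agent.Lib.Coprime.Quotient
import Cfsg.Agent.Lib.Involution.BaerSuzuki

/-!
# Fixed points in sections
-/

set_option autoImplicit false
set_option linter.style.haveILetI false

namespace Cfsg.Agent.TwoGenSolvable

open Subgroup
open scoped commutatorElement

universe u

variable {G : Type u} [Group G] [Finite G] {p q : ℕ} {x z : G}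

omit [Finite G] in
theorem mem_normalizer_sup {g : G} {A B : Subgroup G} (hA : g ∈ normalizer (A : Set G))
    (hB : g ∈ normalizer (B : Set G)) : g ∈ normalizer ((A ⊔ B : Subgroup G) : Set G) := by
  refine mem_normalizer_iff_map_conj_eq.2 ?_
  rw [Subgroup.map_sup, mem_normalizer_iff_map_conj_eq.1 hA, mem_normalizer_iff_map_conj_eq.1 hB]

omit [Finite G] in
theorem mem_normalizer_commutator_both {g : G} {A B : Subgroup G} (hA : g ∈ normalizer (A : Set G))
    (hB : g ∈ normalizer (B : Set G)) : g ∈ normalizer ((⁅A, B⁆ : Subgroup G) : Set G) := by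
  refine mem_normalizer_iff_map_conj_eq.2 ?_
  rw [map_commutator, mem_normalizer_iff_map_conj_eq.1 hA, mem_normalizer_iff_map_conj_eq.1 hB]

theorem mem_normalizer_of_conj_mem {g : G} {K : Subgroup G} (h : ∀ y ∈ K, g * y * g⁻¹ ∈ K) :
    g ∈ normalizer (K : Set G) := by
  refine mem_normalizer_iff_map_conj_eq.2 (eq_of_le_of_card_ge ?_ ?_)
  · rintro _ ⟨y, hy, rfl⟩
    exact h y hy
  · rw [card_map_of_injective (MulAut.conj g).injective]

/-- `A` has no fixed points on `[M, A] L / L` when its order is prime to `s`. -/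
theorem IsESection.mem_of_fixed {s : ℕ} [Fact s.Prime] {M L : Subgroup G} (h : IsESection s M L) {A : Subgroup G}
    (hAM : A ≤ normalizer (M : Set G)) (hAL : A ≤ normalizer (L : Set G)) (hA : (Nat.card A).Coprime s)
    {u : G} (hu : u ∈ ⁅M, A⁆ ⊔ L) (hfix : ∀ a ∈ A, ⁅a, u⁆ ∈ L) : u ∈ L := by
  set N := A ⊔ M with hN
  have hNL : N ≤ normalizer (L : Set G) := sup_le hAL h.norm
  haveI : (L.subgroupOf N).Normal := Coprime.normal_subgroupOf_of_le_normalizer hNL
  set π := QuotientGroup.mk' (L.subgroupOf N) with hπ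
  have hπ1 : ∀ y : N, π y = 1 ↔ (y : G) ∈ L := fun y => (QuotientGroup.eq_one_iff y).trans mem_subgroupOf
  have hMN : M ≤ N := le_sup_right
  have hAN : A ≤ N := le_sup_left
  set Mb := (M.subgroupOf N).map π
  set Ab := (A.subgroupOf N).map π
  haveI : IsMulCommutative Mb := ⟨⟨by
    rintro ⟨_, a, ha, rfl⟩ ⟨_, b, hb, rfl⟩
    refine Subtype.ext ?_
    show π a * π b = π b * π a
    rw [← map_mul, ← map_mul, ← mul_inv_eq_one, ← map_inv, ← map_mul, hπ1]
    simpa [commutatorElement_def, mul_assoc] using h.comm _ ha _ hb⟩⟩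
  have hMbs : IsPGroup s Mb := by
    rintro ⟨_, a, ha, rfl⟩
    refine ⟨1, Subtype.ext ?_⟩
    show (π a) ^ s ^ 1 = 1
    rw [pow_one, ← map_pow, hπ1]
    simpa using h.exp _ ha
  have hcop : (Nat.card Ab).Coprime (Nat.card Mb) := by
    obtain ⟨n, hn⟩ := IsPGroup.iff_card.1 hMbs
    rw [hn]
    exact (hA.coprime_dvd_left ((card_map_dvd _ _).trans (dvd_of_eq (Coprime.card_subgroupOf hAN)))).pow_right n
  have hAbM : Ab ≤ normalizer (Mb : Set _) := by
    refine le_trans (map_mono fun g hg => ?_) (le_normalizer_map π)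
    exact mem_normalizer_iff.2 fun m => mem_normalizer_iff.1 (hAM hg) (m : G)
  have hMAN : ⁅M, A⁆ ⊔ L ≤ N := sup_le ((Coprime.commutator_le_left_of_le_normalizer hAM).trans hMN) (h.le.trans hMN)
  set u' : N := ⟨u, hMAN hu⟩
  have h1 : π u' ∈ ⁅Mb, Ab⁆ := by
    rw [← map_commutator]
    obtain ⟨a, ha, l, hl, e⟩ := (Coprime.mem_sup_iff_of_le_normalizer
      ((Coprime.commutator_le_left_of_le_normalizer hAM).trans h.norm)).1 hu
    have ha' : a ∈ N := hMN (Coprime.commutator_le_left_of_le_normalizer hAM ha)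
    have hl' : l ∈ N := hMN (h.le hl)
    have e' : u' = ⟨a, ha'⟩ * ⟨l, hl'⟩ := Subtype.ext e.symm
    rw [e', map_mul, (hπ1 ⟨l, hl'⟩).2 hl, mul_one]
    refine ⟨⟨a, ha'⟩, ?_, rfl⟩
    have h2 : (⁅M.subgroupOf N, A.subgroupOf N⁆).map N.subtype = ⁅M, A⁆ := by
      rw [map_commutator, map_subgroupOf_eq_of_le hMN, map_subgroupOf_eq_of_le hAN]
    rw [← h2] at ha
    obtain ⟨b, hb, hb'⟩ := ha
    rwa [show (⟨a, ha'⟩ : N) = b from Subtype.ext hb'.symm]
  have h3 : π u' ∈ Mb ⊓ centralizer (Ab : Set _) := by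
    refine ⟨Coprime.commutator_le_left_of_le_normalizer hAbM h1, mem_centralizer_iff.2 ?_⟩
    rintro _ ⟨a, ha, rfl⟩
    rw [← map_mul, ← map_mul, ← mul_inv_eq_one, ← map_inv, ← map_mul, hπ1]
    simpa [commutatorElement_def, mul_assoc] using hfix _ ha
  have h4 := (Coprime.inf_centralizer_inf_commutator_eq_bot hAbM hcop).le ⟨h3, h1⟩
  exact (hπ1 u').1 (mem_bot.1 h4)

/-- A coset of `L` fixed by `x` contains a fixed element of the subgroup it meets. -/
theorem exists_fixed_mem [Fact p.Prime] (hx : orderOf x = p) {Y L : Subgroup G}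
    (hY : (Nat.card Y).Coprime p) (hxY : x ∈ normalizer (Y : Set G)) (hxL : x ∈ normalizer (L : Set G))
    (hYL : Y ≤ normalizer (L : Set G)) {m : G} (hm : m ∈ Y) (hfix : ⁅x, m⁆ ∈ L) :
    ∃ k ∈ Y, x * k = k * x ∧ k⁻¹ * m ∈ L := by
  set N := (Y ⊔ zpowers x : Subgroup G) with hN
  have hNL : N ≤ normalizer (L : Set G) := sup_le hYL (zpowers_le.2 hxL)
  set L' := L ⊓ N with hL'
  haveI : (L'.subgroupOf N).Normal :=
    Coprime.normal_subgroupOf_of_le_normalizer (Coprime.le_normalizer_inf_of_le hNL le_normalizer)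
  set π := QuotientGroup.mk' (L'.subgroupOf N) with hπ
  have hπ1 : ∀ y : N, π y = 1 ↔ (y : G) ∈ L := fun y => by
    rw [hπ, QuotientGroup.mk'_apply, QuotientGroup.eq_one_iff, mem_subgroupOf, hL', mem_inf]
    exact and_iff_left y.2
  have hxN : x ∈ N := mem_sup_right (mem_zpowers x)
  have hmN : m ∈ N := mem_sup_left hm
  have hcop : (Nat.card ((zpowers x).subgroupOf N)).Coprime (Nat.card (Y.subgroupOf N)) := by
    rw [Coprime.card_subgroupOf (le_sup_right : zpowers x ≤ N), Coprime.card_subgroupOf (le_sup_left : Y ≤ N),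
      Nat.card_zpowers, hx]
    exact hY.symm
  have hnorm : (zpowers x).subgroupOf N ≤ normalizer ((Y.subgroupOf N : Subgroup N) : Set N) := fun g hg =>
    mem_normalizer_iff.2 fun y => mem_normalizer_iff.1 (zpowers_le.2 hxY hg) (y : G)
  haveI : Group.IsSolvable ((zpowers x).subgroupOf N) :=
    Coprime.isSolvable_subgroupOf le_sup_right inferInstance
  have h := Coprime.map_mk'_inf_centralizer (L'.subgroupOf N) hnorm hcop (Or.inl inferInstance)
  have hmem : π ⟨m, hmN⟩ ∈ (Y.subgroupOf N).map π ⊓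
      centralizer ((((zpowers x).subgroupOf N).map π : Subgroup _) : Set _) := by
    refine ⟨⟨⟨m, hmN⟩, hm, rfl⟩, mem_centralizer_iff.2 ?_⟩
    rintro _ ⟨a, ha, rfl⟩
    obtain ⟨i, hi⟩ := mem_zpowers_iff.1 (show (a : G) ∈ zpowers x from ha)
    rw [show a = (⟨x, hxN⟩ : N) ^ i from Subtype.ext (by rw [← hi]; rfl), map_zpow]
    have h1 : Commute (π ⟨x, hxN⟩) (π ⟨m, hmN⟩) := by
      rw [← commutatorElement_eq_one_iff_commute, ← map_commutatorElement, hπ1]
      simpa [commutatorElement_def] using hfix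
    exact (h1.zpow_left i).eq
  rw [← h] at hmem
  obtain ⟨k, ⟨hkY, hkC⟩, hk⟩ := hmem
  refine ⟨k, hkY, congrArg Subtype.val (mem_centralizer_iff.1 hkC ⟨x, hxN⟩ (mem_zpowers x)), ?_⟩
  have := (hπ1 (k⁻¹ * ⟨m, hmN⟩)).1 (by rw [map_mul, map_inv, hk, inv_mul_cancel])
  simpa using this

omit [Finite G] in
/-- A moved `r`-group is generated by the commutators of a generating set with the moving element. -/
theorem le_of_commutator_gen {K' : Type*} [Group K'] [Finite K'] {r : ℕ} [Fact r.Prime] {P K : Subgroup K'}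
    {z : K'} (hP : IsPGroup r P) (hz : z ∈ normalizer (P : Set K')) (heq : ⁅P, zpowers z⁆ = P) {T : Set K'}
    (hTP : T ⊆ P) (hgen : P ≤ closure T) (hK : K ≤ P) (h : ∀ t ∈ T, ∀ c ∈ zpowers z, ⁅t, c⁆ ∈ K) : P ≤ K := by
  suffices hne : K.subgroupOf P = ⊤ by
    exact fun b hb => mem_subgroupOf.1 (hne.symm ▸ mem_top (⟨b, hb⟩ : P))
  by_contra hne
  haveI : Group.IsNilpotent P := hP.isNilpotent
  obtain ⟨M, hM, hKM⟩ := (eq_top_or_exists_le_coatom _).resolve_left hne
  have hMn : M.Normal :=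
    Subgroup.NormalizerCondition.normal_of_coatom M Group.normalizerCondition_of_isNilpotent hM
  have hmem : ∀ (b : K') (c : K'), b ∈ P → c ∈ zpowers z → ⁅b, c⁆ ∈ P := fun b c hb hc => by
    rw [commutatorElement_def, show b * c * b⁻¹ * c⁻¹ = b * (c * b⁻¹ * c⁻¹) by group]
    exact mul_mem hb ((mem_normalizer_iff.1 (zpowers_le.2 hz hc) _).1 (inv_mem hb))
  let S : Subgroup P :=
    { carrier := {b | ∀ c, ∀ hc : c ∈ zpowers z, (⟨⁅(b : K'), c⁆, hmem b c b.2 hc⟩ : P) ∈ M}
      one_mem' := fun c hc => by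
        convert one_mem M
        exact commutatorElement_one_left _
      mul_mem' := fun {a b} ha hb c hc => by
        convert mul_mem (hMn.conj_mem _ (hb c hc) a) (ha c hc) using 1
        refine Subtype.ext ?_
        simp only [Subgroup.coe_mul, InvMemClass.coe_inv, commutatorElement_def]
        group
      inv_mem' := fun {a} ha c hc => by
        convert hMn.conj_mem _ (inv_mem (ha c hc)) a⁻¹ using 1
        refine Subtype.ext ?_
        simp only [Subgroup.coe_mul, InvMemClass.coe_inv, commutatorElement_def]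
        group }
  have hS : P ≤ S.map P.subtype := by
    refine hgen.trans ((closure_le _).2 fun t ht => ?_)
    exact ⟨⟨t, hTP ht⟩, fun c hc => hKM (mem_subgroupOf.2 (h t ht c hc)), rfl⟩
  have hPM : P ≤ M.map P.subtype := by
    conv_lhs => rw [← heq]
    rw [commutator_le]
    intro b hb c hc
    obtain ⟨b', hb', rfl⟩ := hS hb
    exact ⟨_, hb' c hc, rfl⟩
  refine hM.1 ((eq_top_iff' _).2 fun b => ?_)
  obtain ⟨b', hb', he⟩ := hPM b.2
  rwa [← Subtype.ext he]

/-- Baer-Suzuki inside `C(x)`. -/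
theorem mem_pCoreOf_centralizer [Finite G] [Fact q.Prime] {k : G} (hk : k ∈ centralizer ({x} : Set G))
    (h : ∀ c ∈ centralizer ({x} : Set G), IsPGroup q (closure ({k, c * k * c⁻¹} : Set G))) :
    k ∈ Cfsg.pCoreOf q (centralizer ({x} : Set G)) := by
  set C := centralizer ({x} : Set G)
  have hN := Involution.baer_suzuki (p := q) (⟨k, hk⟩ : C) fun c => by
    have h1 := h c c.2
    have e : (closure ({⟨k, hk⟩, c * ⟨k, hk⟩ * c⁻¹} : Set C)).map C.subtype =
        closure ({k, (c : G) * k * (c : G)⁻¹} : Set G) := by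
      rw [MonoidHom.map_closure, Set.image_pair]
      rfl
    rw [← e] at h1
    exact h1.of_equiv (equivMapOfInjective _ _ C.subtype_injective).symm
  exact ⟨⟨k, hk⟩, PCore.le_pCore hN (subset_normalClosure rfl), rfl⟩

end Cfsg.Agent.TwoGenSolvable
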