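import Mathlib
import Cfsg.Agent.Lib.TwoGenSolvable.Pair
import Cfsg.Agent.Lib.TwoGenSolvable.GoodAux
import Cfsg.Agent.Lib.TwoGenSolvable.SectAux
import Cfsg.Agent.Lib.TwoGenSolvable.LMain
import Cfsg.Agent.Lib.TwoGenSolvable.DExcept
import Cfsg.Agent.Lib.TwoGenSolvable.Factor

/-!
# What a bad section shows locally
-/

set_option autoImplicit false
set_option linter.style.haveILetI false
set_option linter.unusedSectionVars false

namespace Cfsg.Agent.TwoGenSolvable

open Subgroup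
open scoped commutatorElement

universe u

variable {G : Type u} [Group G] [Finite G] {p q r s : ℕ} {x z : G} {H S R M L : Subgroup G}

/-- An element of `S R` of `q`-power order lies in `S`. -/
theorem IsPair.mem_of_qelement (hb : IsPair q x z r S R) (hq : q.Prime) {g : G} (hg : g ∈ S ⊔ R) {n : ℕ}
    (hn : g ^ q ^ n = 1) : g ∈ S := by
  set N := normalizer (S : Set G)
  haveI : (S.subgroupOf N).Normal := normal_subgroupOf_of_le_normalizer le_rfl
  obtain ⟨a, ha, b, hb', rfl⟩ := (Coprime.mem_sup_iff_of_le_normalizer' hb.normS).1 (by rwa [sup_comm])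
  have haN : a ∈ N := le_normalizer ha
  set π := QuotientGroup.mk' (S.subgroupOf N)
  have e1 : π ⟨b, hb.normS hb'⟩ = π (⟨a, haN⟩ * ⟨b, hb.normS hb'⟩) := by
    rw [map_mul, show π ⟨a, haN⟩ = 1 from (QuotientGroup.eq_one_iff _).2 (mem_subgroupOf.2 ha), one_mul]
  obtain ⟨e, he⟩ := hb.rgroup ⟨b, hb'⟩
  have h1 : π ⟨b, hb.normS hb'⟩ ^ r ^ e = 1 := by
    rw [← map_pow, show (⟨b, hb.normS hb'⟩ : N) ^ r ^ e = 1 from Subtype.ext (congrArg Subtype.val he :), map_one]
  have h2 : π ⟨b, hb.normS hb'⟩ ^ q ^ n = 1 := by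
    rw [e1, ← map_pow, show (⟨a, haN⟩ * ⟨b, hb.normS hb'⟩ : N) ^ q ^ n = 1 from Subtype.ext hn, map_one]
  have h3 : π ⟨b, hb.normS hb'⟩ = 1 := by
    rw [← orderOf_eq_one_iff]
    exact Nat.eq_one_of_dvd_coprimes (((Nat.coprime_primes hb.rprime hq).2 hb.ne_q).pow e n)
      (orderOf_dvd_of_pow_eq_one h1) (orderOf_dvd_of_pow_eq_one h2)
  exact mul_mem ha (mem_subgroupOf.1 ((QuotientGroup.eq_one_iff _).1 h3))

/-- The elements of `S R` commuting with `x` commute with `z` modulo `S`. -/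
theorem IsPair.commutator_mem (h : QCtx p q x z) (hb : IsPair q x z r S R) {c w : G} (hc : c ∈ S ⊔ R)
    (hcx : x * c = c * x) (hw : w ∈ zpowers z) : ⁅c, w⁆ ∈ S := by
  have hwD : w ∈ Cfsg.pCoreOf q (centralizer ({x} : Set G)) := zpowers_le.2 h.z_mem hw
  have hcC : c ∈ centralizer ({x} : Set G) := mem_centralizer_singleton_iff.2 hcx.symm
  have h1 : ⁅c, w⁆ ∈ Cfsg.pCoreOf q (centralizer ({x} : Set G)) :=
    mul_mem ((mem_normalizer_iff.1 (PCore.le_normalizer_pCoreOf _ hcC) w).1 hwD) (inv_mem hwD)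
  have h2 : ⁅c, w⁆ ∈ S ⊔ R := by
    rw [commutatorElement_def, show c * w * c⁻¹ * w⁻¹ = c * (w * c⁻¹ * w⁻¹) by group]
    exact mul_mem hc ((mem_normalizer_iff.1 (zpowers_le.2 hb.z_norm hw) _).1 (inv_mem hc))
  haveI := Fact.mk h.qprime
  obtain ⟨n, hn⟩ := PCore.isPGroup_pCoreOf (p := q) (centralizer ({x} : Set G)) ⟨_, h1⟩
  exact hb.mem_of_qelement h.qprime h2 (congrArg Subtype.val hn :)

/-- A normal subgroup equal to its commutator with `g` is moved by `g`. -/
theorem moves_of_le_commutator {Γ : Type*} [Group Γ] [Finite Γ] {W : Subgroup Γ} [W.Normal] {g : Γ}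
    (hg : W ≤ ⁅W, zpowers g⁆) : Moves g W := by
  unfold Moves
  set K := closure ((fun w => ⁅g, w⁆) '' (W : Set Γ)) with hKdef
  have hgen : ∀ w ∈ W, ⁅g, w⁆ ∈ K := fun w hw => Subgroup.subset_closure ⟨w, hw, rfl⟩
  have hwK : K ≤ K.comap (MulAut.conj g).toMonoidHom := by
    rw [hKdef, closure_le]
    rintro _ ⟨w, hw, rfl⟩
    show g * ⁅g, w⁆ * g⁻¹ ∈ K
    rw [show g * ⁅g, w⁆ * g⁻¹ = ⁅g, g * w * g⁻¹⁆ by simp [commutatorElement_def, mul_assoc]]
    exact hgen _ ((inferInstance : W.Normal).conj_mem w hw g)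
  refine hg.trans (commutator_le.2 fun f hf y hy => ?_)
  obtain ⟨i, rfl⟩ := (isOfFinOrder_of_finite g).mem_powers_iff_mem_zpowers.mpr hy
  show ⁅f, g ^ i⁆ ∈ K
  induction i with
  | zero => simp
  | succ i ih =>
    rw [pow_succ', show ⁅f, g * g ^ i⁆ = ⁅g, f⁆⁻¹ * (g * ⁅f, g ^ i⁆ * g⁻¹) by
      simp [commutatorElement_def, mul_assoc]]
    exact mul_mem (inv_mem (hgen f hf)) (hwK (ih (pow_mem (mem_zpowers g) i)))

theorem BadSect.commutator_x_image (h : QCtx p q x z) (hb : BadSect p q x z H r s S R M L) :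
    R ≤ ⁅R, zpowers x⁆ ⊔ (R ⊓ S) := by
  haveI := Fact.mk h.prime
  have hP := hb.pair
  set X := zpowers x
  set Y := ⁅R, X⁆ ⊔ S with hY
  have hRX : ⁅R, X⁆ ≤ R := Coprime.commutator_le_left_of_le_normalizer (zpowers_le.2 hP.x_normR)
  have hcop : (Nat.card X).Coprime (Nat.card R) := by
    haveI := Fact.mk hP.rprime
    obtain ⟨e, he⟩ := hP.rgroup.exists_card_eq
    rw [Nat.card_zpowers, h.order_x, he]
    exact ((Nat.coprime_primes h.prime hP.rprime).2 hb.r_ne_p.symm).pow_right e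
  -- `Y` is also `[S R, x] S`
  have hxSR : x ∈ normalizer ((S ⊔ R : Subgroup G) : Set G) := mem_normalizer_sup hP.x_normS hP.x_normR
  have hYeq : ⁅S ⊔ R, X⁆ ⊔ S = Y := by
    refine le_antisymm (sup_le ?_ le_sup_right) (sup_le_sup_right (commutator_mono le_sup_right le_rfl) S)
    rw [commutator_le]
    intro g hg w hw
    obtain ⟨a, ha, b, hb', rfl⟩ := (Coprime.mem_sup_iff_of_le_normalizer' hP.normS).1 (by rwa [sup_comm])
    rw [commutatorElement_mul_left_eq_conj_mul]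
    refine mul_mem (mul_mem (mul_mem (mem_sup_right ha) (mem_sup_left (commutator_mem_commutator hb' hw)))
      (inv_mem (mem_sup_right ha))) (mem_sup_right ?_)
    rw [commutatorElement_def, show a * w * a⁻¹ * w⁻¹ = a * (w * a⁻¹ * w⁻¹) by group]
    exact mul_mem ha ((mem_normalizer_iff.1 (zpowers_le.2 hP.x_normS hw) _).1 (inv_mem ha))
  have hYSR : Y ≤ S ⊔ R := sup_le (hRX.trans le_sup_right) le_sup_left
  have hzY : z ∈ normalizer (Y : Set G) := by
    rw [← hYeq]
    refine mem_normalizer_sup (mem_normalizer_commutator_both hP.z_norm ?_) hP.z_normS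
    exact centralizer_le_normalizer _ (mem_centralizer_iff.2 fun a ha => by
      obtain ⟨i, rfl⟩ := mem_zpowers_iff.1 ha
      exact ((show Commute x z from h.commute).zpow_left i).eq)
  have hSRY : S ⊔ R ≤ normalizer (Y : Set G) := by
    intro g hg
    rw [← hYeq]
    refine mem_normalizer_sup (normalizer_commutator_ge_left _ X hg) ?_
    exact (sup_le le_normalizer hP.normS) hg
  have hmain : ⁅S ⊔ R, zpowers z⁆ ≤ Y := by
    rw [commutator_le]
    intro g hg w hw
    have hwY : ∀ y ∈ Y, ⁅y, w⁆ ∈ Y := fun y hy => by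
      rw [commutatorElement_def, show y * w * y⁻¹ * w⁻¹ = y * (w * y⁻¹ * w⁻¹) by group]
      exact mul_mem hy ((mem_normalizer_iff.1 (zpowers_le.2 hzY hw) _).1 (inv_mem hy))
    obtain ⟨a, ha, b, hb', rfl⟩ := (Coprime.mem_sup_iff_of_le_normalizer' hP.normS).1 (by rwa [sup_comm])
    obtain ⟨c, hc, m, hm, rfl⟩ := Coprime.exists_centralizer_mul_commutator (zpowers_le.2 hP.x_normR) hcop
      (Or.inl (Group.isSolvable_of_comm fun u v => mul_comm' u v)) hb'
    have hcY : c ∈ normalizer (Y : Set G) := hSRY (mem_sup_right hc.1)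
    have h1 : ⁅c * m, w⁆ ∈ Y := by
      rw [commutatorElement_mul_left_eq_conj_mul]
      refine mul_mem ((mem_normalizer_iff.1 hcY _).1 (hwY m (mem_sup_left hm))) (mem_sup_right ?_)
      exact hP.commutator_mem h (mem_sup_right hc.1) (mem_centralizer_iff.1 hc.2 x (mem_zpowers x)) hw
    rw [commutatorElement_mul_left_eq_conj_mul]
    exact mul_mem ((mem_normalizer_iff.1 (hSRY (mem_sup_left ha)) _).1 h1) (hwY a (mem_sup_right ha))
  intro g hg
  have hgY : g ∈ Y := (hP.move.trans (sup_le hmain le_sup_right)) hg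
  obtain ⟨a, ha, b, hb', rfl⟩ := (Coprime.mem_sup_iff_of_le_normalizer (hRX.trans hP.normS)).1 hgY
  refine mul_mem (mem_sup_left ha) (mem_sup_right ⟨?_, hb'⟩)
  simpa using mul_mem (inv_mem (hRX ha)) hg

/-- In a non-abelian group a supplement of the centre is non-abelian. -/
theorem exists_commutator_ne_of_sup_center {W : Type*} [Group W] (hne : center W ≠ ⊤) {V : Subgroup W}
    (hV : V ⊔ center W = ⊤) : ∃ a ∈ V, ∃ b ∈ V, ⁅a, b⁆ ≠ 1 := by
  by_contra hcon
  push Not at hcon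
  refine hne (top_unique (hV ▸ sup_le (fun a ha => mem_center_iff.2 fun u => ?_) le_rfl))
  obtain ⟨b, hb', c, hc, rfl⟩ := mem_sup_of_normal_right.1 (show u ∈ V ⊔ center W by rw [hV]; trivial)
  rw [mul_assoc, ← mem_center_iff.1 hc a, ← mul_assoc, ← mul_assoc,
    (commutatorElement_eq_one_iff_mul_comm.1 (hcon a ha b hb'))]

/-- A twisted subgroup of `R` with a non-trivial fixed point, from the shape of the image. -/
theorem exists_fixed_of_image {p : ℕ} [Fact p.Prime] {x : G} {R : Subgroup G} (hox : orderOf x = p)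
    (hRp : (Nat.card R).Coprime p) (hxR : x ∈ normalizer (R : Set G))
    {Γ : Type*} [Group Γ] {W' : Subgroup Γ} [W'.Normal] (ξ : Γ) (f : R →* W') (hfs : Function.Surjective f)
    (hequiv : ∀ (g : G) (hg : g ∈ R) (hg' : x * g * x⁻¹ ∈ R),
      (f ⟨x * g * x⁻¹, hg'⟩ : Γ) = ξ * (f ⟨g, hg⟩ : Γ) * ξ⁻¹)
    (hctne : center W' ≠ ⊤) (hccen : ∀ a b : W', ⁅a, b⁆ ∈ center W')
    (hcent : ∀ c ∈ center W', (MulAut.conjNormal ξ : MulAut W') c = c)
    (hfree : ∀ w : W', (MulAut.conjNormal ξ : MulAut W') w * w⁻¹ ∈ center W' → w ∈ center W')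
    (hirr : ∀ Y : Subgroup W', center W' ≤ Y → (∀ w ∈ Y, (MulAut.conjNormal ξ : MulAut W') w ∈ Y) →
      Y = center W' ∨ Y = ⊤)
    (hlift : ∀ (Y : Subgroup G) (hYR : Y ≤ R), x ∈ normalizer (Y : Set G) → ∀ (g : G) (hg : g ∈ Y),
      ξ * (f ⟨g, hYR hg⟩ : Γ) = (f ⟨g, hYR hg⟩ : Γ) * ξ →
      ∃ (e : G) (he : e ∈ Y), x * e = e * x ∧ f ⟨e, hYR he⟩ = f ⟨g, hYR hg⟩) :
    ∃ a ∈ R, a ∈ closure ({x, a * x * a⁻¹} : Set G) ∧
      ∃ e ∈ R ⊓ closure ({x, a * x * a⁻¹} : Set G), e * x = x * e ∧ e ≠ 1 := by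
  obtain ⟨v, hv⟩ : ∃ v : R, f v ∉ center W' := by
    by_contra hcon
    push Not at hcon
    exact hctne (top_unique fun u _ => by obtain ⟨b, rfl⟩ := hfs u; exact hcon b)
  obtain ⟨a, haR, haA, hax⟩ := exists_conj_mem (P := R) hox hRp hxR v.2
  refine ⟨a, haR, hax ▸ haA, ?_⟩
  rw [hax]
  set A := closure ({x, (v : G) * x * (v : G)⁻¹} : Set G)
  set R₀ := R ⊓ A with hR₀
  have hxA : x ∈ A := Subgroup.subset_closure (Or.inl rfl)
  have hxR₀ : x ∈ normalizer (R₀ : Set G) :=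
    inf_normalizer_le_normalizer_inf ⟨hxR, le_normalizer hxA⟩
  set V := (R₀.subgroupOf R).map f
  have hVtop : V ⊔ center W' = ⊤ := by
    refine (hirr (V ⊔ center W') le_sup_right ?_).resolve_left fun e => hv ?_
    · intro u hu
      obtain ⟨b, hb', c, hc, rfl⟩ := mem_sup_of_normal_right.1 hu
      rw [map_mul, hcent _ hc]
      obtain ⟨⟨g, hgR⟩, hg, rfl⟩ := hb'
      have hg' : x * g * x⁻¹ ∈ R := (mem_normalizer_iff.1 hxR g).1 hgR
      refine mul_mem (mem_sup_left ⟨⟨x * g * x⁻¹, hg'⟩,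
        mem_subgroupOf.2 ((mem_normalizer_iff.1 hxR₀ g).1 hg), Subtype.ext ?_⟩) (mem_sup_right hc)
      rw [MulAut.conjNormal_apply]
      exact hequiv g hgR hg'
    · -- `[x, v]` lies in `R₀`
      have hxv : x * (v : G) * x⁻¹ ∈ R := (mem_normalizer_iff.1 hxR _).1 v.2
      have hvx : x * (v : G) * x⁻¹ * (v : G)⁻¹ ∈ R₀ := by
        refine Subgroup.mem_inf.2 ⟨mul_mem hxv (inv_mem v.2), ?_⟩
        rw [show x * (v : G) * x⁻¹ * (v : G)⁻¹ = x * ((v : G) * x * (v : G)⁻¹)⁻¹ by group]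
        exact mul_mem hxA (inv_mem (Subgroup.subset_closure (Or.inr rfl)))
      refine hfree (f v) (e ▸ mem_sup_left ⟨⟨_, hxv⟩ * v⁻¹, mem_subgroupOf.2 hvx, ?_⟩)
      rw [map_mul, map_inv]
      congr 1
      exact Subtype.ext (by rw [MulAut.conjNormal_apply]; exact hequiv v v.2 hxv)
  obtain ⟨_, ⟨⟨g₁, hg₁R⟩, hg₁, rfl⟩, _, ⟨⟨g₂, hg₂R⟩, hg₂, rfl⟩, hne⟩ :=
    exists_commutator_ne_of_sup_center hctne hVtop
  set c := ⁅g₁, g₂⁆
  have hcR₀ : c ∈ R₀ := by
    have h1 : g₁ ∈ R₀ := hg₁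
    have h2 : g₂ ∈ R₀ := hg₂
    exact mul_mem (mul_mem (mul_mem h1 h2) (inv_mem h1)) (inv_mem h2)
  have hcR : c ∈ R := (Subgroup.mem_inf.1 hcR₀).1
  have hfc : f ⟨c, hcR⟩ = ⁅f ⟨g₁, hg₁R⟩, f ⟨g₂, hg₂R⟩⁆ := by
    rw [← map_commutatorElement]
    rfl
  have hcfix : ξ * (f ⟨c, hcR⟩ : Γ) = (f ⟨c, hcR⟩ : Γ) * ξ := by
    have h1 := congrArg Subtype.val (hcent _ (show f ⟨c, hcR⟩ ∈ center W' by rw [hfc]; exact hccen _ _))
    rw [MulAut.conjNormal_apply] at h1
    exact mul_inv_eq_iff_eq_mul.1 h1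
  obtain ⟨e, he, hxe, heq⟩ := hlift R₀ inf_le_left hxR₀ c hcR₀ hcfix
  refine ⟨e, he, hxe.symm, ?_⟩
  rintro rfl
  refine hne ?_
  rw [← hfc]
  exact heq.symm.trans (map_one f)

set_option maxHeartbeats 4000000 in
/-- The local analysis for `q ≠ p`. -/
theorem BadSect.eq_two_and_exists_fixed (h : QCtx p q x z) (hqp : q ≠ p) (hb : BadSect p q x z H r s S R M L) :
    q = 2 ∧ ∃ a ∈ R, a ∈ closure ({x, a * x * a⁻¹} : Set G) ∧
      ∃ e ∈ R ⊓ closure ({x, a * x * a⁻¹} : Set G), e * x = x * e ∧ e ≠ 1 := by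
  classical
  haveI := Fact.mk h.prime
  haveI := Fact.mk h.qprime
  haveI := Fact.mk hb.pair.rprime
  haveI := Fact.mk hb.sprime
  have hP := hb.pair
  have hp3 : 3 < p := by have := h.five_le; omega
  set M' := ⁅M, R⁆ ⊔ L with hM'
  have hMR : ⁅M, R⁆ ≤ M := Coprime.commutator_le_left_of_le_normalizer hb.R_normM
  have hM'M : M' ≤ M := sup_le hMR hb.sect.le
  have hsec : IsESection s M' L :=
    ⟨le_sup_right, hM'M.trans hb.sect.norm, fun a ha b hb' => hb.sect.comm a (hM'M ha) b (hM'M hb'),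
      fun a ha => hb.sect.exp a (hM'M ha)⟩
  have hSact : ∀ a ∈ S, ∀ m ∈ M, a * m * a⁻¹ * m⁻¹ ∈ L := fun a ha m hm => by
    simpa [commutatorElement_def] using hb.triv a ha m hm
  have hSL : S ≤ normalizer (L : Set G) := fun a ha => mem_normalizer_of_conj_mem fun l hl => by
    simpa using mul_mem (hSact a ha l (hb.sect.le hl)) hl
  have hSM' : S ≤ normalizer (M' : Set G) := fun a ha => mem_normalizer_of_conj_mem fun l hl => by
    simpa using mul_mem ((le_sup_right : L ≤ M') (hSact a ha l (hM'M hl))) hl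
  have hRM' : R ≤ normalizer (M' : Set G) := fun a ha =>
    mem_normalizer_sup (normalizer_commutator_ge_right M R ha) (hb.R_normL ha)
  have hSM : S ≤ normalizer (M : Set G) := fun a ha => mem_normalizer_of_conj_mem fun m hm => by
    simpa using mul_mem (hb.sect.le (hSact a ha m hm)) hm
  have hM'eq : ⁅M, S ⊔ R⁆ ⊔ L = M' := by
    refine le_antisymm (sup_le ?_ le_sup_right) (sup_le_sup_right (commutator_mono le_rfl le_sup_right) L)
    rw [commutator_le]
    intro m hm g hg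
    obtain ⟨a, ha, b, hb', rfl⟩ := (Coprime.mem_sup_iff_of_le_normalizer' hP.normS).1 (by rwa [sup_comm])
    rw [show ⁅m, a * b⁆ = ⁅m, a⁆ * (a * ⁅m, b⁆ * a⁻¹) by group]
    refine mul_mem (mem_sup_right ?_) ((mem_normalizer_iff.1 (hSM' ha) _).1
      (mem_sup_left (commutator_mem_commutator hm hb')))
    rw [← commutatorElement_inv]
    exact inv_mem (hb.triv a ha m hm)
  have hzM' : z ∈ normalizer (M' : Set G) := by
    rw [← hM'eq]
    exact mem_normalizer_sup (mem_normalizer_commutator_both hb.z_normM hP.z_norm) hb.z_normL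
  have hxM' : x ∈ normalizer (M' : Set G) :=
    mem_normalizer_sup (mem_normalizer_commutator_both hb.x_normM hP.x_normR) hb.x_normL
  set H₀ := (S ⊔ R) ⊔ closure ({x, z} : Set G) with hH₀
  have hRH : R ≤ H₀ := le_sup_right.trans le_sup_left
  have hSH : S ≤ H₀ := le_sup_left.trans le_sup_left
  have hSRH : S ⊔ R ≤ H₀ := le_sup_left
  have hxH : x ∈ H₀ := mem_sup_right (Subgroup.subset_closure (Or.inl rfl))
  have hzH : z ∈ H₀ := mem_sup_right (Subgroup.subset_closure (Or.inr rfl))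
  have hH₀N : H₀ ≤ normalizer (M' : Set G) ⊓ normalizer (L : Set G) := by
    refine sup_le (sup_le (le_inf hSM' hSL) (le_inf hRM' hb.R_normL)) ((closure_le _).2 ?_)
    rintro g (rfl | rfl)
    · exact ⟨hxM', hb.x_normL⟩
    · exact ⟨hzM', hb.z_normL⟩
  have hH₀SR : H₀ ≤ normalizer ((S ⊔ R : Subgroup G) : Set G) := by
    refine sup_le le_normalizer ((closure_le _).2 ?_)
    rintro g (rfl | rfl)
    · exact mem_normalizer_sup hP.x_normS hP.x_normR
    · exact hP.z_norm
  obtain ⟨dim, ρ, -, hker, -, hfix⟩ := hsec.exists_rep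
  haveI : CharP (AlgebraicClosure (ZMod s)) s :=
    charP_of_injective_algebraMap (algebraMap (ZMod s) (AlgebraicClosure (ZMod s))).injective s
  have hK : ∀ {l : ℕ}, l.Prime → l ≠ s → (l : AlgebraicClosure (ZMod s)) ≠ 0 := fun hl hls e => by
    rw [CharP.cast_eq_zero_iff (AlgebraicClosure (ZMod s)) s] at e
    exact hls ((Nat.prime_dvd_prime_iff_eq Fact.out hl).1 e).symm
  have hpK : (p : AlgebraicClosure (ZMod s)) ≠ 0 := hK h.prime hb.s_ne_p.symm
  have hrK : (r : AlgebraicClosure (ZMod s)) ≠ 0 := hK hP.rprime hb.s_ne_r.symm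
  set W := R.subgroupOf H₀ with hWdef
  have hWpg : IsPGroup r W := hP.rgroup.of_equiv (subgroupOfEquivOfLe hRH).symm
  set σ := ρ.comp (inclusion hH₀N)
  obtain ⟨b₀, hb₀, hne₀⟩ : ∃ b ∈ R, ∃ m ∈ M', ⁅b, m⁆ ∉ L := by
    by_contra hcon
    push Not at hcon
    refine hb.nontriv fun m hm => hb.sect.mem_of_fixed hb.R_normM hb.R_normL ?_ (mem_sup_left hm)
      fun a ha => hcon a ha m (mem_sup_left hm)
    obtain ⟨e, he⟩ := hP.rgroup.exists_card_eq
    rw [he]
    exact ((Nat.coprime_primes hP.rprime hb.sprime).2 hb.s_ne_r.symm).pow_left e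
  obtain ⟨m₀, hm₀, hne₀⟩ := hne₀
  obtain ⟨U₁, U₂, hU, w', hw', hne'⟩ := exists_factor_nontrivial (ρ := σ) W (by
    obtain ⟨e, he⟩ := hWpg.exists_card_eq
    rw [he, Nat.cast_pow]
    exact pow_ne_zero _ hrK) (w := ⟨b₀, hRH hb₀⟩) hb₀ (fun e => hne₀ ((hker ⟨b₀, hH₀N (hRH hb₀)⟩).1 e m₀ hm₀))
  haveI := hU.nontrivial
  set τ := hU.rep
  let Γ' := τ.toHomUnits.range
  let π : H₀ →* Γ' := τ.toHomUnits.rangeRestrict
  let ι : Γ' →* Module.End (AlgebraicClosure (ZMod s)) (↥U₂ ⧸ U₁.comap U₂.subtype) :=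
    (Units.coeHom _).comp Γ'.subtype
  have hπs : Function.Surjective π := τ.toHomUnits.rangeRestrict_surjective
  haveI : Finite Γ' := Finite.of_surjective π hπs
  have hιπ : ∀ g, ι (π g) = τ g := fun g => rfl
  have hinj : Function.Injective ι := fun a b e => Subtype.ext (Units.ext e)
  set S' := S.subgroupOf H₀
  have hS1 : S'.map π = ⊥ := by
    rw [eq_bot_iff]
    rintro _ ⟨a, ha, rfl⟩
    refine mem_bot.2 (hinj ?_)
    rw [hιπ, map_one]
    refine Submodule.linearMap_qext _ (LinearMap.ext fun v => ?_)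
    show τ a (Submodule.Quotient.mk v) = Submodule.Quotient.mk v
    rw [hU.rep_mk_eq_self]
    show ρ (inclusion hH₀N a) (v : Fin dim → AlgebraicClosure (ZMod s)) - v ∈ U₁
    rw [(hker _).2 fun m hm => hb.triv a ha m (hM'M hm), Module.End.one_apply, sub_self]
    exact zero_mem _
  have hkerS : ∀ g : H₀, (g : G) ∈ S → π g = 1 := fun g hg => mem_bot.1 (hS1 ▸ mem_map_of_mem π hg)
  set W' := W.map π
  have hW'eq : ((S ⊔ R).subgroupOf H₀).map π = W' := by
    rw [subgroupOf_sup hSH hRH, Subgroup.map_sup, hS1, bot_sup_eq]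
  haveI : W'.Normal := by
    rw [← hW'eq]
    exact Subgroup.Normal.map (normal_subgroupOf_of_le_normalizer hH₀SR) π hπs
  have hW'ne : W' ≠ ⊥ := fun e => hne' (by
    have h1 : π w' ∈ (⊥ : Subgroup Γ') := e ▸ mem_map_of_mem π hw'
    rw [← hιπ, mem_bot.1 h1, map_one])
  set x' : H₀ := ⟨x, hxH⟩ with hx'
  set z' : H₀ := ⟨z, hzH⟩
  have hxp : x' ^ p = 1 := Subtype.ext (h.order_x ▸ pow_orderOf_eq_one x)
  have hzq : z' ^ q = 1 := Subtype.ext (h.order_z ▸ pow_orderOf_eq_one z)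
  -- `x` and `z` move all of the image
  have hzpow : ∀ (g : G) (hg : g ∈ H₀), (zpowers (⟨g, hg⟩ : H₀)).map π = zpowers (π ⟨g, hg⟩) := fun g hg =>
    MonoidHom.map_zpowers _ _
  have hmovex : W' ≤ ⁅W', zpowers (π x')⁆ := by
    rw [← hzpow x hxH, ← map_commutator]
    rintro _ ⟨w, hw, rfl⟩
    have hRX : ⁅R, zpowers x⁆ ≤ R := Coprime.commutator_le_left_of_le_normalizer (zpowers_le.2 hP.x_normR)
    obtain ⟨b, hb', a, ha, e⟩ := (Coprime.mem_sup_iff_of_le_normalizer
      (show R ⊓ S ≤ normalizer ((⁅R, zpowers x⁆ : Subgroup G) : Set G) from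
        inf_le_left.trans (normalizer_commutator_ge_left R (zpowers x)))).1 (by
        rw [sup_comm]; exact hb.commutator_x_image h (show (w : G) ∈ R from hw))
    have ea : ⁅R, zpowers x⁆ = (⁅W, zpowers x'⁆).map H₀.subtype := by
      rw [map_commutator, hWdef, map_subgroupOf_eq_of_le hRH, MonoidHom.map_zpowers]
      rfl
    obtain ⟨a', ha', rfl⟩ := ea ▸ ha
    refine ⟨a', ha', ?_⟩
    have hbH : b ∈ H₀ := hSH hb'.2
    rw [show w = ⟨b, hbH⟩ * a' from Subtype.ext e.symm, map_mul, hkerS ⟨b, hbH⟩ hb'.2, one_mul]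
  have hmovez : W' ≤ ⁅W', zpowers (π z')⁆ := by
    rw [← hzpow z hzH, ← hW'eq, ← map_commutator]
    rintro _ ⟨w, hw, rfl⟩
    have hle : S ⊔ R ≤ (⁅(S ⊔ R).subgroupOf H₀, zpowers z'⁆ ⊔ S').map H₀.subtype := by
      rw [Subgroup.map_sup, map_commutator, map_subgroupOf_eq_of_le hSRH, MonoidHom.map_zpowers,
        map_subgroupOf_eq_of_le hSH]
      exact sup_le le_sup_right hP.move
    obtain ⟨w₁, hw₁, e⟩ := hle (show (w : G) ∈ S ⊔ R from hw)
    rw [show w = w₁ from Subtype.ext e.symm]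
    have := mem_map_of_mem π hw₁
    rwa [Subgroup.map_sup, hS1, sup_bot_eq] at this
  have hlift : ∀ (Y : Subgroup G) (hYR : Y ≤ R), x ∈ normalizer (Y : Set G) → ∀ (g : G) (hg : g ∈ Y),
      π x' * π ⟨g, hRH (hYR hg)⟩ = π ⟨g, hRH (hYR hg)⟩ * π x' →
      ∃ (e : G) (he : e ∈ Y), x * e = e * x ∧ π ⟨e, hRH (hYR he)⟩ = π ⟨g, hRH (hYR hg)⟩ := by
    intro Y hYR hxY g hg hc
    haveI : (π.ker.map H₀.subtype).subgroupOf H₀ |>.Normal := by
      rw [subgroupOf, comap_map_eq_self_of_injective H₀.subtype_injective]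
      infer_instance
    have hkn : H₀ ≤ normalizer ((π.ker.map H₀.subtype : Subgroup G) : Set G) :=
      (normal_subgroupOf_iff_le_normalizer (map_subtype_le _)).1 inferInstance
    obtain ⟨e, he, hxe, hdiff⟩ := exists_fixed_mem (L := π.ker.map H₀.subtype) h.order_x (by
      obtain ⟨n, hn⟩ := (hP.rgroup.to_le hYR).exists_card_eq
      rw [hn]
      exact ((Nat.coprime_primes hP.rprime h.prime).2 hb.r_ne_p).pow_left n) hxY (hkn hxH)
      (hYR.trans (hRH.trans hkn)) hg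
      ⟨⁅x', ⟨g, hRH (hYR hg)⟩⁆, MonoidHom.mem_ker.2 (by
        rw [map_commutatorElement, commutatorElement_eq_one_iff_mul_comm]; exact hc), rfl⟩
    obtain ⟨d, hd, ed⟩ := hdiff
    refine ⟨e, he, hxe, ?_⟩
    rw [show (⟨g, hRH (hYR hg)⟩ : H₀) = ⟨e, hRH (hYR he)⟩ * d from Subtype.ext (by
      show g = e * (d : G)
      rw [show (d : G) = e⁻¹ * g from ed, mul_inv_cancel_left]), map_mul, MonoidHom.mem_ker.1 hd, mul_one]
  have hzfix : ∀ m ∈ M', ⁅x, m⁆ ∈ L → ⁅z, m⁆ ∈ L := fun m hm hxm => by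
    obtain ⟨e, he, hxe, hdiff⟩ := exists_fixed_mem (Y := M') (L := L) h.order_x
      (hb.cop.coprime_dvd_left (card_dvd_of_le hM'M)) hxM' hb.x_normL hsec.norm hm hxm
    have h1 : ⁅z, e⁆ ∈ L := hb.fixz hqp e he hxe
    show ⁅z, m⁆ ∈ L
    rw [show m = e * (e⁻¹ * m) by group, show ⁅z, e * (e⁻¹ * m)⁆ = ⁅z, e⁆ * (e * ⁅z, e⁻¹ * m⁆ * e⁻¹) by group]
    refine mul_mem h1 ((mem_normalizer_iff.1 (hsec.norm he) _).1 ?_)
    exact mul_mem ((mem_normalizer_iff.1 hb.z_normL _).1 hdiff) (inv_mem hdiff)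
  have hD : LData ι p q r (π x') (π z') W' := by
    refine
      { inj := hinj
        irr := fun U hU' => hU.irreducible U fun g => hU' (π g)
        gen := ?_
        comm := ?_
        xp := by rw [← map_pow, hxp, map_one]
        zq := by rw [← map_pow, hzq, map_one]
        pgroup := hWpg.map π
        movex := moves_of_le_commutator hmovex
        movez := moves_of_le_commutator hmovez
        central := ?_
        rK := hrK
        pK := hpK
        rp := hb.r_ne_p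
        fix := Or.inl ⟨fun e => hqp e.symm, hU.fixed_le hxp hpK ?_⟩ }
    · have h1 : (S ⊔ R).subgroupOf H₀ ⊔ closure ({x', z'} : Set H₀) = ⊤ := by
        refine map_injective H₀.subtype_injective ?_
        rw [Subgroup.map_sup, map_subgroupOf_eq_of_le hSRH, MonoidHom.map_closure, ← MonoidHom.range_eq_map,
          range_subtype, Set.image_pair]
        rfl
      have h2 := congrArg (Subgroup.map π) h1
      rw [Subgroup.map_sup, MonoidHom.map_closure, map_top_of_surjective π hπs, Set.image_pair, hW'eq] at h2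
      exact h2
    · rw [← map_mul, ← map_mul]
      exact congrArg π (Subtype.ext h.commute)
    · rintro _ ⟨⟨g, hgH⟩, hg, rfl⟩ hc
      obtain ⟨e, he, hxe, heq⟩ := hlift R le_rfl hP.x_normR g hg hc
      rw [← heq]
      have hez : ⁅e, z⁆ ∈ S := hP.commutator_mem h (mem_sup_right he) hxe (mem_zpowers z)
      have h1 := hkerS ⁅(⟨e, hRH he⟩ : H₀), z'⁆ hez
      rw [map_commutatorElement, commutatorElement_eq_one_iff_mul_comm] at h1
      exact h1.symm
    · exact hfix (inclusion hH₀N x') (inclusion hH₀N z') p (by rw [← map_pow, hxp, map_one])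
        (fun e => hb.s_ne_p ((Nat.prime_dvd_prime_iff_eq hb.sprime h.prime).1 e)) hzfix
  have hE := hD.exceptional hp3 hW'ne (fun e => hqp e.symm)
    (hU.fixed_le hxp hpK fun v hv => hfix (inclusion hH₀N x') (inclusion hH₀N z') p
      (by rw [← map_pow, hxp, map_one])
      (fun e => hb.s_ne_p ((Nat.prime_dvd_prime_iff_eq hb.sprime h.prime).1 e)) hzfix v hv)
  refine ⟨hE.q_two, ?_⟩
  -- an element outside the preimage of the centre
  have hctne : center W' ≠ ⊤ := fun h1 => hW'ne (hD.movex.eq_bot_of_commute fun u hu => by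
    have h2 := congrArg Subtype.val
      (hD.toDData.conjNormal_center (π x') (show (⟨u, hu⟩ : W') ∈ center W' from h1 ▸ mem_top _))
    rw [MulAut.conjNormal_apply] at h2
    exact mul_inv_eq_iff_eq_mul.1 h2)
  let f : R →* W' := (π.comp (inclusion hRH)).codRestrict W' fun b => mem_map_of_mem π (by exact b.2)
  have hfs : Function.Surjective f := by
    rintro ⟨_, ⟨⟨g, hgH⟩, hg, rfl⟩⟩
    exact ⟨⟨g, hg⟩, rfl⟩
  refine exists_fixed_of_image h.order_x (by
    obtain ⟨n, hn⟩ := hP.rgroup.exists_card_eq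
    rw [hn]
    exact ((Nat.coprime_primes hP.rprime h.prime).2 hb.r_ne_p).pow_left n) hP.x_normR (π x') f hfs ?_ hctne
    (fun a b => hD.toDData.commutator_mem_center a b) (fun c hc => hD.toDData.conjNormal_center _ hc)
    (fun w hw => hD.toDData.free_x w hw) hE.top_irr ?_
  · intro g hg hg'
    show π ⟨x * g * x⁻¹, _⟩ = π x' * π ⟨g, hRH hg⟩ * (π x')⁻¹
    rw [← map_inv, ← map_mul, ← map_mul]
    rfl
  · intro Y hYR hxY g hg hc
    obtain ⟨e, he, hxe, heq⟩ := hlift Y hYR hxY g hg hc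
    exact ⟨e, he, hxe, Subtype.ext heq⟩

theorem BadSect.q_eq_two (h : QCtx p q x z) (hqp : q ≠ p) (hb : BadSect p q x z H r s S R M L) :
    q = 2 ∧ r ≠ 2 := by
  have h1 := (hb.eq_two_and_exists_fixed h hqp).1
  exact ⟨h1, h1 ▸ hb.pair.ne_q⟩

/-- Some twisted subgroup of `R` contains a non-trivial element fixed by `x`. -/
theorem BadSect.exists_fixed (h : QCtx p q x z) (hqp : q ≠ p) (hb : BadSect p q x z H r s S R M L) :
    ∃ a ∈ R, a ∈ closure ({x, a * x * a⁻¹} : Set G) ∧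
      ∃ e ∈ R ⊓ closure ({x, a * x * a⁻¹} : Set G), e * x = x * e ∧ e ≠ 1 :=
  (hb.eq_two_and_exists_fixed h hqp).2

set_option maxHeartbeats 1000000 in
/-- The case `q = p` with `O_{p'}(C(x)) = 1`. -/
theorem BadSect.false_of_eq (h : QCtx p q x z) (hqp : q = p)
    (hK : ppOf p (centralizer ({x} : Set G)) = ⊥) (hb : BadSect p q x z H r s S R M L) : False := by
  classical
  haveI := Fact.mk h.prime
  haveI := Fact.mk hb.pair.rprime
  haveI := Fact.mk hb.sprime
  have hP := hb.pair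
  have hp3 : 3 < p := by have := h.five_le; omega
  obtain rfl : z = x := h.z_eq_x hqp
  obtain ⟨-, hS, -⟩ := hb.kind.resolve_left fun e => hb.s_ne_p (e.1.trans hqp)
  have hsol : ∀ g : G, Group.IsSolvable (closure ({z, g} : Set G)) := fun g => h.proper _ (h.pair _ _)
  have hRX : ⁅R, zpowers z⁆ ≤ R := Coprime.commutator_le_left_of_le_normalizer (zpowers_le.2 hP.x_normR)
  have hRmove : R ≤ ⁅R, zpowers z⁆ := by
    refine hP.move.trans ?_
    rw [hS, bot_sup_eq, sup_bot_eq]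
  have hRp : (Nat.card R).Coprime p := by
    obtain ⟨n, hn⟩ := hP.rgroup.exists_card_eq
    rw [hn]
    exact ((Nat.coprime_primes hP.rprime h.prime).2 hb.r_ne_p).pow_left n
  have hRs : ∀ {Y : Subgroup G}, Y ≤ R → (Nat.card Y).Coprime s := fun {Y} hY => by
    obtain ⟨n, hn⟩ := (hP.rgroup.to_le hY).exists_card_eq
    rw [hn]
    exact ((Nat.coprime_primes hP.rprime hb.sprime).2 hb.s_ne_r.symm).pow_left n
  -- some `x, x^v` acts non-trivially
  obtain ⟨v, hv, m₀, hm₀, a₀, ⟨ha₀R, ha₀A⟩, hne₀⟩ : ∃ v ∈ R, ∃ m ∈ M,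
      ∃ a ∈ R ⊓ closure ({z, v * z * v⁻¹} : Set G), ⁅a, m⁆ ∉ L := by
    by_contra hcon
    push Not at hcon
    obtain ⟨dim, ρ, -, hker, -, -⟩ := hb.sect.exists_rep
    have hRN : R ≤ normalizer (M : Set G) ⊓ normalizer (L : Set G) := le_inf hb.R_normM hb.R_normL
    refine hb.nontriv (commutator_le.2 fun m hm g hg => ?_)
    have h1 : R ≤ ρ.ker.map (normalizer (M : Set G) ⊓ normalizer (L : Set G)).subtype := by
      refine hRmove.trans (commutator_le.2 fun v hv w hw => ?_)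
      have hvw : ⁅v, w⁆ ∈ R ⊓ closure ({z, v * z * v⁻¹} : Set G) := by
        refine Subgroup.mem_inf.2 ⟨hRX (commutator_mem_commutator hv hw), ?_⟩
        obtain ⟨i, rfl⟩ := mem_zpowers_iff.1 hw
        rw [commutatorElement_def]
        refine mul_mem ?_ (inv_mem (zpow_mem
          (Subgroup.subset_closure (show z ∈ ({z, v * z * v⁻¹} : Set G) from Or.inl rfl)) i))
        rw [← conj_zpow]
        exact zpow_mem (Subgroup.subset_closure (show v * z * v⁻¹ ∈ ({z, v * z * v⁻¹} : Set G) from Or.inr rfl)) i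
      exact ⟨⟨_, hRN hvw.1⟩, (hker _).2 fun m hm => hcon v hv m hm _ hvw, rfl⟩
    obtain ⟨g', hg', rfl⟩ := h1 hg
    rw [← commutatorElement_inv]
    exact inv_mem ((hker g').1 hg' m hm)
  obtain ⟨v', hv', hv'A, hv'x⟩ := exists_conj_mem h.order_x hRp hP.x_normR hv
  set A := closure ({z, v * z * v⁻¹} : Set G) with hA
  set R₀ := R ⊓ A with hR₀
  have hzA : z ∈ A := Subgroup.subset_closure (Or.inl rfl)
  have hzR₀ : z ∈ normalizer (R₀ : Set G) :=
    inf_normalizer_le_normalizer_inf ⟨hP.x_normR, le_normalizer hzA⟩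
  have hAgen : A = R₀ ⊔ zpowers z := by
    refine le_antisymm (fun g hg => ?_) (sup_le inf_le_right (zpowers_le.2 hzA))
    have hle : A ≤ zpowers z ⊔ R := (closure_le _).2 (by
      rintro g (rfl | rfl)
      · exact mem_sup_left (mem_zpowers _)
      · exact mul_mem (mul_mem (mem_sup_right hv) (mem_sup_left (mem_zpowers _))) (inv_mem (mem_sup_right hv)))
    obtain ⟨a, ha, b, hb', rfl⟩ := (Coprime.mem_sup_iff_of_le_normalizer' (zpowers_le.2 hP.x_normR)).1 (hle hg)
    refine mul_mem (mem_sup_left ⟨ha, ?_⟩) (mem_sup_right hb')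
    simpa using mul_mem hg (inv_mem (zpowers_le.2 hzA hb'))
  have hAR₀ : A ≤ normalizer (R₀ : Set G) := by
    rw [hAgen]; exact sup_le le_normalizer (zpowers_le.2 hzR₀)
  have hkey : ∀ a ∈ R ⊔ M, a ∈ closure ({z, a * z * a⁻¹} : Set G) →
      ∀ P : Subgroup G, P ≤ closure ({z, a * z * a⁻¹} : Set G) → (Nat.card P).Coprime p →
        closure ({z, a * z * a⁻¹} : Set G) ≤ normalizer (P : Set G) → ∀ e ∈ P, z * e = e * z → e = 1 := by
    intro a _ ha P hPle hPp hPn e he hze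
    have h1 := h.inf_centralizer_le ha ⟨le_ppOf hPle hPp hPn he, mem_centralizer_singleton_iff.2 hze.symm⟩
    rwa [hK, mem_bot] at h1
  -- `x` has no fixed points in `R₀`
  have hR₀fix : ∀ e ∈ R₀, z * e = e * z → e = 1 := by
    refine hkey v' (mem_sup_left hv') (by rwa [hv'x]) R₀ ?_ (hRp.coprime_dvd_left (card_dvd_of_le inf_le_left)) ?_
    · rw [hv'x]; exact inf_le_right
    · rw [hv'x]; exact hAR₀
  -- nor on `[M, R₀] L / L`
  set M₀ := ⁅M, R₀⁆ ⊔ L with hM₀
  have hR₀M : R₀ ≤ normalizer (M : Set G) := inf_le_left.trans hb.R_normM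
  have hR₀L : R₀ ≤ normalizer (L : Set G) := inf_le_left.trans hb.R_normL
  have hAL : A ≤ normalizer (L : Set G) := by
    rw [hAgen]; exact sup_le hR₀L (zpowers_le.2 hb.x_normL)
  have hM₀M : M₀ ≤ M := sup_le (Coprime.commutator_le_left_of_le_normalizer hR₀M) hb.sect.le
  have hAM₀ : A ≤ normalizer (M₀ : Set G) := by
    rw [hAgen]
    refine sup_le (fun a ha => mem_normalizer_sup (normalizer_commutator_ge_right M R₀ ha) (hR₀L ha))
      (zpowers_le.2 (mem_normalizer_sup (mem_normalizer_commutator_both hb.x_normM hzR₀) hb.x_normL))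
  have hnofix : ∀ U : Subgroup G, L ≤ U → U ≤ M₀ → A ≤ normalizer (U : Set G) →
      ∀ u ∈ U, ⁅z, u⁆ ∈ L → u ∈ L := by
    intro U
    induction U using WellFoundedLT.induction with
    | ind U ih =>
    intro hLU hUM hAU u hu huf
    rcases eq_or_ne U L with rfl | hne
    · exact hu
    obtain ⟨U₁, ⟨hLU₁, hlt, hAU₁⟩, hmax⟩ := wellFounded_gt.has_min
      {U₁ : Subgroup G | L ≤ U₁ ∧ U₁ < U ∧ A ≤ normalizer (U₁ : Set G)}
      ⟨L, le_rfl, lt_of_le_of_ne hLU hne.symm, hAL⟩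
    have hUU₁ : U ≤ normalizer (U₁ : Set G) := fun a ha => mem_normalizer_of_conj_mem fun b hb' => by
      have h1 := hb.sect.comm a (hM₀M (hUM ha)) b (hM₀M (hUM (hlt.le hb')))
      simpa [commutatorElement_def, mul_assoc] using mul_mem (hLU₁ h1) hb'
    have hsec' : IsESection s U U₁ :=
      ⟨hlt.le, hUU₁, fun a ha b hb' => hLU₁ (hb.sect.comm a (hM₀M (hUM ha)) b (hM₀M (hUM hb'))),
        fun a ha => hLU₁ (hb.sect.exp a (hM₀M (hUM ha)))⟩
    have hR₀U₁ : R₀ ≤ normalizer (U₁ : Set G) := inf_le_right.trans hAU₁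
    -- `R₀` has no fixed points on `U / U₁`
    have hR₀fixU : ∀ b ∈ U, (∀ a ∈ R₀, ⁅a, b⁆ ∈ U₁) → b ∈ U₁ := by
      intro b hb' hfb
      set N := normalizer (L : Set G)
      haveI : (L.subgroupOf N).Normal := normal_subgroupOf_of_le_normalizer le_rfl
      set π := QuotientGroup.mk' (L.subgroupOf N) with hπ
      have hπ1 : ∀ y : N, π y = 1 ↔ (y : G) ∈ L := fun y => (QuotientGroup.eq_one_iff y).trans mem_subgroupOf
      have hUN : U ≤ N := hUM.trans (hM₀M.trans hb.sect.norm)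
      obtain ⟨n, hn, hbn⟩ := Coprime.exists_mul_mem_centralizer (A := (R₀.subgroupOf N).map π)
        (N := (U₁.subgroupOf N).map π) (k := π ⟨b, hUN hb'⟩)
        ((map_mono (show R₀.subgroupOf N ≤ normalizer (U₁.subgroupOf N : Set N) from fun g hg =>
          mem_normalizer_iff.2 fun y => mem_normalizer_iff.1 (hR₀U₁ hg) (y : G))).trans (le_normalizer_map π))
        (by
          have hs' : IsPGroup s ((U₁.subgroupOf N).map π) := by
            rintro ⟨_, y, hy, rfl⟩
            refine ⟨1, Subtype.ext ?_⟩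
            show π y ^ s ^ 1 = 1
            rw [pow_one, ← map_pow, hπ1]
            simpa using hb.sect.exp _ (hM₀M (hUM (hlt.le hy)))
          obtain ⟨j, hj⟩ := hs'.exists_card_eq
          rw [hj]
          exact (((hRs inf_le_left).coprime_dvd_left
            ((card_map_dvd _ _).trans (dvd_of_eq (Coprime.card_subgroupOf hR₀L))))).pow_right j)
        (Or.inl (by
          haveI : Group.IsNilpotent ((R₀.subgroupOf N).map π) :=
            (((hP.rgroup.to_le inf_le_left).of_equiv (subgroupOfEquivOfLe hR₀L).symm).map π).isNilpotent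
          infer_instance))
        (by
          rintro _ ⟨y, hy, rfl⟩
          have h1 : (π ⟨b, hUN hb'⟩)⁻¹ * π y * π ⟨b, hUN hb'⟩ * (π y)⁻¹ =
              π ((⟨b, hUN hb'⟩ : N)⁻¹ * y * ⟨b, hUN hb'⟩ * y⁻¹) := by simp only [map_mul, map_inv]
          rw [h1]
          refine mem_map_of_mem π ?_
          show b⁻¹ * (y : G) * b * (y : G)⁻¹ ∈ U₁
          have h2 := (mem_normalizer_iff''.1 (hUU₁ hb') _).1 (hfb y hy)
          simpa [commutatorElement_def, mul_assoc] using h2)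
      obtain ⟨n', hn', rfl⟩ := hn
      have h2 : b * (n' : G) ∈ L := by
        refine hb.sect.mem_of_fixed hR₀M hR₀L (hRs inf_le_left) (hUM (mul_mem hb' (hlt.le hn'))) fun a ha => ?_
        have h3 := mem_centralizer_iff.1 hbn (π ⟨a, hR₀L ha⟩) (mem_map_of_mem π (by exact ha))
        rw [← commutatorElement_eq_one_iff_mul_comm, ← map_mul, ← map_commutatorElement, hπ1] at h3
        exact h3
      simpa using mul_mem (hLU₁ h2) (inv_mem (show (n' : G) ∈ U₁ from hn'))
    obtain ⟨u₀, hu₀, hcover⟩ := exists_twist_cover (L := U₁) (U := U) (R := R₀) (v := v') hp3 hb.s_ne_p h.order_x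
      hsec' hlt.ne' (hAU hzA) (hAU₁ hzA) (inf_le_right.trans hAU) hR₀U₁ hzR₀ (by rw [hv'x, ← hA, hAgen])
      ⟨hv', hv'A⟩ (hRs inf_le_left) (by rw [← hAgen]; exact hsol _) hR₀fixU
      (fun U' h1 h2 h3 => by
        by_contra hc
        push Not at hc
        exact hmax U' ⟨hLU₁.trans h1, lt_of_le_of_ne h2 hc.2, by rwa [hAgen]⟩
          (lt_of_le_of_ne h1 hc.1.symm))
    have hUp : (Nat.card U).Coprime p := hb.cop.coprime_dvd_left (card_dvd_of_le (hUM.trans hM₀M))
    set P := U ⊔ R₀ with hPdef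
    have hPp : (Nat.card P).Coprime p := by
      have hd : Nat.card P ∣ Nat.card R₀ * Nat.card U := by
        rw [hPdef, sup_comm]; exact AbelianPComplement.card_sup_dvd_mul (inf_le_right.trans hAU)
      exact ((hRp.coprime_dvd_left (card_dvd_of_le inf_le_left)).mul_left hUp).coprime_dvd_left hd
    have hzP : z ∈ normalizer (P : Set G) := mem_normalizer_sup (hAU hzA) hzR₀
    obtain ⟨a, haP, haB, hax⟩ := exists_conj_mem h.order_x hPp hzP
      (g := u₀ * v') (mul_mem (mem_sup_left hu₀) (mem_sup_right ⟨hv', hv'A⟩))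
    set B := closure ({z, u₀ * v' * z * (u₀ * v')⁻¹} : Set G) with hB
    have hBP : B ≤ normalizer (P : Set G) := by
      have hw : u₀ * v' ∈ normalizer (P : Set G) :=
        le_normalizer (mul_mem (mem_sup_left hu₀) (mem_sup_right ⟨hv', hv'A⟩))
      rw [hB, closure_le]
      rintro g (rfl | rfl)
      · exact hzP
      · exact mul_mem (mul_mem hw hzP) (inv_mem hw)
    have hPM : P ≤ R ⊔ M := sup_le ((hUM.trans hM₀M).trans le_sup_right) (inf_le_left.trans le_sup_left)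
    -- a fixed element of `U` lies in `U₁`
    refine ih U₁ hlt hLU₁ (hlt.le.trans hUM) hAU₁ u ?_ huf
    obtain ⟨c, hc, hzc, hcu⟩ := exists_fixed_mem h.order_x hUp (hAU hzA) (hAL hzA)
      (hUM.trans (hM₀M.trans hb.sect.norm)) hu huf
    suffices hcU₁ : c ∈ U₁ by simpa using mul_mem hcU₁ (hLU₁ hcu)
    obtain ⟨b, hbB, w, hw, hbw⟩ := (Coprime.mem_sup_iff_of_le_normalizer (show B ≤ normalizer (U₁ : Set G) by
      rw [hB, closure_le]
      have hvU₁ : u₀ * v' ∈ normalizer (U₁ : Set G) := mul_mem (hUU₁ hu₀) (hAU₁ hv'A)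
      rintro g (rfl | rfl)
      · exact hAU₁ hzA
      · exact mul_mem (mul_mem hvU₁ (hAU₁ hzA)) (inv_mem hvU₁))).1
      (hcover (mem_sup_left (mem_sup_left hc)))
    have hbU : b ∈ U := by
      rw [show b = c * w⁻¹ by rw [← hbw, mul_inv_cancel_right]]
      exact mul_mem hc (inv_mem (hlt.le hw))
    obtain ⟨e, ⟨heB, heU⟩, hze, hed⟩ := exists_fixed_mem (Y := B ⊓ U) (L := U₁) h.order_x
      (hUp.coprime_dvd_left (card_dvd_of_le inf_le_right))
      (inf_normalizer_le_normalizer_inf ⟨le_normalizer (Subgroup.subset_closure (Or.inl rfl)), hAU hzA⟩) (hAU₁ hzA)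
      (inf_le_right.trans hUU₁) (m := b) ⟨hbB, hbU⟩ (by
        rw [show b = c * w⁻¹ by rw [← hbw, mul_inv_cancel_right],
          show ⁅z, c * w⁻¹⁆ = ⁅z, c⁆ * (c * ⁅z, w⁻¹⁆ * c⁻¹) by group,
          commutatorElement_eq_one_iff_mul_comm.2 hzc, one_mul]
        exact (mem_normalizer_iff.1 (hUU₁ hc) _).1
          (mul_mem ((mem_normalizer_iff.1 (hAU₁ hzA) _).1 (inv_mem hw)) (inv_mem (inv_mem hw))))
    have he1 : e = 1 := by
      refine hkey a (hPM haP) (by rw [hax]; exact haB) (B ⊓ P) (by rw [hax]; exact inf_le_left)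
        (hPp.coprime_dvd_left (card_dvd_of_le inf_le_right)) ?_ e ⟨heB, mem_sup_left heU⟩ hze
      rw [hax]
      exact fun g hg => inf_normalizer_le_normalizer_inf ⟨le_normalizer hg, hBP hg⟩
    rw [← hbw]
    refine mul_mem ?_ hw
    simpa [he1] using hed
  -- the centre of the image of `R₀` would be fixed by `x`
  have hsec₀ : IsESection s M₀ L :=
    ⟨le_sup_right, hM₀M.trans hb.sect.norm, fun a ha b hb' => hb.sect.comm a (hM₀M ha) b (hM₀M hb'),
      fun a ha => hb.sect.exp a (hM₀M ha)⟩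
  obtain ⟨dim, ρ, -, hker, hfree, -⟩ := hsec₀.exists_rep
  have hR₀A : R₀ ≤ A := inf_le_right
  set W := R₀.subgroupOf A
  have hWpg : IsPGroup r W := (hP.rgroup.to_le inf_le_left).of_equiv (subgroupOfEquivOfLe hR₀A).symm
  haveI : W.Normal := normal_subgroupOf_of_le_normalizer hAR₀
  haveI : CharP (AlgebraicClosure (ZMod s)) s :=
    charP_of_injective_algebraMap (algebraMap (ZMod s) (AlgebraicClosure (ZMod s))).injective s
  have hKc : ∀ {l : ℕ}, l.Prime → l ≠ s → (l : AlgebraicClosure (ZMod s)) ≠ 0 := fun hl hls e => by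
    rw [CharP.cast_eq_zero_iff (AlgebraicClosure (ZMod s)) s] at e
    exact hls ((Nat.prime_dvd_prime_iff_eq Fact.out hl).1 e).symm
  have hpK : (p : AlgebraicClosure (ZMod s)) ≠ 0 := hKc h.prime hb.s_ne_p.symm
  have hrK : (r : AlgebraicClosure (ZMod s)) ≠ 0 := hKc hP.rprime hb.s_ne_r.symm
  obtain ⟨b₀, hb₀, m₁, hm₁, hne₁⟩ : ∃ b ∈ R₀, ∃ m ∈ M₀, ⁅b, m⁆ ∉ L := by
    by_contra hcon
    push Not at hcon
    refine hne₀ ?_
    rw [← commutatorElement_inv]
    exact inv_mem (hb.sect.mem_of_fixed hR₀M hR₀L (hRs inf_le_left)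
      (mem_sup_left (commutator_mem_commutator hm₀ (show a₀ ∈ R₀ from ⟨ha₀R, ha₀A⟩)))
      fun b hb' => hcon b hb' _ (mem_sup_left (commutator_mem_commutator hm₀ ⟨ha₀R, ha₀A⟩)))
  set σ := ρ.comp (inclusion (le_inf hAM₀ hAL))
  obtain ⟨U₁, U₂, hU, w', hw', hne'⟩ := exists_factor_nontrivial (ρ := σ) W (by
    obtain ⟨e, he⟩ := hWpg.exists_card_eq
    rw [he, Nat.cast_pow]
    exact pow_ne_zero _ hrK) (w := ⟨b₀, hR₀A hb₀⟩) hb₀
    (fun e => hne₁ ((hker ⟨b₀, le_inf hAM₀ hAL (hR₀A hb₀)⟩).1 e m₁ hm₁))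
  haveI := hU.nontrivial
  set τ := hU.rep
  let Γ' := τ.toHomUnits.range
  let π : A →* Γ' := τ.toHomUnits.rangeRestrict
  let ι : Γ' →* Module.End (AlgebraicClosure (ZMod s)) (↥U₂ ⧸ U₁.comap U₂.subtype) :=
    (Units.coeHom _).comp Γ'.subtype
  have hπs : Function.Surjective π := τ.toHomUnits.rangeRestrict_surjective
  haveI : Finite Γ' := Finite.of_surjective π hπs
  have hιπ : ∀ g, ι (π g) = τ g := fun g => rfl
  have hinj : Function.Injective ι := fun a b e => Subtype.ext (Units.ext e)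
  set W' := W.map π
  haveI : W'.Normal := Subgroup.Normal.map inferInstance π hπs
  have hW'ne : W' ≠ ⊥ := fun e => hne' (by
    have h1 : π w' ∈ (⊥ : Subgroup Γ') := e ▸ mem_map_of_mem π hw'
    rw [← hιπ, mem_bot.1 h1, map_one])
  set z' : A := ⟨z, hzA⟩
  have hzp : z' ^ p = 1 := Subtype.ext (h.order_x ▸ pow_orderOf_eq_one z)
  have hcopz : (Nat.card (zpowers z)).Coprime (Nat.card R₀) := by
    rw [Nat.card_zpowers, h.order_x]
    exact (hRp.coprime_dvd_left (card_dvd_of_le inf_le_left)).symm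
  have hR₀eq : ⁅R₀, zpowers z⁆ = R₀ := by
    have h1 := Coprime.commutator_sup_centralizer (zpowers_le.2 hzR₀) hcopz
      (Or.inl (Group.isSolvable_of_comm fun u v => mul_comm' u v))
    have h2 : R₀ ⊓ centralizer (zpowers z : Set G) = ⊥ := (Subgroup.eq_bot_iff_forall _).2 fun e he =>
      hR₀fix e he.1 (mem_centralizer_iff.1 he.2 z (mem_zpowers z))
    rwa [h2, sup_bot_eq] at h1
  have hmove : Moves (π z') W' := by
    refine moves_of_le_commutator (le_of_eq ?_)
    have e1 : ⁅W, zpowers z'⁆ = W := by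
      refine map_injective A.subtype_injective ?_
      rw [map_commutator, map_subgroupOf_eq_of_le hR₀A, MonoidHom.map_zpowers]
      exact hR₀eq
    rw [show zpowers (π z') = (zpowers z').map π from (MonoidHom.map_zpowers _ _).symm, ← map_commutator, e1]
  have hzfree : ∀ v, ι (π z') v = v → v = 0 := hU.no_fixed hzp hpK
    (hfree (inclusion (le_inf hAM₀ hAL) z') fun m hm hzm => hnofix M₀ le_sup_right le_rfl hAM₀ m hm hzm)
  have hD : LData ι p p r (π z') (π z') W' := by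
    refine
      { inj := hinj
        irr := fun U hU' => hU.irreducible U fun g => hU' (π g)
        gen := ?_
        comm := rfl
        xp := by rw [← map_pow, hzp, map_one]
        zq := by rw [← map_pow, hzp, map_one]
        pgroup := hWpg.map π
        movex := hmove
        movez := hmove
        central := fun w _ h => h
        rK := hrK
        pK := hpK
        rp := hb.r_ne_p
        fix := Or.inr ⟨rfl, hzfree⟩ }
    have h1 : W ⊔ closure ({z', z'} : Set A) = ⊤ := by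
      refine map_injective A.subtype_injective ?_
      rw [Subgroup.map_sup, map_subgroupOf_eq_of_le hR₀A, MonoidHom.map_closure, ← MonoidHom.range_eq_map,
        range_subtype, Set.image_pair, Set.pair_eq_singleton, ← zpowers_eq_closure]
      exact hAgen.symm
    have h2 := congrArg (Subgroup.map π) h1
    rw [Subgroup.map_sup, MonoidHom.map_closure, map_top_of_surjective π hπs, Set.image_pair] at h2
    exact h2
  haveI : Nontrivial W' := (Subgroup.nontrivial_iff_ne_bot W').2 hW'ne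
  haveI := (hWpg.map π).center_nontrivial
  obtain ⟨⟨c, hc⟩, hc1⟩ := exists_ne (1 : center W')
  obtain ⟨⟨g, hgA⟩, hg, hgc⟩ := c.2
  have hfixc : π z' * π ⟨g, hgA⟩ = π ⟨g, hgA⟩ * π z' := by
    have h1 := congrArg Subtype.val (hD.toDData.conjNormal_center (π z') hc)
    rw [MulAut.conjNormal_apply, ← hgc] at h1
    exact mul_inv_eq_iff_eq_mul.1 h1
  haveI : ((π.ker.map A.subtype).subgroupOf A).Normal := by
    rw [subgroupOf, comap_map_eq_self_of_injective A.subtype_injective]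
    infer_instance
  have hkn : A ≤ normalizer ((π.ker.map A.subtype : Subgroup G) : Set G) :=
    (normal_subgroupOf_iff_le_normalizer (map_subtype_le _)).1 inferInstance
  obtain ⟨e, he, hze, hdiff⟩ := exists_fixed_mem (Y := R₀) (L := π.ker.map A.subtype) h.order_x
    (hRp.coprime_dvd_left (card_dvd_of_le inf_le_left)) hzR₀ (hkn hzA) (hR₀A.trans hkn)
    (show g ∈ R₀ from hg) ⟨⁅z', ⟨g, hgA⟩⁆, MonoidHom.mem_ker.2 (by
      rw [map_commutatorElement, commutatorElement_eq_one_iff_mul_comm]; exact hfixc), rfl⟩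
  obtain ⟨d, hd, ed⟩ := hdiff
  refine hc1 (Subtype.ext (Subtype.ext ?_))
  rw [hR₀fix e he hze] at ed
  show (c : Γ') = 1
  rw [← hgc, show (⟨g, hgA⟩ : A) = d from Subtype.ext (by
    show g = (d : G)
    simpa using ed.symm), MonoidHom.mem_ker.1 hd]

end Cfsg.Agent.TwoGenSolvable
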