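import Mathlib
import Cfsg.Agent.Lib.TwoGenSolvable.LMain
import Cfsg.Agent.Lib.TwoGenSolvable.SectionRep
import Cfsg.Agent.Lib.TwoGenSolvable.Factor
import Cfsg.Agent.Lib.Coprime.Commutator
import Cfsg.Agent.Lib.Components.Subnormal

/-!
# An element of order `p` without fixed points
-/

set_option autoImplicit false
set_option linter.style.haveILetI false

namespace Cfsg.Agent.TwoGenSolvable

open Subgroup
open scoped commutatorElement

universe u

variable {G : Type u} [Group G] [Finite G] {p : ℕ} {x : G}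

theorem moves_of_commutator_eq {F : Subgroup G} (hxF : x ∈ normalizer (F : Set G))
    (h : ⁅F, zpowers x⁆ = F) : Moves x F := by
  unfold Moves
  set K := closure ((fun w => ⁅x, w⁆) '' (F : Set G)) with hK
  have hgen : ∀ w ∈ F, ⁅x, w⁆ ∈ K := fun w hw => subset_closure ⟨w, hw, rfl⟩
  have hx : ∀ k ∈ K, x * k * x⁻¹ ∈ K := by
    have : K ≤ K.comap (MulAut.conj x).toMonoidHom := by
      rw [hK, closure_le]
      rintro _ ⟨w, hw, rfl⟩
      show x * ⁅x, w⁆ * x⁻¹ ∈ K
      rw [show x * ⁅x, w⁆ * x⁻¹ = ⁅x, x * w * x⁻¹⁆ by simp [commutatorElement_def, mul_assoc]]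
      exact hgen _ ((mem_normalizer_iff.1 hxF w).1 hw)
    exact fun k hk => this hk
  conv_lhs => rw [← h]
  rw [commutator_le]
  intro f hf y hy
  obtain ⟨n, rfl⟩ := (isOfFinOrder_of_finite x).mem_powers_iff_mem_zpowers.mpr hy
  show ⁅f, x ^ n⁆ ∈ K
  induction n with
  | zero => simp
  | succ n ih =>
    rw [pow_succ', show ⁅f, x * x ^ n⁆ = ⁅x, f⁆⁻¹ * (x * ⁅f, x ^ n⁆ * x⁻¹) by
      simp [commutatorElement_def, mul_assoc]]
    exact mul_mem (inv_mem (hgen f hf)) (hx _ (ih (pow_mem (mem_zpowers x) n)))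

omit [Finite G] in
theorem Moves.map {F : Subgroup G} (h : Moves x F) {G' : Type*} [Group G'] (f : G →* G') :
    Moves (f x) (F.map f) := by
  refine (map_mono h).trans ?_
  rw [MonoidHom.map_closure]
  refine closure_mono ?_
  rintro _ ⟨_, ⟨w, hw, rfl⟩, rfl⟩
  exact ⟨f w, mem_map_of_mem f hw, (map_commutatorElement f x w).symm⟩

omit [Finite G] in
theorem Moves.subgroupOf {F H : Subgroup G} (h : Moves x F) (hF : F ≤ H) (hx : x ∈ H) :
    Moves (⟨x, hx⟩ : H) (F.subgroupOf H) := by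
  unfold Moves
  rw [← map_le_map_iff_of_injective H.subtype_injective, map_subgroupOf_eq_of_le hF, MonoidHom.map_closure]
  refine h.trans (closure_mono ?_)
  rintro _ ⟨w, hw, rfl⟩
  exact ⟨⁅(⟨x, hx⟩ : H), ⟨w, hF hw⟩⁆, ⟨⟨w, hF hw⟩, hw, rfl⟩, map_commutatorElement H.subtype _ _⟩

/-- `B / Φ(B)` as an elementary abelian section. -/
theorem isESection_frattini {s : ℕ} [Fact s.Prime] {B : Subgroup G} (hB : IsPGroup s B) :
    IsESection s B ((frattini B).map B.subtype) where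
  le := map_subtype_le _
  norm := le_normalizer.trans (Components.normalizer_le_normalizer_map_of_characteristic B _)
  comm a ha b hb :=
    ⟨⁅(⟨a, ha⟩ : B), ⟨b, hb⟩⁆,
      PGroup.commutator_le_frattini hB (commutator_mem_commutator (mem_top _) (mem_top _)), rfl⟩
  exp a ha := ⟨(⟨a, ha⟩ : B) ^ s, PGroup.pow_mem_frattini hB _, rfl⟩

theorem frattini_map_lt {B : Subgroup G} (hB : B ≠ ⊥) : (frattini B).map B.subtype < B := by
  refine lt_of_le_of_ne (map_subtype_le _) fun e => hB ?_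
  have h1 : frattini B = ⊤ := map_injective B.subtype_injective (e.trans (by
    rw [← MonoidHom.range_eq_map, range_subtype]))
  have h2 : (⊥ : Subgroup B) = ⊤ := frattini_nongenerating (by rw [h1, sup_top_eq])
  rw [eq_bot_iff]
  intro b hb
  have h3 : (⟨b, hb⟩ : B) ∈ (⊥ : Subgroup B) := h2 ▸ mem_top _
  exact mem_bot.2 (congrArg Subtype.val (mem_bot.1 h3) :)

/-- A coprime group `A` with `[B, A] = B` fixes nothing in `B / Φ(B)`. -/
theorem mem_frattini_of_fixed {s : ℕ} [Fact s.Prime] {A B : Subgroup G} (hB : IsPGroup s B)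
    (hAB : A ≤ normalizer (B : Set G)) (hcop : (Nat.card A).Coprime (Nat.card B)) (hBA : ⁅B, A⁆ = B)
    {a : G} (ha : a ∈ B) (hfix : ∀ y ∈ A, ⁅y, a⁆ ∈ (frattini B).map B.subtype) :
    a ∈ (frattini B).map B.subtype := by
  set Φ := (frattini B).map B.subtype with hΦ
  have hsec := isESection_frattini hB
  set N := normalizer (Φ : Set G)
  have hBN : B ≤ N := hsec.norm
  have hAN : A ≤ N := hAB.trans (Components.normalizer_le_normalizer_map_of_characteristic B _)
  haveI : (Φ.subgroupOf N).Normal := normal_subgroupOf_of_le_normalizer le_rfl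
  set π : N →* N ⧸ Φ.subgroupOf N := QuotientGroup.mk' _ with hπ
  have hπ1 : ∀ g : N, π g = 1 ↔ (g : G) ∈ Φ := fun g => QuotientGroup.eq_one_iff g
  set B' := (B.subgroupOf N).map π
  set A' := (A.subgroupOf N).map π
  haveI : IsMulCommutative B' := by
    refine ⟨⟨fun u v => Subtype.ext ?_⟩⟩
    obtain ⟨_, ⟨u, hu, rfl⟩⟩ := u
    obtain ⟨_, ⟨v, hv, rfl⟩⟩ := v
    show π u * π v = π v * π u
    rw [← commutatorElement_eq_one_iff_mul_comm, ← map_commutatorElement, hπ1]
    exact hsec.comm _ hu _ hv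
  have hA'B' : A' ≤ normalizer (B' : Set (N ⧸ Φ.subgroupOf N)) :=
    (map_mono (show A.subgroupOf N ≤ normalizer (B.subgroupOf N : Set N) from fun g hg =>
      mem_normalizer_iff.2 fun b => mem_normalizer_iff.1 (hAB hg) (b : G))).trans (le_normalizer_map π)
  have hcop' : (Nat.card A').Coprime (Nat.card B') :=
    (hcop.coprime_dvd_left ((card_map_dvd _ π).trans (Coprime.card_subgroupOf hAN ▸ dvd_rfl))).coprime_dvd_right
      ((card_map_dvd _ π).trans (Coprime.card_subgroupOf hBN ▸ dvd_rfl))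
  have hcomm : ⁅B', A'⁆ = B' := by
    rw [← map_commutator]
    refine congrArg (Subgroup.map π) (map_injective N.subtype_injective ?_)
    rw [map_commutator, map_subgroupOf_eq_of_le hBN, map_subgroupOf_eq_of_le hAN, hBA]
  have hmem : π ⟨a, hBN ha⟩ ∈ (B' ⊓ centralizer (A' : Set (N ⧸ Φ.subgroupOf N))) ⊓ ⁅B', A'⁆ := by
    have h1 : π ⟨a, hBN ha⟩ ∈ B' := mem_map_of_mem π (by exact ha)
    refine ⟨⟨h1, mem_centralizer_iff.2 ?_⟩, by rw [hcomm]; exact h1⟩
    rintro _ ⟨y, hy, rfl⟩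
    rw [← commutatorElement_eq_one_iff_mul_comm, ← map_commutatorElement, hπ1]
    exact hfix _ hy
  rw [Coprime.inf_centralizer_inf_commutator_eq_bot hA'B' hcop', mem_bot, hπ1] at hmem
  exact hmem

omit [Finite G] in
theorem commutator_pow_mem {L : Subgroup G} {a : G} (hxL : x ∈ normalizer (L : Set G)) (ha : ⁅x, a⁆ ∈ L)
    (n : ℕ) : ⁅x ^ n, a⁆ ∈ L := by
  induction n with
  | zero => simp
  | succ n ih =>
    rw [pow_succ', show ⁅x * x ^ n, a⁆ = x * ⁅x ^ n, a⁆ * x⁻¹ * ⁅x, a⁆ by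
      simp [commutatorElement_def, mul_assoc]]
    exact mul_mem ((mem_normalizer_iff.1 hxL _).1 ih) ha

/-- The cases of `centralizes_of_no_fixed` at once: `w = x`, or `w` has another prime order. -/
theorem centralizes_of_no_fixed_aux {s t q : ℕ} [Fact p.Prime] [Fact s.Prime] [Fact t.Prime] [Fact q.Prime]
    (hp3 : 3 < p) (hst : s ≠ t) (htp : t ≠ p) (hsp : s ≠ p) (hx : orderOf x = p) {F B : Subgroup G}
    (hF : IsPGroup t F) (hB : IsPGroup s B) (hxF : x ∈ normalizer (F : Set G))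
    (hxB : x ∈ normalizer (B : Set G)) (hFB : F ≤ normalizer (B : Set G)) (hFx : ⁅F, zpowers x⁆ = F)
    (hBx : ⁅B, zpowers x⁆ = B) {w : G} (hwq : w ^ q = 1) (hxw : x * w = w * x)
    (hwF : w ∈ normalizer (F : Set G)) (hwB : w ∈ normalizer (B : Set G)) (hFw : ⁅F, zpowers w⁆ = F)
    (hwx : ∀ f ∈ F, x * f = f * x → w * f = f * w) (hpq : p = q → w = x)
    (hcase : p = q → t ≠ 2 ∨ ∀ a ∈ F, ∀ b ∈ F, a * b = b * a) :
    ∀ f ∈ F, ∀ b ∈ B, f * b = b * f := by
  classical
  have hp := (Fact.out : p.Prime)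
  set Φ := (frattini B).map B.subtype with hΦ
  have hsec := isESection_frattini hB
  have hcopst : (Nat.card F).Coprime (Nat.card B) := IsPGroup.coprime_card_of_ne t s hst.symm F B hF hB
  have hcopx : (Nat.card (zpowers x)).Coprime (Nat.card B) := by
    obtain ⟨e, he⟩ := hB.exists_card_eq
    rw [Nat.card_zpowers, hx, he]
    exact ((Nat.coprime_primes hp Fact.out).2 hsp.symm).pow_right e
  suffices htriv : ∀ f ∈ F, ∀ b ∈ B, ⁅f, b⁆ ∈ Φ by
    intro f hf b hb
    have := Coprime.le_centralizer_of_frattini (A := F) (K := B) hFB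
      (hcopst.coprime_dvd_right (card_subgroup_dvd_card (frattini B))) htriv hf
    exact (mem_centralizer_iff.1 this b hb).symm
  intro f₀ hf₀ b₀ hb₀
  by_contra hne
  set N := normalizer (B : Set G) ⊓ normalizer (Φ : Set G)
  have hNB : normalizer (B : Set G) ≤ N := le_inf le_rfl (Components.normalizer_le_normalizer_map_of_characteristic B _)
  set H := F ⊔ closure ({x, w} : Set G)
  have hFH : F ≤ H := le_sup_left
  have hxH : x ∈ H := mem_sup_right (subset_closure (Or.inl rfl))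
  have hwH : w ∈ H := mem_sup_right (subset_closure (Or.inr rfl))
  have hHN : H ≤ N := (sup_le hFB ((closure_le _).2 (by
    rintro g (rfl | rfl) <;> assumption))).trans hNB
  have hHF : H ≤ normalizer (F : Set G) := sup_le le_normalizer ((closure_le _).2 (by
    rintro g (rfl | rfl) <;> assumption))
  set W := F.subgroupOf H
  haveI : W.Normal := normal_subgroupOf_of_le_normalizer hHF
  obtain ⟨m, ρ, -, hker, hfree, -⟩ := hsec.exists_rep
  set σ := ρ.comp (inclusion hHN)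
  have hσx : ∀ v, σ ⟨x, hxH⟩ v = v → v = 0 := hfree ⟨x, hHN hxH⟩ fun a ha hxa => by
    refine mem_frattini_of_fixed hB (zpowers_le.2 hxB) hcopx hBx ha fun y hy => ?_
    obtain ⟨n, rfl⟩ := (isOfFinOrder_of_finite x).mem_powers_iff_mem_zpowers.mpr hy
    exact commutator_pow_mem (hNB hxB).2 hxa n
  haveI : CharP (AlgebraicClosure (ZMod s)) s :=
    charP_of_injective_algebraMap (algebraMap (ZMod s) (AlgebraicClosure (ZMod s))).injective s
  have hK : ∀ {l : ℕ}, l.Prime → l ≠ s → (l : AlgebraicClosure (ZMod s)) ≠ 0 := fun hl hls e => by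
    rw [CharP.cast_eq_zero_iff (AlgebraicClosure (ZMod s)) s] at e
    exact hls ((Nat.prime_dvd_prime_iff_eq Fact.out hl).1 e).symm
  have hpK : (p : AlgebraicClosure (ZMod s)) ≠ 0 := hK hp hsp.symm
  have htK : (t : AlgebraicClosure (ZMod s)) ≠ 0 := hK Fact.out hst.symm
  have hWpg : IsPGroup t W := hF.of_equiv (subgroupOfEquivOfLe hFH).symm
  obtain ⟨U₁, U₂, hU, w', hw', hne'⟩ := exists_factor_nontrivial (ρ := σ) W (by
    obtain ⟨e, he⟩ := hWpg.exists_card_eq
    rw [he, Nat.cast_pow]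
    exact pow_ne_zero _ htK) (w := ⟨f₀, hFH hf₀⟩) (show (⟨f₀, hFH hf₀⟩ : H) ∈ W from hf₀)
    (fun e => hne ((hker ⟨f₀, hHN (hFH hf₀)⟩).1 e b₀ hb₀))
  haveI := hU.nontrivial
  -- pass to the image of `H` on the factor
  set τ := hU.rep
  let Γ := τ.toHomUnits.range
  let π : H →* Γ := τ.toHomUnits.rangeRestrict
  let ι : Γ →* Module.End (AlgebraicClosure (ZMod s)) (↥U₂ ⧸ U₁.comap U₂.subtype) :=
    (Units.coeHom _).comp Γ.subtype
  have hπs : Function.Surjective π := τ.toHomUnits.rangeRestrict_surjective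
  haveI : Finite Γ := Finite.of_surjective π hπs
  have hιπ : ∀ g, ι (π g) = τ g := fun g => rfl
  have hinj : Function.Injective ι := fun a b e => Subtype.ext (Units.ext e)
  set W' := W.map π
  haveI : W'.Normal := Subgroup.Normal.map inferInstance π hπs
  have hW' : W' ≠ ⊥ := fun e => hne' (by
    have h1 : π w' ∈ (⊥ : Subgroup Γ) := e ▸ mem_map_of_mem π hw'
    rw [← hιπ, mem_bot.1 h1, map_one])
  have hxp : x ^ p = 1 := hx ▸ pow_orderOf_eq_one x
  have hxpH : (⟨x, hxH⟩ : H) ^ p = 1 := Subtype.ext hxp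
  have hnf : ∀ v, ι (π ⟨x, hxH⟩) v = v → v = 0 := hU.no_fixed hxpH hpK hσx
  have hmove : ∀ {g : G} (hgH : g ∈ H), g ∈ normalizer (F : Set G) → ⁅F, zpowers g⁆ = F →
      Moves (π ⟨g, hgH⟩) W' := fun hgH hgn hg =>
    ((moves_of_commutator_eq hgn hg).subgroupOf hFH hgH).map π
  have hD : LData ι p q t (π ⟨x, hxH⟩) (π ⟨w, hwH⟩) W' := by
    refine
      { inj := hinj
        irr := fun U hU' => hU.irreducible U fun g => hU' (π g)
        gen := ?_
        comm := ?_
        xp := by rw [← map_pow, hxpH, map_one]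
        zq := by rw [← map_pow, show (⟨w, hwH⟩ : H) ^ q = 1 from Subtype.ext hwq, map_one]
        pgroup := hWpg.map π
        movex := hmove hxH hxF hFx
        movez := hmove hwH hwF hFw
        central := ?_
        rK := htK
        pK := hpK
        rp := htp
        fix := ?_ }
    · have h1 : W ⊔ closure ({⟨x, hxH⟩, ⟨w, hwH⟩} : Set H) = ⊤ := by
        refine map_injective H.subtype_injective ?_
        rw [Subgroup.map_sup, map_subgroupOf_eq_of_le hFH, MonoidHom.map_closure, ← MonoidHom.range_eq_map,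
          range_subtype, Set.image_pair]
        rfl
      have h2 := congrArg (Subgroup.map π) h1
      rw [Subgroup.map_sup, MonoidHom.map_closure, map_top_of_surjective π hπs, Set.image_pair] at h2
      exact h2
    · rw [← map_mul, ← map_mul]
      exact congrArg π (Subtype.ext hxw)
    · rintro _ ⟨f, hf, rfl⟩ hc
      obtain ⟨n, hn, hfn⟩ := Coprime.exists_mul_mem_centralizer (A := zpowers (⟨x, hxH⟩ : H))
        (N := W ⊓ π.ker) (k := f) (fun a _ => by rw [normalizer_eq_top]; exact mem_top a)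
        (by
          obtain ⟨e, he⟩ := (hWpg.to_le (inf_le_left : W ⊓ π.ker ≤ W)).exists_card_eq
          rw [Nat.card_zpowers, orderOf_mk, hx, he]
          exact ((Nat.coprime_primes hp Fact.out).2 htp.symm).pow_right e)
        (Or.inl (Group.isSolvable_of_comm fun a b => mul_comm' a b))
        (fun a ha => by
          refine ⟨?_, ?_⟩
          · have h1 := (inferInstance : W.Normal).conj_mem f hf a
            have h2 := mul_mem (inv_mem hf) h1
            simpa [mul_assoc] using h2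
          · have hca : Commute (π a) (π f) := by
              obtain ⟨i, rfl⟩ := mem_zpowers_iff.1 ha
              rw [map_zpow]
              exact (show Commute (π ⟨x, hxH⟩) (π f) from hc).zpow_left i
            refine MonoidHom.mem_ker.2 ?_
            rw [map_mul, map_mul, map_mul, map_inv, map_inv, mul_assoc (π f)⁻¹,
              hca.eq]
            group)
      have hfn' : f * n ∈ W := mul_mem hf hn.1
      have hxfn : x * ((f * n : H) : G) = ((f * n : H) : G) * x :=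
        congrArg Subtype.val (mem_centralizer_iff.1 hfn ⟨x, hxH⟩ (mem_zpowers _))
      have e : π (f * n) = π f := by rw [map_mul, MonoidHom.mem_ker.1 hn.2, mul_one]
      rw [← e, ← map_mul, ← map_mul]
      exact congrArg π (Subtype.ext (hwx _ hfn' hxfn))
    · by_cases hpq' : p = q
      · exact Or.inr ⟨congrArg π (Subtype.ext (hpq hpq')), hnf⟩
      · exact Or.inl ⟨hpq', fun v hv => by rw [hnf v hv, map_zero]⟩
  by_cases hpq' : p = q
  · rcases hcase hpq' with ht2 | hFab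
    · exact ht2 (hD.of_no_fixed hp3 hW' hnf).1
    · haveI : IsMulCommutative W' := by
        refine ⟨⟨fun a b => Subtype.ext ?_⟩⟩
        obtain ⟨_, ⟨a, ha, rfl⟩⟩ := a
        obtain ⟨_, ⟨b, hb, rfl⟩⟩ := b
        show π a * π b = π b * π a
        rw [← map_mul, ← map_mul]
        exact congrArg π (Subtype.ext (hFab _ ha _ hb))
      refine hW' (hD.movex.eq_bot_of_commute fun a ha => ?_)
      obtain ⟨c, hc⟩ := hD.toDData.exists_scalar_of_abelian W' le_rfl ha
      exact mem_center_iff.1 (hD.mem_center_of_scalar hc) _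
  · have h1 := (hD.exceptional hp3 hW' hpq' fun v hv => by rw [hnf v hv, map_zero]).line
    rw [(Submodule.eq_bot_iff _).2 fun v hv => hnf v (mem_ker_sub_one.1 hv), finrank_bot] at h1
    omega

/-- `x` moves all of the `t`-group `F` and all of the `s`-group `B` normalised by `F`: then `F` centralises `B`
if `t` is odd, or `F` is abelian, or a second commuting element of prime order moves all of `F`. -/
theorem centralizes_of_no_fixed {s t : ℕ} (hp : p.Prime) (hp3 : 3 < p) (hs : s.Prime) (ht : t.Prime)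
    (hst : s ≠ t) (htp : t ≠ p) (hsp : s ≠ p) (hx : orderOf x = p) {F B : Subgroup G} (hF : IsPGroup t F)
    (hB : IsPGroup s B) (hxF : x ∈ normalizer (F : Set G)) (hxB : x ∈ normalizer (B : Set G))
    (hFB : F ≤ normalizer (B : Set G)) (hFx : ⁅F, zpowers x⁆ = F) (hBx : ⁅B, zpowers x⁆ = B)
    (hcase : t ≠ 2 ∨ (∀ a ∈ F, ∀ b ∈ F, a * b = b * a) ∨
      ∃ w : G, (orderOf w).Prime ∧ orderOf w ≠ p ∧ orderOf w ≠ t ∧ x * w = w * x ∧ w ∈ normalizer (F : Set G) ∧
        w ∈ normalizer (B : Set G) ∧ ⁅F, zpowers w⁆ = F ∧ ∀ f ∈ F, x * f = f * x → w * f = f * w) :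
    ∀ f ∈ F, ∀ b ∈ B, f * b = b * f := by
  haveI := Fact.mk hp
  haveI := Fact.mk hs
  haveI := Fact.mk ht
  have hxp : x ^ p = 1 := hx ▸ pow_orderOf_eq_one x
  rcases or_assoc.2 hcase with h | ⟨w, hwp, hwne, -, hxw, hwF, hwB, hFw, hwx⟩
  · exact centralizes_of_no_fixed_aux hp3 hst htp hsp hx hF hB hxF hxB hFB hFx hBx hxp rfl hxF hxB hFx
      (fun f _ h => h) (fun _ => rfl) (fun _ => h)
  · haveI := Fact.mk hwp
    exact centralizes_of_no_fixed_aux hp3 hst htp hsp hx hF hB hxF hxB hFB hFx hBx (pow_orderOf_eq_one w) hxw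
      hwF hwB hFw hwx (fun e => absurd e.symm hwne) (fun e => absurd e.symm hwne)

/-- For commuting `R` moved by `x`: a module without `R`-fixed vectors in which every `r + r⁻¹` preserves the
fixed points of `x` is trivial. -/
theorem eq_zero_of_sum_preserves_fixed {H : Type*} [Group H] [Finite H] {V : Type*} [AddCommGroup V] [Finite V]
    (act : H → V →+ V) (hone : ∀ v, act 1 v = v) (hmul : ∀ g h v, act (g * h) v = act g (act h v))
    (hp : p.Prime) (hp2 : p ≠ 2) (R : Subgroup H) (hRc : ∀ a ∈ R, ∀ b ∈ R, a * b = b * a) (y : H)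
    (hy : y ^ p = 1) (hyR : y ∈ normalizer (R : Set H))
    (hmov : ∀ j : ℕ, ¬ p ∣ j → ∀ r ∈ R, ∃ b ∈ R, r = b⁻¹ * ((y ^ j)⁻¹ * b * y ^ j))
    (hCV : ∀ v, (∀ a ∈ R, act a v = v) → v = 0)
    (hfix : ∀ v, act y v = v → ∀ r ∈ R, act y (act r v + act r⁻¹ v) = act r v + act r⁻¹ v) :
    ∀ v : V, v = 0 := by
  classical
  let τ : H →* AddMonoid.End V :=
    { toFun := fun g => act g
      map_one' := AddMonoidHom.ext hone
      map_mul' := fun g h => AddMonoidHom.ext (hmul g h) }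
  have hτ : ∀ g v, τ g v = act g v := fun g v => rfl
  have hpow : ∀ i : ℕ, ∀ r ∈ R, (y ^ i)⁻¹ * r * y ^ i ∈ R := fun i r hr =>
    (mem_normalizer_iff''.1 (pow_mem hyR i) r).1 hr
  have hy' : ∀ r ∈ R, y * r * y⁻¹ ∈ R := fun r hr => (mem_normalizer_iff.1 hyR r).1 hr
  have hcτ : ∀ a ∈ R, ∀ b ∈ R, Commute (τ a) (τ b) := fun a ha b hb =>
    (show Commute a b from hRc a ha b hb).map τ
  set g : H → AddMonoid.End V := fun r => τ r + τ r⁻¹ - τ (y * r * y⁻¹) - τ (y * r⁻¹ * y⁻¹) with hg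
  -- elimination of the powers of `y`
  have key : ∀ S : Finset ℕ, (∀ j ∈ S, ¬ p ∣ j) → ∀ F : ℕ → AddMonoid.End V,
      (∀ i, ∀ a ∈ R, Commute (τ a) (F i)) → F 0 + ∑ i ∈ S, τ (y ^ i) * F i = 0 → F 0 = 0 := by
    intro S
    induction S using Finset.induction_on with
    | empty => intro _ F _ h; simpa using h
    | insert j S hjS ih =>
      intro hS F hF h
      let c : ℕ → H → H := fun i b => (y ^ i)⁻¹ * b * y ^ i
      have hb : ∀ b ∈ R, τ b * F 0 = τ (c j b) * F 0 := by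
        intro b hb
        have hF' : ∀ i, ∀ a ∈ R, Commute (τ a) ((τ (c i b) - τ (c j b)) * F i) := fun i a ha =>
          ((hcτ a ha _ (hpow i b hb)).sub_right (hcτ a ha _ (hpow j b hb))).mul_right (hF i a ha)
        have h0 := ih (fun i hi => hS i (Finset.mem_insert_of_mem hi))
          (fun i => (τ (c i b) - τ (c j b)) * F i) hF' ?_
        · simp only [c, pow_zero, inv_one, one_mul, mul_one, sub_mul, sub_eq_zero] at h0
          exact h0
        · have hterm : ∀ i, τ (y ^ i) * ((τ (c i b) - τ (c j b)) * F i) =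
              τ b * (τ (y ^ i) * F i) - τ (y ^ i) * F i * τ (c j b) := fun i => by
            have e1 : τ (y ^ i) * τ (c i b) = τ b * τ (y ^ i) := by
              rw [← map_mul, ← map_mul]; simp [c, mul_assoc]
            have e2 : τ (c j b) * F i = F i * τ (c j b) := (hF i _ (hpow j b hb)).eq
            rw [sub_mul, mul_sub, e2, ← mul_assoc (τ (y ^ i)) (τ (c i b)), e1, mul_assoc (τ b),
              ← mul_assoc (τ (y ^ i)) (F i)]
          have h1 : τ b * (F 0 + ∑ i ∈ insert j S, τ (y ^ i) * F i) -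
              (F 0 + ∑ i ∈ insert j S, τ (y ^ i) * F i) * τ (c j b) = 0 := by
            rw [h, mul_zero, zero_mul, sub_zero]
          rw [mul_add, add_mul, Finset.mul_sum, Finset.sum_mul, add_sub_add_comm, ← Finset.sum_sub_distrib,
            Finset.sum_insert hjS, ← Finset.sum_congr rfl fun i _ => hterm i, ← hterm j, sub_self, zero_mul,
            mul_zero, zero_add] at h1
          rw [← h1]
          congr 1
          simp only [c, pow_zero, inv_one, one_mul, mul_one, sub_mul]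
          rw [(hF 0 _ (hpow j b hb)).eq]
      refine AddMonoidHom.ext fun v => hCV _ fun a ha => ?_
      obtain ⟨b, hb', rfl⟩ := hmov j (hS j (Finset.mem_insert_self j S)) a ha
      show τ (b⁻¹ * c j b) (F 0 v) = F 0 v
      have h1 : τ b (F 0 v) = τ (c j b) (F 0 v) := DFunLike.congr_fun (hb b hb') v
      rw [hτ, hτ] at h1
      rw [hτ, hmul, ← h1, ← hmul, inv_mul_cancel, hone]
  -- every `g r` vanishes
  have hg0 : ∀ r ∈ R, g r = 0 := by
    intro r hr
    set u : AddMonoid.End V := ∑ i ∈ Finset.range p, τ (y ^ i)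
    have hu : τ y * u = u := by
      have h1 := Finset.sum_range_succ' (fun i => τ (y ^ i)) p
      rw [Finset.sum_range_succ, hy, pow_zero] at h1
      rw [Finset.mul_sum]
      refine Eq.trans (Finset.sum_congr rfl fun i _ => ?_) (add_right_cancel h1).symm
      rw [← map_mul, ← pow_succ']
    have hgu : g r * u = 0 := by
      refine AddMonoidHom.ext fun v => ?_
      have hv : act y (u v) = u v := DFunLike.congr_fun hu v
      have hconj : ∀ a, act y (act a (u v)) = act (y * a * y⁻¹) (u v) := fun a => by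
        conv_rhs => rw [← hv, ← hmul]
        rw [← hmul]
        simp [mul_assoc]
      have h1 := hfix _ hv r hr
      rw [map_add, hconj, hconj] at h1
      show act r (u v) + act r⁻¹ (u v) - act (y * r * y⁻¹) (u v) - act (y * r⁻¹ * y⁻¹) (u v) = 0
      rw [sub_sub, h1, sub_self]
    let F : ℕ → AddMonoid.End V := fun i => g ((y ^ i)⁻¹ * r * y ^ i)
    have hFR : ∀ i, ∀ a ∈ R, Commute (τ a) (F i) := fun i a ha => by
      have hr' := hpow i r hr
      exact (((hcτ a ha _ hr').add_right (hcτ a ha _ (inv_mem hr'))).sub_right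
        (hcτ a ha _ (hy' _ hr'))).sub_right (hcτ a ha _ (hy' _ (inv_mem hr')))
    have hF0 := key ((Finset.range p).erase 0) (fun j hj hd => by
      rw [Finset.mem_erase, Finset.mem_range] at hj
      exact hj.1 (Nat.eq_zero_of_dvd_of_lt hd hj.2)) F hFR ?_
    · simpa [F] using hF0
    · rw [← hgu, Finset.mul_sum, ← Finset.add_sum_erase _ _ (Finset.mem_range.2 hp.pos)]
      congr 1
      · simp [F]
      refine Finset.sum_congr rfl fun i _ => ?_
      have hc : ∀ a b : H, b = (y ^ i)⁻¹ * a * y ^ i → τ (y ^ i) * τ b = τ a * τ (y ^ i) := fun a b e => by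
        rw [← map_mul, ← map_mul, e]; simp [mul_assoc]
      simp only [F, g, mul_sub, mul_add, sub_mul, add_mul]
      rw [hc r _ rfl, hc r⁻¹ _ (by group), hc (y * r * y⁻¹) _ ?_, hc (y * r⁻¹ * y⁻¹) _ ?_]
      · group
      · group
  by_contra hcon
  push Not at hcon
  obtain ⟨v₀, hv₀⟩ := hcon
  -- a minimal invariant subgroup
  obtain ⟨U, ⟨hU0, hUinv⟩, hUmin⟩ := wellFounded_lt.has_min
    {U : AddSubgroup V | U ≠ ⊥ ∧ ∀ a ∈ R, ∀ u ∈ U, act a u ∈ U}
    ⟨⊤, fun e => hv₀ (AddSubgroup.mem_bot.1 (e ▸ AddSubgroup.mem_top v₀)), fun _ _ _ _ => AddSubgroup.mem_top _⟩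
  have hor : ∀ a ∈ R, ∀ b ∈ R, (∀ u ∈ U, (τ a - 1) ((τ b - 1) u) = 0) →
      (∀ u ∈ U, act a u = u) ∨ ∀ u ∈ U, act b u = u := by
    intro a _ b hb h
    let f : V →+ V := act b - AddMonoidHom.id V
    have hf : ∀ u, f u = act b u - u := fun u => rfl
    by_cases hI : U.map f = ⊥
    · refine Or.inr fun u hu => sub_eq_zero.1 ?_
      rw [← hf]
      exact AddSubgroup.mem_bot.1 (hI ▸ AddSubgroup.mem_map_of_mem f hu)
    refine Or.inl ?_
    have hle : U.map f ≤ U := by
      rintro _ ⟨u, hu, rfl⟩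
      rw [hf]
      exact sub_mem (hUinv b hb u hu) hu
    have heq : U.map f = U := by
      refine (eq_or_lt_of_le hle).resolve_right fun hlt => hUmin _ ⟨hI, ?_⟩ hlt
      rintro c hc _ ⟨u, hu, rfl⟩
      refine ⟨act c u, hUinv c hc u hu, ?_⟩
      rw [hf, hf, map_sub, ← hmul, ← hmul, hRc b hb c hc]
    intro u hu
    rw [← heq] at hu
    obtain ⟨u', hu', rfl⟩ := hu
    rw [hf]
    exact sub_eq_zero.1 (h u' hu')
  let θ : R →* R := MonoidHom.mk' (fun a => ⟨y * a * y⁻¹, hy' a a.2⟩) fun a b => Subtype.ext (by simp [mul_assoc])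
  letI : CommGroup R := { (inferInstance : Group R) with mul_comm := fun a b => Subtype.ext (hRc a a.2 b b.2) }
  let φ : R →* R := MonoidHom.mk' (fun a => a * (θ a)⁻¹) fun a b => by
    rw [map_mul, mul_inv, mul_mul_mul_comm]
  let ψ : R →* R := MonoidHom.mk' (fun a => a * θ a) fun a b => by rw [map_mul, mul_mul_mul_comm]
  let K : Subgroup R :=
    { carrier := {a | ∀ u ∈ U, act (a : H) u = u}
      one_mem' := fun u _ => hone u
      mul_mem' := fun {a b} ha hb u hu => by rw [Subgroup.coe_mul, hmul, hb u hu, ha u hu]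
      inv_mem' := fun {a} ha u hu => by
        conv_lhs => rw [← ha u hu]
        rw [← hmul, Subgroup.coe_inv, inv_mul_cancel, hone] }
  have hKne : K ≠ ⊤ := fun e => hU0 ((AddSubgroup.eq_bot_iff_forall U).2 fun u hu =>
    hCV u fun a ha => (show (⟨a, ha⟩ : R) ∈ K from e ▸ mem_top _) u hu)
  have hcov : ∀ a : R, φ a ∈ K ∨ ψ a ∈ K := by
    intro a
    set b : H := y * a * y⁻¹ with hb
    have hbR : b ∈ R := hy' a a.2
    refine hor ((a : H) * b⁻¹) (mul_mem a.2 (inv_mem hbR)) ((a : H) * b) (mul_mem a.2 hbR) fun u _ => ?_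
    have e1 : (τ ((a : H) * b⁻¹) - 1) * (τ ((a : H) * b) - 1) = τ (a : H) * g a := by
      simp only [g, mul_sub, sub_mul, mul_add, one_mul, mul_one, ← map_mul, ← hb]
      rw [mul_inv_cancel, show (a : H) * b⁻¹ * ((a : H) * b) = (a : H) * a by
        rw [mul_assoc, ← mul_assoc b⁻¹, hRc b⁻¹ (inv_mem hbR) a a.2, mul_assoc (a : H) b⁻¹, inv_mul_cancel,
          mul_one], show y * (a : H)⁻¹ * y⁻¹ = b⁻¹ by rw [hb]; group, map_one]
      abel
    have e2 := DFunLike.congr_fun e1 u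
    rw [hg0 a a.2, mul_zero] at e2
    exact e2
  have hall : (∀ a, φ a ∈ K) ∨ ∀ a, ψ a ∈ K := by
    by_contra h
    push Not at h
    obtain ⟨⟨a, ha⟩, b, hb⟩ := h
    have ha' := (hcov a).resolve_left ha
    have hb' := (hcov b).resolve_right hb
    rcases hcov (a * b) with h1 | h1 <;> rw [map_mul] at h1
    · exact ha ((mul_mem_cancel_right hb').1 h1)
    · exact hb ((mul_mem_cancel_left ha').1 h1)
  apply hKne
  rw [eq_top_iff]
  rintro ⟨r, hr⟩ -
  rcases hall with h | h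
  · obtain ⟨b, hb, hrb⟩ := hmov 1 (fun e => hp.ne_one (Nat.dvd_one.1 e)) r hr
    rw [pow_one] at hrb
    have h1 := h ⟨y⁻¹ * b * y, (mem_normalizer_iff''.1 hyR b).1 hb⟩
    rw [show (⟨r, hr⟩ : R) = φ ⟨y⁻¹ * b * y, (mem_normalizer_iff''.1 hyR b).1 hb⟩ from Subtype.ext ?_]
    · exact h1
    show r = y⁻¹ * b * y * (y * (y⁻¹ * b * y) * y⁻¹)⁻¹
    rw [hrb, hRc b⁻¹ (inv_mem hb) _ ((mem_normalizer_iff''.1 hyR b).1 hb)]
    group
  · obtain ⟨b, hb, hrb⟩ := hmov 2 (fun e => hp2 ((Nat.prime_dvd_prime_iff_eq hp Nat.prime_two).1 e)) r hr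
    set c : R := ⟨(y ^ 2)⁻¹ * b * y ^ 2, hpow 2 b hb⟩ with hc
    have e : θ (θ c) = ⟨b, hb⟩ := Subtype.ext (by
      show y * (y * ((y ^ 2)⁻¹ * b * y ^ 2) * y⁻¹) * y⁻¹ = b
      group)
    have h1 : c * (θ (θ c))⁻¹ ∈ K := by
      have h3 := mul_mem (h c) (inv_mem (h (θ c)))
      simpa [ψ, mul_assoc, mul_comm, mul_left_comm] using h3
    rw [e] at h1
    rwa [show (⟨r, hr⟩ : R) = c * (⟨b, hb⟩ : R)⁻¹ from by
      rw [mul_comm]; exact Subtype.ext hrb]

/-- An abelian group `R` moved by `x` acting on a `2`-group `Q` centralises it as soon as it centralises all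
abelian subgroups of `Q` that are moved by `x`. -/
theorem centralizes_of_abelian_subgroups {r : ℕ} (hp : p.Prime) (hp3 : 3 < p) (hr : r.Prime) (hr2 : r ≠ 2)
    (hrp : r ≠ p) (hx : orderOf x = p) {R Q : Subgroup G} (hR : IsPGroup r R)
    (hRc : ∀ a ∈ R, ∀ b ∈ R, a * b = b * a) (hQ : IsPGroup 2 Q) (hxR : x ∈ normalizer (R : Set G))
    (hxQ : x ∈ normalizer (Q : Set G)) (hRQ : R ≤ normalizer (Q : Set G)) (hRx : ⁅R, zpowers x⁆ = R)
    (h : ∀ A : Subgroup G, A ≤ Q → x ∈ normalizer (A : Set G) → (∀ a ∈ A, ∀ b ∈ A, a * b = b * a) →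
      ⁅A, zpowers x⁆ = A → ∀ a ∈ A, ∀ b ∈ R, a * b = b * a) :
    ∀ a ∈ Q, ∀ b ∈ R, a * b = b * a := by
  classical
  haveI := Fact.mk hp
  haveI := Fact.mk hr
  haveI : Fact (Nat.Prime 2) := ⟨Nat.prime_two⟩
  suffices hle : R ≤ centralizer (Q : Set G) from fun a ha b hb => mem_centralizer_iff.1 (hle hb) a ha
  induction hn : Nat.card Q using Nat.strong_induction_on generalizing Q with
  | _ n ih =>
  by_contra hcon
  have hQne : Q ≠ ⊥ := by
    rintro rfl
    exact hcon fun b _ => mem_centralizer_iff.2 fun a ha => by rw [mem_bot.1 ha, one_mul, mul_one]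
  have hsub : ∀ Q₀ : Subgroup G, Q₀ < Q → x ∈ normalizer (Q₀ : Set G) → R ≤ normalizer (Q₀ : Set G) →
      R ≤ centralizer (Q₀ : Set G) := fun Q₀ hlt h1 h2 => by
    refine ih _ ?_ (hQ.to_le hlt.le) h1 h2 (fun A hA => h A (hA.trans hlt.le)) rfl
    rw [← hn]
    by_contra hc
    exact hlt.ne (Subgroup.eq_of_le_of_card_ge hlt.le (not_lt.1 hc))
  have hcop : (Nat.card R).Coprime (Nat.card Q) := IsPGroup.coprime_card_of_ne r 2 hr2 R Q hR hQ
  have hsolR : Group.IsSolvable R :=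
    Group.isSolvable_of_comm fun a b => Subtype.ext (hRc a a.2 b b.2)
  have hsolX : Group.IsSolvable (zpowers x) := Group.isSolvable_of_comm fun a b => mul_comm' a b
  have hcopX : ∀ {S : Subgroup G}, S ≤ Q → (Nat.card (zpowers x)).Coprime (Nat.card S) := fun hS => by
    obtain ⟨e, he⟩ := (hQ.to_le hS).exists_card_eq
    rw [Nat.card_zpowers, hx, he]
    exact ((Nat.coprime_primes hp Nat.prime_two).2 (by omega)).pow_right e
  -- `Q = [Q, R]`
  have hQR : ⁅Q, R⁆ = Q := by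
    refine (eq_or_lt_of_le (Coprime.commutator_le_left_of_le_normalizer hRQ)).resolve_right fun hlt => hcon ?_
    refine Coprime.le_centralizer_of_commutator_le_centralizer hRQ hcop (Or.inl hsolR)
      (hsub _ hlt ?_ (normalizer_commutator_ge_right Q R))
    rw [mem_normalizer_iff_map_conj_eq, Subgroup.map_commutator, mem_normalizer_iff_map_conj_eq.1 hxQ,
      mem_normalizer_iff_map_conj_eq.1 hxR]
  -- `Φ(Q)` is central
  set Φ := (frattini Q).map Q.subtype with hΦdef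
  have hsec := isESection_frattini hQ
  have hΦn := Components.normalizer_le_normalizer_map_of_characteristic Q (frattini Q)
  have hRΦ : R ≤ centralizer (Φ : Set G) :=
    hsub Φ (frattini_map_lt hQne) (hΦn hxQ) (hRQ.trans hΦn)
  have hQΦ : Q ≤ centralizer (Φ : Set G) := by
    have h1 : ⁅⁅R, Φ⁆, Q⁆ = ⊥ := by rw [commutator_eq_bot_iff_le_centralizer.2 hRΦ, commutator_bot_left]
    have h2 : ⁅⁅Φ, Q⁆, R⁆ = ⊥ := by
      rw [commutator_eq_bot_iff_le_centralizer]
      exact (Coprime.commutator_le_left_of_le_normalizer hsec.norm).trans (le_centralizer_iff.1 hRΦ)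
    have h3 := commutator_commutator_eq_bot_of_rotate h1 h2
    rwa [hQR, commutator_eq_bot_iff_le_centralizer] at h3
  have hcen : ∀ z ∈ Φ, ∀ a ∈ Q, a * z = z * a := fun z hz a ha => (mem_centralizer_iff.1 (hQΦ ha) z hz).symm
  have hmulL : ∀ a ∈ Q, ∀ b ∈ Q, ∀ c ∈ Q, ⁅a * b, c⁆ = ⁅a, c⁆ * ⁅b, c⁆ := fun a ha b hb c hc => by
    rw [commutatorElement_mul_left_eq_conj_mul, hcen _ (hsec.comm b hb c hc) a ha, mul_inv_cancel_right]
    exact (hcen _ (hsec.comm a ha c hc) _ (hsec.le (hsec.comm b hb c hc))).symm ▸ rfl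
  have hsq : ∀ a ∈ Q, ∀ b ∈ Q, ⁅a, b⁆ * ⁅a, b⁆ = 1 := fun a ha b hb => by
    rw [← hmulL a ha a ha b hb, ← pow_two, commutatorElement_eq_one_iff_mul_comm]
    exact (hcen _ (hsec.exp a ha) b hb).symm
  have hsymm : ∀ a ∈ Q, ∀ b ∈ Q, ⁅b, a⁆ = ⁅a, b⁆ := fun a ha b hb => by
    rw [← commutatorElement_inv, inv_eq_of_mul_eq_one_left (hsq a ha b hb)]
  have hmulR : ∀ a ∈ Q, ∀ b ∈ Q, ∀ c ∈ Q, ⁅a, b * c⁆ = ⁅a, b⁆ * ⁅a, c⁆ := fun a ha b hb c hc => by
    rw [← hsymm a ha _ (mul_mem hb hc), hmulL b hb c hc a ha, hsymm a ha b hb, hsymm a ha c hc]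
  have hinvar : ∀ u ∈ R, ∀ a ∈ Q, ∀ b ∈ Q, ⁅u * a * u⁻¹, u * b * u⁻¹⁆ = ⁅a, b⁆ := fun u hu a ha b hb => by
    rw [← conjugate_commutatorElement, ← mem_centralizer_iff.1 (hRΦ hu) _ (hsec.comm a ha b hb),
      mul_inv_cancel_right]
  -- `C_{Q/Φ}(R) = 1`
  have hfree : ∀ a ∈ Q, (∀ u ∈ R, ⁅u, a⁆ ∈ Φ) → a ∈ Φ := fun a ha =>
    mem_frattini_of_fixed hQ hRQ hcop hQR ha
  -- the sums `r + r⁻¹` preserve the fixed points of `x`
  have hsum : ∀ c ∈ Q, x * c = c * x → ∀ u ∈ R, ⁅x, (u * c * u⁻¹) * (u⁻¹ * c * u)⁆ ∈ Φ := by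
    intro c hc hxc
    let e : G → G := fun u => u * c * u⁻¹
    have he : ∀ u ∈ R, e u ∈ Q := fun u hu => (mem_normalizer_iff.1 (hRQ hu) c).1 hc
    have hγ : ∀ u ∈ R, ∀ v ∈ R, ⁅e u, e v⁆ = ⁅c, e (u⁻¹ * v)⁆ := fun u hu v hv => by
      rw [← hinvar u hu c hc _ (he _ (mul_mem (inv_mem hu) hv))]
      refine congrArg₂ _ rfl ?_
      simp [e, mul_assoc]
    have hγinv : ∀ u ∈ R, ⁅c, e u⁻¹⁆ = ⁅c, e u⁆ := fun u hu => by
      rw [← hsymm c hc _ (he u hu)]
      have := hγ u hu 1 (one_mem R)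
      simpa [e] using this.symm
    let d : G → G := fun u => e u * e u⁻¹
    have hd : ∀ u ∈ R, d u ∈ Q := fun u hu => mul_mem (he u hu) (he _ (inv_mem hu))
    set S : Set G := insert c (d '' (R : Set G))
    have hSQ : S ⊆ Q := by
      rintro g (rfl | ⟨u, hu, rfl⟩)
      · exact hc
      · exact hd u hu
    have hcd : ∀ u ∈ R, ⁅c, d u⁆ = 1 := fun u hu => by
      rw [hmulR c hc _ (he u hu) _ (he _ (inv_mem hu)), hγinv u hu, hsq c hc _ (he u hu)]
    have hdd : ∀ u ∈ R, ∀ v ∈ R, ⁅d u, d v⁆ = 1 := fun u hu v hv => by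
      have hui := inv_mem hu
      have hvi := inv_mem hv
      rw [hmulL _ (he u hu) _ (he _ hui) _ (hd v hv), hmulR _ (he u hu) _ (he v hv) _ (he _ hvi),
        hmulR _ (he _ hui) _ (he v hv) _ (he _ hvi), hγ u hu v hv, hγ u hu _ hvi, hγ _ hui v hv, hγ _ hui _ hvi,
        inv_inv, show u * v⁻¹ = (u⁻¹ * v)⁻¹ by rw [mul_inv_rev, inv_inv, hRc u hu _ hvi],
        show u⁻¹ * v⁻¹ = (u * v)⁻¹ by rw [mul_inv_rev, hRc _ hui _ hvi],
        hγinv _ (mul_mem hui hv), hγinv _ (mul_mem hu hv)]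
      set P := ⁅c, e (u⁻¹ * v)⁆
      set P' := ⁅c, e (u * v)⁆
      have hP : P * P = 1 := hsq c hc _ (he _ (mul_mem hui hv))
      have hP' : P' * P' = 1 := hsq c hc _ (he _ (mul_mem hu hv))
      rw [mul_assoc, ← mul_assoc P', hP', one_mul, hP]
    have hSS : ∀ a ∈ S, ∀ b ∈ S, a * b = b * a := by
      rintro a (rfl | ⟨u, hu, rfl⟩) b (rfl | ⟨v, hv, rfl⟩)
      · rfl
      · exact commutatorElement_eq_one_iff_mul_comm.1 (hcd v hv)
      · exact (commutatorElement_eq_one_iff_mul_comm.1 (hcd u hu)).symm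
      · exact commutatorElement_eq_one_iff_mul_comm.1 (hdd u hu v hv)
    set A := closure S with hA
    have hAQ : A ≤ Q := (closure_le _).2 hSQ
    have hAc : ∀ a ∈ A, ∀ b ∈ A, a * b = b * a := by
      have h1 : A ≤ centralizer S := (closure_le _).2 fun a ha => mem_centralizer_iff.2 fun b hb => hSS b hb a ha
      have h2 : A ≤ centralizer (A : Set G) := (closure_le _).2 fun a ha => mem_centralizer_iff.2 fun b hb =>
        (mem_centralizer_iff.1 (h1 hb) a ha).symm
      exact fun a ha b hb => mem_centralizer_iff.1 (h2 hb) a ha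
    have hxA : x ∈ normalizer (A : Set G) := by
      refine mem_normalizer_iff_map_conj_eq.2 (Subgroup.eq_of_le_of_card_ge ?_ ?_)
      · rw [hA, MonoidHom.map_closure, closure_le]
        rintro _ ⟨a, (rfl | ⟨u, hu, rfl⟩), rfl⟩
        · refine subset_closure (Or.inl ?_)
          show x * a * x⁻¹ = a
          rw [hxc, mul_inv_cancel_right]
        · refine subset_closure (Or.inr ⟨x * u * x⁻¹, (mem_normalizer_iff.1 hxR u).1 hu, ?_⟩)
          show d (x * u * x⁻¹) = x * d u * x⁻¹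
          have hxc' : x⁻¹ * c = c * x⁻¹ := ((show Commute x c from hxc).inv_left).eq
          simp only [d, e, mul_inv_rev, inv_inv, mul_assoc, inv_mul_cancel_left]
          rw [← mul_assoc x⁻¹ c, hxc', mul_assoc c x⁻¹, inv_mul_cancel_left, ← mul_assoc x⁻¹ c, hxc',
            mul_assoc c x⁻¹, inv_mul_cancel_left]
      · exact (card_map_of_injective (MulAut.conj x).injective).ge
    have hA₀ : ⁅A, zpowers x⁆ ≤ A := Coprime.commutator_le_left_of_le_normalizer (zpowers_le.2 hxA)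
    have hcentral := h ⁅A, zpowers x⁆ (hA₀.trans hAQ)
      (normalizer_commutator_ge_right A (zpowers x) (mem_zpowers x))
      (fun a ha b hb => hAc a (hA₀ ha) b (hA₀ hb))
      (Coprime.commutator_commutator_eq (zpowers_le.2 hxA) (hcopX hAQ) (Or.inl hsolX))
    intro u hu
    have hdA : d u ∈ A := subset_closure (Or.inr ⟨u, hu, rfl⟩)
    have hmem : ⁅d u, x⁆ ∈ ⁅A, zpowers x⁆ := commutator_mem_commutator hdA (mem_zpowers x)
    have h1 : ⁅d u, x⁆ ∈ Φ := hfree _ (hA₀.trans hAQ hmem) fun v hv => by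
      rw [commutatorElement_eq_one_iff_mul_comm.2 (hcentral _ hmem v hv).symm]
      exact one_mem Φ
    have h2 := inv_mem h1
    rw [commutatorElement_inv] at h2
    simpa [d, e] using h2
  -- the module `Q / Φ`
  set Ng := normalizer (Φ : Set G)
  have hQN : Q ≤ Ng := hsec.norm
  have hxN : x ∈ Ng := hΦn hxQ
  have hRN : R ≤ Ng := hRQ.trans hΦn
  haveI : (Φ.subgroupOf Ng).Normal := normal_subgroupOf_of_le_normalizer le_rfl
  let π : Ng →* Ng ⧸ Φ.subgroupOf Ng := QuotientGroup.mk' _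
  have hπ1 : ∀ g : Ng, π g = 1 ↔ (g : G) ∈ Φ := fun g => QuotientGroup.eq_one_iff g
  have hπc : ∀ a b : Ng, π a * π b * (π a)⁻¹ = π b ↔ ⁅(a : G), (b : G)⁆ ∈ Φ := fun a b => by
    rw [mul_inv_eq_iff_eq_mul, ← commutatorElement_eq_one_iff_mul_comm, ← map_commutatorElement, hπ1]
    rfl
  set Q' := (Q.subgroupOf Ng).map π
  set H := normalizer (Q' : Set (Ng ⧸ Φ.subgroupOf Ng))
  have hH : ∀ g : Ng, (g : G) ∈ normalizer (Q : Set G) → π g ∈ H := fun g hg =>
    le_normalizer_map π (mem_map_of_mem π (mem_normalizer_iff.2 fun b => mem_normalizer_iff.1 hg (b : G)))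
  letI : CommGroup Q' :=
    { (inferInstance : Group Q') with
      mul_comm := fun a b => by
        obtain ⟨_, ⟨a, ha, rfl⟩⟩ := a
        obtain ⟨_, ⟨b, hb, rfl⟩⟩ := b
        refine Subtype.ext ?_
        show π a * π b = π b * π a
        rw [← commutatorElement_eq_one_iff_mul_comm, ← map_commutatorElement, hπ1]
        exact hsec.comm _ ha _ hb }
  let act : H → Additive Q' →+ Additive Q' := fun g =>
    MonoidHom.toAdditive (Q'.normalizerMonoidHom g).toMonoidHom
  have hact : ∀ (g : H) (v : Additive Q'),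
      (((act g v).toMul : Q') : Ng ⧸ Φ.subgroupOf Ng) = (g : Ng ⧸ Φ.subgroupOf Ng) * v.toMul * (g : Ng ⧸ Φ.subgroupOf Ng)⁻¹ :=
    fun g v => rfl
  let R' : Subgroup H := ((R.subgroupOf Ng).map π).subgroupOf H
  have hR' : ∀ {a : H}, a ∈ R' → ∃ u : G, ∃ hu : u ∈ R, (a : Ng ⧸ Φ.subgroupOf Ng) = π ⟨u, hRN hu⟩ :=
    fun {a} ha => by
      obtain ⟨⟨u, hu'⟩, hu, e⟩ := mem_subgroupOf.1 ha
      exact ⟨u, hu, e.symm⟩
  have hR'' : ∀ {u : G} (hu : u ∈ R),
      (⟨π ⟨u, hRN hu⟩, hH _ (hRQ hu)⟩ : H) ∈ R' := fun {u} hu =>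
    mem_subgroupOf.2 (mem_map_of_mem π (show (⟨u, hRN hu⟩ : Ng) ∈ R.subgroupOf Ng from hu))
  let y : H := ⟨π ⟨x, hxN⟩, hH _ hxQ⟩
  have hzero := eq_zero_of_sum_preserves_fixed (V := Additive Q') (H := H) act
    (fun v => Additive.toMul.injective (Subtype.ext (by rw [hact]; simp)))
    (fun g g' v => Additive.toMul.injective (Subtype.ext (by rw [hact, hact, hact]; simp [mul_assoc])))
    hp (by omega) R'
    (fun a ha b hb => by
      obtain ⟨u, hu, ea⟩ := hR' ha
      obtain ⟨v, hv, eb⟩ := hR' hb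
      refine Subtype.ext ?_
      show (a : Ng ⧸ Φ.subgroupOf Ng) * b = b * a
      rw [ea, eb, ← map_mul, ← map_mul]
      exact congrArg π (Subtype.ext (hRc u hu v hv)))
    y
    (Subtype.ext (by
      show π ⟨x, hxN⟩ ^ p = 1
      rw [← map_pow, show (⟨x, hxN⟩ : Ng) ^ p = 1 from Subtype.ext (hx ▸ pow_orderOf_eq_one x), map_one]))
    (mem_normalizer_fintype fun a ha => by
      obtain ⟨u, hu, ea⟩ := hR' ha
      have hu' := (mem_normalizer_iff.1 hxR u).1 hu
      have e : y * a * y⁻¹ = (⟨π ⟨x * u * x⁻¹, hRN hu'⟩, hH _ (hRQ hu')⟩ : H) := by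
        refine Subtype.ext ?_
        show π ⟨x, hxN⟩ * (a : Ng ⧸ Φ.subgroupOf Ng) * (π ⟨x, hxN⟩)⁻¹ = _
        rw [ea, ← map_inv, ← map_mul, ← map_mul]
        rfl
      show y * a * y⁻¹ ∈ R'
      rw [e]
      exact hR'' hu')
    (fun j hj a ha => by
      obtain ⟨u, hu, ea⟩ := hR' ha
      set z := (x ^ j)⁻¹ with hz
      have hzR : z ∈ normalizer (R : Set G) := inv_mem (pow_mem hxR j)
      have hzp : zpowers z = zpowers x := by
        rw [hz, zpowers_inv]
        refine le_antisymm (zpowers_le.2 (pow_mem (mem_zpowers x) j)) (zpowers_le.2 ?_)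
        rw [mem_zpowers_pow_iff, hx]
        exact Nat.Coprime.symm ((Nat.Prime.coprime_iff_not_dvd hp).2 hj)
      have hconj : ∀ w ∈ R, z * w * z⁻¹ ∈ R := fun w hw => (mem_normalizer_iff.1 hzR w).1 hw
      clear_value z
      let S : Subgroup G :=
        { carrier := {g | ∃ w ∈ R, g = w⁻¹ * (z * w * z⁻¹)}
          one_mem' := ⟨1, one_mem R, by group⟩
          mul_mem' := by
            rintro _ _ ⟨w, hw, rfl⟩ ⟨w', hw', rfl⟩
            refine ⟨w * w', mul_mem hw hw', ?_⟩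
            rw [mul_inv_rev, hRc w'⁻¹ (inv_mem hw') w⁻¹ (inv_mem hw),
              show z * (w * w') * z⁻¹ = (z * w * z⁻¹) * (z * w' * z⁻¹) by group,
              mul_assoc w⁻¹ (z * w * z⁻¹), mul_assoc w⁻¹ w'⁻¹, ← mul_assoc (z * w * z⁻¹) w'⁻¹,
              hRc _ (hconj w hw) w'⁻¹ (inv_mem hw'), mul_assoc w'⁻¹]
          inv_mem' := by
            rintro _ ⟨w, hw, rfl⟩
            refine ⟨w⁻¹, inv_mem hw, ?_⟩
            rw [mul_inv_rev (w⁻¹) (z * w * z⁻¹), inv_inv, hRc _ (inv_mem (hconj w hw)) w hw, conj_inv] }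
      have hmoves := moves_of_commutator_eq hzR (hzp ▸ hRx)
      have hgen : closure ((fun w => ⁅z, w⁆) '' (R : Set G)) ≤ S := by
        rw [closure_le]
        rintro _ ⟨w, hw, rfl⟩
        exact ⟨w, hw, (hRc _ (hconj w hw) w⁻¹ (inv_mem hw)).symm ▸ (commutatorElement_def z w)⟩
      obtain ⟨w, hw, hwu⟩ := hgen (hmoves hu)
      refine ⟨⟨π ⟨w, hRN hw⟩, hH _ (hRQ hw)⟩, hR'' hw, Subtype.ext ?_⟩
      show (a : Ng ⧸ Φ.subgroupOf Ng) = (π ⟨w, hRN hw⟩)⁻¹ * ((π ⟨x, hxN⟩ ^ j)⁻¹ * π ⟨w, hRN hw⟩ * π ⟨x, hxN⟩ ^ j)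
      rw [ea, ← map_pow, ← map_inv, ← map_inv, ← map_mul, ← map_mul, ← map_mul]
      refine congrArg π (Subtype.ext ?_)
      show u = w⁻¹ * ((x ^ j)⁻¹ * w * x ^ j)
      rw [hwu, hz, inv_inv])
    (fun v hv => by
      obtain ⟨a, ha, ev⟩ := v.toMul.2
      refine Additive.toMul.injective (Subtype.ext ?_)
      show (v.toMul : Ng ⧸ Φ.subgroupOf Ng) = 1
      rw [← ev, hπ1]
      refine hfree a ha fun u hu => (hπc ⟨u, hRN hu⟩ a).1 ?_
      have h1 := congrArg (fun w : Additive Q' => ((w.toMul : Q') : Ng ⧸ Φ.subgroupOf Ng)) (hv _ (hR'' hu))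
      simp only [hact] at h1
      rwa [ev])
    (fun v hv a ha => by
      obtain ⟨u, hu, ea⟩ := hR' ha
      obtain ⟨b, hb, ev⟩ := v.toMul.2
      have hxb : ⁅x, (b : G)⁆ ∈ Φ := (hπc ⟨x, hxN⟩ b).1 (by
        have h1 := congrArg (fun w : Additive Q' => ((w.toMul : Q') : Ng ⧸ Φ.subgroupOf Ng)) hv
        simp only [hact] at h1
        rwa [ev])
      -- lift to a fixed point
      obtain ⟨m, hm, hbm⟩ := Coprime.exists_mul_mem_centralizer (A := zpowers x) (N := Φ) (k := (b : G))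
        (zpowers_le.2 hxN) (hcopX hsec.le) (Or.inl hsolX) (fun g hg => by
          obtain ⟨i, rfl⟩ := (isOfFinOrder_of_finite x).mem_powers_iff_mem_zpowers.mpr hg
          have h1 := (mem_normalizer_iff''.1 (hQN hb) _).1 (commutator_pow_mem hxN hxb i)
          simpa [commutatorElement_def, mul_assoc] using h1)
      set c : Ng := b * ⟨m, hQN (hsec.le hm)⟩
      have hc : (c : G) ∈ Q := mul_mem hb (hsec.le hm)
      have hbc : π c = π b := by
        rw [map_mul, (hπ1 ⟨m, hQN (hsec.le hm)⟩).2 hm, mul_one]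
      have hd := hsum c hc (mem_centralizer_iff.1 hbm x (mem_zpowers x)) u hu
      refine Additive.toMul.injective (Subtype.ext ?_)
      rw [hact]
      show π ⟨x, hxN⟩ * (((act a v).toMul : Q') * ((act a⁻¹ v).toMul : Q') : Ng ⧸ Φ.subgroupOf Ng) *
        (π ⟨x, hxN⟩)⁻¹ = (((act a v).toMul : Q') * ((act a⁻¹ v).toMul : Q') : Ng ⧸ Φ.subgroupOf Ng)
      rw [hact, hact, show ((a⁻¹ : H) : Ng ⧸ Φ.subgroupOf Ng) = (a : Ng ⧸ Φ.subgroupOf Ng)⁻¹ from rfl, inv_inv,
        ea, ← ev, ← hbc, ← map_inv, ← map_mul, ← map_mul, ← map_mul, ← map_mul, ← map_mul, hπc]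
      exact hd)
  obtain ⟨a, haQ, haΦ⟩ := SetLike.exists_of_lt (frattini_map_lt hQne)
  refine haΦ ((hπ1 ⟨a, hQN haQ⟩).1 ?_)
  have h1 := hzero (Additive.ofMul ⟨π ⟨a, hQN haQ⟩, mem_map_of_mem π (by exact haQ)⟩)
  exact congrArg Subtype.val (congrArg Additive.toMul h1)

end Cfsg.Agent.TwoGenSolvable
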