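import Mathlib
import Cfsg.Agent.Lib.TwoGenSolvable.NoFixed
import Cfsg.Agent.Lib.Coprime.Quotient

/-!
# Tools for the J-lemma: coprime lifts, weights, class two
-/

set_option autoImplicit false
set_option linter.style.haveILetI false
set_option linter.unusedSectionVars false

namespace Cfsg.Agent.TwoGenSolvable

open Subgroup FixedDim
open scoped commutatorElement IsMulCommutative

universe uk uV

section group

variable {Γ : Type*} [Group Γ]

/-- A subgroup containing `x` and normalised by `R = [R, x]` contains `R`. -/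
theorem le_of_moved {K R : Subgroup Γ} {x : Γ} (hx : x ∈ K) (hR : R ≤ normalizer (K : Set Γ))
    (h : ⁅R, zpowers x⁆ = R) : R ≤ K := by
  rw [← h, commutator_le]
  rintro r hr y hy
  rw [commutatorElement_def]
  exact mul_mem ((mem_normalizer_iff.1 (hR hr) y).1 (zpowers_le.2 hx hy)) (inv_mem (zpowers_le.2 hx hy))

/-- Commutation relations of subgroups of a subgroup. -/
theorem commutator_subgroupOf {A B C Δ : Subgroup Γ} (hA : A ≤ Δ) (hB : B ≤ Δ) (h : ⁅A, B⁆ = C) :
    ⁅A.subgroupOf Δ, B.subgroupOf Δ⁆ = C.subgroupOf Δ := by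
  have hC : C ≤ Δ := h ▸ (commutator_le.2 fun a ha b hb => by
    rw [commutatorElement_def]
    exact mul_mem (mul_mem (mul_mem (hA ha) (hB hb)) (inv_mem (hA ha))) (inv_mem (hB hb)))
  refine map_injective Δ.subtype_injective ?_
  rw [map_commutator, map_subgroupOf_eq_of_le hA, map_subgroupOf_eq_of_le hB, map_subgroupOf_eq_of_le hC, h]

theorem zpowers_subgroupOf {Δ : Subgroup Γ} {x : Γ} (hx : x ∈ Δ) :
    (zpowers x).subgroupOf Δ = zpowers (⟨x, hx⟩ : Δ) := by
  refine map_injective Δ.subtype_injective ?_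
  rw [map_subgroupOf_eq_of_le (zpowers_le.2 hx), MonoidHom.map_zpowers]
  rfl

theorem normal_subgroupOf_sup {W C : Subgroup Γ} (hC : C ≤ normalizer (W : Set Γ)) :
    (W.subgroupOf (W ⊔ C)).Normal :=
  normal_subgroupOf_of_le_normalizer (sup_le le_normalizer hC)

variable [Finite Γ]

/-- Automorphisms moving all of a subgroup. -/
theorem Moves.closure_normalizerMonoidHom {R : Subgroup Γ} {x : Γ} (hx : x ∈ normalizer (R : Set Γ))
    (h : Moves x R) :
    closure (Set.range fun w : R => (R.normalizerMonoidHom ⟨x, hx⟩ : MulAut R) w * w⁻¹) = ⊤ := by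
  refine map_injective R.subtype_injective ?_
  rw [← MonoidHom.range_eq_map, range_subtype, MonoidHom.map_closure]
  refine le_antisymm ((closure_le _).mpr ?_) (h.trans (closure_mono ?_))
  · rintro _ ⟨w, -, rfl⟩
    exact w.2
  · rintro _ ⟨w, hw, rfl⟩
    refine ⟨_, ⟨⟨w, hw⟩, rfl⟩, ?_⟩
    show x * w * x⁻¹ * w⁻¹ = ⁅x, w⁆
    rw [commutatorElement_def]

theorem coprime_zpowers {p : ℕ} [Fact p.Prime] {x : Γ} (hx : x ^ p = 1) {s : ℕ} [Fact s.Prime] (hsp : s ≠ p)
    {K : Subgroup Γ} (hK : IsPGroup s K) : (Nat.card (zpowers x)).Coprime (Nat.card K) := by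
  obtain ⟨n, hn⟩ := IsPGroup.iff_card.1 hK
  rw [Nat.card_zpowers, hn]
  exact Nat.Coprime.coprime_dvd_left (orderOf_dvd_of_pow_eq_one hx)
    (((Nat.coprime_primes (Fact.out : p.Prime) (Fact.out : s.Prime)).2 hsp.symm).pow_right n)

/-- An element commuting with `x` modulo a kernel lifts to one commuting with `x`. -/
theorem exists_commute_lift {Γ' : Type*} [Group Γ'] (f : Γ →* Γ') {x : Γ} {K : Subgroup Γ}
    (hxK : x ∈ normalizer (K : Set Γ)) (hcop : (Nat.card (zpowers x)).Coprime (Nat.card K)) {w : Γ}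
    (hw : w ∈ K) (hc : f x * f w = f w * f x) : ∃ c ∈ K, x * c = c * x ∧ f c = f w := by
  have h1 : f w ∈ K.map f ⊓ centralizer (((zpowers x).map f : Subgroup Γ') : Set Γ') := by
    refine ⟨mem_map_of_mem f hw, mem_centralizer_iff.2 ?_⟩
    rintro _ ⟨_, ⟨i, rfl⟩, rfl⟩
    rw [map_zpow]
    exact ((show Commute (f x) (f w) from hc).zpow_left i).eq
  rw [← Coprime.map_inf_centralizer f (zpowers_le.2 hxK) hcop (Or.inl inferInstance)] at h1
  obtain ⟨c, ⟨hcK, hcC⟩, e⟩ := h1
  exact ⟨c, hcK, mem_centralizer_iff.1 hcC x (mem_zpowers x), e⟩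

/-- An element fixed by `x` modulo `L` is congruent to one centralised by `x`. -/
theorem exists_fixed_mod {x : Γ} {K L : Subgroup Γ} (hLK : L ≤ K)
    (hxL : x ∈ normalizer (L : Set Γ)) (hcop : (Nat.card (zpowers x)).Coprime (Nat.card K)) {a : Γ}
    (ha : a ∈ K) (hc : ⁅x, a⁆ ∈ L) : ∃ c ∈ K, ∃ l ∈ L, x * c = c * x ∧ a = l * c := by
  let F : Subgroup Γ :=
    { carrier := {g | g ∈ normalizer (L : Set Γ) ∧ a * g * a⁻¹ * g⁻¹ ∈ L}
      one_mem' := ⟨one_mem _, by simp [one_mem]⟩
      mul_mem' := fun {g h} hg hh => ⟨mul_mem hg.1 hh.1, by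
        rw [show a * (g * h) * a⁻¹ * (g * h)⁻¹ = a * g * a⁻¹ * g⁻¹ * (g * (a * h * a⁻¹ * h⁻¹) * g⁻¹) by group]
        exact mul_mem hg.2 ((mem_normalizer_iff.1 hg.1 _).1 hh.2)⟩
      inv_mem' := fun {g} hg => ⟨inv_mem hg.1, by
        rw [show a * g⁻¹ * a⁻¹ * (g⁻¹)⁻¹ = g⁻¹ * (a * g * a⁻¹ * g⁻¹)⁻¹ * g by group]
        exact (mem_normalizer_iff''.1 hg.1 _).1 (inv_mem hg.2)⟩ }
  have hx : x ∈ F := ⟨hxL, by
    have := inv_mem hc
    rwa [commutatorElement_inv, commutatorElement_def] at this⟩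
  obtain ⟨c, ⟨hcK, hcC⟩, hl⟩ := Coprime.exists_mem_inf_centralizer_leftCoset (A := zpowers x) (K := K) (N := L)
    (zpowers_le.2 hxL) hLK hcop (Or.inl inferInstance) (k := a⁻¹) (inv_mem ha) fun g hg => by
      rw [inv_inv]
      exact (zpowers_le.2 hx hg).2
  rw [inv_inv] at hl
  refine ⟨c⁻¹, inv_mem hcK, a * c, hl, ?_, by group⟩
  exact ((show Commute x c from mem_centralizer_iff.1 hcC x (mem_zpowers x)).inv_right).eq

/-- An element of a coprime-acted group whose commutators with the fixed points and with the moved part are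
trivial. -/
theorem commute_of_hom {x : Γ} {W : Subgroup Γ} (hxW : x ∈ normalizer (W : Set Γ))
    (hcop : (Nat.card (zpowers x)).Coprime (Nat.card W)) {j : Γ} (hjx : x * j = j * x)
    (hhom : ∀ w ∈ W, ∀ g ∈ W, g * ⁅j, w⁆ = ⁅j, w⁆ * g) (hxc : ∀ w ∈ W, x * ⁅j, w⁆ = ⁅j, w⁆ * x)
    (hC : ∀ c ∈ W, x * c = c * x → ⁅j, c⁆ = 1) : ∀ w ∈ W, ⁅j, w⁆ = 1 := by
  let F : Subgroup Γ :=
    { carrier := {w | w ∈ W ∧ ⁅j, w⁆ = 1}
      one_mem' := ⟨one_mem _, commutatorElement_one_right _⟩
      mul_mem' := fun {a b} ha hb => ⟨mul_mem ha.1 hb.1, commutatorElement_eq_one_iff_mul_comm.2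
        ((show Commute j a from commutatorElement_eq_one_iff_mul_comm.1 ha.2).mul_right
          (commutatorElement_eq_one_iff_mul_comm.1 hb.2)).eq⟩
      inv_mem' := fun {a} ha => ⟨inv_mem ha.1, commutatorElement_eq_one_iff_mul_comm.2
        ((show Commute j a from commutatorElement_eq_one_iff_mul_comm.1 ha.2).inv_right).eq⟩ }
  have hxa : ∀ a ∈ zpowers x, Commute a j ∧ ∀ w ∈ W, Commute a ⁅j, w⁆ := by
    rintro _ ⟨i, rfl⟩
    exact ⟨(show Commute x j from hjx).zpow_left i, fun w hw => (show Commute x _ from hxc w hw).zpow_left i⟩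
  have hm : ⁅W, zpowers x⁆ ≤ F := by
    rw [commutator_le]
    intro w hw a ha
    have hwa : a * w * a⁻¹ ∈ W := (mem_normalizer_iff.1 (zpowers_le.2 hxW ha) w).1 hw
    refine ⟨Coprime.commutator_le_left_of_le_normalizer (zpowers_le.2 hxW) (commutator_mem_commutator hw ha),
      ?_⟩
    have e1 : ⁅j, a * w * a⁻¹⁆ = ⁅j, w⁆ := by
      have h1 : a * ⁅j, w⁆ * a⁻¹ = ⁅j, w⁆ := by rw [((hxa a ha).2 w hw).eq, mul_inv_cancel_right]
      have h2 : a * j * a⁻¹ = j := by rw [(hxa a ha).1.eq, mul_inv_cancel_right]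
      conv_rhs => rw [← h1, conjugate_commutatorElement, h2]
    have key : ∀ g ∈ W, ∀ h ∈ W, ⁅j, g * h⁆ = ⁅j, g⁆ * ⁅j, h⁆ := fun g hg h hh => by
      rw [show ⁅j, g * h⁆ = ⁅j, g⁆ * (g * ⁅j, h⁆ * g⁻¹) by simp only [commutatorElement_def]; group,
        hhom h hh g hg, mul_inv_cancel_right]
    have h3 : ⁅j, (a * w * a⁻¹)⁻¹⁆ = ⁅j, w⁆⁻¹ := by
      have h4 := key _ hwa _ (inv_mem hwa)
      rw [mul_inv_cancel, commutatorElement_one_right, e1] at h4
      exact eq_inv_of_mul_eq_one_right h4.symm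
    rw [show ⁅w, a⁆ = w * (a * w * a⁻¹)⁻¹ by simp only [commutatorElement_def]; group,
      key w hw _ (inv_mem hwa), h3, mul_inv_cancel]
  intro w hw
  obtain ⟨c, hc, m, hm', rfl⟩ :=
    Coprime.exists_centralizer_mul_commutator (zpowers_le.2 hxW) hcop (Or.inl inferInstance) hw
  have hcF : c ∈ F := ⟨hc.1, hC c hc.1 (mem_centralizer_iff.1 hc.2 x (mem_zpowers x))⟩
  exact (mul_mem hcF (hm hm')).2

/-- A group of class two criterion. -/
theorem classTwo_of_abelian {W : Type*} [Group W] [Finite W] {r : ℕ} [Fact r.Prime] (hW : IsPGroup r W)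
    (h : ∀ A : Subgroup W, A.Characteristic → IsMulCommutative A → (∀ a ∈ A, ∀ u : W, ⁅a, u⁆ ∈ center W) →
      A ≤ center W) : (∀ a b : W, ⁅a, b⁆ ∈ center W) ∧ ∀ a : W, a ^ r ∈ center W := by
  classical
  haveI : Group.IsNilpotent W := hW.isNilpotent
  have hcomm : commutator W ≤ center W := by
    obtain ⟨n, hn⟩ := Subgroup.nilpotent_iff_lowerCentralSeries.mp (inferInstance : Group.IsNilpotent W)
    by_contra hle
    have hex : ∃ i, Subgroup.lowerCentralSeries (⊤ : Subgroup W) i ≤ center W := ⟨n, hn ▸ bot_le⟩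
    obtain ⟨j, hj⟩ : ∃ j, Nat.find hex = j + 2 := by
      refine ⟨Nat.find hex - 2, ?_⟩
      have h0 : Nat.find hex ≠ 0 := fun e => hle (le_trans le_top (by simpa [e] using Nat.find_spec hex))
      have h1 : Nat.find hex ≠ 1 := fun e => hle (by
        have := Nat.find_spec hex
        rw [e, Subgroup.lowerCentralSeries_succ, Subgroup.lowerCentralSeries_zero, ← commutator_def] at this
        exact this)
      omega
    set A := Subgroup.lowerCentralSeries (⊤ : Subgroup W) (j + 1) with hA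
    have hAW : ∀ a ∈ A, ∀ u : W, ⁅a, u⁆ ∈ center W := fun a ha u => by
      have := Nat.find_spec hex
      rw [hj, show j + 2 = (j + 1) + 1 from rfl, Subgroup.lowerCentralSeries_succ] at this
      exact this (commutator_mem_commutator ha (mem_top u))
    have hAC : A ≤ commutator W := by
      rw [hA]
      refine ((Subgroup.lowerCentralSeries_antitone _) (show 1 ≤ j + 1 by omega)).trans ?_
      rw [Subgroup.lowerCentralSeries_succ, Subgroup.lowerCentralSeries_zero, ← commutator_def]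
    have hAc : IsMulCommutative A := PGroup.isMulCommutative_of_forall fun a ha b hb => by
      have h1 : ⁅⁅(⊤ : Subgroup W), (⊤ : Subgroup W)⁆, A⁆ = ⊥ := by
        have h2 : ⁅⁅A, (⊤ : Subgroup W)⁆, (⊤ : Subgroup W)⁆ = ⊥ :=
          commutator_eq_bot_iff_le_centralizer.2 (commutator_le.2 fun a ha u _ => mem_centralizer_iff.2
            fun v _ => mem_center_iff.1 (hAW a ha u) v)
        refine commutator_commutator_eq_bot_of_rotate (by rw [commutator_comm (⊤ : Subgroup W) A]; exact h2) h2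
      have h3 := commutator_eq_bot_iff_le_centralizer.1 h1
      exact (mem_centralizer_iff.1 (h3 (hAC hb)) a ha)
    exact Nat.find_min hex (show j + 1 < Nat.find hex by omega) (h A inferInstance hAc hAW)
  have hc : ∀ a b : W, ⁅a, b⁆ ∈ center W := fun a b => hcomm (commutator_mem_commutator (mem_top a) (mem_top b))
  refine ⟨hc, fun a => ?_⟩
  have hpow : ∀ (n : ℕ) (a b : W), ⁅a ^ n, b⁆ = ⁅a, b⁆ ^ n := by
    intro n a b
    induction n with
    | zero => simp
    | succ n ih => rw [pow_succ, PGroup.commutator_mul_left (hc a b), ih, pow_succ]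
  have hpow' : ∀ (n : ℕ) (a b : W), ⁅a, b ^ n⁆ = ⁅a, b⁆ ^ n := by
    intro n a b
    rw [← commutatorElement_inv, hpow, ← inv_pow, commutatorElement_inv]
  have hex : ∃ e, ∀ a b : W, ⁅a, b⁆ ^ r ^ e = 1 := by
    obtain ⟨n, hn⟩ := hW.exists_card_eq
    exact ⟨n, fun a b => by rw [← hn]; exact pow_card_eq_one'⟩
  have he : Nat.find hex ≤ 1 := by
    by_contra hge
    obtain ⟨j, hj⟩ : ∃ j, Nat.find hex = j + 2 := ⟨Nat.find hex - 2, by omega⟩
    set N := r ^ (j + 1) with hN
    let A : Subgroup W := closure (Set.range fun a : W => a ^ N)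
    haveI : A.Characteristic := characteristic_iff_map_le.mpr fun φ => by
      rw [MonoidHom.map_closure]
      refine closure_mono ?_
      rintro _ ⟨_, ⟨a, rfl⟩, rfl⟩
      exact ⟨φ a, (map_pow φ.toMonoidHom a N).symm⟩
    have hAc : IsMulCommutative A := Subgroup.isMulCommutative_closure (by
      rintro _ ⟨a, rfl⟩ _ ⟨b, rfl⟩
      rw [← commutatorElement_eq_one_iff_mul_comm, hpow, hpow', ← pow_mul,
        show N * N = r ^ (j + 2) * r ^ j by rw [hN, ← pow_add, ← pow_add]; congr 1; omega, pow_mul, ← hj,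
        Nat.find_spec hex a b, one_pow])
    refine Nat.find_min hex (show j + 1 < Nat.find hex by omega) fun a b => ?_
    rw [← hN, ← hpow, commutatorElement_eq_one_iff_mul_comm]
    exact (mem_center_iff.mp (h A inferInstance hAc (fun a _ u => hc a u) (subset_closure ⟨a, rfl⟩)) b).symm
  refine mem_center_iff.mpr fun b => (commutatorElement_eq_one_iff_mul_comm.mp ?_).symm
  rw [hpow]
  have := Nat.find_spec hex a b
  rcases Nat.le_one_iff_eq_zero_or_eq_one.mp he with e | e <;> rw [e] at this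
  · rw [pow_zero, pow_one] at this; rw [this, one_pow]
  · rwa [pow_one] at this

end group


section weights

variable {k : Type uk} [Field k] {V : Type uV} [AddCommGroup V] [Module k V] {Γ : Type*} [Group Γ]
  {ρ : Γ →* Module.End k V} (A : Subgroup Γ) [A.Normal] [IsMulCommutative A]

theorem char_eq_of_mem {χ η : A →* kˣ} {u : V} (h1 : u ∈ wsp (ρ.comp A.subtype) χ)
    (h2 : u ∈ wsp (ρ.comp A.subtype) η) (hu : u ≠ 0) : χ = η :=
  MonoidHom.ext fun a => Units.ext (smul_left_injective k hu ((h1 a).symm.trans (h2 a)))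

theorem tw_eq_of_fixed {g : Γ} {χ : A →* kˣ} {u : V} (h : u ∈ wsp (ρ.comp A.subtype) χ) (hu : u ≠ 0)
    (hg : ρ g u = u) : tw A g χ = χ := by
  have h1 := map_wsp ρ A g h
  rw [hg] at h1
  exact char_eq_of_mem A h1 h hu

theorem tw_eq_of_commute {g : Γ} (h : ∀ a ∈ A, g * a = a * g) (χ : A →* kˣ) : tw A g χ = χ := by
  refine MonoidHom.ext fun a => ?_
  rw [tw_apply]
  congr 1
  refine Subtype.ext ?_
  rw [MulAut.conjNormal_apply, inv_inv, mul_assoc, ← h a a.2, inv_mul_cancel_left]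

variable [Finite Γ] [IsAlgClosed k]

/-- Weight projections are carried along. -/
theorem wproj_map (hA : (Nat.card A : k) ≠ 0) (g : Γ) (χ : A →* kˣ) (v : V) :
    wproj (ρ.comp A.subtype) (tw A g χ) (ρ g v) = ρ g (wproj (ρ.comp A.subtype) χ v) := by
  classical
  set σ := ρ.comp A.subtype with hσ
  haveI := (card_chars (K := k) (A := A) hA).1
  letI := Fintype.ofFinite (A →* kˣ)
  letI := charAction (K := k) A
  refine smul_right_injective V hA ?_
  show (Nat.card A : k) • wproj σ (tw A g χ) (ρ g v) = (Nat.card A : k) • ρ g (wproj σ χ v)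
  have hv : (Nat.card A : k) • v = ∑ η, wproj σ η v := by
    rw [← LinearMap.sum_apply, sum_wproj σ hA]; rfl
  rw [← map_smul (wproj σ (tw A g χ)), ← map_smul (ρ g), hv, map_sum, map_sum,
    Finset.sum_eq_single χ (fun η _ hη => wproj_of_mem_ne σ
      (fun e : tw A g η = tw A g χ => hη (MulAction.injective g e)) (map_wsp ρ A g (wproj_mem σ η v))) (by simp),
    wproj_of_mem_same σ (map_wsp ρ A g (wproj_mem σ χ v))]

theorem exists_wproj_ne_zero (hA : (Nat.card A : k) ≠ 0) {v : V} (hv : v ≠ 0) :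
    ∃ χ, wproj (ρ.comp A.subtype) χ v ≠ 0 := by
  by_contra hno
  push Not at hno
  haveI := (card_chars (K := k) (A := A) hA).1
  letI := Fintype.ofFinite (A →* kˣ)
  refine hv (smul_right_injective V hA ?_)
  show (Nat.card A : k) • v = (Nat.card A : k) • (0 : V)
  rw [smul_zero, show (Nat.card A : k) • v = ∑ η, wproj (ρ.comp A.subtype) η v by
    rw [← LinearMap.sum_apply, sum_wproj _ hA]; rfl]
  exact Finset.sum_eq_zero fun η _ => hno η

theorem exists_weight [Nontrivial V] (hA : (Nat.card A : k) ≠ 0) :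
    ∃ χ, wsp (ρ.comp A.subtype) χ ≠ ⊥ := by
  obtain ⟨v, hv⟩ := exists_ne (0 : V)
  obtain ⟨χ, hχ⟩ := exists_wproj_ne_zero (ρ := ρ) A hA hv
  exact ⟨χ, (Submodule.ne_bot_iff _).2 ⟨_, wproj_mem _ _ _, hχ⟩⟩

/-- A single weight: `A` is scalar. -/
theorem scalar_of_single (hA : (Nat.card A : k) ≠ 0) {χ₀ : A →* kˣ}
    (h : ∀ χ, wsp (ρ.comp A.subtype) χ ≠ ⊥ → χ = χ₀) {a : Γ} (ha : a ∈ A) :
    ρ a = (χ₀ ⟨a, ha⟩ : k) • (1 : Module.End k V) := by
  refine eq_of_eqOn_wsp A hA (ρ.comp A.subtype) _ _ fun η v hv => ?_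
  by_cases hv0 : v = 0
  · simp [hv0]
  rw [← h η ((Submodule.ne_bot_iff _).2 ⟨v, hv, hv0⟩)]
  exact (hv ⟨a, ha⟩ : _)

/-- The sum over an orbit of `x` on the weights is a fixed vector. -/
theorem exists_fixed_of_moved {p : ℕ} [Fact p.Prime] {x : Γ} (hx : x ^ p = 1) (hA : (Nat.card A : k) ≠ 0)
    {χ : A →* kˣ} (hχ : wsp (ρ.comp A.subtype) χ ≠ ⊥) (hmov : tw A x χ ≠ χ) :
    ∃ u : V, u ≠ 0 ∧ ρ x u = u := by
  classical
  letI := charAction (K := k) A
  set σ := ρ.comp A.subtype
  obtain ⟨v, hv, hv0⟩ := (Submodule.ne_bot_iff _).mp hχ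
  set u : V := ∑ i ∈ Finset.range p, ρ (x ^ i) v with hu
  refine ⟨u, fun h0 => ?_, ?_⟩
  · have h2 : wproj σ χ u = (Nat.card A : k) • v := by
      rw [hu, map_sum, Finset.sum_eq_single 0 (fun i hi hi0 => wproj_of_mem_ne σ ?_
        (pow_apply_mem_wsp A x hv i)) (by simp [(Fact.out : p.Prime).pos]), pow_zero, map_one,
        Module.End.one_apply, wproj_of_mem_same σ hv]
      intro e
      apply hmov
      have hord : p.Coprime i := (Nat.Prime.coprime_iff_not_dvd Fact.out).mpr fun hd =>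
        hi0 (Nat.eq_zero_of_dvd_of_lt hd (Finset.mem_range.mp hi))
      obtain ⟨m, hm⟩ := Nat.exists_mul_mod_eq_one_of_coprime hord.symm (Fact.out : p.Prime).one_lt
      have h1 : x = (x ^ i) ^ m := by
        rw [← pow_mul, ← Nat.mod_add_div (i * m) p, pow_add, pow_mul, hx, one_pow, mul_one, hm.2, pow_one]
      rw [h1]
      exact pow_mem (show x ^ i ∈ MulAction.stabilizer Γ χ from e) m
    rw [h0, map_zero, eq_comm, smul_eq_zero] at h2
    exact hv0 (h2.resolve_left hA)
  · have h1 := Finset.sum_range_succ' (fun i => ρ (x ^ i) v) p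
    rw [Finset.sum_range_succ, hx, ← pow_zero x] at h1
    rw [hu, map_sum, add_right_cancel h1]
    exact Finset.sum_congr rfl fun i _ => by rw [pow_succ', map_mul, Module.End.mul_apply]

/-- On a weight moved by `x` an element commuting with `x` and trivial on its fixed points is trivial. -/
theorem trivial_on_moved [FiniteDimensional k V] {p q : ℕ} [Fact p.Prime] [Fact q.Prime] {x z : Γ}
    (hxp : x ^ p = 1) (hzq : z ^ q = 1) (hxz : x * z = z * x) (hpq : p ≠ q)
    (hfix : ∀ v, ρ x v = v → ρ z v = v) (hA : (Nat.card A : k) ≠ 0) {χ : A →* kˣ}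
    (hχ : wsp (ρ.comp A.subtype) χ ≠ ⊥) (hmov : tw A x χ ≠ χ) :
    tw A z χ = χ ∧ ∀ v ∈ wsp (ρ.comp A.subtype) χ, ρ z v = v := by
  classical
  letI act := charAction (K := k) A
  set σ := ρ.comp A.subtype
  have hp := (Fact.out : p.Prime)
  have hper : ∀ i, tw A (x ^ i) χ = χ → p ∣ i := by
    intro i hi
    by_contra hpi
    apply hmov
    obtain ⟨m, hm⟩ := Nat.exists_mul_mod_eq_one_of_coprime ((Nat.Prime.coprime_iff_not_dvd hp).mpr hpi).symm hp.one_lt
    have h1 : x = (x ^ i) ^ m := by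
      rw [← pow_mul, ← Nat.mod_add_div (i * m) p, pow_add, pow_mul, hxp, one_pow, mul_one]
      rw [hm.2, pow_one]
    have h2 : x ^ i ∈ MulAction.stabilizer Γ χ := hi
    have h3 := pow_mem h2 m
    rw [← h1] at h3
    exact h3
  have hdist : ∀ g : Γ, ∀ i ∈ Finset.range p, ∀ j ∈ Finset.range p,
      tw A (g * x ^ i) χ = tw A (g * x ^ j) χ → i = j := by
    intro g i hi j hj e
    rw [Finset.mem_range] at hi hj
    wlog hle : i ≤ j generalizing i j
    · exact (this j hj i hi e.symm (le_of_not_ge hle)).symm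
    have e' : tw A (x ^ i) χ = tw A (x ^ j) χ := by
      have := congrArg (fun η => g⁻¹ • η) e
      change g⁻¹ • ((g * x ^ i) • χ) = g⁻¹ • ((g * x ^ j) • χ) at this
      rwa [smul_smul, smul_smul, inv_mul_cancel_left, inv_mul_cancel_left] at this
    have h2 : tw A (x ^ (j - i)) χ = χ := by
      change x ^ i • χ = x ^ j • χ at e'
      rw [show x ^ j = x ^ i * x ^ (j - i) by rw [← pow_add, Nat.add_sub_cancel' hle], mul_smul] at e'
      exact (MulAction.injective (x ^ i) e').symm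
    have := Nat.eq_zero_of_dvd_of_lt (hper _ h2) (by omega)
    omega
  have key : ∀ v ∈ wsp σ χ, v ≠ 0 → tw A z χ = χ ∧ ρ z v = v := by
    intro v hv hv0
    set u : V := ∑ i ∈ Finset.range p, ρ (x ^ i) v with hu
    have hxu : ρ x u = u := by
      have h1 := Finset.sum_range_succ' (fun i => ρ (x ^ i) v) p
      rw [Finset.sum_range_succ, hxp, ← pow_zero x] at h1
      rw [hu, map_sum, add_right_cancel h1]
      exact Finset.sum_congr rfl fun i _ => by rw [pow_succ', map_mul, Module.End.mul_apply]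
    have hzu : ∑ i ∈ Finset.range p, ρ (z * x ^ i) v = ∑ i ∈ Finset.range p, ρ (x ^ i) v := by
      have := hfix u hxu
      rw [hu, map_sum] at this
      refine Eq.trans (Finset.sum_congr rfl fun i _ => ?_) this
      rw [map_mul, Module.End.mul_apply]
    have hzv : ρ z v ∈ wsp σ (tw A z χ) := map_wsp ρ A z hv
    have hzv0 : ρ z v ≠ 0 := fun e => hv0 (rho_injective ρ z (e.trans (map_zero _).symm))
    have hL : wproj σ (tw A z χ) (∑ i ∈ Finset.range p, ρ (z * x ^ i) v) = (Nat.card A : k) • ρ z v := by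
      rw [map_sum, Finset.sum_eq_single 0 (fun i hi hi0 => wproj_of_mem_ne σ
        (fun e => hi0 (hdist z i hi 0 (Finset.mem_range.mpr hp.pos) (by rw [pow_zero, mul_one]; exact e)))
        (map_wsp ρ A _ hv)) (by simp [hp.pos]), pow_zero, mul_one, wproj_of_mem_same σ hzv]
    obtain ⟨j, hj, hje⟩ : ∃ j ∈ Finset.range p, tw A (x ^ j) χ = tw A z χ := by
      by_contra hno
      push Not at hno
      rw [hzu, map_sum, Finset.sum_eq_zero fun i hi => wproj_of_mem_ne σ (hno i hi) (pow_apply_mem_wsp A x hv i),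
        eq_comm, smul_eq_zero] at hL
      exact hzv0 (hL.resolve_left hA)
    have hR : (Nat.card A : k) • ρ (x ^ j) v = (Nat.card A : k) • ρ z v := by
      rw [← hL, hzu, map_sum, Finset.sum_eq_single j (fun i hi hij => wproj_of_mem_ne σ
        (fun e => hij (hdist 1 i hi j hj (by rw [one_mul, one_mul]; exact e.trans hje.symm)))
        (pow_apply_mem_wsp A x hv i)) (fun h => absurd hj h),
        ← hje, wproj_of_mem_same σ (pow_apply_mem_wsp A x hv j)]
    have hjv : ρ z v = ρ (x ^ j) v := (smul_right_injective V hA hR).symm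
    have hpow : ∀ n, ρ (z ^ n) v = ρ (x ^ (j * n)) v := by
      intro n
      induction n with
      | zero => simp
      | succ n ih =>
        rw [pow_succ', map_mul, Module.End.mul_apply, ih, ← Module.End.mul_apply, ← map_mul,
          ((show Commute x z from hxz).pow_left (j * n)).symm.eq, map_mul, Module.End.mul_apply, hjv,
          ← Module.End.mul_apply, ← map_mul, ← pow_add, Nat.mul_succ]
    have h1 := hpow q
    rw [hzq, map_one, Module.End.one_apply] at h1
    have h2 : tw A (x ^ (j * q)) χ = χ := by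
      by_contra hne
      have h3 := wproj_of_mem_ne σ hne (pow_apply_mem_wsp A x hv (j * q))
      rw [← h1, wproj_of_mem_same σ hv, smul_eq_zero] at h3
      exact hv0 (h3.resolve_left hA)
    have hj0 : j = 0 := Nat.eq_zero_of_dvd_of_lt
      ((Nat.Prime.dvd_mul hp).mp (hper _ h2) |>.resolve_right fun e =>
        hpq ((Nat.prime_dvd_prime_iff_eq hp Fact.out).mp e)) (Finset.mem_range.mp hj)
    subst hj0
    rw [pow_zero, map_one, Module.End.one_apply] at hjv
    rw [pow_zero] at hje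
    exact ⟨hje.symm.trans (one_smul Γ χ), hjv⟩
  obtain ⟨v, hv, hv0⟩ := (Submodule.ne_bot_iff _).mp hχ
  refine ⟨(key v hv hv0).1, fun w hw => ?_⟩
  by_cases hw0 : w = 0
  · rw [hw0, map_zero]
  · exact (key w hw hw0).2

end weights

end Cfsg.Agent.TwoGenSolvable
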