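import Mathlib
import Cfsg.Agent.Lib.TwoGenSolvable.JTools

/-!
# Images of a representation as data of the module lemma; representations from actions on elementary groups
-/

set_option autoImplicit false
set_option linter.style.haveILetI false
set_option linter.unusedSectionVars false

namespace Cfsg.Agent.TwoGenSolvable

open Subgroup FixedDim HallHigman TensorProduct
open scoped commutatorElement IsMulCommutative

universe uk uV

section image

variable {k : Type uk} [Field k] {V : Type uV} [AddCommGroup V] [Module k V] {Γ : Type*} [Group Γ]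
  (σ : Γ →* Module.End k V) (W : Subgroup Γ) (x z : Γ)

/-- The image of `W⟨x, z⟩`. -/
def imG : Subgroup (Module.End k V)ˣ := (W ⊔ closure ({x, z} : Set Γ)).map σ.toHomUnits

/-- Its natural representation. -/
def imRep : imG σ W x z →* Module.End k V := (Units.coeHom (Module.End k V)).comp (imG σ W x z).subtype

/-- The image of `W`. -/
def imW : Subgroup (imG σ W x z) := (W.map σ.toHomUnits).subgroupOf (imG σ W x z)

/-- The image of an element. -/
def imEl (g : Γ) (hg : g ∈ W ⊔ closure ({x, z} : Set Γ)) : imG σ W x z :=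
  ⟨σ.toHomUnits g, mem_map_of_mem _ hg⟩

variable {σ W x z}

theorem left_mem : x ∈ W ⊔ closure ({x, z} : Set Γ) := mem_sup_right (subset_closure (Set.mem_insert _ _))

theorem right_mem : z ∈ W ⊔ closure ({x, z} : Set Γ) :=
  mem_sup_right (subset_closure (Set.mem_insert_of_mem _ rfl))

theorem imRep_imEl (g : Γ) (hg : g ∈ W ⊔ closure ({x, z} : Set Γ)) : imRep σ W x z (imEl σ W x z g hg) = σ g :=
  rfl

theorem imRep_injective : Function.Injective (imRep σ W x z) := fun _ _ h => Subtype.ext (Units.ext h)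

theorem exists_of_imW (u : imW σ W x z) : ∃ w ∈ W, σ.toHomUnits w = ((u : imG σ W x z) : (Module.End k V)ˣ) :=
  u.2

/-- The element of the image of `W` coming from an element of `W`. -/
def imWEl (w : Γ) (hw : w ∈ W) : imW σ W x z :=
  ⟨imEl σ W x z w (mem_sup_left hw), mem_map_of_mem _ hw⟩

theorem imW_normal (hx : x ∈ normalizer (W : Set Γ)) (hz : z ∈ normalizer (W : Set Γ)) :
    (imW σ W x z).Normal := by
  refine normal_subgroupOf_of_le_normalizer ((map_mono (sup_le le_normalizer ?_)).trans (le_normalizer_map _))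
  rw [closure_le]
  rintro g (rfl | rfl) <;> assumption

theorem imW_ne_bot (h : ∃ w ∈ W, σ w ≠ 1) : imW σ W x z ≠ ⊥ := by
  obtain ⟨w, hw, hne⟩ := h
  intro e
  have h1 : (imWEl (σ := σ) (x := x) (z := z) w hw : imW σ W x z) = 1 := by
    refine Subtype.ext (mem_bot.1 ?_)
    rw [← e]
    exact (imWEl (σ := σ) (x := x) (z := z) w hw).2
  exact hne (congrArg (fun u : imW σ W x z => imRep σ W x z (u : imG σ W x z)) h1 |>.trans (map_one _))

theorem imRep_irr (hirr : ∀ U : Submodule k V, (∀ w ∈ W, ∀ u ∈ U, σ w u ∈ U) → (∀ u ∈ U, σ x u ∈ U) →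
    (∀ u ∈ U, σ z u ∈ U) → U = ⊥ ∨ U = ⊤) : NoInvariant (imRep σ W x z) := fun U hU =>
  hirr U (fun w hw => hU (imEl σ W x z w (mem_sup_left hw))) (hU (imEl σ W x z x left_mem))
    (hU (imEl σ W x z z right_mem))

theorem imW_gen : imW σ W x z ⊔ closure {imEl σ W x z x left_mem, imEl σ W x z z right_mem} = ⊤ := by
  refine map_injective (imG σ W x z).subtype_injective ?_
  rw [Subgroup.map_sup, imW, map_subgroupOf_eq_of_le (show W.map σ.toHomUnits ≤ imG σ W x z from
    map_mono le_sup_left), MonoidHom.map_closure, Set.image_pair, ← MonoidHom.range_eq_map, range_subtype]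
  show W.map σ.toHomUnits ⊔ closure {σ.toHomUnits x, σ.toHomUnits z} = _
  rw [imG, Subgroup.map_sup, MonoidHom.map_closure, Set.image_pair]

theorem imW_pgroup {r : ℕ} (hW : IsPGroup r W) : IsPGroup r (imW σ W x z) := (hW.map _).comap_subtype

theorem Moves.im {g : Γ} (h : Moves g W) (hg : g ∈ W ⊔ closure ({x, z} : Set Γ)) :
    Moves (imEl σ W x z g hg) (imW σ W x z) :=
  (h.map σ.toHomUnits).subgroupOf (map_mono le_sup_left) (mem_map_of_mem _ hg)

instance [Finite Γ] : Finite (imG σ W x z) :=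
  Finite.of_surjective (fun g : ↥(W ⊔ closure ({x, z} : Set Γ)) => (⟨σ.toHomUnits g, mem_map_of_mem _ g.2⟩ :
    imG σ W x z)) (by rintro ⟨_, g, hg, rfl⟩; exact ⟨⟨g, hg⟩, rfl⟩)

/-- The image as data of the module lemma. -/
theorem image_ldata [Finite Γ] {p q r : ℕ} [Fact p.Prime] [Fact r.Prime] (hxW : x ∈ normalizer (W : Set Γ))
    (hirr : ∀ U : Submodule k V, (∀ w ∈ W, ∀ u ∈ U, σ w u ∈ U) → (∀ u ∈ U, σ x u ∈ U) →
      (∀ u ∈ U, σ z u ∈ U) → U = ⊥ ∨ U = ⊤)
    (hxz : x * z = z * x) (hxp : x ^ p = 1) (hzq : σ z ^ q = 1) (hW : IsPGroup r W) (hrp : r ≠ p)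
    (hmx : Moves x W) (hmz : Moves z W) (hcen : ∀ w ∈ W, x * w = w * x → z * w = w * z)
    (hrK : (r : k) ≠ 0) (hpK : (p : k) ≠ 0)
    (hfix : (p ≠ q ∧ ∀ v, σ x v = v → σ z v = v) ∨ (z = x ∧ ∀ v, σ x v = v → v = 0)) :
    LData (imRep σ W x z) p q r (imEl σ W x z x left_mem) (imEl σ W x z z right_mem) (imW σ W x z) where
  inj := imRep_injective
  irr := imRep_irr hirr
  gen := imW_gen
  comm := Subtype.ext (by
    show σ.toHomUnits x * σ.toHomUnits z = σ.toHomUnits z * σ.toHomUnits x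
    rw [← map_mul, ← map_mul, hxz])
  xp := Subtype.ext (by
    show σ.toHomUnits x ^ p = 1
    rw [← map_pow, hxp, map_one])
  zq := imRep_injective (by rw [map_pow, map_one, imRep_imEl]; exact hzq)
  pgroup := imW_pgroup hW
  movex := hmx.im left_mem
  movez := hmz.im right_mem
  central := by
    intro u hu hc
    obtain ⟨w, hw, hwu⟩ := hu
    replace hwu : σ.toHomUnits w = ((u : imG σ W x z) : (Module.End k V)ˣ) := hwu
    have hc' : σ.toHomUnits x * σ.toHomUnits w = σ.toHomUnits w * σ.toHomUnits x := by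
      rw [hwu]; exact congrArg Subtype.val hc
    obtain ⟨c, hcW, hxc, hcw⟩ := exists_commute_lift σ.toHomUnits hxW (coprime_zpowers hxp hrp hW) hw hc'
    refine Subtype.ext ?_
    show σ.toHomUnits z * (u : (Module.End k V)ˣ) = (u : (Module.End k V)ˣ) * σ.toHomUnits z
    rw [← hwu, ← hcw, ← map_mul, ← map_mul, hcen c hcW hxc]
  rK := hrK
  pK := hpK
  rp := hrp
  fix := hfix.imp id fun h => ⟨Subtype.ext (congrArg σ.toHomUnits h.1), h.2⟩

/-- Class two and scalar centre pass to the image. -/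
theorem image_classTwo (hcomm : ∀ a ∈ W, ∀ b ∈ W, ∃ c : k, σ ⁅a, b⁆ = c • (1 : Module.End k V))
    (hcen : ∀ a ∈ W, (∀ b ∈ W, σ a * σ b = σ b * σ a) → ∃ c : k, σ a = c • (1 : Module.End k V)) :
    (∀ a b : imW σ W x z, ⁅a, b⁆ ∈ center (imW σ W x z)) ∧
      ∀ {a : imW σ W x z}, a ∈ center (imW σ W x z) → ∃ c : k, imRep σ W x z a = c • (1 : Module.End k V) := by
  have key : ∀ u : imW σ W x z, ∃ (w : Γ) (hw : w ∈ W), u = imWEl w hw := fun u => by
    obtain ⟨w, hw, h⟩ := exists_of_imW u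
    exact ⟨w, hw, Subtype.ext (Subtype.ext h.symm)⟩
  have hrep : ∀ w (hw : w ∈ W), imRep σ W x z (imWEl (σ := σ) (x := x) (z := z) w hw : imW σ W x z) = σ w :=
    fun w hw => rfl
  have hcen' : ∀ u : imW σ W x z, (∃ c : k, imRep σ W x z u = c • (1 : Module.End k V)) →
      u ∈ center (imW σ W x z) := fun u ⟨c, hc⟩ => mem_center_iff.2 fun v => Subtype.ext (imRep_injective (by
        show imRep σ W x z ((v : imG σ W x z) * u) = imRep σ W x z ((u : imG σ W x z) * v)
        rw [map_mul, map_mul, hc, mul_smul_comm, smul_mul_assoc, mul_one, one_mul]))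
  refine ⟨fun a b => ?_, fun {a} ha => ?_⟩
  · obtain ⟨wa, hwa, rfl⟩ := key a
    obtain ⟨wb, hwb, rfl⟩ := key b
    refine hcen' _ ?_
    obtain ⟨c, hc⟩ := hcomm wa hwa wb hwb
    refine ⟨c, hc ▸ ?_⟩
    show _ = ((σ.toHomUnits ⁅wa, wb⁆ : (Module.End k V)ˣ) : Module.End k V)
    rw [map_commutatorElement]
    rfl
  · obtain ⟨wa, hwa, rfl⟩ := key a
    refine hcen wa hwa fun b hb => ?_
    have h1 := congrArg (fun u : imW σ W x z => imRep σ W x z u) (mem_center_iff.1 ha (imWEl b hb))
    simp only [Subgroup.coe_mul, map_mul, hrep] at h1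
    exact h1.symm

end image

section corollaries

variable {k : Type uk} [Field k] [IsAlgClosed k] {V : Type uV} [AddCommGroup V] [Module k V]
  [FiniteDimensional k V] [Nontrivial V] {Γ : Type*} [Group Γ] [Finite Γ] {σ : Γ →* Module.End k V}
  {W : Subgroup Γ} {x z : Γ} {p q r : ℕ} [Fact p.Prime] [Fact r.Prime]

/-- `x` without fixed points. -/
theorem no_fixed_facts (hxW : x ∈ normalizer (W : Set Γ))
    (hirr : ∀ U : Submodule k V, (∀ w ∈ W, ∀ u ∈ U, σ w u ∈ U) → (∀ u ∈ U, σ x u ∈ U) → U = ⊥ ∨ U = ⊤)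
    (hxp : x ^ p = 1) (hp3 : 3 < p) (hW : IsPGroup r W) (hrp : r ≠ p) (hmx : Moves x W)
    (hne : ∃ w ∈ W, σ w ≠ 1) (hrK : (r : k) ≠ 0) (hpK : (p : k) ≠ 0) (hx0 : ∀ v, σ x v = v → v = 0) :
    r = 2 ∧ Module.finrank k V + 1 = p := by
  haveI := imW_normal (σ := σ) hxW hxW
  have h := image_ldata (z := x) (q := p) hxW (fun U h1 h2 _ => hirr U h1 h2) rfl hxp
    (by rw [← map_pow, hxp, map_one]) hW hrp hmx hmx (fun _ _ e => e) hrK hpK (Or.inr ⟨rfl, hx0⟩)
  exact h.of_no_fixed hp3 (imW_ne_bot hne) fun v hv => hx0 v hv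

/-- A missing eigenvalue forces `r = 2`. -/
theorem two_of_missing (hxW : x ∈ normalizer (W : Set Γ))
    (hirr : ∀ U : Submodule k V, (∀ w ∈ W, ∀ u ∈ U, σ w u ∈ U) → (∀ u ∈ U, σ x u ∈ U) → U = ⊥ ∨ U = ⊤)
    (hxp : x ^ p = 1) (hp3 : 3 < p) (hW : IsPGroup r W) (hrp : r ≠ p) (hmx : Moves x W)
    (hne : ∃ w ∈ W, σ w ≠ 1) (hrK : (r : k) ≠ 0) (hpK : (p : k) ≠ 0) {ζ : k} (hζ : IsPrimitiveRoot ζ p)
    (i : Fin p) (hi : eig ζ (σ x) i = ⊥) : r = 2 := by
  have hp := (Fact.out : p.Prime)
  haveI : NeZero p := ⟨hp.ne_zero⟩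
  let u : kˣ := (hζ.isUnit hp.ne_zero).unit
  let c : rootsOfUnity p k := ⟨(u ^ (i : ℕ))⁻¹, by
    rw [mem_rootsOfUnity, inv_pow, ← pow_mul, mul_comm, pow_mul]
    simp only [inv_eq_one]
    rw [show u ^ p = 1 from Units.ext (by simpa [u] using hζ.pow_eq_one), one_pow]⟩
  have hc : ((c : kˣ) : k) = (ζ ^ (i : ℕ))⁻¹ := by simp [c, u]
  let τ : Γ × rootsOfUnity p k →* Module.End k V :=
    { toFun := fun g => ((g.2 : kˣ) : k) • σ g.1
      map_one' := by simp
      map_mul' := fun g h => by rw [smul_mul_smul_comm, ← map_mul]; rfl }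
  have hτ : ∀ g, τ (g, 1) = σ g := fun g => by simp [τ]
  set W' : Subgroup (Γ × rootsOfUnity p k) := W.map (MonoidHom.inl Γ (rootsOfUnity p k)) with hW'
  have hmem : ∀ g : Γ × rootsOfUnity p k, g ∈ W' ↔ g.1 ∈ W ∧ g.2 = 1 := fun g => by
    constructor
    · rintro ⟨w, hw, rfl⟩; exact ⟨hw, rfl⟩
    · rintro ⟨h1, h2⟩; exact ⟨g.1, h1, Prod.ext rfl h2.symm⟩
  have hx' : (x, c) ∈ normalizer (W' : Set (Γ × rootsOfUnity p k)) := mem_normalizer_iff.2 fun g => by
    rw [hmem, hmem]
    simp only [Prod.fst_mul, Prod.snd_mul, Prod.fst_inv, Prod.snd_inv, mul_right_comm c g.2, mul_inv_cancel,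
      one_mul]
    exact and_congr_left fun _ => mem_normalizer_iff.1 hxW g.1
  have hmx' : Moves (x, c) W' := by
    refine (map_mono hmx).trans ?_
    rw [MonoidHom.map_closure]
    refine closure_mono ?_
    rintro _ ⟨_, ⟨w, hw, rfl⟩, rfl⟩
    exact ⟨(w, 1), (hmem _).2 ⟨hw, rfl⟩, by simp [commutatorElement_def]⟩
  obtain ⟨w, hw, hwne⟩ := hne
  refine (no_fixed_facts (σ := τ) hx' (fun U h1 h2 => ?_) ?_ hp3 (hW.map _) hrp hmx'
    ⟨(w, 1), (hmem _).2 ⟨hw, rfl⟩, by rwa [hτ]⟩ hrK hpK fun v hv => ?_).1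
  · refine hirr U (fun w hw v hv => hτ w ▸ h1 (w, 1) ((hmem _).2 ⟨hw, rfl⟩) v hv) fun v hv => ?_
    have h3 : ((c : kˣ) : k) • σ x v ∈ U := h2 v hv
    simpa [smul_smul] using U.smul_mem ((c : kˣ)⁻¹ : kˣ).val h3
  · refine Prod.ext hxp (Subtype.ext ?_)
    exact c.2
  · have h3 : ((c : kˣ) : k) • σ x v = v := hv
    refine (Submodule.mem_bot k).1 (hi ▸ Module.End.mem_eigenspace_iff.2 ?_)
    conv_rhs => rw [← h3, hc, smul_smul, mul_inv_cancel₀ (pow_ne_zero _ (hζ.ne_zero hp.ne_zero)), one_smul]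

variable [Fact q.Prime]

/-- The exceptional configuration, as inequalities. -/
theorem exceptional_facts (hxW : x ∈ normalizer (W : Set Γ)) (hzW : z ∈ normalizer (W : Set Γ))
    (hirr : ∀ U : Submodule k V, (∀ w ∈ W, ∀ u ∈ U, σ w u ∈ U) → (∀ u ∈ U, σ x u ∈ U) →
      (∀ u ∈ U, σ z u ∈ U) → U = ⊥ ∨ U = ⊤)
    (hxz : x * z = z * x) (hxp : x ^ p = 1) (hzq : σ z ^ q = 1) (hp3 : 3 < p) (hpq : p ≠ q)
    (hW : IsPGroup r W) (hrp : r ≠ p) (hmx : Moves x W) (hmz : Moves z W)
    (hcen : ∀ w ∈ W, x * w = w * x → z * w = w * z) (hne : ∃ w ∈ W, σ w ≠ 1) (hrK : (r : k) ≠ 0)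
    (hpK : (p : k) ≠ 0) (hfix : ∀ v, σ x v = v → σ z v = v) :
    q = 2 ∧ Module.finrank k V + 1 = 2 * p ∧ Module.finrank k (LinearMap.ker (σ x - 1)) = 1 ∧
      2 * Module.finrank k (LinearMap.ker (σ z - 1)) ≤ Module.finrank k V + 1 := by
  classical
  haveI := imW_normal (σ := σ) hxW hzW
  have h := image_ldata (q := q) hxW hirr hxz hxp hzq hW hrp hmx hmz hcen hrK hpK (Or.inl ⟨hpq, hfix⟩)
  have e := h.exceptional hp3 (imW_ne_bot hne) hpq hfix
  have hline : Module.finrank k (LinearMap.ker (σ x - 1)) = 1 := e.line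
  have hdim : Module.finrank k V + 1 = 2 * p := e.dim
  have hp := (Fact.out : p.Prime)
  obtain ⟨ζ, hζ⟩ := exists_zeta (k := k) hpK
  set F := LinearMap.ker (σ z - 1)
  have hF : ∀ v ∈ F, σ x v ∈ F := fun v hv => by
    rw [mem_ker_sub_one] at hv ⊢
    rw [← Module.End.mul_apply, ← map_mul, ← hxz, map_mul, Module.End.mul_apply, hv]
  have hpow : ∀ (j : ℕ) (u : F), ((((σ x).restrict hF) ^ j) u : V) = σ (x ^ j) (u : V) := fun j u => by
    induction j with
    | zero => simp
    | succ j ih => rw [pow_succ', Module.End.mul_apply, LinearMap.coe_restrict_apply, ih, pow_succ', map_mul,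
        Module.End.mul_apply]
  have hsum := sum_finrank_eig (S := (σ x).restrict hF) hζ hpK hp.pos
    (LinearMap.ext fun u => Subtype.ext (by rw [hpow, hxp, map_one]; rfl))
  have hle : ∀ i : Fin p, Module.finrank k (eig ζ ((σ x).restrict hF) i) ≤ 1 := by
    intro i
    let L : eig ζ ((σ x).restrict hF) i →ₗ[k] eig ζ (σ x) i :=
      (F.subtype ∘ₗ (eig ζ ((σ x).restrict hF) i).subtype).codRestrict _ fun v =>
        Module.End.mem_eigenspace_iff.2 (congrArg Subtype.val (eig_apply v.2) :)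
    have hL : Function.Injective L := fun a b hab => Subtype.ext (Subtype.ext (congrArg Subtype.val hab :))
    have h1 := LinearMap.finrank_le_finrank_of_injective hL
    by_cases hi : (i : ℕ) = 0
    · have h2 : Module.finrank k (eig ζ (σ x) i) = 1 := by
        rw [show i = ⟨0, hp.pos⟩ from Fin.ext hi, eig_zero]; exact hline
      omega
    · have h2 : Module.finrank k (eig ζ (σ x) i) = 2 := e.eig_two ζ hζ i hi
      by_contra hgt
      have hsurj := (LinearMap.injective_iff_surjective_of_finrank_eq_finrank (f := L) (by omega)).1 hL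
      refine e.nonscalar ζ hζ i hi ⟨1, fun v hv => ?_⟩
      obtain ⟨u, hu⟩ := hsurj ⟨v, hv⟩
      rw [one_smul, show v = ((u : F) : V) from (congrArg Subtype.val hu).symm]
      exact mem_ker_sub_one.1 (u : F).2
  refine ⟨e.q_two, hdim, hline, ?_⟩
  have h3 := Finset.sum_le_sum fun i (_ : i ∈ (Finset.univ : Finset (Fin p))) => hle i
  rw [hsum] at h3
  simp at h3
  omega

end corollaries

section rep

variable {Γ : Type*} [Group Γ] [Finite Γ]

/-- A representation over the algebraic closure from an action on a finite `ZMod s`-space; it keeps the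
sizes of fixed subspaces. -/
theorem exists_rep_space {s : ℕ} [Fact s.Prime] {M : Type*} [AddCommGroup M] [Finite M] [Module (ZMod s) M]
    (act : Γ → M →+ M) (hone1 : ∀ w, act 1 w = w) (hmul : ∀ g h w, act (g * h) w = act g (act h w)) :
    ∃ (m : ℕ) (σ : Γ →* Module.End (AlgebraicClosure (ZMod s)) (Fin m → AlgebraicClosure (ZMod s))),
      Nat.card M = s ^ m ∧ (∀ g, σ g = 1 ↔ ∀ w, act g w = w) ∧
      (∀ g, Nat.card {a : M // act g a = a} =
        s ^ Module.finrank (AlgebraicClosure (ZMod s)) (LinearMap.ker (σ g - 1))) ∧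
      (∀ (g h : Γ) (n : ℕ), g ^ n = 1 → ¬ s ∣ n → (∀ a, act g a = a → act h a = a) →
        ∀ v, σ g v = v → σ h v = v) ∧
      ∀ R : Subgroup Γ, ¬ s ∣ Nat.card R → (∀ a, (∀ g ∈ R, act g a = a) → a = 0) →
        ∀ v, (∀ g ∈ R, σ g v = v) → v = 0 := by
  classical
  set K := AlgebraicClosure (ZMod s)
  let f : Γ →* Module.End (ZMod s) M :=
    { toFun := fun g => (act g).toZModLinearMap s
      map_one' := LinearMap.ext hone1
      map_mul' := fun g h => LinearMap.ext (hmul g h) }
  set m := Module.finrank (ZMod s) M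
  have hdim : Module.finrank K (K ⊗[ZMod s] M) = m := Module.finrank_baseChange
  let e : (K ⊗[ZMod s] M) ≃ₗ[K] (Fin m → K) := (Module.finBasisOfFinrankEq K _ hdim).equivFun
  let Ψ : Module.End (ZMod s) M →+* Module.End K (Fin m → K) :=
    e.conjRingEquiv.toRingHom.comp (Module.End.baseChangeHom (ZMod s) K M).toRingHom
  have hΨ : ∀ (A : Module.End (ZMod s) M) v, Ψ A (e v) = e (A.baseChange K v) := fun A v => by
    show e (A.baseChange K (e.symm (e v))) = _
    rw [e.symm_apply_apply]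
  have hflat : ∀ {M N : Type _} [AddCommGroup M] [Module (ZMod s) M] [AddCommGroup N] [Module (ZMod s) N] (L : M →ₗ[ZMod s] N),
      Function.Injective L → Function.Injective (L.baseChange K) := fun L hL =>
    Module.Flat.lTensor_preserves_injective_linearMap L hL
  have hker : ∀ A : Module.End (ZMod s) M,
      Module.finrank K (LinearMap.ker (Ψ A)) = Module.finrank (ZMod s) ↥(LinearMap.ker A) := by
    intro A
    have h0 : LinearMap.ker (Ψ A) = (LinearMap.ker (A.baseChange K)).map (e : _ →ₗ[K] _) := by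
      ext v
      obtain ⟨u, rfl⟩ := e.surjective v
      simp [hΨ]
    rw [h0, LinearEquiv.finrank_map_eq e]
    have h1 : Module.finrank K (K ⊗[ZMod s] LinearMap.ker A) ≤ Module.finrank K (LinearMap.ker (A.baseChange K)) := by
      refine LinearMap.finrank_le_finrank_of_injective
        (f := ((LinearMap.ker A).subtype.baseChange K).codRestrict _ fun y => LinearMap.mem_ker.2 ?_) ?_
      · rw [← LinearMap.comp_apply, ← LinearMap.baseChange_comp, LinearMap.comp_ker_subtype,
          LinearMap.baseChange_zero, LinearMap.zero_apply]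
      · exact fun a b hab => hflat _ (LinearMap.ker A).injective_subtype (congrArg Subtype.val hab :)
    have h2 : Module.finrank K (K ⊗[ZMod s] LinearMap.range A) ≤
        Module.finrank K (LinearMap.range (A.baseChange K)) := by
      refine LinearMap.finrank_le_finrank_of_injective
        (f := ((LinearMap.range A).subtype.baseChange K).codRestrict _ fun y => ?_) ?_
      · obtain ⟨y', rfl⟩ : ∃ y', A.rangeRestrict.baseChange K y' = y :=
          LinearMap.lTensor_surjective K A.surjective_rangeRestrict y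
        refine ⟨y', ?_⟩
        rw [← LinearMap.comp_apply ((LinearMap.range A).subtype.baseChange K), ← LinearMap.baseChange_comp,
          (LinearMap.ext fun _ => rfl : (LinearMap.range A).subtype ∘ₗ A.rangeRestrict = A)]
      · exact fun a b hab => hflat _ (LinearMap.range A).injective_subtype (congrArg Subtype.val hab :)
    rw [Module.finrank_baseChange] at h1 h2
    have h3 := LinearMap.finrank_range_add_finrank_ker A
    have h4 := LinearMap.finrank_range_add_finrank_ker (A.baseChange K)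
    rw [hdim] at h4
    omega
  have hinj : Function.Injective Ψ := by
    refine (injective_iff_map_eq_zero Ψ).2 fun A hA => LinearMap.ker_eq_top.1 (Submodule.eq_top_of_finrank_eq ?_)
    rw [← hker, hA, LinearMap.ker_zero, finrank_top, Module.finrank_fin_fun]
  have havg : ∀ (S : Module.End (ZMod s) M) (g : Γ), f g * S = S → Ψ (f g) * Ψ S = Ψ S := fun S g h => by
    rw [← map_mul, h]
  refine ⟨m, Ψ.toMonoidHom.comp f, ?_, fun g => ?_, fun g => ?_, fun g h n hgn hsn hgh v hv => ?_,
    fun R hR hfR v hv => ?_⟩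
  · rw [Module.natCard_eq_pow_finrank (K := (ZMod s)) (V := M), Nat.card_zmod]
  · exact (map_eq_one_iff Ψ hinj (x := f g)).trans ⟨fun e' w => LinearMap.congr_fun e' w, fun e' => LinearMap.ext e'⟩
  · rw [show (Ψ.toMonoidHom.comp f) g - 1 = Ψ (f g - 1) by rw [map_sub, map_one]; rfl, hker]
    refine (Nat.card_congr (Equiv.subtypeEquivRight fun a => (mem_ker_sub_one (T := f g) (v := a)).symm :
      {a : M // act g a = a} ≃ ↥(LinearMap.ker (f g - 1)))).trans ?_
    refine (Module.natCard_eq_pow_finrank (K := ZMod s)).trans ?_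
    rw [Nat.card_zmod]
  · set S : Module.End (ZMod s) M := ∑ i ∈ Finset.range n, f g ^ i with hS
    have hfg : f g * S = S := by
      have h1 : (f g - 1) * S = f g ^ n - 1 := by rw [hS, mul_geom_sum]
      rw [← map_pow, hgn, map_one, sub_self, sub_mul, one_mul, sub_eq_zero] at h1
      exact h1
    have hfh : f h * S = S := LinearMap.ext fun w => hgh (S w) (LinearMap.congr_fun hfg w)
    have hpow : ∀ i : ℕ, (Ψ (f g) ^ i) v = v := by
      intro i
      induction i with
      | zero => simp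
      | succ i ih => rw [pow_succ, Module.End.mul_apply, show Ψ (f g) v = v from hv, ih]
    have hSv : Ψ S v = (n : K) • v := by
      rw [hS, map_sum, LinearMap.sum_apply, Finset.sum_congr rfl fun i _ => by rw [map_pow, hpow i],
        Finset.sum_const, Finset.card_range, Nat.cast_smul_eq_nsmul]
    haveI : CharP K s := charP_of_injective_algebraMap (algebraMap (ZMod s) K).injective s
    have hn0 : (n : K) ≠ 0 := fun e' => hsn ((CharP.cast_eq_zero_iff K s n).1 e')
    have h2 : Ψ (f h) (Ψ S v) = Ψ S v := by rw [← Module.End.mul_apply, havg S h hfh]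
    rw [hSv, map_smul] at h2
    exact smul_right_injective _ hn0 h2
  · letI := Fintype.ofFinite R
    have hS : (∑ g : R, f (g : Γ)) = 0 := by
      refine LinearMap.ext fun w => hfR _ fun g hg => ?_
      show f g ((∑ g : R, f (g : Γ)) w) = (∑ g : R, f (g : Γ)) w
      rw [← Module.End.mul_apply, Finset.mul_sum]
      conv_rhs => rw [← Equiv.sum_comp (Equiv.mulLeft (⟨g, hg⟩ : R))]
      simp only [Equiv.coe_mulLeft, Subgroup.coe_mul, map_mul]
    have h1 : Ψ (∑ g : R, f (g : Γ)) v = (Nat.card R : K) • v := by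
      have h' : ∀ g ∈ (Finset.univ : Finset R), Ψ (f (g : Γ)) v = v := fun g _ => hv (g : Γ) g.2
      rw [map_sum, LinearMap.sum_apply, Finset.sum_congr rfl h', Finset.sum_const,
        Finset.card_univ, ← Nat.card_eq_fintype_card, Nat.cast_smul_eq_nsmul]
    rw [hS, map_zero, LinearMap.zero_apply, eq_comm, smul_eq_zero] at h1
    haveI : CharP K s := charP_of_injective_algebraMap (algebraMap (ZMod s) K).injective s
    exact h1.resolve_left fun e' => hR ((CharP.cast_eq_zero_iff K s _).1 e')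


/-- A representation over the algebraic closure from an action on an elementary abelian `s`-group; it keeps the
sizes of fixed subgroups. -/
theorem exists_rep_aut {s : ℕ} [Fact s.Prime] {Q : Type*} [Group Q] [Finite Q]
    (hc : ∀ a b : Q, a * b = b * a) (he : ∀ a : Q, a ^ s = 1) (φ : Γ →* MulAut Q) :
    ∃ (m : ℕ) (σ : Γ →* Module.End (AlgebraicClosure (ZMod s)) (Fin m → AlgebraicClosure (ZMod s))),
      Nat.card Q = s ^ m ∧ (∀ g, σ g = 1 ↔ φ g = 1) ∧
      (∀ g, Nat.card {a : Q // φ g a = a} =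
        s ^ Module.finrank (AlgebraicClosure (ZMod s)) (LinearMap.ker (σ g - 1))) ∧
      (∀ (g h : Γ) (n : ℕ), g ^ n = 1 → ¬ s ∣ n → (∀ a, φ g a = a → φ h a = a) →
        ∀ v, σ g v = v → σ h v = v) ∧
      ∀ R : Subgroup Γ, ¬ s ∣ Nat.card R → (∀ a, (∀ g ∈ R, φ g a = a) → a = 1) →
        ∀ v, (∀ g ∈ R, σ g v = v) → v = 0 := by
  letI : CommGroup Q := { (inferInstance : Group Q) with mul_comm := hc }
  letI : Module (ZMod s) (Additive Q) := AddCommGroup.zmodModule fun v => by
    rw [← toMul_eq_one, toMul_nsmul, he]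
  have hfix : ∀ g (a : Q), MonoidHom.toAdditive (φ g).toMonoidHom (Additive.ofMul a) = Additive.ofMul a ↔
      φ g a = a := fun g a => Iff.rfl
  obtain ⟨m, σ, h0, h1, h2, h3, h4⟩ := exists_rep_space (Γ := Γ) (s := s) (M := Additive Q)
    (fun g => MonoidHom.toAdditive (φ g).toMonoidHom)
    (fun w => by simp)
    (fun g h w => by simp)
  refine ⟨m, σ, (Nat.card_congr Additive.ofMul).trans h0, fun g => (h1 g).trans ?_, fun g => ?_,
    fun g h n hn hsn hgh => h3 g h n hn hsn fun a ha => (hfix h (Additive.toMul a)).2 (hgh _ ((hfix g (Additive.toMul a)).1 ha)),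
    fun R hR hfR => h4 R hR fun a ha => toMul_eq_one.1 (hfR _ fun g hg => (hfix g a.toMul).1 (ha g hg))⟩
  · exact ⟨fun h => MulEquiv.ext fun a => (hfix g a).1 (h _), fun h w => (hfix g w.toMul).2 (by rw [h]; rfl)⟩
  · rw [← h2 g]
    exact Nat.card_congr (Equiv.subtypeEquiv Additive.ofMul fun a => (hfix g a).symm)

end rep

end Cfsg.Agent.TwoGenSolvable
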