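import Mathlib
import Cfsg.Agent.Lib.TwoGenSolvable.JRep
import Cfsg.Agent.Lib.Coprime.ThreeSubgroup

/-!
# The top of a class-two group acted on by an element of coprime order
-/

set_option autoImplicit false
set_option linter.style.haveILetI false
set_option linter.unusedSectionVars false

namespace Cfsg.Agent.TwoGenSolvable

open Subgroup FixedDim HallHigman
open scoped commutatorElement IsMulCommutative

universe uk uV

section generic

variable {k : Type uk} [Field k] {V : Type uV} [AddCommGroup V] [Module k V] {Γ : Type*} [Group Γ]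

theorem IsFactor.rep_scalar {ρ : Γ →* Module.End k V} {U₁ U₂ : Submodule k V} (h : IsFactor ρ U₁ U₂) {g : Γ}
    {c : k} (hg : ρ g = c • (1 : Module.End k V)) : h.rep g = c • 1 :=
  LinearMap.ext fun v => by
    obtain ⟨u, rfl⟩ := Submodule.Quotient.mk_surjective _ v
    rw [h.rep_mk, LinearMap.smul_apply, Module.End.one_apply, ← Submodule.Quotient.mk_smul]
    exact congrArg _ (Subtype.ext (by simp [hg]))

variable [Finite Γ]

/-- A subspace invariant under generators is invariant. -/
theorem inv_of_gen {σ : Γ →* Module.End k V} {W : Subgroup Γ} {S : Set Γ} (hgen : W ⊔ closure S = ⊤)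
    {U : Submodule k V} (hW : ∀ w ∈ W, ∀ u ∈ U, σ w u ∈ U) (hS : ∀ g ∈ S, ∀ u ∈ U, σ g u ∈ U) :
    ∀ g, ∀ u ∈ U, σ g u ∈ U := by
  intro g
  let N : Submonoid Γ :=
    { carrier := {g | ∀ v ∈ U, σ g v ∈ U}
      one_mem' := fun v hv => by simpa using hv
      mul_mem' := fun {a b} ha hb v hv => by rw [map_mul, Module.End.mul_apply]; exact ha _ (hb v hv) }
  have hle : (W : Set Γ) ∪ S ⊆ N := Set.union_subset hW hS
  have hg : g ∈ closure ((W : Set Γ) ∪ S) := by rw [Subgroup.closure_union, Subgroup.closure_eq, hgen]; trivial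
  rw [← mem_toSubmonoid, closure_toSubmonoid_of_finite] at hg
  exact (Submonoid.closure_le.mpr hle) hg

/-- A factor on which a subgroup of invertible order is trivial gives a fixed vector outside. -/
theorem IsFactor.exists_nontrivial {ρ : Γ →* Module.End k V} {U₁ U₂ : Submodule k V} (h : IsFactor ρ U₁ U₂)
    (R : Subgroup Γ) (hR : (Nat.card R : k) ≠ 0) (h0 : ∀ v, (∀ g ∈ R, ρ g v = v) → v = 0) :
    ∃ g ∈ R, h.rep g ≠ 1 := by
  by_contra hno
  push Not at hno
  classical
  letI := Fintype.ofFinite R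
  obtain ⟨u, hu, hu1⟩ := SetLike.exists_of_lt h.lt
  refine hu1 ?_
  set u' : V := ∑ g : R, ρ (g : Γ) u with hu'
  have h1 : u' = 0 := h0 _ fun g hg => by
    rw [hu', map_sum]
    conv_rhs => rw [← Equiv.sum_comp (Equiv.mulLeft (⟨g, hg⟩ : R))]
    exact Finset.sum_congr rfl fun a _ => by
      rw [Equiv.coe_mulLeft, Subgroup.coe_mul, map_mul, Module.End.mul_apply]
  have h2 : u' - (Nat.card R : k) • u ∈ U₁ := by
    rw [hu', Nat.card_eq_fintype_card, ← Finset.card_univ, Nat.cast_smul_eq_nsmul, ← Finset.sum_const,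
      ← Finset.sum_sub_distrib]
    exact U₁.sum_mem fun g _ => (h.rep_mk_eq_self (g : Γ) ⟨u, hu⟩).1 (by rw [hno g g.2, Module.End.one_apply])
  rw [h1, zero_sub, U₁.neg_mem_iff] at h2
  have h3 := U₁.smul_mem (Nat.card R : k)⁻¹ h2
  rwa [smul_smul, inv_mul_cancel₀ hR, one_smul] at h3

set_option synthInstance.maxHeartbeats 400000 in
/-- The image of a class-two subgroup modulo its centre. -/
theorem exists_equiv_top {σ : Γ →* Module.End k V} {W : Subgroup Γ} {x z : Γ} {M : Type*} [Group M]
    (π : W →* M) (hker : ∀ a : W, π a = 1 ↔ ∀ b ∈ W, σ a * σ b = σ b * σ a) :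
    ∃ e : π.range ≃ imW σ W x z ⧸ center (imW σ W x z),
      ∀ a : W, e ⟨π a, a, rfl⟩ = QuotientGroup.mk (imWEl (a : Γ) a.2) := by
  let g : W →* imW σ W x z :=
    { toFun := fun a => imWEl (a : Γ) a.2
      map_one' := Subtype.ext (Subtype.ext (map_one σ.toHomUnits))
      map_mul' := fun a b => Subtype.ext (Subtype.ext (map_mul σ.toHomUnits (a : Γ) b)) }
  let G' : W →* imW σ W x z ⧸ center (imW σ W x z) := (QuotientGroup.mk' _).comp g
  have hk : π.ker = G'.ker := by
    ext a
    rw [MonoidHom.mem_ker, hker, MonoidHom.mem_ker]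
    show _ ↔ ((g a : imW σ W x z) : imW σ W x z ⧸ center (imW σ W x z)) = 1
    rw [QuotientGroup.eq_one_iff, mem_center_iff]
    constructor
    · intro h b
      obtain ⟨w, hw, e⟩ := exists_of_imW b
      refine Subtype.ext (Subtype.ext (Units.ext ?_))
      show ((b : imG σ W x z) : (Module.End k V)ˣ).val * σ a = σ a * ((b : imG σ W x z) : (Module.End k V)ˣ).val
      rw [← e]
      exact (h w hw).symm
    · intro h b hb
      exact (congrArg (fun u : imW σ W x z => imRep σ W x z u) (h (imWEl b hb))).symm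
  have hsurj : Function.Surjective G' := fun m => by
    obtain ⟨u, rfl⟩ := QuotientGroup.mk_surjective m
    obtain ⟨w, hw, e⟩ := exists_of_imW u
    exact ⟨⟨w, hw⟩, congrArg _ (Subtype.ext (Subtype.ext e) : g ⟨w, hw⟩ = u)⟩
  refine ⟨(QuotientGroup.quotientKerEquivRange π).symm.toEquiv.trans ((QuotientGroup.quotientMulEquivOfEq hk).trans
    (QuotientGroup.quotientKerEquivOfSurjective G' hsurj)).toEquiv, fun a => ?_⟩
  have h1 : (QuotientGroup.quotientKerEquivRange π).symm ⟨π a, a, rfl⟩ = QuotientGroup.mk a := by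
    rw [MulEquiv.symm_apply_eq]
    rfl
  show QuotientGroup.quotientKerEquivOfSurjective G' hsurj (QuotientGroup.quotientMulEquivOfEq hk
    ((QuotientGroup.quotientKerEquivRange π).symm ⟨π a, a, rfl⟩)) = _
  rw [h1]
  rfl

end generic

section top

variable {Γ : Type*} [Group Γ] (W : Subgroup Γ) [W.Normal]

/-- The action of the group on `W ⧸ Z(W)`. -/
def quotAct : Γ →* MulAut (W ⧸ center W) where
  toFun g := QuotientGroup.congr (center W) (center W) (MulAut.conjNormal g)
    (characteristic_iff_map_eq.mp inferInstance _)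
  map_one' := MulEquiv.ext fun a => by
    induction a using QuotientGroup.induction_on with | H w => ?_
    show (((MulAut.conjNormal (1 : Γ) : MulAut W) w : W) : W ⧸ center W) = _
    simp
  map_mul' g h := MulEquiv.ext fun a => by
    induction a using QuotientGroup.induction_on with | H w => ?_
    show (((MulAut.conjNormal (g * h) : MulAut W) w : W) : W ⧸ center W) =
      (((MulAut.conjNormal g : MulAut W) ((MulAut.conjNormal h : MulAut W) w) : W) : W ⧸ center W)
    rw [map_mul, MulAut.mul_apply]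

theorem quotAct_mk (g : Γ) (w : W) :
    quotAct W g (w : W ⧸ center W) = (((MulAut.conjNormal g : MulAut W) w : W) : W ⧸ center W) := rfl

variable {W}

theorem quotAct_fix_iff {g : Γ} {w : W} :
    quotAct W g (w : W ⧸ center W) = (w : W ⧸ center W) ↔
      (MulAut.conjNormal g : MulAut W) w * w⁻¹ ∈ center W := by
  rw [quotAct_mk, QuotientGroup.eq_iff_div_mem, div_eq_mul_inv]

theorem quotient_comm (h : ∀ a b : W, ⁅a, b⁆ ∈ center W) (a b : W ⧸ center W) : a * b = b * a := by
  obtain ⟨a, rfl⟩ := QuotientGroup.mk_surjective a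
  obtain ⟨b, rfl⟩ := QuotientGroup.mk_surjective b
  rw [← QuotientGroup.mk_mul, ← QuotientGroup.mk_mul, QuotientGroup.eq_iff_div_mem, div_eq_mul_inv]
  simpa [commutatorElement_def, mul_assoc] using h a b

theorem quotient_exp {q : ℕ} (h : ∀ a : W, a ^ q ∈ center W) (a : W ⧸ center W) : a ^ q = 1 := by
  obtain ⟨a, rfl⟩ := QuotientGroup.mk_surjective a
  rw [← QuotientGroup.mk_pow]
  exact (QuotientGroup.eq_one_iff _).2 (h a)

theorem quotAct_of_mem (h : ∀ a b : W, ⁅a, b⁆ ∈ center W) {s : Γ} (hs : s ∈ W) : quotAct W s = 1 := by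
  refine MulEquiv.ext fun a => ?_
  obtain ⟨a, rfl⟩ := QuotientGroup.mk_surjective a
  refine quotAct_fix_iff.2 ?_
  convert h ⟨s, hs⟩ a using 1
  refine Subtype.ext ?_
  simp [commutatorElement_def]

variable [Finite Γ] {p q : ℕ} [Fact p.Prime] [Fact q.Prime] {x : Γ}

/-- `[W, x]` modulo the centre: it is a complement of the fixed points of `x`. -/
theorem moved_top (hcomm : ∀ a b : W, ⁅a, b⁆ ∈ center W) (hexp : ∀ a : W, a ^ q ∈ center W)
    (hxp : x ^ p = 1) (hqp : q ≠ p) (W₁ : Subgroup Γ) (hW₁ : W₁ = ⁅W, zpowers x⁆) (h₁ : W₁ ≤ W) :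
    let π := (QuotientGroup.mk' (center W)).comp (Subgroup.inclusion h₁)
    Nat.card π.range * Nat.card {a // quotAct W x a = a} = Nat.card (W ⧸ center W) ∧
      ∀ a ∈ π.range, quotAct W x a = a → a = 1 := by
  intro π
  subst hW₁
  set θ := quotAct W x with hθ
  have hc := quotient_comm hcomm
  let D : W ⧸ center W →* W ⧸ center W :=
    { toFun := fun a => θ a * a⁻¹
      map_one' := by simp
      map_mul' := fun a b => by
        rw [map_mul, mul_inv_rev, hc b⁻¹ a⁻¹, mul_assoc, ← mul_assoc (θ b), hc (θ b) a⁻¹, mul_assoc, mul_assoc] }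
  have hDr : π.range = D.range := by
    refine le_antisymm ?_ ?_
    · let P : Subgroup Γ := (D.range.comap (QuotientGroup.mk' (center W))).map W.subtype
      have hP : ⁅W, zpowers x⁆ ≤ P := by
        rw [commutator_le]
        intro w hw a ha
        obtain ⟨i, rfl⟩ := (isOfFinOrder_of_finite x).mem_powers_iff_mem_zpowers.mpr ha
        change ⁅w, x ^ i⁆ ∈ P
        have hmem : ⁅w, x ^ i⁆ ∈ W := h₁ (commutator_mem_commutator hw (pow_mem (mem_zpowers x) i))
        refine ⟨⟨⁅w, x ^ i⁆, hmem⟩, ?_, rfl⟩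
        show (QuotientGroup.mk' (center W)) ⟨⁅w, x ^ i⁆, hmem⟩ ∈ D.range
        have e : (⟨⁅w, x ^ i⁆, hmem⟩ : W) = ((MulAut.conjNormal (x ^ i) : MulAut W) ⟨w, hw⟩ * (⟨w, hw⟩ : W)⁻¹)⁻¹ :=
          Subtype.ext (by
            simp only [Subgroup.coe_inv, Subgroup.coe_mul, MulAut.conjNormal_apply, commutatorElement_def]
            group)
        rw [e, map_inv, inv_mem_iff, map_mul, map_inv]
        show quotAct W (x ^ i) (⟨w, hw⟩ : W) * ((⟨w, hw⟩ : W) : W ⧸ center W)⁻¹ ∈ D.range
        generalize ((⟨w, hw⟩ : W) : W ⧸ center W) = b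
        clear e hmem ha
        induction i with
        | zero => simp [one_mem]
        | succ i ih =>
          have := mul_mem (show θ (quotAct W (x ^ i) b) * (quotAct W (x ^ i) b)⁻¹ ∈ D.range from ⟨_, rfl⟩) ih
          rw [mul_assoc, inv_mul_cancel_left] at this
          rwa [pow_succ', map_mul, MulAut.mul_apply]
      rintro _ ⟨a, rfl⟩
      obtain ⟨u, hu, e⟩ := hP a.2
      have : u = Subgroup.inclusion h₁ a := Subtype.ext e
      rw [this] at hu
      exact hu
    · rintro _ ⟨b, rfl⟩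
      obtain ⟨b, rfl⟩ := QuotientGroup.mk_surjective b
      have hmem : x * b * x⁻¹ * (b : Γ)⁻¹ ∈ ⁅W, zpowers x⁆ := by
        have := inv_mem (commutator_mem_commutator b.2 (mem_zpowers x))
        rwa [commutatorElement_inv, commutatorElement_def] at this
      exact ⟨⟨_, hmem⟩, congrArg (QuotientGroup.mk (s := center W)) (Subtype.ext (by simp))⟩
  have hker : Nat.card D.ker = Nat.card {a // θ a = a} :=
    Nat.card_congr (Equiv.subtypeEquivRight fun a => by
      rw [MonoidHom.mem_ker]
      exact mul_inv_eq_one)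
  refine ⟨?_, fun a ha hfix => ?_⟩
  · rw [hDr, ← hker, ← Subgroup.index_ker, mul_comm, card_mul_index]
  · rw [hDr] at ha
    obtain ⟨b, rfl⟩ := ha
    set a := D b
    have hb : θ b = a * b := (inv_mul_cancel_right (θ b) b).symm
    have hi : ∀ i : ℕ, quotAct W (x ^ i) b = a ^ i * b := by
      intro i
      induction i with
      | zero => simp
      | succ i ih =>
        rw [pow_succ', map_mul, MulAut.mul_apply, ih, map_mul, map_pow]
        change θ a ^ i * θ b = _
        rw [show θ a = a from hfix, hb, ← mul_assoc, ← pow_succ]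
    have h1 := hi p
    rw [hxp, map_one, MulAut.one_apply, right_eq_mul] at h1
    have h2 := quotient_exp hexp a
    have := Nat.dvd_gcd (orderOf_dvd_of_pow_eq_one h1) (orderOf_dvd_of_pow_eq_one h2)
    rw [((Nat.coprime_primes (Fact.out : p.Prime) (Fact.out : q.Prime)).2 hqp.symm).gcd_eq_one, Nat.dvd_one,
      orderOf_eq_one_iff] at this
    exact this

/-- Elements of `[W, x]` centralising it are central in `W`. -/
theorem center_moved (hW : IsPGroup q W) (hxp : x ^ p = 1) (hqp : q ≠ p)
    (hcen : ∀ a ∈ W, ∀ b ∈ W, ∀ g : Γ, g * ⁅a, b⁆ = ⁅a, b⁆ * g) :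
    (∀ c ∈ W, x * c = c * x → ∀ a ∈ ⁅W, zpowers x⁆, c * a = a * c) ∧
    ∀ a : W, (a : Γ) ∈ ⁅W, zpowers x⁆ → (∀ b ∈ ⁅W, zpowers x⁆, (a : Γ) * b = b * a) → a ∈ center W := by
  have hxW : x ∈ normalizer (W : Set Γ) := by rw [normalizer_eq_top]; trivial
  have h1 : ∀ c ∈ W, x * c = c * x → ∀ a ∈ ⁅W, zpowers x⁆, c * a = a * c := by
    intro c hc hxc a ha
    have htop : ∀ S : Subgroup Γ, S ≤ normalizer ((⊥ : Subgroup Γ) : Set Γ) := fun S => by
      rw [normalizer_eq_top]; exact le_top
    have h3 : ⁅⁅W, zpowers x⁆, zpowers c⁆ = ⊥ := le_bot_iff.1 <| Coprime.three_subgroup_le (N := (⊥ : Subgroup Γ))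
      (htop _) (htop _) (htop _)
      (by
        rw [show ⁅zpowers x, zpowers c⁆ = ⊥ from commutator_eq_bot_iff_le_centralizer.2 (zpowers_le.2
          (mem_centralizer_iff.2 fun g hg => by
            obtain ⟨i, rfl⟩ := hg
            exact ((show Commute x c from hxc).zpow_right i).eq.symm)), commutator_bot_left])
      (by
        rw [le_bot_iff, commutator_eq_bot_iff_le_centralizer, commutator_le]
        intro a ha b hb
        exact mem_centralizer_iff.2 fun g _ => hcen a (zpowers_le.2 hc ha) b hb g)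
    have h4 := commutator_eq_bot_iff_le_centralizer.1 h3
    exact mem_centralizer_iff.1 (h4 ha) c (mem_zpowers c)
  refine ⟨h1, fun a ha hab => mem_center_iff.2 fun w => Subtype.ext ?_⟩
  obtain ⟨c, hc, m, hm, e⟩ := Coprime.exists_centralizer_mul_commutator (zpowers_le.2 hxW)
    (coprime_zpowers hxp hqp hW) (Or.inl inferInstance) w.2
  show (w : Γ) * a = a * w
  have hca := h1 c hc.1 (mem_centralizer_iff.1 hc.2 x (mem_zpowers x)) a ha
  rw [e, mul_assoc, ← hab m hm, ← mul_assoc, hca, mul_assoc]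

end top

end Cfsg.Agent.TwoGenSolvable
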