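import Mathlib
import Cfsg.Agent.Lib.TwoGenSolvable.JTop
import Cfsg.Agent.Lib.FixedDim.General

/-!
# The J-lemma without fixed points of `x`
-/

set_option autoImplicit false
set_option linter.style.haveILetI false
set_option linter.unusedSectionVars false

namespace Cfsg.Agent.TwoGenSolvable

open Subgroup FixedDim HallHigman
open scoped commutatorElement IsMulCommutative

universe uk uV

section scalar

variable {k : Type uk} [Field k] [IsAlgClosed k] {V : Type uV} [AddCommGroup V] [Module k V]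
  [FiniteDimensional k V] [Nontrivial V] {Γ : Type*} [Group Γ] [Finite Γ] {ρ : Γ →* Module.End k V}

/-- If `x` fixes every weight of an abelian normal subgroup, the moved group generated with it is trivial on
them, so the subgroup is scalar. -/
theorem scalar_of_all_fixed (hirr : NoInvariant ρ) {W R : Subgroup Γ} {x : Γ} (hgen : W ⊔ R ⊔ zpowers x = ⊤)
    (hWR : ⁅W, R⁆ = W) (hRx : ⁅R, zpowers x⁆ = R) (A : Subgroup Γ) [A.Normal] [IsMulCommutative A]
    (hA : (Nat.card A : k) ≠ 0) (hfix : ∀ χ, wsp (ρ.comp A.subtype) χ ≠ ⊥ → tw A x χ = χ) :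
    ∀ a ∈ A, ∃ c : k, ρ a = c • (1 : Module.End k V) := by
  letI := charAction (K := k) A
  let Kf : Subgroup Γ :=
    { carrier := {g | ∀ χ, wsp (ρ.comp A.subtype) χ ≠ ⊥ → tw A g χ = χ}
      one_mem' := fun χ _ => one_smul Γ χ
      mul_mem' := fun {a b} ha hb χ hχ => by
        show (a * b) • χ = χ
        rw [mul_smul, show b • χ = χ from hb χ hχ]
        exact ha χ hχ
      inv_mem' := fun {a} ha χ hχ => inv_smul_eq_iff.2 (show a • χ = χ from ha χ hχ).symm }
  haveI : Kf.Normal := ⟨fun n hn g χ hχ => by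
    show (g * n * g⁻¹) • χ = χ
    rw [mul_smul, mul_smul, show n • g⁻¹ • χ = g⁻¹ • χ from hn _ (wsp_tw_ne_bot ρ A g⁻¹ hχ),
      smul_inv_smul]⟩
  have hN : ∀ S : Subgroup Γ, S ≤ normalizer (Kf : Set Γ) := fun S => by rw [normalizer_eq_top]; exact le_top
  have hR : R ≤ Kf := le_of_moved (show x ∈ Kf from hfix) (hN R) hRx
  have hW : W ≤ Kf := by
    rw [← hWR, commutator_le]
    intro w _ g hg
    rw [commutatorElement_def]
    exact mul_mem (Normal.conj_mem inferInstance g (hR hg) w) (inv_mem (hR hg))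
  have htop : ∀ g, g ∈ Kf := fun g => by
    have : W ⊔ R ⊔ zpowers x ≤ Kf := sup_le (sup_le hW hR) (zpowers_le.2 hfix)
    exact this (hgen ▸ mem_top g)
  obtain ⟨χ₀, hχ₀⟩ := exists_weight (ρ := ρ) A hA
  intro a ha
  exact ⟨_, scalar_of_single A hA (fun χ hχ => by
    obtain ⟨g, hg⟩ := exists_tw_eq A hirr hA hχ₀ hχ
    rw [← hg]
    exact htop g χ₀ hχ₀) ha⟩

/-- Scalar abelian normal subgroups give class two. -/
theorem classTwo_of_scalar (hinj : Function.Injective ρ) {r : ℕ} [Fact r.Prime] {W : Subgroup Γ} [W.Normal]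
    (hW : IsPGroup r W)
    (h : ∀ (A : Subgroup Γ) [A.Normal] [IsMulCommutative A], A ≤ W → ∀ a ∈ A, ∃ c : k, ρ a = c • (1 : Module.End k V)) :
    (∀ a b : W, ⁅a, b⁆ ∈ center W) ∧ (∀ a : W, a ^ r ∈ center W) ∧
      ∀ {a : W}, a ∈ center W → ∃ c : k, ρ a = c • (1 : Module.End k V) := by
  have hchar : ∀ (A : Subgroup W), A.Characteristic → IsMulCommutative A →
      ∀ a ∈ A, ∃ c : k, ρ a = c • (1 : Module.End k V) := by
    intro A hA hAc a ha
    haveI := hA
    haveI : IsMulCommutative (A.map W.subtype) := PGroup.isMulCommutative_of_forall <| by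
      rintro _ ⟨u, hu, rfl⟩ _ ⟨v, hv, rfl⟩
      rw [← map_mul, ← map_mul, show u * v = v * u from congrArg Subtype.val (mul_comm' (⟨u, hu⟩ : A) ⟨v, hv⟩)]
    exact h (A.map W.subtype) (map_subtype_le A) a ⟨a, ha, rfl⟩
  obtain ⟨h1, h2⟩ := classTwo_of_abelian hW fun A hA hAc _ a ha => by
    obtain ⟨c, hc⟩ := hchar A hA hAc a ha
    exact mem_center_iff.2 fun b => Subtype.ext (hinj (by
      show ρ ((b : Γ) * a) = ρ (a * b)
      rw [map_mul, map_mul, hc, mul_smul_comm, smul_mul_assoc, mul_one, one_mul]))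
  exact ⟨h1, h2, fun {a} ha => hchar (center W) inferInstance inferInstance a ha⟩

/-- The index of the centre of a class-two group with scalar centre is the square of the dimension of a
constituent. -/
theorem exists_sq_index {r : ℕ} [Fact r.Prime] {W : Subgroup Γ} [W.Normal] (hinj : Function.Injective ρ)
    (hW : IsPGroup r W) (hrK : (r : k) ≠ 0) (hcomm : ∀ a b : W, ⁅a, b⁆ ∈ center W)
    (hscal : ∀ {a : W}, a ∈ center W → ∃ c : k, ρ a = c • (1 : Module.End k V)) :
    ∃ n : ℕ, n ^ 2 = (center W).index := by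
  set π := ρ.comp W.subtype with hπ
  obtain ⟨U, hU0, hUi, hmin⟩ : ∃ U : Submodule k V, U ≠ ⊥ ∧ (∀ w, ∀ u ∈ U, π w u ∈ U) ∧
      ∀ U' : Submodule k V, U' ≠ ⊥ → (∀ w, ∀ u ∈ U', π w u ∈ U') → U' ≤ U → U' = U := by
    have hne : {U : Submodule k V | U ≠ ⊥ ∧ ∀ w, ∀ u ∈ U, π w u ∈ U}.Nonempty :=
      ⟨⊤, top_ne_bot, fun _ _ _ => trivial⟩
    obtain ⟨U, ⟨hU0, hUi⟩, hmin⟩ := WellFounded.has_min wellFounded_lt _ hne
    exact ⟨U, hU0, hUi, fun U' h0 hi hle => eq_of_le_of_not_lt hle (hmin U' ⟨h0, hi⟩)⟩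
  haveI : Nontrivial U := Submodule.nontrivial_iff_ne_bot.mpr hU0
  let πU : W →* Module.End k U :=
    { toFun := fun w => (π w).restrict (hUi w)
      map_one' := by ext u; simp
      map_mul' := fun a b => by ext u; simp }
  have hπU : ∀ (w : W) (u : U), ((πU w u : U) : V) = ρ (w : Γ) (u : V) := fun w u => rfl
  have hU2 : IsScalarClassTwo πU :=
    ⟨fun w hw => (hscal hw).imp fun c hc => LinearMap.ext fun u => Subtype.ext (by rw [hπU, hc]; rfl), hcomm,
      fun a ha => mem_center_iff.mpr fun b => by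
        obtain ⟨c, hc⟩ := hscal (hcomm a b)
        obtain ⟨u, hu⟩ := exists_ne (0 : U)
        have h1 : c • (u : V) = u := by
          have := congrArg Subtype.val (LinearMap.congr_fun (ha b) u)
          rw [hπU, hc] at this
          exact this
        have hc1 : c = 1 := smul_left_injective k (fun e => hu (Subtype.ext e)) (h1.trans (one_smul k (u : V)).symm)
        rw [hc1, one_smul, ← map_one ρ] at hc
        exact (commutatorElement_eq_one_iff_mul_comm.mp (Subtype.ext (hinj hc) : ⁅a, b⁆ = 1)).symm⟩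
  have hUirr : NoInvariant πU := by
    intro S hS
    by_cases h0 : S = ⊥
    · exact Or.inl h0
    refine Or.inr ?_
    have h1 := hmin (S.map U.subtype)
      (fun e => h0 (Submodule.map_injective_of_injective U.subtype_injective (e.trans (Submodule.map_bot _).symm)))
      (by
        rintro w _ ⟨u, hu, rfl⟩
        exact ⟨_, hS w u hu, rfl⟩)
      (Submodule.map_subtype_le _ _)
    refine eq_top_iff.mpr fun u _ => ?_
    obtain ⟨v, hv, hvu⟩ := (h1.symm ▸ u.2 : (u : V) ∈ S.map U.subtype)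
    rwa [← U.subtype_injective hvu]
  refine ⟨_, hU2.finrank_sq ?_ hUirr⟩
  obtain ⟨n, hn⟩ := hW.exists_card_eq
  rw [hn, Nat.cast_pow]
  exact pow_ne_zero _ hrK

end scalar

section six

variable {k : Type uk} [Field k] [IsAlgClosed k] {V : Type uV} [AddCommGroup V] [Module k V]
  [FiniteDimensional k V] [Nontrivial V] {Γ : Type*} [Group Γ] [Finite Γ] {ρ : Γ →* Module.End k V} {r : ℕ}
  [Fact r.Prime] {x : Γ} {R : Subgroup Γ} [R.Normal]

/-- No moved `r`-group, `r` odd, acts faithfully and irreducibly with an element of order five in dimension six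
with two-dimensional fixed space. -/
theorem not_six (hinj : Function.Injective ρ) (hirr : NoInvariant ρ) (hgen : R ⊔ zpowers x = ⊤)
    (hR : IsPGroup r R) (hr2 : r ≠ 2) (hrK : (r : k) ≠ 0) (hx : x ^ 5 = 1) (hRx : ⁅R, zpowers x⁆ = R)
    (hdim : Module.finrank k V = 6) (hC : Module.finrank k (LinearMap.ker (ρ x - 1)) = 2) : False := by
  classical
  haveI : Fact (Nat.Prime 5) := ⟨by norm_num⟩
  have hfact : ∀ j : ℕ, r ^ j % 2 = 1 := fun j =>
    Nat.odd_iff.mp ((Fact.out : r.Prime).odd_of_ne_two hr2).pow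
  have hscal : ∀ (A : Subgroup Γ) [A.Normal] [IsMulCommutative A], A ≤ R → ∀ a ∈ A,
      ∃ c : k, ρ a = c • (1 : Module.End k V) := by
    intro A _ _ hAR
    have hA := card_ne_zero_of_normal ρ hinj hirr A
    refine scalar_of_all_fixed (W := (⊥ : Subgroup Γ)) hirr (by rw [bot_sup_eq]; exact hgen)
      (commutator_bot_left R) hRx A hA fun χ hχ => ?_
    by_contra hmov
    letI := charAction (K := k) A
    set σ := ρ.comp A.subtype with hσ
    haveI := (card_chars (K := k) (A := A) hA).1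
    letI := Fintype.ofFinite (A →* kˣ)
    let S : Finset (A →* kˣ) := Finset.univ.filter fun η => wsp σ η ≠ ⊥
    have hmemS : ∀ η, η ∈ S ↔ wsp σ η ≠ ⊥ := fun η => by simp [S]
    have hd : ∀ η ∈ S, Module.finrank k (wsp σ η) = Module.finrank k (wsp σ χ) := fun η hη => by
      obtain ⟨g, hg⟩ := exists_tw_eq A hirr hA hχ ((hmemS η).1 hη)
      rw [← hg]
      exact finrank_wsp_tw ρ A g χ
    set d := Module.finrank k (wsp σ χ)
    have hd1 : 1 ≤ d := Nat.one_le_iff_ne_zero.2 fun e => hχ (Submodule.finrank_eq_zero.1 e)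
    have hsum := sum_finrank_le σ hA S
    rw [Finset.sum_congr rfl hd, Finset.sum_const, smul_eq_mul, hdim] at hsum
    let O : Finset (A →* kˣ) := (Finset.range 5).image fun i => tw A (x ^ i) χ
    have hper : ∀ i, x ^ i • χ = χ → 5 ∣ i := by
      intro i hi
      by_contra h5
      obtain ⟨m, hm⟩ := Nat.exists_mul_mod_eq_one_of_coprime
        ((Nat.Prime.coprime_iff_not_dvd (by norm_num : Nat.Prime 5)).mpr h5).symm (by norm_num)
      refine hmov ?_
      have h1 : x = (x ^ i) ^ m := by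
        rw [← pow_mul, ← Nat.mod_add_div (i * m) 5, pow_add, pow_mul, hx, one_pow, mul_one, hm.2, pow_one]
      have h2 := pow_mem (show x ^ i ∈ MulAction.stabilizer Γ χ from hi) m
      rw [← h1] at h2
      exact h2
    have hinjO : Set.InjOn (fun i => tw A (x ^ i) χ) (Finset.range 5 : Set ℕ) := by
      intro i hi j hj e
      change x ^ i • χ = x ^ j • χ at e
      simp only [Finset.coe_range, Set.mem_Iio] at hi hj
      wlog hle : i ≤ j generalizing i j
      · exact (this e.symm hj hi (le_of_not_ge hle)).symm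
      rw [show x ^ j = x ^ i * x ^ (j - i) by rw [← pow_add, Nat.add_sub_cancel' hle], mul_smul] at e
      have := Nat.eq_zero_of_dvd_of_lt (hper _ (MulAction.injective _ e).symm) (by omega)
      omega
    have hOcard : O.card = 5 := by rw [Finset.card_image_of_injOn hinjO, Finset.card_range]
    have hOS : O ⊆ S := fun η hη => by
      obtain ⟨i, -, rfl⟩ := Finset.mem_image.1 hη
      exact (hmemS _).2 (wsp_tw_ne_bot ρ A _ hχ)
    have hcard := Finset.card_le_card hOS
    have hd' : d = 1 := by nlinarith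
    rw [hd', mul_one] at hsum
    by_cases hS : S ⊆ O
    · -- fixed vectors are determined by one component
      have hL : Module.finrank k (LinearMap.ker (ρ x - 1)) ≤ d := by
        refine LinearMap.finrank_le_finrank_of_injective
          (f := ((wproj σ χ) ∘ₗ (LinearMap.ker (ρ x - 1)).subtype).codRestrict _ fun v => wproj_mem σ χ _) ?_
        refine (injective_iff_map_eq_zero _).2 fun v hv => Subtype.ext ?_
        have h0 : wproj σ χ (v : V) = 0 := congrArg Subtype.val hv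
        by_contra hv0
        obtain ⟨η, hη⟩ := exists_wproj_ne_zero (ρ := ρ) A hA hv0
        obtain ⟨i, -, rfl⟩ := Finset.mem_image.1 (hS ((hmemS η).2
          ((Submodule.ne_bot_iff _).2 ⟨_, wproj_mem σ η _, hη⟩)))
        refine hη ?_
        have hvi : ∀ j : ℕ, ρ (x ^ j) (v : V) = v := fun j => by
          induction j with
          | zero => simp
          | succ j ih => rw [pow_succ', map_mul, Module.End.mul_apply, ih, mem_ker_sub_one.1 v.2]
        rw [← hvi i, wproj_map A hA, h0, map_zero]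
      omega
    · obtain ⟨χ₁, hχ₁, hχ₁O⟩ := Finset.not_subset.1 hS
      have hins : insert χ₁ O = S := Finset.eq_of_subset_of_card_le (Finset.insert_subset hχ₁ hOS)
        (by rw [Finset.card_insert_of_notMem hχ₁O]; omega)
      have hScard : S.card = 6 := by rw [← hins, Finset.card_insert_of_notMem hχ₁O, hOcard]
      have hx₁ : x • χ₁ = χ₁ := by
        have h1 : x • χ₁ ∈ insert χ₁ O := by
          rw [hins]; exact (hmemS _).2 (wsp_tw_ne_bot ρ A x ((hmemS _).1 hχ₁))
        rcases Finset.mem_insert.1 h1 with h2 | h2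
        · exact h2
        exfalso
        obtain ⟨i, -, e⟩ := Finset.mem_image.1 h2
        refine hχ₁O (Finset.mem_image.2 ⟨(i + 4) % 5, Finset.mem_range.2 (Nat.mod_lt _ (by norm_num)), ?_⟩)
        change x ^ i • χ = x • χ₁ at e
        show x ^ ((i + 4) % 5) • χ = χ₁
        have h5 : x ^ ((i + 4) % 5) = x⁻¹ * x ^ i := by
          rw [eq_inv_mul_iff_mul_eq, ← pow_succ']
          conv_rhs => rw [← Nat.mod_add_div i 5, pow_add, pow_mul, hx, one_pow, mul_one]
          conv_lhs => rw [← Nat.mod_add_div ((i + 4) % 5 + 1) 5, pow_add, pow_mul, hx, one_pow, mul_one]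
          congr 1
          omega
        rw [h5, mul_smul, e, inv_smul_smul]
      -- the orbit of `R` is everything
      have horb : MulAction.orbit R χ₁ = (S : Set (A →* kˣ)) := by
        refine Set.Subset.antisymm ?_ fun η hη => ?_
        · rintro _ ⟨g, rfl⟩
          exact (hmemS _).2 (wsp_tw_ne_bot ρ A (g : Γ) ((hmemS _).1 hχ₁))
        · obtain ⟨g, hg⟩ := exists_tw_eq A hirr hA ((hmemS _).1 hχ₁) ((hmemS _).1 hη)
          obtain ⟨w, hw, c, hc, rfl⟩ := mem_sup_of_normal_left.mp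
            (show g ∈ R ⊔ zpowers x by rw [hgen]; trivial)
          refine ⟨⟨w, hw⟩, ?_⟩
          show (w : Γ) • χ₁ = η
          have hcfix : c ∈ MulAction.stabilizer Γ χ₁ := zpowers_le.2 hx₁ hc
          rw [← hg]
          show w • χ₁ = (w * c) • χ₁
          rw [mul_smul, MulAction.mem_stabilizer_iff.1 hcfix]
      obtain ⟨j, hj⟩ := hR.card_orbit χ₁
      rw [horb, Nat.card_coe_set_eq, Set.ncard_coe_finset, hScard] at hj
      have := hfact j
      omega
  obtain ⟨hcomm, -, hcs⟩ := classTwo_of_scalar (W := R) hinj hR hscal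
  have hSD : SData ρ r x R := ⟨hinj, hirr, hgen, hR, hrK, hcomm, hcs⟩
  obtain ⟨j, hj⟩ := (hR.to_quotient (center R)).exists_card_eq
  have h1 := hSD.isScalarClassTwo.finrank_sq hSD.card_ne_zero hSD.irreducible
  rw [hdim, Subgroup.index_eq_card, hj] at h1
  have := hfact j
  omega

end six


theorem IsFactor.fixed_bound {k : Type*} [Field k] {V : Type*} [AddCommGroup V] [Module k V]
    [FiniteDimensional k V] {Γ : Type*} [Group Γ] {ρ : Γ →* Module.End k V} {U₁ U : Submodule k V}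
    (hf : IsFactor ρ U₁ U) (g : Γ) {e : ℕ}
    (h : Module.finrank k (LinearMap.ker (hf.rep g - 1)) + e ≤ Module.finrank k (↥U ⧸ U₁.comap U.subtype)) :
    Module.finrank k ↥(U ⊓ LinearMap.ker (ρ g - 1)) + e + Module.finrank k U₁ ≤
      Module.finrank k U + Module.finrank k ↥(U₁ ⊓ LinearMap.ker (ρ g - 1)) := by
  have h1 := (hf.finrank_fixed g).1
  have h3 := Submodule.finrank_quotient_add_finrank (U₁.comap U.subtype)
  rw [LinearEquiv.finrank_eq (Submodule.comapSubtypeEquivOfLe hf.lt.le)] at h3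
  omega

theorem add_le_of_bound {a e u w m : ℕ} (h : a + e + u ≤ m + w) (hw : w ≤ u) : a + e ≤ m := by omega

section nofixed

variable {k : Type uk} [Field k] [IsAlgClosed k] {V : Type uV} [AddCommGroup V] [Module k V]
  [FiniteDimensional k V] [Nontrivial V] {Γ : Type*} [Group Γ] [Finite Γ] {ρ : Γ →* Module.End k V} {p q r : ℕ}
  [Fact p.Prime] [Fact q.Prime] [Fact r.Prime] {x : Γ} {W R : Subgroup Γ} [W.Normal]

theorem le_eight_of_sq {n : ℕ} (h : 2 ^ n ≤ n ^ 2) : n ≤ 4 := by
  by_contra hn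
  have key : ∀ m, (m + 5) ^ 2 < 2 ^ (m + 5) := by
    intro m
    induction m with
    | zero => norm_num
    | succ m ih =>
      have h2 : (m + 1 + 5) ^ 2 ≤ (m + 5) ^ 2 * 2 := by ring_nf; omega
      rw [show m + 1 + 5 = m + 5 + 1 by ring, pow_succ 2 (m + 5)] at *
      omega
  obtain ⟨m, rfl⟩ : ∃ m, n = m + 5 := ⟨n - 5, by omega⟩
  exact absurd h (not_le.2 (key m))

set_option maxHeartbeats 1000000 in
set_option synthInstance.maxHeartbeats 200000 in
/-- **The J-lemma without fixed points of `x`.** -/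
theorem no_fixed_pair (hinj : Function.Injective ρ) (hirr : NoInvariant ρ) (hgen : W ⊔ R ⊔ zpowers x = ⊤)
    (hp5 : 5 ≤ p) (hqp : q ≠ p) (hrq : r ≠ q) (hrp : r ≠ p) (hW : IsPGroup q W) (hR : IsPGroup r R)
    (hxR : x ∈ normalizer (R : Set Γ)) (hxp : x ^ p = 1) (hWR : ⁅W, R⁆ = W) (hRx : ⁅R, zpowers x⁆ = R)
    (hqK : (q : k) ≠ 0) (hpK : (p : k) ≠ 0) (hx0 : ∀ v, ρ x v = v → v = 0) : W = ⊥ := by
  classical
  by_contra hne
  have hp3 : 3 < p := by omega
  have hxW : x ∈ normalizer (W : Set Γ) := by rw [normalizer_eq_top]; trivial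
  have hcop := coprime_zpowers hxp hqp hW
  have hscal : ∀ (A : Subgroup Γ) [A.Normal] [IsMulCommutative A], A ≤ W → ∀ a ∈ A,
      ∃ c : k, ρ a = c • (1 : Module.End k V) := by
    intro A _ _ hAW
    refine scalar_of_all_fixed hirr hgen hWR hRx A (card_ne_zero_of_normal ρ hinj hirr A) fun χ hχ => ?_
    by_contra hmov
    obtain ⟨u, hu0, hu⟩ := exists_fixed_of_moved (ρ := ρ) A hxp (card_ne_zero_of_normal ρ hinj hirr A) hχ hmov
    exact hu0 (hx0 u hu)
  obtain ⟨hcomm, hexp, hcs⟩ := classTwo_of_scalar (W := W) hinj hW hscal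
  have hcenΓ : ∀ {a : W}, a ∈ center W → ∀ g : Γ, g * (a : Γ) = a * g := fun {a} ha g => by
    obtain ⟨c, hc⟩ := hcs ha
    exact hinj (by rw [map_mul, map_mul, hc, mul_smul_comm, smul_mul_assoc, mul_one, one_mul])
  have hcen : ∀ a ∈ W, ∀ b ∈ W, ∀ g : Γ, g * ⁅a, b⁆ = ⁅a, b⁆ * g := fun a ha b hb =>
    hcenΓ (hcomm ⟨a, ha⟩ ⟨b, hb⟩)
  obtain ⟨-, hcenW⟩ := center_moved hW hxp hqp hcen
  set W₁ := ⁅W, zpowers x⁆ with hW₁
  have h₁ : W₁ ≤ W := Coprime.commutator_le_left_of_le_normalizer (zpowers_le.2 hxW)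
  have hW₁x : ⁅W₁, zpowers x⁆ = W₁ := Coprime.commutator_commutator_eq (zpowers_le.2 hxW) hcop (Or.inl inferInstance)
  have hxW₁ : x ∈ normalizer (W₁ : Set Γ) := normalizer_commutator_ge_right W (zpowers x) (mem_zpowers x)
  have hW₁ne : W₁ ≠ ⊥ := fun e => hne (by
    have hxC : x ∈ centralizer (W : Set Γ) := by
      have := Coprime.le_centralizer_iff_commutator_eq_bot.2 e
      exact this (mem_zpowers x)
    have hRC : R ≤ centralizer (W : Set Γ) := le_of_moved hxC (by rw [normalizer_eq_top]; exact le_top) hRx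
    rw [← hWR]
    exact Coprime.le_centralizer_iff_commutator_eq_bot.1 hRC)
  -- `W₁⟨x⟩` on a factor: the index of the centre is `(p - 1) ^ 2`
  obtain ⟨hq2, hrange⟩ : q = 2 ∧ Nat.card ((QuotientGroup.mk' (center W)).comp (Subgroup.inclusion h₁)).range =
      (p - 1) ^ 2 := by
    set Δ := W₁ ⊔ zpowers x with hΔ
    haveI hN : (W₁.subgroupOf Δ).Normal := normal_subgroupOf_sup (zpowers_le.2 hxW₁)
    set x₁ : Δ := ⟨x, mem_sup_right (mem_zpowers x)⟩ with hx₁
    obtain ⟨U₁, hf⟩ := exists_isFactor (ρ := ρ.comp Δ.subtype) (U := (⊤ : Submodule k V))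
      (fun _ _ _ => trivial) top_ne_bot
    haveI := hf.nontrivial
    set σ := hf.rep with hσ
    set W' := W₁.subgroupOf Δ with hW'
    have hfaith : ∀ a : Δ, (a : Γ) ∈ W₁ → (∀ b ∈ W', σ a * σ b = σ b * σ a) →
        ∀ b ∈ W₁, (a : Γ) * b = b * a := by
      intro a ha h b hb
      set b' : Δ := ⟨b, mem_sup_left hb⟩
      obtain ⟨c, hc⟩ := hcs (hcomm ⟨a, h₁ ha⟩ ⟨b, h₁ hb⟩)
      have h2 : σ ⁅a, b'⁆ = c • 1 := hf.rep_scalar (g := ⁅a, b'⁆) hc
      have h3 : σ ⁅a, b'⁆ = 1 := by
        rw [commutatorElement_def, map_mul, map_mul, map_mul, h b' hb, ← map_mul, ← map_mul, ← map_mul,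
          ← map_one σ]
        congr 1
        group
      obtain ⟨v, hv⟩ := exists_ne (0 : ↥(⊤ : Submodule k V) ⧸ U₁.comap (⊤ : Submodule k V).subtype)
      have hc1 : c = 1 := smul_left_injective k hv
        ((LinearMap.congr_fun (h2.symm.trans h3) v).trans (one_smul k v).symm)
      rw [hc1, one_smul, ← map_one ρ] at hc
      exact commutatorElement_eq_one_iff_mul_comm.1 (hinj hc)
    have hne' : ∃ w ∈ W', σ w ≠ 1 := by
      by_contra hall
      push Not at hall
      refine hW₁ne ?_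
      have hcent : ∀ a ∈ W₁, x * a = a * x := fun a ha => by
        have h4 := hcenW ⟨a, h₁ ha⟩ ha (hfaith ⟨a, mem_sup_left ha⟩ ha fun b hb => by
          rw [hall b hb, hall _ ha])
        exact hcenΓ h4 x
      rw [← hW₁x]
      exact Coprime.le_centralizer_iff_commutator_eq_bot.1 (zpowers_le.2 (mem_centralizer_iff.2 fun a ha =>
        (hcent a ha).symm))
    have hmx : Moves x₁ W' := (moves_of_commutator_eq hxW₁ hW₁x).subgroupOf le_sup_left _
    have hxW' : x₁ ∈ normalizer (W' : Set Δ) := by rw [normalizer_eq_top]; trivial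
    have hgen' : W' ⊔ closure ({x₁} : Set Δ) = ⊤ := by
      rw [← zpowers_eq_closure, ← zpowers_subgroupOf, ← subgroupOf_sup le_sup_left le_sup_right, subgroupOf_self]
    have hirr' : ∀ U, (∀ w ∈ W', ∀ u ∈ U, σ w u ∈ U) → (∀ u ∈ U, σ x₁ u ∈ U) → U = ⊥ ∨ U = ⊤ := fun U h1 h2 =>
      hf.irreducible U (inv_of_gen hgen' h1 (by rintro g rfl; exact h2))
    have hxp' : x₁ ^ p = 1 := Subtype.ext hxp
    have hx0' : ∀ v, σ x₁ v = v → v = 0 := hf.no_fixed hxp' hpK hx0
    have hW'q : IsPGroup q W' := (hW.to_le h₁).comap_subtype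
    obtain ⟨hq2, hdim⟩ := no_fixed_facts hxW' hirr' hxp' hp3 hW'q hqp hmx hne' hqK hpK hx0'
    haveI := imW_normal (σ := σ) (z := x₁) hxW' hxW'
    have hLD := image_ldata (z := x₁) (q := p) hxW' (fun U h1 h2 _ => hirr' U h1 h2) rfl hxp'
      (by rw [← map_pow, hxp', map_one]) hW'q hqp hmx hmx (fun _ _ e => e) hqK hpK (Or.inr ⟨rfl, hx0'⟩)
    obtain ⟨γ, -, -, hSD⟩ := hLD.toSData
    have hidx := hSD.isScalarClassTwo.finrank_sq hSD.card_ne_zero hSD.irreducible
    refine ⟨hq2, ?_⟩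
    set π := (QuotientGroup.mk' (center W)).comp (Subgroup.inclusion h₁) with hπ
    let π' : W' →* W ⧸ center W := π.comp (subgroupOfEquivOfLe (le_sup_left : W₁ ≤ Δ)).toMonoidHom
    obtain ⟨e, -⟩ := exists_equiv_top (σ := σ) (x := x₁) (z := x₁) π' (fun a => by
      show QuotientGroup.mk' (center W) (Subgroup.inclusion h₁ _) = 1 ↔ _
      rw [QuotientGroup.mk'_apply, QuotientGroup.eq_one_iff]
      constructor
      · intro h b hb
        rw [← map_mul, ← map_mul]
        exact congrArg σ (Subtype.ext (congrArg Subtype.val (mem_center_iff.1 h ⟨_, h₁ hb⟩)).symm)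
      · intro h
        exact hcenW _ a.2 (hfaith a a.2 h))
    have hr : π'.range = π.range := by
      rw [MonoidHom.range_comp, MonoidHom.range_eq_top.2 (MulEquiv.surjective _), ← MonoidHom.range_eq_map]
    rw [← hr, Nat.card_congr e, ← Subgroup.index_eq_card, ← hidx, show Module.finrank k _ = p - 1 by omega]
  -- the top
  set θ := quotAct W with hθ
  obtain ⟨hcard, -⟩ := moved_top hcomm hexp hxp hqp W₁ hW₁ h₁
  obtain ⟨m, σM, hm, hσ1, hσfix, hσle, hσR⟩ := exists_rep_aut (s := q) (quotient_comm hcomm) (quotient_exp hexp) θ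
  set K := AlgebraicClosure (ZMod q)
  haveI : CharP K q := charP_of_injective_algebraMap (algebraMap (ZMod q) K).injective q
  obtain ⟨c, hc⟩ : ∃ c, Module.finrank K (LinearMap.ker (σM x - 1)) = c := ⟨_, rfl⟩
  rw [hrange, hσfix x, hm, hc] at hcard
  subst hq2
  have hRq : ¬ 2 ∣ Nat.card R := by
    obtain ⟨n, hn⟩ := hR.exists_card_eq
    rw [hn]
    exact fun h2 => hrq ((Nat.prime_dvd_prime_iff_eq Nat.prime_two (Fact.out : r.Prime)).1
      (Nat.prime_two.dvd_of_dvd_pow h2)).symm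
  have hfixR : ∀ a, (∀ g ∈ R, θ g a = a) → a = 1 := by
    intro a ha
    obtain ⟨a, rfl⟩ := QuotientGroup.mk_surjective a
    refine (QuotientGroup.eq_one_iff a).2 ?_
    -- the map `w ↦ [a, w]` is trivial on `[W, R] = W`
    have key : W ≤ centralizer {(a : Γ)} := by
      have h3 : ⁅⁅W, R⁆, zpowers (a : Γ)⁆ = ⊥ := by
        have htop : ∀ S : Subgroup Γ, S ≤ normalizer ((⊥ : Subgroup Γ) : Set Γ) := fun S => by
          rw [normalizer_eq_top]; exact le_top
        refine le_bot_iff.1 (Coprime.three_subgroup_le (N := (⊥ : Subgroup Γ)) (htop _) (htop _) (htop _) ?_ ?_)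
        · rw [le_bot_iff, commutator_eq_bot_iff_le_centralizer, commutator_le]
          intro g hg b hb
          refine mem_centralizer_iff.2 fun w hw => ?_
          obtain ⟨i, rfl⟩ := hb
          have hgi : (MulAut.conjNormal g : MulAut W) (a ^ i) * (a ^ i)⁻¹ ∈ center W := quotAct_fix_iff.1 (by
            rw [QuotientGroup.mk_zpow, map_zpow, ha g hg])
          have h5 := hcenΓ hgi w
          simpa [commutatorElement_def] using h5
        · rw [le_bot_iff, commutator_eq_bot_iff_le_centralizer, commutator_le]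
          intro b hb w hw
          refine mem_centralizer_iff.2 fun g _ => hcen b (zpowers_le.2 a.2 hb) w hw g
      rw [hWR] at h3
      intro w hw
      exact mem_centralizer_singleton_iff.2
        (mem_centralizer_iff.1 (commutator_eq_bot_iff_le_centralizer.1 h3 hw) _ (mem_zpowers (a : Γ))).symm
    exact mem_center_iff.2 fun w => Subtype.ext (mem_centralizer_singleton_iff.1 (key w.2))
  set Δ := R ⊔ zpowers x with hΔ
  set R' := R.subgroupOf Δ with hR'
  haveI : R'.Normal := normal_subgroupOf_sup (zpowers_le.2 hxR)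
  set x₂ : Δ := ⟨x, mem_sup_right (mem_zpowers x)⟩ with hx₂
  set σ := σM.comp Δ.subtype with hσ
  have hRK : (r : K) ≠ 0 := fun e => hrq ((Nat.prime_dvd_prime_iff_eq Nat.prime_two (Fact.out : r.Prime)).1
    ((CharP.cast_eq_zero_iff K 2 r).1 e)).symm
  have hpK' : (p : K) ≠ 0 := fun e => hqp ((Nat.prime_dvd_prime_iff_eq Nat.prime_two (Fact.out : p.Prime)).1
    ((CharP.cast_eq_zero_iff K 2 p).1 e))
  have hxp' : x₂ ^ p = 1 := Subtype.ext hxp
  have hR'p : IsPGroup r R' := hR.comap_subtype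
  have hR'K : (Nat.card R' : K) ≠ 0 := by
    obtain ⟨n, hn⟩ := hR'p.exists_card_eq
    rw [hn, Nat.cast_pow]
    exact pow_ne_zero _ hRK
  have hR'x : ⁅R', zpowers x₂⁆ = R' := by
    rw [← zpowers_subgroupOf]
    exact commutator_subgroupOf le_sup_left le_sup_right hRx
  have hxR' : x₂ ∈ normalizer (R' : Set Δ) := by rw [normalizer_eq_top]; trivial
  have hmR := moves_of_commutator_eq hxR' hR'x
  have hgenR : R' ⊔ zpowers x₂ = ⊤ := by
    rw [← zpowers_subgroupOf, ← subgroupOf_sup le_sup_left le_sup_right, subgroupOf_self]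
  have hσ0 : ∀ v, (∀ g ∈ R', σ g v = v) → v = 0 := fun v hv =>
    hσR R hRq hfixR v fun g hg => hv ⟨g, mem_sup_left hg⟩ hg
  obtain ⟨ζ, hζ⟩ := exists_zeta (k := K) hpK'
  -- each factor has many moved dimensions
  have hfac : ∀ (U₁ U : Submodule K (Fin m → K)) (hf : IsFactor σ U₁ U),
      1 ≤ Module.finrank K (LinearMap.ker (hf.rep x₂ - 1)) ∧
      Module.finrank K (LinearMap.ker (hf.rep x₂ - 1)) + (p - 1) ≤ Module.finrank K (↥U ⧸ U₁.comap U.subtype) := by
    intro U₁ U hf
    haveI := hf.nontrivial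
    have hall : ∀ i : Fin p, 1 ≤ Module.finrank K (eig ζ (hf.rep x₂) i) := fun i => by
      rw [Nat.one_le_iff_ne_zero]
      intro e
      obtain ⟨g, hg, hgne⟩ := hf.exists_nontrivial R' hR'K hσ0
      exact hrq (two_of_missing hxR' (fun U' h1 h2 => hf.irreducible U' (inv_of_gen (S := {x₂})
        (by rw [← zpowers_eq_closure]; exact hgenR) h1 (by rintro g rfl; exact h2))) hxp' hp3 hR'p hrp hmR
        ⟨g, hg, hgne⟩ hRK hpK' hζ i (Submodule.finrank_eq_zero.1 e))
    have hsum := sum_finrank_eig (S := hf.rep x₂) hζ hpK' (Fact.out : p.Prime).pos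
      (by rw [← map_pow, hxp', map_one])
    set i₀ : Fin p := ⟨0, (Fact.out : p.Prime).pos⟩
    rw [← eig_zero (ζ := ζ) (Fact.out : p.Prime).pos]
    refine ⟨hall i₀, ?_⟩
    rw [← hsum, ← Finset.add_sum_erase _ _ (Finset.mem_univ i₀)]
    have := Finset.card_nsmul_le_sum ((Finset.univ : Finset (Fin p)).erase i₀)
      (fun i => Module.finrank K (eig ζ (hf.rep x₂) i)) 1 fun i _ => hall i
    rw [Finset.card_erase_of_mem (Finset.mem_univ _), Finset.card_univ, Fintype.card_fin, smul_eq_mul,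
      mul_one] at this
    exact Nat.add_le_add_left this _
  have hbound : ∀ U : Submodule K (Fin m → K), (∀ g, ∀ u ∈ U, σ g u ∈ U) → U ≠ ⊥ →
      ∃ U₁, ∃ hf : IsFactor σ U₁ U, Module.finrank K ↥(U ⊓ LinearMap.ker (σ x₂ - 1)) + (p - 1) +
        (Module.finrank K U₁) ≤ Module.finrank K U + Module.finrank K ↥(U₁ ⊓ LinearMap.ker (σ x₂ - 1)) := by
    intro U hU hU0
    obtain ⟨U₁, hf⟩ := exists_isFactor hU hU0
    exact ⟨U₁, hf, hf.fixed_bound x₂ (hfac U₁ U hf).2⟩
  have hcap : ∀ U : Submodule K (Fin m → K),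
      Module.finrank K ↥(U ⊓ LinearMap.ker (σ x₂ - 1)) ≤ Module.finrank K U := fun U =>
    Submodule.finrank_mono inf_le_left
  have hm0 : 0 < m := by
    by_contra h0
    obtain rfl : m = 0 := by omega
    rw [pow_zero] at hcard
    have := Nat.eq_one_of_mul_eq_one_right hcard
    have h4 : 4 ^ 2 ≤ (p - 1) ^ 2 := Nat.pow_le_pow_left (by omega) 2
    omega
  haveI : Nontrivial (Fin m → K) := Module.nontrivial_of_finrank_pos (R := K) (by simpa using hm0)
  obtain ⟨U₁, hf, hb⟩ := hbound ⊤ (fun _ _ _ => trivial) top_ne_bot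
  have hc' : Module.finrank K (LinearMap.ker (σ x₂ - 1)) = c := hc
  rw [top_inf_eq, finrank_top, Module.finrank_fin_fun, hc'] at hb
  have hmc : c + (p - 1) ≤ m := add_le_of_bound hb (hcap U₁)
  have hp1 : p - 1 ≤ 4 := le_eight_of_sq (by
    have h1 : 2 ^ (c + (p - 1)) ≤ 2 ^ m := Nat.pow_le_pow_right two_pos hmc
    rw [← hcard, pow_add, mul_comm] at h1
    exact Nat.le_of_mul_le_mul_right h1 (pow_pos two_pos c))
  obtain rfl : p = 5 := by omega
  have hm4 : m = c + 4 := by
    rw [show (5 - 1) ^ 2 = 2 ^ 4 by norm_num, ← pow_add] at hcard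
    have := Nat.pow_right_injective le_rfl hcard
    omega
  have hU₁ : U₁ = ⊥ := by
    by_contra hU
    obtain ⟨U₀, hf₀, hb₀⟩ := hbound U₁ hf.inv₁ hU
    have h8 := add_le_of_bound hb₀ (hcap U₀)
    have key : ∀ {u v : ℕ}, c + (5 - 1) + u ≤ m + v → v + (5 - 1) ≤ u → c + 8 ≤ m := fun h h' => by omega
    have h9 := key hb h8
    omega
  subst hU₁
  have hirrM : ∀ U : Submodule K (Fin m → K), (∀ g, ∀ u ∈ U, σ g u ∈ U) → U = ⊥ ∨ U = ⊤ := fun U hU =>
    hf.min U hU bot_le le_top
  -- the dimension is six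
  have hC1 : 1 ≤ c := by
    have h1 := (hfac ⊥ ⊤ hf).1
    have h2 := (hf.finrank_fixed x₂).2 5 hxp' hpK'
    rw [top_inf_eq, bot_inf_eq, finrank_bot, zero_add, hc'] at h2
    exact h1.trans h2
  obtain ⟨n, hn⟩ := exists_sq_index hinj hW hqK hcomm hcs
  rw [Subgroup.index_eq_card, hm] at hn
  obtain ⟨b, -, hb2⟩ := (Nat.dvd_prime_pow Nat.prime_two).1 (hn ▸ dvd_pow_self n two_ne_zero : n ∣ 2 ^ m)
  have heven : m = 2 * b := by
    rw [hb2, ← pow_mul] at hn
    have := Nat.pow_right_injective le_rfl hn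
    omega
  obtain ⟨g, hg, hgne⟩ : ∃ g ∈ R', σ g ≠ 1 := by
    by_contra hall
    push Not at hall
    obtain ⟨v, hv⟩ := exists_ne (0 : Fin m → K)
    exact hv (hσ0 v fun g hg => by rw [hall g hg, Module.End.one_apply])
  haveI := imW_normal (σ := σ) (z := x₂) hxR' hxR'
  set Γ₀ := imG σ R' x₂ x₂
  set x₀ : Γ₀ := imEl σ R' x₂ x₂ x₂ left_mem with hx₀
  set R₀ := imW σ R' x₂ x₂ with hR₀
  have hne₀ : R₀ ≠ ⊥ := imW_ne_bot ⟨g, hg, hgne⟩
  have hmx₀ : Moves x₀ R₀ := hmR.im left_mem
  have hgen₀ : R₀ ⊔ zpowers x₀ = ⊤ := by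
    have := imW_gen (σ := σ) (W := R') (x := x₂) (z := x₂)
    rwa [Set.pair_eq_singleton, ← zpowers_eq_closure] at this
  have hxp₀ : x₀ ^ 5 = 1 := Subtype.ext (by
    show σ.toHomUnits x₂ ^ 5 = 1
    rw [← map_pow, hxp', map_one])
  have hirr₀ : NoInvariant (imRep σ R' x₂ x₂) := imRep_irr fun U h1 h2 _ => hirrM U (inv_of_gen (S := {x₂})
    (by rw [← zpowers_eq_closure]; exact hgenR) h1 (by rintro g rfl; exact h2))
  have hxR₀ : x₀ ∈ normalizer (R₀ : Set Γ₀) := by rw [normalizer_eq_top]; trivial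
  have hx₀1 : x₀ ≠ 1 := fun e => hne₀ (hmx₀.eq_bot_of_commute fun w _ => by rw [e, one_mul, mul_one])
  haveI : Group.IsSolvable R₀ := by
    haveI := (imW_pgroup (σ := σ) (x := x₂) (z := x₂) hR'p).isNilpotent
    infer_instance
  haveI : Group.IsSolvable Γ₀ := by
    have hs : Function.Surjective ((QuotientGroup.mk' R₀).comp (zpowers x₀).subtype) := fun y => by
      obtain ⟨y, rfl⟩ := QuotientGroup.mk_surjective y
      obtain ⟨w, hw, c', hc', rfl⟩ := mem_sup_of_normal_left.mp
        (show y ∈ R₀ ⊔ zpowers x₀ by rw [hgen₀]; trivial)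
      refine ⟨⟨c', hc'⟩, ?_⟩
      show (c' : Γ₀ ⧸ R₀) = ((w * c' : Γ₀) : Γ₀ ⧸ R₀)
      rw [QuotientGroup.mk_mul, (QuotientGroup.eq_one_iff w).2 hw, one_mul]
    haveI : Group.IsSolvable (Γ₀ ⧸ R₀) := Group.isSolvable_of_surjective hs
    exact Group.isSolvable_of_ker_le_range R₀.subtype (QuotientGroup.mk' R₀)
      (by rw [QuotientGroup.ker_mk', range_subtype])
  have hlt := two_finrank_fixed_lt (p := 5) hp3 (orderOf_eq_prime hxp₀ hx₀1) (by
    rw [eq_top_iff, ← hgen₀]
    refine sup_le ?_ (zpowers_le.2 (subset_normalClosure rfl))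
    refine hmx₀.trans ((closure_le _).2 ?_)
    rintro _ ⟨w, -, rfl⟩
    have hx' : x₀ ∈ normalClosure ({x₀} : Set Γ₀) := subset_normalClosure rfl
    show ⁅x₀, w⁆ ∈ _
    rw [commutatorElement_def, show x₀ * w * x₀⁻¹ * w⁻¹ = x₀ * (w * x₀⁻¹ * w⁻¹) by group]
    exact mul_mem hx' (Normal.conj_mem normalClosure_normal _ (inv_mem hx') _)) (imRep σ R' x₂ x₂)
    imRep_injective hirr₀
  have hc₀ : Module.finrank K (LinearMap.ker (imRep σ R' x₂ x₂ x₀ - 1)) = c := hc
  rw [Module.finrank_fin_fun, hc₀] at hlt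
  obtain rfl : m = 6 := by omega
  have hc2 : c = 2 := by omega
  exact not_six (R := R₀) imRep_injective hirr₀ hgen₀ (imW_pgroup hR'p) (fun e => hrq e) hRK hxp₀
    (by
      refine le_antisymm (Coprime.commutator_le_left_of_le_normalizer (zpowers_le.2 hxR₀)) ?_
      refine hmx₀.trans ((closure_le _).2 ?_)
      rintro _ ⟨w, hw, rfl⟩
      show ⁅x₀, w⁆ ∈ ⁅R₀, zpowers x₀⁆
      rw [← commutatorElement_inv]
      exact inv_mem (commutator_mem_commutator hw (mem_zpowers x₀)))
    (Module.finrank_fin_fun K) (hc₀.trans hc2)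

end nofixed

end Cfsg.Agent.TwoGenSolvable
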