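import Mathlib
import Cfsg.Agent.Lib.TwoGenSolvable.JNoFixed

/-!
# The J-lemma for a linear group
-/

set_option autoImplicit false
set_option linter.style.haveILetI false
set_option linter.unusedSectionVars false

namespace Cfsg.Agent.TwoGenSolvable

open Subgroup FixedDim HallHigman
open scoped commutatorElement IsMulCommutative

universe uk uV

section general

variable {k : Type uk} [Field k] [IsAlgClosed k] {V : Type uV} [AddCommGroup V] [Module k V]
  [FiniteDimensional k V] {Γ : Type*} [Group Γ] [Finite Γ] {ρ : Γ →* Module.End k V} {p q r : ℕ}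
  [Fact p.Prime] [Fact q.Prime] [Fact r.Prime] {x : Γ} {W R : Subgroup Γ}

theorem card_ne_zero_of_pgroup (hW : IsPGroup q W) (hqK : (q : k) ≠ 0) : (Nat.card W : k) ≠ 0 := by
  obtain ⟨n, hn⟩ := hW.exists_card_eq
  rw [hn, Nat.cast_pow]
  exact pow_ne_zero _ hqK

/-- A `q`-group moved by an `r`-group moved by `x` is trivial when `x` fixes nothing. -/
theorem no_fixed_general (hp5 : 5 ≤ p) (hqp : q ≠ p) (hrq : r ≠ q) (hrp : r ≠ p) (hW : IsPGroup q W)
    (hR : IsPGroup r R) (hRW : R ≤ normalizer (W : Set Γ)) (hxW : x ∈ normalizer (W : Set Γ))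
    (hxR : x ∈ normalizer (R : Set Γ)) (hxp : x ^ p = 1) (hWR : ⁅W, R⁆ = W) (hRx : ⁅R, zpowers x⁆ = R)
    (hqK : (q : k) ≠ 0) (hpK : (p : k) ≠ 0) (hx0 : ∀ v, ρ x v = v → v = 0) : ∀ w ∈ W, ρ w = 1 := by
  by_contra hno
  push Not at hno
  obtain ⟨w, hw, hwne⟩ := hno
  set Δ := W ⊔ (R ⊔ zpowers x) with hΔ
  have hRΔ : R ≤ Δ := le_sup_left.trans le_sup_right
  have hxΔ : x ∈ Δ := mem_sup_right (mem_sup_right (mem_zpowers x))
  have hWΔ : W ≤ Δ := le_sup_left
  set W' := W.subgroupOf Δ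
  set R' := R.subgroupOf Δ
  haveI : W'.Normal := normal_subgroupOf_sup (sup_le hRW (zpowers_le.2 hxW))
  set x' : Δ := ⟨x, hxΔ⟩
  have hW' : IsPGroup q W' := hW.comap_subtype
  obtain ⟨U₁, U₂, hf, w', hw', hw'ne⟩ := exists_factor_nontrivial (ρ := ρ.comp Δ.subtype) W'
    (card_ne_zero_of_pgroup hW' hqK) (w := ⟨w, hWΔ hw⟩) hw hwne
  haveI := hf.nontrivial
  set g := hf.rep.toHomUnits.rangeRestrict with hg
  set ρ' : hf.rep.toHomUnits.range →* Module.End k (↥U₂ ⧸ U₁.comap U₂.subtype) :=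
    (Units.coeHom _).comp hf.rep.toHomUnits.range.subtype
  have hgs : Function.Surjective g := MonoidHom.rangeRestrict_surjective _
  haveI : Finite hf.rep.toHomUnits.range := Finite.of_surjective g hgs
  have hρ' : ∀ a, ρ' (g a) = hf.rep a := fun a => rfl
  haveI : (W'.map g).Normal := Normal.map inferInstance g hgs
  have hgen : W' ⊔ R' ⊔ zpowers x' = ⊤ := by
    rw [← zpowers_subgroupOf, ← subgroupOf_sup hWΔ hRΔ, ← subgroupOf_sup (sup_le hWΔ hRΔ) (zpowers_le.2 hxΔ),
      sup_assoc, subgroupOf_self]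
  have hxR' : x' ∈ normalizer (R' : Set Δ) := mem_normalizer_iff.2 fun a => mem_normalizer_iff.1 hxR (a : Γ)
  have h := no_fixed_pair (ρ := ρ') (x := g x') (W := W'.map g) (R := R'.map g)
    (fun a b e => Subtype.ext (Units.ext e))
    (fun U hU => hf.irreducible U fun a u hu => hρ' a ▸ hU (g a) u hu)
    (by rw [← MonoidHom.map_zpowers, ← Subgroup.map_sup, ← Subgroup.map_sup, hgen, map_top_of_surjective g hgs])
    hp5 hqp hrq hrp (hW'.map g) ((hR.comap_subtype).map g)
    (le_normalizer_map g (mem_map_of_mem g hxR'))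
    (by rw [← map_pow, show x' ^ p = 1 from Subtype.ext hxp, map_one])
    (by rw [← map_commutator, commutator_subgroupOf hWΔ hRΔ hWR])
    (by rw [← MonoidHom.map_zpowers, ← map_commutator, ← zpowers_subgroupOf,
      commutator_subgroupOf hRΔ (zpowers_le.2 hxΔ) hRx])
    hqK hpK (fun v hv => hf.no_fixed (show x' ^ p = 1 from Subtype.ext hxp) hpK hx0 v hv)
  have h1 : g w' = 1 := by
    rw [← mem_bot, ← h]
    exact mem_map_of_mem g hw'
  exact hw'ne (by rw [← hρ', h1, map_one])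

end general


section lemmas

variable {Γ : Type*} [Group Γ] {x z : Γ}

theorem mem_zpowers_mul [Finite Γ] {p q : ℕ} [Fact p.Prime] [Fact q.Prime] (hpq : p ≠ q) (hc : x * z = z * x)
    (hxp : x ^ p = 1) (hzq : z ^ q = 1) : x ∈ zpowers (x * z) ∧ z ∈ zpowers (x * z) := by
  have hx : x ∈ zpowers (x * z) := by
    obtain ⟨m, hm⟩ := Nat.exists_mul_mod_eq_one_of_coprime
      ((Nat.coprime_primes Fact.out Fact.out).mpr hpq).symm (Fact.out : p.Prime).one_lt
    have h1 : x = (x ^ q) ^ m := by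
      rw [← pow_mul, ← Nat.mod_add_div (q * m) p, pow_add, pow_mul, hxp, one_pow, mul_one, hm.2, pow_one]
    have h2 : (x * z) ^ q = x ^ q := by rw [(show Commute x z from hc).mul_pow, hzq, mul_one]
    have h3 : ((x * z) ^ q) ^ m ∈ zpowers (x * z) := pow_mem (pow_mem (mem_zpowers (x * z)) q) m
    rwa [h2, ← h1] at h3
  exact ⟨hx, by simpa using mul_mem (inv_mem hx) (mem_zpowers (x * z))⟩

variable {W R : Subgroup Γ} [W.Normal]

/-- `W = [W, R]` of class two: `R` fixes no non-trivial element of the top. -/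
theorem eq_one_of_fixed_top (hWR : ⁅W, R⁆ = W) (hcenΓ : ∀ {a : W}, a ∈ center W → ∀ g : Γ, g * (a : Γ) = a * g)
    (hcomm : ∀ a b : W, ⁅a, b⁆ ∈ center W) :
    ∀ a, (∀ g ∈ R, quotAct W g a = a) → a = 1 := by
  intro a ha
  obtain ⟨a, rfl⟩ := QuotientGroup.mk_surjective a
  refine (QuotientGroup.eq_one_iff a).2 ?_
  have key : W ≤ centralizer {(a : Γ)} := by
    have h3 : ⁅⁅W, R⁆, zpowers (a : Γ)⁆ = ⊥ := by
      have htop : ∀ S : Subgroup Γ, S ≤ normalizer ((⊥ : Subgroup Γ) : Set Γ) := fun S => by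
        rw [normalizer_eq_top]; exact le_top
      refine le_bot_iff.1 (Coprime.three_subgroup_le (N := (⊥ : Subgroup Γ)) (htop _) (htop _) (htop _) ?_ ?_)
      · rw [le_bot_iff, commutator_eq_bot_iff_le_centralizer, commutator_le]
        intro g hg b hb
        refine mem_centralizer_iff.2 fun w hw => ?_
        obtain ⟨i, rfl⟩ := hb
        have hgi : (MulAut.conjNormal g : MulAut W) (a ^ i) * (a ^ i)⁻¹ ∈ center W := quotAct_fix_iff.1 (by
          rw [QuotientGroup.mk_zpow, map_zpow, ha g hg])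
        have h5 := hcenΓ hgi w
        simpa [commutatorElement_def] using h5
      · rw [le_bot_iff, commutator_eq_bot_iff_le_centralizer, commutator_le]
        intro b hb w hw
        exact mem_centralizer_iff.2 fun g _ => hcenΓ (hcomm ⟨b, zpowers_le.2 a.2 hb⟩ ⟨w, hw⟩) g
    rw [hWR] at h3
    intro w hw
    exact mem_centralizer_singleton_iff.2
      (mem_centralizer_iff.1 (commutator_eq_bot_iff_le_centralizer.1 h3 hw) _ (mem_zpowers (a : Γ))).symm
  exact mem_center_iff.2 fun w => Subtype.ext (mem_centralizer_singleton_iff.1 (key w.2))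

theorem two_pow_big {p : ℕ} (hp : 5 ≤ p) : 2 * p ≤ 2 ^ (p - 1) := by
  induction p, hp using Nat.le_induction with
  | base => norm_num
  | succ n hn ih =>
    rw [show n + 1 - 1 = (n - 1) + 1 by omega, pow_succ]
    omega

theorem final_count {p N S c d F : ℕ} (hp : 5 ≤ p) (hS : p * S + 1 = N ^ 2 + p) (hd : c ≤ d)
    (hlow : S + d ^ 2 ≤ 2 * F) (hup : 2 * p * F + 2 ≤ N ^ 2 + N + 2 * p) (hN : N + 1 ≤ p * (c + 1))
    (hbig : 2 * p ≤ N) : False := by
  have h1 : p * (S + d ^ 2) ≤ p * (2 * F) := Nat.mul_le_mul_left p hlow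
  have h2 : p * c ^ 2 ≤ p * d ^ 2 := Nat.mul_le_mul_left p (Nat.pow_le_pow_left hd 2)
  rw [Nat.mul_add, ← mul_assoc, mul_comm p 2] at h1
  have h3 : p * c ^ 2 + 1 ≤ N + p := by omega
  rcases c with _ | _ | c
  · omega
  · omega
  · nlinarith

end lemmas

section core

variable {k : Type uk} [Field k] [IsAlgClosed k] {V : Type uV} [AddCommGroup V] [Module k V]
  [FiniteDimensional k V] [Nontrivial V] {Γ : Type*} [Group Γ] [Finite Γ] {ρ : Γ →* Module.End k V} {p q r : ℕ}
  [Fact p.Prime] [Fact q.Prime] [Fact r.Prime] {x z n s : Γ} {W R : Subgroup Γ} [W.Normal]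

/-- The centre of `W` is scalar. -/
theorem center_scalar_of_pair (hinj : Function.Injective ρ) (hirr : NoInvariant ρ)
    (hgen : W ⊔ R ⊔ closure ({x, z} : Set Γ) = ⊤) (hqp : q ≠ p) (hrq : r ≠ q) (hW : IsPGroup q W)
    (hR : IsPGroup r R) (hxR : x ∈ normalizer (R : Set Γ)) (hxp : x ^ p = 1) (hzq : z ^ q = 1)
    (hxz : x * z = z * x) (hs : s ∈ W) (hzn : z = s * n) (hnR : n ∈ normalizer (R : Set Γ))
    (hWR : ⁅W, R⁆ = W) (hRx : ⁅R, zpowers x⁆ = R) (hRn : ⁅R, zpowers n⁆ = R)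
    (hfix : ∀ v, ρ x v = v → ρ z v = v) {v₀ : V} (hv₀ : v₀ ≠ 0) (hxv₀ : ρ x v₀ = v₀) :
    ∀ {a : W}, a ∈ center W → ∃ c : k, ρ a = c • (1 : Module.End k V) := by
  classical
  set A : Subgroup Γ := (center W).map W.subtype with hAdef
  haveI : IsMulCommutative A := PGroup.isMulCommutative_of_forall <| by
    rintro _ ⟨u, hu, rfl⟩ _ ⟨v, hv, rfl⟩
    rw [← map_mul, ← map_mul, mem_center_iff.1 hv u]
  have hA := card_ne_zero_of_normal ρ hinj hirr A
  letI := charAction (K := k) A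
  have hWfix : ∀ w ∈ W, ∀ χ : A →* kˣ, w • χ = χ := fun w hw χ => tw_eq_of_commute A (by
    rintro _ ⟨a, ha, rfl⟩
    exact congrArg Subtype.val (mem_center_iff.1 ha ⟨w, hw⟩)) χ
  have hnz : ∀ χ : A →* kˣ, n • χ = z • χ := fun χ => by
    rw [hzn, mul_smul, hWfix s hs]
  let Ω := {χ : A →* kˣ // wsp (ρ.comp A.subtype) χ ≠ ⊥}
  letI : MulAction Γ Ω :=
    { smul := fun g χ => ⟨tw A g χ.1, wsp_tw_ne_bot ρ A g χ.2⟩
      one_smul := fun χ => Subtype.ext (one_smul Γ χ.1)
      mul_smul := fun g g' χ => Subtype.ext (mul_smul g g' χ.1) }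
  have hmoved : ∀ χ : Ω, x • χ ≠ χ → z • χ = χ ∧ ∀ v ∈ wsp (ρ.comp A.subtype) χ.1, ρ z v = v := fun χ hc => by
    obtain ⟨h1, h2⟩ := trivial_on_moved (ρ := ρ) A hxp hzq hxz hqp.symm hfix hA χ.2 fun e => hc (Subtype.ext e)
    exact ⟨Subtype.ext h1, h2⟩
  have hRfix : ∀ g ∈ R, ∀ χ : Ω, g • χ = χ := by
    intro g hg χ
    refine smul_eq_of_perm (W := R) (ι := Unit) (σ := R.normalizerMonoidHom ⟨x, hxR⟩)
      (τ := fun _ => R.normalizerMonoidHom ⟨n, hnR⟩) hR
      ((moves_of_commutator_eq hxR hRx).closure_normalizerMonoidHom hxR)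
      (by rw [Set.iUnion_const]; exact (moves_of_commutator_eq hnR hRn).closure_normalizerMonoidHom hnR)
      (x := MulAction.toPerm x) (z := fun _ => MulAction.toPerm n) (fun w η => ?_) (fun _ w η => ?_) (fun η => ?_)
      (⟨g, hg⟩ : R) χ
    · show x • ((w : Γ) • η) = (x * (w : Γ) * x⁻¹) • x • η
      rw [smul_smul, smul_smul, inv_mul_cancel_right]
    · show n • ((w : Γ) • η) = (n * (w : Γ) * n⁻¹) • n • η
      rw [smul_smul, smul_smul, inv_mul_cancel_right]
    · by_cases h : x • η = η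
      · exact Or.inl h
      · refine Or.inr fun _ => ?_
        exact (Subtype.ext (hnz η.1) : n • η = z • η).trans (hmoved η h).1
  let N : Subgroup Γ :=
    { carrier := {g | ∀ χ : Ω, x • g • χ = g • χ ↔ x • χ = χ}
      one_mem' := fun χ => by rw [one_smul]
      mul_mem' := fun {a b} ha hb χ => by rw [mul_smul]; exact (ha (b • χ)).trans (hb χ)
      inv_mem' := fun {a} ha χ => by
        have := ha (a⁻¹ • χ)
        rw [smul_inv_smul] at this
        exact this.symm }
  have hNtop : ∀ g, g ∈ N := by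
    have hc : ∀ g, g * x = x * g → g ∈ N := fun g hg χ => by
      rw [smul_smul, ← hg, mul_smul]
      exact ⟨fun h => MulAction.injective g h, fun h => by rw [h]⟩
    have hle : W ⊔ R ⊔ closure ({x, z} : Set Γ) ≤ N := by
      refine sup_le (sup_le (fun w hw χ => ?_) (fun g hg χ => by rw [hRfix g hg χ])) ((closure_le _).2 ?_)
      · rw [show w • χ = χ from Subtype.ext (hWfix w hw χ.1)]
      · rintro g (rfl | rfl)
        · exact hc g rfl
        · exact hc g hxz.symm
    exact fun g => hle (hgen ▸ mem_top g)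
  have htrans : ∀ χ η : Ω, ∃ g : Γ, g • χ = η := fun χ η => by
    obtain ⟨g, hg⟩ := exists_tw_eq A hirr hA χ.2 η.2
    exact ⟨g, Subtype.ext hg⟩
  intro a ha
  by_cases hex : ∃ χ : Ω, x • χ ≠ χ
  · -- then `z` is trivial
    obtain ⟨χ, hχ⟩ := hex
    have hz1 : z = 1 := hinj (eq_of_eqOn_wsp A hA (ρ.comp A.subtype) _ _ fun η v hv => by
      rw [map_one, Module.End.one_apply]
      by_cases hv0 : v = 0
      · simp [hv0]
      set η' : Ω := ⟨η, (Submodule.ne_bot_iff _).2 ⟨v, hv, hv0⟩⟩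
      obtain ⟨g, hg⟩ := htrans χ η'
      exact (hmoved η' fun e => hχ ((hNtop g χ).1 (by rw [hg]; exact e))).2 v hv)
    have hnW : n ∈ W := by
      have hn : n = s⁻¹ * z := by rw [hzn, inv_mul_cancel_left]
      rw [hn, hz1, mul_one]; exact inv_mem hs
    have hR0 : R = ⊥ := by
      rw [← hRn, eq_bot_iff]
      refine le_trans ?_ (Coprime.disjoint_of_coprime_card (H := R) (K := W) ?_).le
      · refine le_inf (Coprime.commutator_le_left_of_le_normalizer (zpowers_le.2 hnR)) ?_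
        exact (commutator_mono le_rfl (zpowers_le.2 hnW)).trans (commutator_le_right R W)
      · obtain ⟨i, hi⟩ := hR.exists_card_eq
        obtain ⟨j, hj⟩ := hW.exists_card_eq
        rw [hi, hj]
        exact (((Nat.coprime_primes (Fact.out : r.Prime) (Fact.out : q.Prime)).2 hrq).pow_left i).pow_right j
    rw [hR0, commutator_bot_right] at hWR
    refine ⟨1, ?_⟩
    have : (a : Γ) = 1 := mem_bot.1 (hWR.symm ▸ a.2 : (a : Γ) ∈ (⊥ : Subgroup Γ))
    rw [this, map_one, one_smul]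
  · push Not at hex
    obtain ⟨χ, hχ⟩ := exists_wproj_ne_zero (ρ := ρ) A hA hv₀
    set u := wproj (ρ.comp A.subtype) χ v₀
    have hu := wproj_mem (ρ.comp A.subtype) χ v₀
    set ω : Ω := ⟨χ, (Submodule.ne_bot_iff _).2 ⟨u, hu, hχ⟩⟩
    have hxu : ρ x u = u := by
      have h1 := wproj_map (ρ := ρ) A hA x χ v₀
      rw [hxv₀, show tw A x χ = χ from congrArg Subtype.val (hex ω)] at h1
      exact h1.symm
    have hzω : z • ω = ω := Subtype.ext (tw_eq_of_fixed A hu hχ (hfix u hxu))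
    have hall : ∀ g : Γ, g • ω = ω := fun g => by
      have hle : W ⊔ R ⊔ closure ({x, z} : Set Γ) ≤ MulAction.stabilizer Γ ω :=
        sup_le (sup_le (fun w hw => Subtype.ext (hWfix w hw χ)) (fun g hg => hRfix g hg ω))
          ((closure_le _).2 (by rintro g (rfl | rfl); exacts [hex ω, hzω]))
      exact hle (hgen ▸ mem_top g)
    exact ⟨_, scalar_of_single A hA (χ₀ := χ) (fun η hη => by
      obtain ⟨g, hg⟩ := htrans ω ⟨η, hη⟩
      rw [hall g] at hg
      exact (congrArg Subtype.val hg).symm) (a := (a : Γ)) ⟨a, ha, rfl⟩⟩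

end core


section count

variable {k : Type uk} [Field k] [IsAlgClosed k] {V : Type uV} [AddCommGroup V] [Module k V]
  [FiniteDimensional k V] [Nontrivial V] {Γ : Type*} [Group Γ] [Finite Γ] {ρ : Γ →* Module.End k V} {p q r : ℕ}
  [Fact p.Prime] [Fact q.Prime] [Fact r.Prime] {x z n s : Γ} {W R : Subgroup Γ} [W.Normal]

/-- `W` has class two. -/
theorem classTwo_of_pair (hinj : Function.Injective ρ) (hirr : NoInvariant ρ)
    (hgen : W ⊔ R ⊔ closure ({x, z} : Set Γ) = ⊤) (hqp : q ≠ p) (hrq : r ≠ q) (hW : IsPGroup q W)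
    (hR : IsPGroup r R) (hxR : x ∈ normalizer (R : Set Γ)) (hxp : x ^ p = 1) (hzq : z ^ q = 1)
    (hxz : x * z = z * x) (hs : s ∈ W) (hzn : z = s * n) (hnR : n ∈ normalizer (R : Set Γ))
    (hWR : ⁅W, R⁆ = W) (hRx : ⁅R, zpowers x⁆ = R) (hRn : ⁅R, zpowers n⁆ = R)
    (hfix : ∀ v, ρ x v = v → ρ z v = v)
    (hfixC : ∀ c ∈ W, x * c = c * x → ∀ v, ρ x v = v → ρ ⁅c, z⁆ v = v) {v₀ : V} (hv₀ : v₀ ≠ 0)
    (hxv₀ : ρ x v₀ = v₀) :
    (∀ a b : W, ⁅a, b⁆ ∈ center W) ∧ (∀ a : W, a ^ q ∈ center W) ∧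
      ∀ c ∈ W, x * c = c * x → z * c = c * z := by
  classical
  have hscal : ∀ {a : W}, a ∈ center W → ∃ c : k, ρ a = c • (1 : Module.End k V) :=
    center_scalar_of_pair hinj hirr hgen hqp hrq hW hR hxR hxp hzq hxz hs hzn hnR hWR hRx hRn hfix hv₀ hxv₀
  have hcenΓ : ∀ {a : W}, a ∈ center W → ∀ g : Γ, g * (a : Γ) = a * g := fun {a} ha g => by
    obtain ⟨c, hc⟩ := hscal ha
    exact hinj (by rw [map_mul, map_mul, hc, mul_smul_comm, smul_mul_assoc, mul_one, one_mul])
  have hone : ∀ a : W, a ∈ center W → ρ a v₀ = v₀ → (a : Γ) = 1 := fun a ha hav => by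
    obtain ⟨c, hc⟩ := hscal ha
    rw [hc, LinearMap.smul_apply, Module.End.one_apply] at hav
    have hc1 : c = 1 := smul_left_injective k hv₀ (hav.trans (one_smul k v₀).symm)
    rw [hc1, one_smul, ← map_one ρ] at hc
    exact hinj hc
  have hxW : x ∈ normalizer (W : Set Γ) := by rw [normalizer_eq_top]; trivial
  have hnW : ∀ {g : Γ}, g ∈ normalizer (W : Set Γ) := fun {g} => by rw [normalizer_eq_top]; trivial
  -- the basic trick
  have hj : ∀ j : W, x * (j : Γ) = j * x → (∀ v, ρ x v = v → ρ j v = v) → (∀ w : W, ⁅j, w⁆ ∈ center W) →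
      (j : Γ) = 1 := by
    intro j hjx hjfix hjc
    refine hone j ?_ (hjfix v₀ hxv₀)
    have h1 : ∀ w ∈ W, ⁅(j : Γ), w⁆ = 1 := by
      refine commute_of_hom hxW (coprime_zpowers hxp hqp hW) hjx (fun w hw g _ => hcenΓ (hjc ⟨w, hw⟩) g)
        (fun w hw => hcenΓ (hjc ⟨w, hw⟩) x) fun c hc hxc => ?_
      refine hone ⁅j, ⟨c, hc⟩⁆ (hjc _) ?_
      have hinv : ∀ g : Γ, x * g = g * x → ∀ v, ρ x v = v → ρ x (ρ g v) = ρ g v := fun g hg v hv => by
        rw [← Module.End.mul_apply, ← map_mul, hg, map_mul, Module.End.mul_apply, hv]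
      have hji : ∀ v, ρ x v = v → ρ (j : Γ)⁻¹ v = v := fun v hv => by
        conv_lhs => rw [← hjfix v hv, ← Module.End.mul_apply, ← map_mul, inv_mul_cancel, map_one,
          Module.End.one_apply]
      have hci : x * c⁻¹ = c⁻¹ * x := ((show Commute x c from hxc).inv_right).eq
      show ρ ⁅(j : Γ), c⁆ v₀ = v₀
      rw [commutatorElement_def, map_mul, map_mul, map_mul, Module.End.mul_apply, Module.End.mul_apply,
        Module.End.mul_apply, hji _ (hinv _ hci _ hxv₀), ← Module.End.mul_apply (ρ c), ← map_mul, mul_inv_cancel,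
        map_one, Module.End.one_apply, hjfix v₀ hxv₀]
    exact mem_center_iff.2 fun w => Subtype.ext
      (commutatorElement_eq_one_iff_mul_comm.1 (h1 w w.2)).symm
  have hjk : ∀ k ∈ W, x * k = k * x → ∀ hm : ⁅k, z⁆ ∈ W, (∀ w : W, ⁅(⟨⁅k, z⁆, hm⟩ : W), w⁆ ∈ center W) →
      z * k = k * z := by
    intro k hk hxk hm hc
    have h1 : x * ⁅k, z⁆ = ⁅k, z⁆ * x := by
      have h2 : Commute x k := hxk
      have h3 : Commute x z := hxz
      rw [commutatorElement_def]
      exact (((h2.mul_right h3).mul_right h2.inv_right).mul_right h3.inv_right).eq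
    exact (commutatorElement_eq_one_iff_mul_comm.1 (hj ⟨_, hm⟩ h1 (hfixC k hk hxk) hc)).symm
  have hcl := classTwo_of_abelian hW fun A hAch hAc hAW => by
    haveI := hAch
    set A' : Subgroup Γ := A.map W.subtype with hA'def
    haveI : IsMulCommutative A' := PGroup.isMulCommutative_of_forall <| by
      rintro _ ⟨u, hu, rfl⟩ _ ⟨v, hv, rfl⟩
      rw [← map_mul, ← map_mul, show u * v = v * u from congrArg Subtype.val (mul_comm' (⟨u, hu⟩ : A) ⟨v, hv⟩)]
    have hA'W : A' ≤ W := map_subtype_le A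
    have hAW' : ∀ a ∈ A', ∀ w ∈ W, ∀ g : Γ, g * ⁅a, w⁆ = ⁅a, w⁆ * g := by
      rintro _ ⟨a, ha, rfl⟩ w hw g
      exact hcenΓ (hAW a ha ⟨w, hw⟩) g
    have hxA : x ∈ normalizer (A' : Set Γ) := by rw [normalizer_eq_top]; trivial
    -- `z` centralises `A'`
    have hzA : ∀ a ∈ A', z * a = a * z := by
      have hm : ⁅A', zpowers x⁆ ≤ centralizer {z} := by
        rw [commutator_le]
        intro a ha y hy
        have hbA : ⁅a, y⁆ ∈ A' :=
          Coprime.commutator_le_left_of_le_normalizer (zpowers_le.2 hxA) (commutator_mem_commutator ha hy)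
        have hA0 := card_ne_zero_of_normal ρ hinj hirr A'
        refine mem_centralizer_singleton_iff.2 (hinj (eq_of_eqOn_wsp A' hA0 (ρ.comp A'.subtype) _ _ fun η v hv => ?_))
        rw [map_mul, map_mul, Module.End.mul_apply, Module.End.mul_apply]
        by_cases hv0 : v = 0
        · simp [hv0]
        have hη := (Submodule.ne_bot_iff _).2 ⟨v, hv, hv0⟩
        letI := charAction (K := k) A'
        by_cases hmov : tw A' x η = η
        · -- the commutator is trivial on a fixed weight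
          have htriv : ∀ η' : A' →* kˣ, x • η' = η' → ∀ v' ∈ wsp (ρ.comp A'.subtype) η', ρ ⁅a, y⁆ v' = v' := by
            intro η' hη' v' hv'
            have hy' : y⁻¹ • η' = η' := zpowers_le.2 (show x ∈ MulAction.stabilizer Γ η' from hη') (inv_mem hy)
            have h5 : (ρ.comp A'.subtype) ⟨⁅a, y⁆, hbA⟩ v' = (η' ⟨⁅a, y⁆, hbA⟩ : k) • v' := hv' _
            have e : (⟨⁅a, y⁆, hbA⟩ : A') = ⟨a, ha⟩ * (MulAut.conjNormal y : MulAut A') (⟨a, ha⟩ : A')⁻¹ :=
              Subtype.ext (by simp [commutatorElement_def, mul_assoc])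
            have h6 : η' ⟨⁅a, y⁆, hbA⟩ = 1 := by
              rw [e, map_mul, show η' ((MulAut.conjNormal y : MulAut A') (⟨a, ha⟩ : A')⁻¹) =
                tw A' y⁻¹ η' (⟨a, ha⟩ : A')⁻¹ by rw [tw_apply, inv_inv],
                show tw A' y⁻¹ η' = η' from hy', map_inv, mul_inv_cancel]
            rw [h6, Units.val_one, one_smul] at h5
            exact h5
          have hxzη : x • z • η = z • η := by
            rw [smul_smul, hxz, mul_smul, show x • η = η from hmov]
          rw [htriv η hmov v hv, htriv (z • η) hxzη _ (map_wsp ρ A' z hv)]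
        · obtain ⟨-, h2⟩ := trivial_on_moved (ρ := ρ) A' hxp hzq hxz hqp.symm hfix hA0 hη hmov
          have hb : ρ ⁅a, y⁆ v = (η ⟨⁅a, y⁆, hbA⟩ : k) • v := hv ⟨_, hbA⟩
          rw [h2 v hv, hb, map_smul, h2 v hv]
      intro a ha
      obtain ⟨c, hc, m, hm', rfl⟩ := Coprime.exists_centralizer_mul_commutator (zpowers_le.2 hxA)
        (coprime_zpowers hxp hqp (hW.to_le hA'W)) (Or.inl inferInstance) ha
      have hcx : x * c = c * x := mem_centralizer_iff.1 hc.2 x (mem_zpowers x)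
      have hkz : ⁅c, z⁆ ∈ A' := by
        rw [commutatorElement_def, show c * z * c⁻¹ * z⁻¹ = c * (z * c⁻¹ * z⁻¹) by group]
        exact mul_mem hc.1 (Normal.conj_mem inferInstance _ (inv_mem hc.1) z)
      have h1 : z * c = c * z := hjk c (hA'W hc.1) hcx (hA'W hkz) fun w => by
        obtain ⟨a', ha', e⟩ := id hkz
        rw [show (⟨⁅c, z⁆, hA'W hkz⟩ : W) = a' from Subtype.ext e.symm]
        exact hAW a' ha' w
      exact ((show Commute z c from h1).mul_right (mem_centralizer_singleton_iff.1 (hm hm')).symm).eq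
    -- so `R` is trivial on `A'` modulo the centre
    let K : Subgroup Γ :=
      { carrier := {g | ∀ a ∈ A', ∀ h : Γ, h * ⁅g, a⁆ = ⁅g, a⁆ * h}
        one_mem' := fun a _ h => by simp
        mul_mem' := fun {g g'} hg hg' a ha h => by
          have e : ⁅g * g', a⁆ = ⁅g', a⁆ * ⁅g, a⁆ := by
            rw [commutatorElement_mul_left_eq_conj_mul, hg' a ha g, mul_inv_cancel_right]
          rw [e]
          exact ((show Commute h _ from hg' a ha h).mul_right (hg a ha h)).eq
        inv_mem' := fun {g} hg a ha h => by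
          have e : ⁅g⁻¹, a⁆ = ⁅g, a⁆⁻¹ := by
            rw [show ⁅g⁻¹, a⁆ = g⁻¹ * ⁅g, a⁆⁻¹ * g by simp only [commutatorElement_def]; group,
              mul_assoc, ← ((show Commute g _ from hg a ha g).inv_right).eq, inv_mul_cancel_left]
          rw [e]
          exact ((show Commute h _ from hg a ha h).inv_right).eq }
    haveI : K.Normal := ⟨fun m hm g a ha h => by
      have e : ⁅g * m * g⁻¹, a⁆ = ⁅m, g⁻¹ * a * g⁆ := by
        have h1 := hm (g⁻¹ * a * g) (by simpa using Normal.conj_mem inferInstance a ha g⁻¹) g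
        calc ⁅g * m * g⁻¹, a⁆ = g * ⁅m, g⁻¹ * a * g⁆ * g⁻¹ := by simp only [commutatorElement_def]; group
          _ = _ := by rw [h1, mul_inv_cancel_right]
      rw [e]
      exact hm _ (by simpa using Normal.conj_mem inferInstance a ha g⁻¹) h⟩
    have hnK : n ∈ K := by
      have hsK : s⁻¹ ∈ K := fun a ha h => by
        rw [← commutatorElement_inv]
        exact ((show Commute h _ from hAW' a ha _ (inv_mem hs) h).inv_right).eq
      have hzK : z ∈ K := fun a ha h => by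
        rw [commutatorElement_eq_one_iff_mul_comm.2 (hzA a ha), mul_one, one_mul]
      have := mul_mem hsK hzK
      rwa [hzn, inv_mul_cancel_left] at this
    have hRK : R ≤ K := le_of_moved hnK (by rw [normalizer_eq_top]; exact le_top) hRn
    have h3 : ⁅⁅W, R⁆, A'⁆ = ⊥ := by
      have htop : ∀ S : Subgroup Γ, S ≤ normalizer ((⊥ : Subgroup Γ) : Set Γ) := fun S => by
        rw [normalizer_eq_top]; exact le_top
      refine le_bot_iff.1 (Coprime.three_subgroup_le (N := (⊥ : Subgroup Γ)) (htop _) (htop _) (htop _) ?_ ?_)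
      · rw [le_bot_iff, commutator_eq_bot_iff_le_centralizer, commutator_le]
        exact fun g hg a ha => mem_centralizer_iff.2 fun w _ => hRK hg a ha w
      · rw [le_bot_iff, commutator_eq_bot_iff_le_centralizer, commutator_le]
        exact fun a ha w hw => mem_centralizer_iff.2 fun g _ => hAW' a ha w hw g
    rw [hWR] at h3
    intro a ha
    exact mem_center_iff.2 fun w => Subtype.ext (mem_centralizer_iff.1
      (commutator_eq_bot_iff_le_centralizer.1 h3 w.2) (a : Γ) ⟨a, ha, rfl⟩).symm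
  refine ⟨hcl.1, hcl.2, fun c hc hxc => ?_⟩
  have hm : ⁅c, z⁆ ∈ W := Coprime.commutator_le_left_of_le_normalizer (A := zpowers z) (K := W)
    (zpowers_le.2 hnW) (commutator_mem_commutator hc (mem_zpowers z))
  exact hjk c hc hxc hm fun w => hcl.1 _ w

/-- The faithfulness of `[W, x]` on factors. -/
theorem factor_faithful (hinj : Function.Injective ρ)
    (hscal : ∀ {a : W}, a ∈ center W → ∃ c : k, ρ a = c • (1 : Module.End k V))
    (hcomm : ∀ a b : W, ⁅a, b⁆ ∈ center W) {W₁ Δ : Subgroup Γ} (h₁ : W₁ ≤ W) (h₁Δ : W₁ ≤ Δ)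
    {U₁ U₂ : Submodule k V} (hf : IsFactor (ρ.comp Δ.subtype) U₁ U₂) {a : Δ} (ha : (a : Γ) ∈ W₁)
    (h : ∀ b ∈ W₁.subgroupOf Δ, hf.rep a * hf.rep b = hf.rep b * hf.rep a) :
    ∀ b ∈ W₁, (a : Γ) * b = b * a := by
  intro b hb
  haveI := hf.nontrivial
  set b' : Δ := ⟨b, h₁Δ hb⟩
  obtain ⟨c, hc⟩ := hscal (hcomm ⟨a, h₁ ha⟩ ⟨b, h₁ hb⟩)
  have h2 : hf.rep ⁅a, b'⁆ = c • 1 := hf.rep_scalar (g := ⁅a, b'⁆) hc
  have h3 : hf.rep ⁅a, b'⁆ = 1 := by
    rw [commutatorElement_def, map_mul, map_mul, map_mul, h b' hb, ← map_mul, ← map_mul, ← map_mul,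
      ← map_one hf.rep]
    congr 1
    group
  obtain ⟨v, hv⟩ := exists_ne (0 : ↥U₂ ⧸ U₁.comap U₂.subtype)
  have hc1 : c = 1 := smul_left_injective k hv
    ((LinearMap.congr_fun (h2.symm.trans h3) v).trans (one_smul k v).symm)
  rw [hc1, one_smul, ← map_one ρ] at hc
  exact commutatorElement_eq_one_iff_mul_comm.1 (hinj hc)

end count


section counting

variable {k : Type uk} [Field k] [IsAlgClosed k] {V : Type uV} [AddCommGroup V] [Module k V]
  [FiniteDimensional k V] [Nontrivial V] {Γ : Type*} [Group Γ] [Finite Γ] {ρ : Γ →* Module.End k V} {p : ℕ}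
  [Fact p.Prime] {x z : Γ} {W : Subgroup Γ} [W.Normal]

set_option maxHeartbeats 1000000 in
/-- Too few orbits of `⟨x, z⟩` on the top for the commutant of `x` and `z`. -/
theorem count_core [Fact (Nat.Prime 2)] (hSD : SData ρ 2 (x * z) W) (hp5 : 5 ≤ p) (hmx : Moves x W)
    (hxp : x ^ p = 1) (hz2 : z ^ 2 = 1) (hxz : x * z = z * x) (hzγ : z ∈ zpowers (x * z)) (hpK : (p : k) ≠ 0)
    (hfix : ∀ v, ρ x v = v → ρ z v = v) (hbig : 2 * p ≤ Module.finrank k V)
    (hFz : Nat.card {mm : W ⧸ center W // (MulAut.conjNormal z : MulAut W) mm.out * mm.out⁻¹ ∈ center W} ≤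
      Module.finrank k V) : False := by
  classical
  have hp := (Fact.out : p.Prime)
  have hp3 : 3 < p := by omega
  have h2p' : 2 ≠ p := by omega
  have hclass := hSD.isScalarClassTwo
  have hirr := hSD.irreducible
  obtain ⟨N, hN⟩ : ∃ N, Module.finrank k V = N := ⟨_, rfl⟩
  rw [hN] at hbig hFz
  have hidx : N ^ 2 = (center W).index := hN ▸ hclass.finrank_sq hSD.card_ne_zero hirr
  have hsq : 2 * N ≤ N ^ 2 := by rw [sq]; exact Nat.mul_le_mul_right _ (by omega)
  have hWne : W ≠ ⊥ := fun h => by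
    have h1 : center W = ⊤ := eq_top_iff.2 fun a _ => mem_center_iff.2 fun b => by
      have ha : a = 1 := Subtype.ext (mem_bot.1 (h.le a.2))
      rw [ha, mul_one, one_mul]
    rw [h1, Subgroup.index_top] at hidx
    omega
  have hx1 : x ≠ 1 := fun h => hWne (hmx.eq_bot_of_commute fun w _ => by rw [h, one_mul, mul_one])
  have hz1 : z ≠ 1 := fun h => by
    have h1 : Nat.card {mm : W ⧸ center W // (MulAut.conjNormal z : MulAut W) mm.out * mm.out⁻¹ ∈ center W} =
        N ^ 2 := by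
      rw [hidx, Subgroup.index_eq_card]
      exact Nat.card_congr (Equiv.subtypeUnivEquiv fun mm => by simp [h, one_mem])
    omega
  obtain ⟨ζ, hζ⟩ := exists_zeta (k := k) hpK
  obtain ⟨hsum, c, hc, hnc⟩ := hSD.eig_facts hpK h2p' hmx hxp hp3 hWne hζ
  rw [hN] at hsum hnc
  have hox : orderOf x = p := orderOf_eq_prime hxp hx1
  have hcxz : Commute x z := hxz
  have hord : orderOf (x * z) = p * 2 := by
    rw [hcxz.orderOf_mul_eq_mul_orderOf_of_coprime (by
      rw [hox, orderOf_eq_prime hz2 hz1]; exact (Nat.coprime_primes hp Nat.prime_two).mpr (by omega)),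
      hox, orderOf_eq_prime hz2 hz1]
  set H := zpowers (x * z) with hH
  haveI : Fintype H := Fintype.ofFinite H
  set F := commutant (ρ x) ⊓ commutant (ρ z) with hF
  have h1 := card_mul_finrank_le hclass hSD.card_ne_zero hirr (fun g w hw => hSD.conjNormal_center g hw) H F
    (fun f hf a ha => by
      let C : Submonoid Γ :=
        { carrier := {g | ρ g * f = f * ρ g}
          one_mem' := by simp
          mul_mem' := fun {u v} hu hv => by
            show ρ (u * v) * f = f * ρ (u * v)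
            rw [map_mul, mul_assoc, hv, ← mul_assoc, hu, mul_assoc] }
      obtain ⟨j, rfl⟩ := (isOfFinOrder_of_finite (x * z)).mem_powers_iff_mem_zpowers.mpr ha
      exact pow_mem (C.mul_mem (show x ∈ C from hf.1) (show z ∈ C from hf.2)) j)
  set f : H → ℕ := fun a => Nat.card {mm : W ⧸ center W //
    (MulAut.conjNormal (a : Γ) : MulAut W) mm.out * mm.out⁻¹ ∈ center W} with hf'
  have hother : ∀ a : H, (a : Γ) ≠ 1 → (a : Γ) ≠ z → f a ≤ 1 := by
    intro a ha1 haz
    refine Finite.card_le_one_iff_subsingleton.mpr ⟨fun u v => Subtype.ext ?_⟩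
    have key : ∀ u : {mm : W ⧸ center W //
        (MulAut.conjNormal (a : Γ) : MulAut W) mm.out * mm.out⁻¹ ∈ center W}, u.1 = 1 := fun u => by
      rw [← QuotientGroup.out_eq' u.1]
      refine (QuotientGroup.eq_one_iff _).mpr (hSD.mem_center_of_fixed hmx (hSD.fixed_of_mem_zpowers ?_ u.2))
      obtain ⟨j, hj⟩ := (isOfFinOrder_of_finite (x * z)).mem_powers_iff_mem_zpowers.mpr a.2
      change (x * z) ^ j = a at hj
      have hne2 : x ^ (j * 2) ≠ 1 := fun e' => by
        rw [← orderOf_dvd_iff_pow_eq_one, hox] at e'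
        obtain ⟨l, rfl⟩ := ((Nat.Prime.dvd_mul hp).mp e').resolve_right fun e'' => by
          have := Nat.le_of_dvd two_pos e''; omega
        rw [hcxz.mul_pow, pow_mul x, hxp, one_pow, one_mul] at hj
        rcases Nat.even_or_odd (p * l) with ⟨b, hb⟩ | ⟨b, hb⟩
        · exact ha1 (by rw [← hj, hb, ← two_mul, pow_mul, hz2, one_pow])
        · exact haz (by rw [← hj, hb, pow_succ, pow_mul, hz2, one_pow, one_mul])
      refine zpowers_le.mpr ?_ (mem_zpowers_pow_of_ne_one hp hxp hne2)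
      have h5 : ((x * z) ^ j) ^ 2 ∈ zpowers (a : Γ) := by rw [hj]; exact pow_mem (mem_zpowers _) 2
      rwa [← pow_mul, hcxz.mul_pow, pow_mul' z, hz2, one_pow, mul_one] at h5
    rw [key u, key v]
  have hne1 : (⟨z, hzγ⟩ : H) ≠ 1 := fun e' => hz1 (congrArg Subtype.val e')
  have h4 : ∑ a, f a + 2 ≤ N ^ 2 + N + 2 * p := by
    have hf1 : f 1 ≤ N ^ 2 := by
      rw [hidx, Subgroup.index_eq_card]
      exact Nat.card_le_card_of_injective _ Subtype.val_injective
    have hfz : f ⟨z, hzγ⟩ ≤ N := hFz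
    have hcard : (((Finset.univ : Finset H).erase 1).erase ⟨z, hzγ⟩).card + 2 = p * 2 := by
      rw [Finset.card_erase_of_mem (Finset.mem_erase.mpr ⟨hne1, Finset.mem_univ _⟩),
        Finset.card_erase_of_mem (Finset.mem_univ _), Finset.card_univ, ← Nat.card_eq_fintype_card, hH,
        Nat.card_zpowers, hord]
      omega
    have hrest := Finset.sum_le_card_nsmul (((Finset.univ : Finset H).erase 1).erase ⟨z, hzγ⟩) f 1 fun a ha => by
      simp only [Finset.mem_erase] at ha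
      exact hother a (fun e' => ha.2.1 (Subtype.ext e')) (fun e' => ha.1 (Subtype.ext e'))
    rw [smul_eq_mul, mul_one] at hrest
    rw [← Finset.add_sum_erase _ _ (Finset.mem_univ (1 : H)),
      ← Finset.add_sum_erase _ _ (Finset.mem_erase.mpr ⟨hne1, Finset.mem_univ (⟨z, hzγ⟩ : H)⟩)]
    refine le_trans (Nat.add_le_add_right (add_le_add hf1 (add_le_add hfz hrest)) 2) ?_
    omega
  have hS : ρ x ^ p = 1 := by rw [← map_pow, hxp, map_one]
  have hTS : ρ x * ρ z = ρ z * ρ x := by rw [← map_mul, ← map_mul, hxz]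
  have hTi : ∀ i : Fin p, ∀ v ∈ eig ζ (ρ x) i, ρ z v ∈ eig ζ (ρ x) i := fun i v hv => by
    rw [Module.End.mem_eigenspace_iff, ← Module.End.mul_apply, hTS, Module.End.mul_apply, eig_apply hv, map_smul]
  set i₀ : Fin p := ⟨0, hp.pos⟩
  let d : Fin p → ℕ := fun i => Module.finrank k (eig ζ (ρ x) i)
  let eb : Fin p → ℕ := fun i => Module.finrank k (commutant ((ρ z).restrict (hTi i)))
  have he0 : eb i₀ = d i₀ ^ 2 := by
    refine finrank_commutant_of_scalar (c := (1 : k)) (LinearMap.ext fun v => Subtype.ext ?_)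
    have hv := eig_apply v.2
    rw [show ((i₀ : Fin p) : ℕ) = 0 from rfl, pow_zero, one_smul] at hv
    simpa using hfix _ hv
  have hle : ∀ i, d i ^ 2 + (if i = i₀ then d i₀ ^ 2 else 0) ≤ 2 * eb i := fun i => by
    split_ifs with hi
    · subst hi; rw [he0]; omega
    · refine sq_le_mul_commutant (LinearMap.ext fun v => Subtype.ext ?_)
      rw [pow_two, Module.End.mul_apply, LinearMap.coe_restrict_apply, LinearMap.coe_restrict_apply,
        ← Module.End.mul_apply, ← map_mul, ← pow_two, hz2, map_one]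
      rfl
  have h3 := Finset.sum_le_sum fun i (_ : i ∈ Finset.univ) => hle i
  rw [Finset.sum_add_distrib, Finset.sum_ite_eq' Finset.univ i₀, if_pos (Finset.mem_univ _),
    ← Finset.mul_sum] at h3
  have h2 := sum_block_le hζ hpK hp.pos hS hTS hTi
  have hcardH : Nat.card H = p * 2 := by rw [hH, Nat.card_zpowers, hord]
  have h5 : 2 * p * (∑ i, eb i) + 2 ≤ N ^ 2 + N + 2 * p := by
    refine le_trans (Nat.add_le_add_right ?_ 2) h4
    calc 2 * p * ∑ i, eb i ≤ 2 * p * Module.finrank k F := Nat.mul_le_mul_left _ h2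
      _ = Nat.card H * Module.finrank k F := by rw [hcardH, mul_comm p 2]
      _ ≤ ∑ a, f a := h1
  have hcd : c ≤ d i₀ := (hc i₀).elim (fun e' => e'.ge) fun e' => le_trans (Nat.le_succ c) e'.ge
  refine final_count hp5 (c := c) hsum hcd h3 h5 ?_ hbig
  rcases hnc with e' | e'
  · rw [e', Nat.mul_succ]; omega
  · rw [e']

end counting

section equiv

variable {k : Type uk} [Field k] {V : Type uV} [AddCommGroup V] [Module k V] {Γ : Type*} [Group Γ] [Finite Γ]

set_option synthInstance.maxHeartbeats 400000 in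
set_option maxHeartbeats 800000 in
/-- The cosets of the centre of the image fixed by `z` come from fixed points in the top. -/
theorem card_fixed_top_le {σ : Γ →* Module.End k V} {W : Subgroup Γ} {x z : Γ} [W.Normal] [(imW σ W x z).Normal]
    {M : Type*} [Group M] [Finite M] (π : W →* M) (hker : ∀ a : W, π a = 1 ↔ ∀ b ∈ W, σ a * σ b = σ b * σ a)
    (ψ : M → M) (hψ : ∀ a : W, ψ (π a) = π ((MulAut.conjNormal z : MulAut W) a))
    (hc : ∀ {w : imW σ W x z}, w ∈ center (imW σ W x z) →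
      (MulAut.conjNormal (imEl σ W x z z right_mem) : MulAut (imW σ W x z)) w = w) :
    Nat.card {mm : imW σ W x z ⧸ center (imW σ W x z) //
      (MulAut.conjNormal (imEl σ W x z z right_mem) : MulAut (imW σ W x z)) mm.out * mm.out⁻¹ ∈
        center (imW σ W x z)} ≤ Nat.card {a : M // a ∈ π.range ∧ ψ a = a} := by
  obtain ⟨e, he⟩ := exists_equiv_top (σ := σ) (x := x) (z := z) π hker
  refine Nat.card_le_card_of_injective (fun mm => ⟨((e.symm mm.1 : _) : M), (e.symm mm.1).2, ?_⟩) ?_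
  · obtain ⟨a, ha⟩ := (e.symm mm.1).2
    have hmm : mm.1 = QuotientGroup.mk (imWEl (a : Γ) a.2) := by
      rw [← he a, ← e.apply_symm_apply mm.1]
      exact congrArg e (Subtype.ext ha.symm)
    set a' : W := (MulAut.conjNormal z : MulAut W) a with ha'
    have hconj : (MulAut.conjNormal (imEl σ W x z z right_mem) : MulAut (imW σ W x z)) (imWEl (a : Γ) a.2) =
        imWEl (a' : Γ) a'.2 := Subtype.ext (Subtype.ext (by
      show σ.toHomUnits z * σ.toHomUnits (a : Γ) * (σ.toHomUnits z)⁻¹ = σ.toHomUnits (z * a * z⁻¹)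
      rw [map_mul, map_mul, map_inv]))
    have h1 := (fixedCoset_iff _ (fun w hw => by rw [hc hw]; exact hw) _).2 mm.2
    rw [QuotientGroup.out_eq', hmm] at h1
    have h2 : e ⟨π a', a', rfl⟩ = e ⟨π a, a, rfl⟩ := by
      rw [he a, he a', ← hconj]
      exact h1
    have h3 := congrArg Subtype.val (e.injective h2)
    rw [← ha, hψ]
    exact h3
  · intro a b hab
    have h4 := congrArg Subtype.val hab
    exact Subtype.ext (e.symm.injective (Subtype.ext h4))

end equiv

section main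

variable {k : Type uk} [Field k] [IsAlgClosed k] {V : Type uV} [AddCommGroup V] [Module k V]
  [FiniteDimensional k V] [Nontrivial V] {Γ : Type*} [Group Γ] [Finite Γ] {ρ : Γ →* Module.End k V} {p q r : ℕ}
  [Fact p.Prime] [Fact q.Prime] [Fact r.Prime] {x z n s : Γ} {W R : Subgroup Γ} [W.Normal]

/-- The top `M = W ⧸ Z(W)` under `R⟨x, n⟩`: `q = 2`, `x` moves much, `z` fixes at most half of what it moves. -/
theorem top_bounds (hp5 : 5 ≤ p) (hqp : q ≠ p) (hrq : r ≠ q) (hrp : r ≠ p) (hW : IsPGroup q W)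
    (hR : IsPGroup r R) (hxR : x ∈ normalizer (R : Set Γ)) (hxp : x ^ p = 1) (hzq : z ^ q = 1)
    (hxz : x * z = z * x) (hs : s ∈ W) (hxs : x * s = s * x) (hzn : z = s * n)
    (hnR : n ∈ normalizer (R : Set Γ)) (hnC : ∀ c ∈ R, x * c = c * x → n * c = c * n)
    (hWR : ⁅W, R⁆ = W) (hRx : ⁅R, zpowers x⁆ = R) (hRn : ⁅R, zpowers n⁆ = R)
    (hcenΓ : ∀ {a : W}, a ∈ center W → ∀ g : Γ, g * (a : Γ) = a * g)
    (hcomm : ∀ a b : W, ⁅a, b⁆ ∈ center W) (hexp : ∀ a : W, a ^ q ∈ center W)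
    (hzC : ∀ c ∈ W, x * c = c * x → z * c = c * z) (hne : center W ≠ ⊤) :
    q = 2 ∧ ∃ m cx cz : ℕ, Nat.card (W ⧸ center W) = 2 ^ m ∧
      Nat.card {a // quotAct W x a = a} = 2 ^ cx ∧ Nat.card {a // quotAct W z a = a} = 2 ^ cz ∧
      cx + (2 * p - 2) ≤ m ∧ 2 * cz ≤ m + cx ∧ ∀ a, quotAct W x a = a → quotAct W z a = a := by
  classical
  set θ := quotAct W with hθ
  have hxW : x ∈ normalizer (W : Set Γ) := by rw [normalizer_eq_top]; trivial
  obtain ⟨m, σM, hm, hσ1, hσfix, hσle, hσR⟩ := exists_rep_aut (s := q) (quotient_comm hcomm) (quotient_exp hexp) θ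
  set K := AlgebraicClosure (ZMod q)
  haveI : CharP K q := charP_of_injective_algebraMap (algebraMap (ZMod q) K).injective q
  have hfixxz : ∀ a, θ x a = a → θ z a = a := by
    intro a ha
    obtain ⟨a, rfl⟩ := QuotientGroup.mk_surjective a
    have h1 := quotAct_fix_iff.1 ha
    have hcen' : x ∈ normalizer (((center W).map W.subtype : Subgroup Γ) : Set Γ) := by
      rw [normalizer_eq_top]; trivial
    obtain ⟨c, hcW, l, ⟨l', hl', rfl⟩, hxc, hal⟩ := exists_fixed_mod (K := W) (L := (center W).map W.subtype)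
      (map_subtype_le _) hcen' (coprime_zpowers hxp hqp hW) a.2 ⟨_, h1, by simp [commutatorElement_def]⟩
    refine quotAct_fix_iff.2 ?_
    have h2 : (MulAut.conjNormal z : MulAut W) a = a := Subtype.ext (by
      rw [MulAut.conjNormal_apply, mul_inv_eq_iff_eq_mul, hal]
      exact ((show Commute z (l' : Γ) from hcenΓ hl' z).mul_right (hzC c hcW hxc)).eq)
    rw [h2, mul_inv_cancel]
    exact one_mem _
  have hθzn : σM z = σM n := by
    rw [hzn, map_mul, (hσ1 s).2 (quotAct_of_mem hcomm hs), one_mul]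
  have hpK : (p : K) ≠ 0 := fun e => hqp
    ((Nat.prime_dvd_prime_iff_eq (Fact.out : q.Prime) (Fact.out : p.Prime)).1 ((CharP.cast_eq_zero_iff K q p).1 e))
  have hrK : (r : K) ≠ 0 := fun e => hrq
    ((Nat.prime_dvd_prime_iff_eq (Fact.out : q.Prime) (Fact.out : r.Prime)).1
      ((CharP.cast_eq_zero_iff K q r).1 e)).symm
  have hqp' : ¬ q ∣ p := fun h => hqp ((Nat.prime_dvd_prime_iff_eq (Fact.out : q.Prime) (Fact.out : p.Prime)).1 h)
  have hxn : x * n = n * x := by
    rw [show n = s⁻¹ * z by rw [hzn, inv_mul_cancel_left]]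
    exact (((show Commute x s from hxs).inv_right).mul_right hxz).eq
  set Δ := R ⊔ closure ({x, n} : Set Γ) with hΔ
  have hxΔ : x ∈ Δ := mem_sup_right (subset_closure (by simp))
  have hnΔ : n ∈ Δ := mem_sup_right (subset_closure (by simp))
  set R' := R.subgroupOf Δ with hR'
  haveI : R'.Normal := normal_subgroupOf_sup ((closure_le _).2 (by rintro g (rfl | rfl) <;> assumption))
  set x₂ : Δ := ⟨x, hxΔ⟩
  set n₂ : Δ := ⟨n, hnΔ⟩
  set σ := σM.comp Δ.subtype with hσ
  have hxR' : x₂ ∈ normalizer (R' : Set Δ) := by rw [normalizer_eq_top]; trivial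
  have hnR' : n₂ ∈ normalizer (R' : Set Δ) := by rw [normalizer_eq_top]; trivial
  have hmx : Moves x₂ R' := (moves_of_commutator_eq hxR hRx).subgroupOf le_sup_left _
  have hmn : Moves n₂ R' := (moves_of_commutator_eq hnR hRn).subgroupOf le_sup_left _
  have hxp' : x₂ ^ p = 1 := Subtype.ext hxp
  have hR'p : IsPGroup r R' := hR.comap_subtype
  have hRq : ¬ q ∣ Nat.card R := by
    obtain ⟨j, hj⟩ := hR.exists_card_eq
    rw [hj]
    exact fun h2 => hrq ((Nat.prime_dvd_prime_iff_eq (Fact.out : q.Prime) (Fact.out : r.Prime)).1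
      ((Fact.out : q.Prime).dvd_of_dvd_pow h2)).symm
  have hσ0 : ∀ v, (∀ g ∈ R', σ g v = v) → v = 0 := fun v hv =>
    hσR R hRq (eq_one_of_fixed_top hWR hcenΓ hcomm) v fun g hg => hv ⟨g, mem_sup_left hg⟩ hg
  have hgenR : R' ⊔ closure ({x₂, n₂} : Set Δ) = ⊤ := by
    refine map_injective Δ.subtype_injective ?_
    rw [Subgroup.map_sup, map_subgroupOf_eq_of_le le_sup_left, MonoidHom.map_closure, Set.image_pair,
      ← MonoidHom.range_eq_map, range_subtype]
    rfl
  have hfac : ∀ (U₁ U : Submodule K (Fin m → K)) (hf : IsFactor σ U₁ U),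
      q = 2 ∧ Module.finrank K (↥U ⧸ U₁.comap U.subtype) + 1 = 2 * p ∧
      Module.finrank K (LinearMap.ker (hf.rep x₂ - 1)) = 1 ∧
      2 * Module.finrank K (LinearMap.ker (hf.rep n₂ - 1)) ≤ Module.finrank K (↥U ⧸ U₁.comap U.subtype) + 1 := by
    intro U₁ U hf
    haveI := hf.nontrivial
    obtain ⟨g, hg, hgne⟩ := hf.exists_nontrivial R' (card_ne_zero_of_pgroup hR'p hrK) hσ0
    refine exceptional_facts hxR' hnR' (fun U' h1 h2 h3 => hf.irreducible U' (inv_of_gen hgenR h1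
      (by rintro g (rfl | rfl) <;> assumption))) (Subtype.ext hxn) hxp' ?_ (by omega) hqp.symm hR'p hrp hmx hmn
      (fun w hw hc => Subtype.ext (hnC w hw (congrArg Subtype.val hc))) ⟨g, hg, hgne⟩ hrK hpK
      (hf.fixed_le hxp' hpK fun v hv => ?_)
    · refine LinearMap.ext fun v => ?_
      obtain ⟨u, rfl⟩ := Submodule.Quotient.mk_surjective _ v
      rw [← map_pow, Module.End.one_apply, hf.rep_mk_eq_self]
      have e : σ (n₂ ^ q) = 1 := by
        rw [map_pow]
        show σM n ^ q = 1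
        rw [← hθzn, ← map_pow, hzq, map_one]
      rw [e, Module.End.one_apply, sub_self]
      exact zero_mem _
    · show σM n v = v
      rw [← hθzn]
      exact hσle x z p hxp hqp' hfixxz v hv
  have hm0 : 0 < m := Nat.pos_of_ne_zero fun h0 => hne (by
    rw [h0, pow_zero, ← Subgroup.index_eq_card] at hm
    exact Subgroup.index_eq_one.1 hm)
  haveI : Nontrivial (Fin m → K) := Module.nontrivial_of_finrank_pos (R := K) (by simpa using hm0)
  obtain ⟨U₁, hf⟩ := exists_isFactor (ρ := σ) (U := (⊤ : Submodule K (Fin m → K))) (fun _ _ _ => trivial) top_ne_bot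
  obtain ⟨hq2, hdimX, hlineX, -⟩ := hfac U₁ ⊤ hf
  have key : ∀ {d : ℕ}, d + 1 = 2 * p → 1 + (2 * p - 2) ≤ d := fun h => by omega
  have hb := hf.fixed_bound x₂ (e := 2 * p - 2) (by rw [hlineX]; exact key hdimX)
  rw [top_inf_eq, finrank_top, Module.finrank_fin_fun] at hb
  have hmc : Module.finrank K (LinearMap.ker (σ x₂ - 1)) + (2 * p - 2) ≤ m :=
    add_le_of_bound hb (Submodule.finrank_mono inf_le_left)
  have htwo := fixed_bound_of_factors (ρ := σ) (a := x₂) (b := n₂) hxp' hpK fun U₁ U hf' => by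
    obtain ⟨-, -, h1, h2⟩ := hfac U₁ U hf'
    rw [h1]
    exact h2
  rw [Module.finrank_fin_fun] at htwo
  subst hq2
  refine ⟨rfl, m, Module.finrank K (LinearMap.ker (σM x - 1)), Module.finrank K (LinearMap.ker (σM z - 1)),
    hm, hσfix x, hσfix z, hmc, ?_, hfixxz⟩
  rw [hθzn]
  exact htwo

set_option maxHeartbeats 1000000 in
set_option synthInstance.maxHeartbeats 200000 in
/-- The faithful irreducible case. -/
theorem pair_core (hinj : Function.Injective ρ) (hirr : NoInvariant ρ)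
    (hgen : W ⊔ R ⊔ closure ({x, z} : Set Γ) = ⊤) (hp5 : 5 ≤ p) (hqp : q ≠ p) (hrq : r ≠ q) (hrp : r ≠ p)
    (hW : IsPGroup q W) (hR : IsPGroup r R) (hxR : x ∈ normalizer (R : Set Γ)) (hxp : x ^ p = 1)
    (hzq : z ^ q = 1) (hxz : x * z = z * x) (hs : s ∈ W) (hxs : x * s = s * x) (hzn : z = s * n)
    (hnR : n ∈ normalizer (R : Set Γ)) (hnC : ∀ c ∈ R, x * c = c * x → n * c = c * n)
    (hWR : ⁅W, R⁆ = W) (hRx : ⁅R, zpowers x⁆ = R) (hRn : ⁅R, zpowers n⁆ = R) (hqK : (q : k) ≠ 0)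
    (hpK : (p : k) ≠ 0) (hfix : ∀ v, ρ x v = v → ρ z v = v)
    (hfixC : ∀ c ∈ W, x * c = c * x → ∀ v, ρ x v = v → ρ ⁅c, z⁆ v = v) : W = ⊥ := by
  classical
  have hxW : x ∈ normalizer (W : Set Γ) := by rw [normalizer_eq_top]; trivial
  by_cases hx0 : ∀ v, ρ x v = v → v = 0
  · have h := no_fixed_general (ρ := ρ) hp5 hqp hrq hrp hW hR (by rw [normalizer_eq_top]; exact le_top) hxW hxR
      hxp hWR hRx hqK hpK hx0
    rw [eq_bot_iff]
    exact fun w hw => mem_bot.2 (hinj ((h w hw).trans (map_one ρ).symm))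
  push Not at hx0
  obtain ⟨v₀, hxv₀, hv₀⟩ := hx0
  have hscal : ∀ {a : W}, a ∈ center W → ∃ c : k, ρ a = c • (1 : Module.End k V) :=
    center_scalar_of_pair hinj hirr hgen hqp hrq hW hR hxR hxp hzq hxz hs hzn hnR hWR hRx hRn hfix hv₀ hxv₀
  have hcenΓ : ∀ {a : W}, a ∈ center W → ∀ g : Γ, g * (a : Γ) = a * g := fun {a} ha g => by
    obtain ⟨c, hc⟩ := hscal ha
    exact hinj (by rw [map_mul, map_mul, hc, mul_smul_comm, smul_mul_assoc, mul_one, one_mul])
  obtain ⟨hcomm, hexp, hzC⟩ := classTwo_of_pair hinj hirr hgen hqp hrq hW hR hxR hxp hzq hxz hs hzn hnR hWR hRx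
    hRn hfix hfixC hv₀ hxv₀
  by_contra hne
  have hZne : center W ≠ ⊤ := fun e => hne (by
    rw [← hWR, commutator_eq_bot_iff_le_centralizer]
    intro w hw
    exact mem_centralizer_iff.2 fun g _ => hcenΓ (a := ⟨w, hw⟩) (e ▸ mem_top _) g)
  obtain ⟨hq2, m, cx, cz, hm, hcx, hcz, hbig, htwo, hfixxz⟩ := top_bounds hp5 hqp hrq hrp hW hR hxR hxp hzq hxz
    hs hxs hzn hnR hnC hWR hRx hRn hcenΓ hcomm hexp hzC hZne
  set θ := quotAct W with hθ
  have hp := (Fact.out : p.Prime)
  have hp3 : 3 < p := by omega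
  obtain ⟨-, hcenW⟩ := center_moved hW hxp hqp fun a ha b hb => hcenΓ (hcomm ⟨a, ha⟩ ⟨b, hb⟩)
  set W₁ := ⁅W, zpowers x⁆ with hW₁
  have h₁ : W₁ ≤ W := Coprime.commutator_le_left_of_le_normalizer (zpowers_le.2 hxW)
  have hW₁x : ⁅W₁, zpowers x⁆ = W₁ := Coprime.commutator_commutator_eq (zpowers_le.2 hxW)
    (coprime_zpowers hxp hqp hW) (Or.inl inferInstance)
  have hxW₁ : x ∈ normalizer (W₁ : Set Γ) := normalizer_commutator_ge_right W (zpowers x) (mem_zpowers x)
  have hzW₁ : z ∈ normalizer (W₁ : Set Γ) :=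
    Coprime.le_normalizer_commutator (C := zpowers z) (by rw [normalizer_eq_top]; exact le_top)
      (zpowers_le.2 (mem_centralizer_iff.2 fun g hg => by
        obtain ⟨i, rfl⟩ := hg
        exact ((show Commute x z from hxz).zpow_left i).eq)) (mem_zpowers z)
  obtain ⟨hprod, hfree⟩ := moved_top hcomm hexp hxp hqp W₁ hW₁ h₁
  set π := (QuotientGroup.mk' (center W)).comp (Subgroup.inclusion h₁) with hπ
  change Nat.card π.range * _ = _ at hprod
  rw [hcx, hm] at hprod
  -- `z` fixes few cosets of the moved part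
  set P := {a : W ⧸ center W // a ∈ π.range ∧ θ z a = a}
  have hP : Nat.card P * 2 ^ cx ≤ 2 ^ cz := by
    rw [← hcx, ← hcz, ← Nat.card_prod]
    refine Nat.card_le_card_of_injective (fun ab => ⟨ab.1.1 * ab.2.1, by
      rw [map_mul, ab.1.2.2, hfixxz _ ab.2.2]⟩) ?_
    rintro ⟨⟨a, ha⟩, ⟨b, hb⟩⟩ ⟨⟨a', ha'⟩, ⟨b', hb'⟩⟩ e
    have e' : a * b = a' * b' := congrArg Subtype.val e
    have h1 : a'⁻¹ * a = b' * b⁻¹ := by
      rw [eq_mul_inv_iff_mul_eq, mul_assoc, e', inv_mul_cancel_left]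
    have h2 : a'⁻¹ * a = 1 := hfree _ (mul_mem (inv_mem ha'.1) ha.1) (by rw [h1, map_mul, map_inv, hb', hb])
    have h3 : a = a' := (inv_mul_eq_one.1 h2).symm
    subst h3
    exact Prod.ext rfl (Subtype.ext (mul_left_cancel e'))
  -- the representation of `W₁⟨x, z⟩`
  set Δ := W₁ ⊔ closure ({x, z} : Set Γ) with hΔ
  have hcl : closure ({x, z} : Set Γ) ≤ normalizer (W₁ : Set Γ) := (closure_le _).2 (by
    rintro g (rfl | rfl) <;> assumption)
  set W' := W₁.subgroupOf Δ with hW'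
  haveI : W'.Normal := normal_subgroupOf_sup hcl
  set x₁ : Δ := ⟨x, mem_sup_right (subset_closure (by simp))⟩
  set z₁ : Δ := ⟨z, mem_sup_right (subset_closure (by simp))⟩
  obtain ⟨U₁, hf⟩ := exists_isFactor (ρ := ρ.comp Δ.subtype) (U := (⊤ : Submodule k V)) (fun _ _ _ => trivial)
    top_ne_bot
  haveI := hf.nontrivial
  set σ := hf.rep with hσ
  have hfaith : ∀ a : Δ, (a : Γ) ∈ W₁ → (∀ b ∈ W', σ a * σ b = σ b * σ a) →
      ∀ b ∈ W₁, (a : Γ) * b = b * a := fun a ha h => factor_faithful hinj hscal hcomm h₁ le_sup_left hf ha h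
  have hgen' : W' ⊔ closure ({x₁, z₁} : Set Δ) = ⊤ := by
    refine map_injective Δ.subtype_injective ?_
    rw [Subgroup.map_sup, map_subgroupOf_eq_of_le le_sup_left, MonoidHom.map_closure, Set.image_pair,
      ← MonoidHom.range_eq_map, range_subtype]
    rfl
  have hxp₁ : x₁ ^ p = 1 := Subtype.ext hxp
  have hzq₁ : z₁ ^ q = 1 := Subtype.ext hzq
  have hxW' : x₁ ∈ normalizer (W' : Set Δ) := by rw [normalizer_eq_top]; trivial
  have hzW' : z₁ ∈ normalizer (W' : Set Δ) := by rw [normalizer_eq_top]; trivial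
  haveI := imW_normal (σ := σ) hxW' hzW'
  set Γ₀ := imG σ W' x₁ z₁
  set x₀ : Γ₀ := imEl σ W' x₁ z₁ x₁ left_mem with hx₀
  set z₀ : Γ₀ := imEl σ W' x₁ z₁ z₁ right_mem with hz₀
  set W₀ := imW σ W' x₁ z₁ with hW₀
  set τ := imRep σ W' x₁ z₁ with hτ
  have hirrτ : NoInvariant τ := imRep_irr fun U h1 h2 h3 => hf.irreducible U (inv_of_gen hgen' h1
    (by rintro g (rfl | rfl) <;> assumption))
  have hker : ∀ a : W', ((QuotientGroup.mk' (center W)).comp (Subgroup.inclusion h₁)).comp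
      (subgroupOfEquivOfLe (le_sup_left : W₁ ≤ Δ)).toMonoidHom a = 1 ↔ ∀ b ∈ W', σ a * σ b = σ b * σ a := by
    intro a
    show QuotientGroup.mk' (center W) (Subgroup.inclusion h₁ _) = 1 ↔ _
    rw [QuotientGroup.mk'_apply, QuotientGroup.eq_one_iff]
    constructor
    · intro h b hb
      rw [← map_mul, ← map_mul]
      exact congrArg σ (Subtype.ext (congrArg Subtype.val (mem_center_iff.1 h ⟨_, h₁ hb⟩)).symm)
    · intro h
      exact hcenW _ a.2 (hfaith a a.2 h)
  obtain ⟨hcomm₀, hcs₀⟩ := image_classTwo (σ := σ) (W := W') (x := x₁) (z := z₁)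
    (fun a ha b hb => (hscal (hcomm ⟨a, h₁ ha⟩ ⟨b, h₁ hb⟩)).imp fun c hc => hf.rep_scalar (g := ⁅a, b⁆) hc)
    (fun a ha h => (hscal (hcenW ⟨a, h₁ ha⟩ ha (hfaith a ha h))).imp fun c hc => hf.rep_scalar (g := a) hc)
  have hxz₀ : x₀ * z₀ = z₀ * x₀ := Subtype.ext (by
    show σ.toHomUnits x₁ * σ.toHomUnits z₁ = σ.toHomUnits z₁ * σ.toHomUnits x₁
    rw [← map_mul, ← map_mul, (Subtype.ext hxz : x₁ * z₁ = z₁ * x₁)])
  have hxp₀ : x₀ ^ p = 1 := Subtype.ext (by
    show σ.toHomUnits x₁ ^ p = 1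
    rw [← map_pow, hxp₁, map_one])
  have hzq₀ : z₀ ^ q = 1 := Subtype.ext (by
    show σ.toHomUnits z₁ ^ q = 1
    rw [← map_pow, hzq₁, map_one])
  obtain ⟨hxγ, hzγ⟩ := mem_zpowers_mul hqp.symm hxz₀ hxp₀ hzq₀
  have hSD : SData τ q (x₀ * z₀) W₀ := by
    refine ⟨imRep_injective, hirrτ, ?_, imW_pgroup ((hW.to_le h₁).comap_subtype), hqK, hcomm₀, hcs₀⟩
    rw [eq_top_iff, ← imW_gen (σ := σ) (W := W') (x := x₁) (z := z₁)]
    refine sup_le_sup_left ((closure_le _).2 ?_) _
    rintro g (rfl | rfl) <;> assumption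
  have hmx₀ : Moves x₀ W₀ := (Moves.subgroupOf (moves_of_commutator_eq hxW₁ hW₁x) le_sup_left _).im left_mem
  have hclass := hSD.isScalarClassTwo
  have hirr₀ := hSD.irreducible
  set N := Module.finrank k (↥(⊤ : Submodule k V) ⧸ U₁.comap (⊤ : Submodule k V).subtype) with hN
  obtain ⟨e, he⟩ := exists_equiv_top (σ := σ) (x := x₁) (z := z₁) _ hker
  have hr : (π.comp (subgroupOfEquivOfLe (le_sup_left : W₁ ≤ Δ)).toMonoidHom).range = π.range := by
    rw [MonoidHom.range_comp, MonoidHom.range_eq_top.2 (MulEquiv.surjective _), ← MonoidHom.range_eq_map]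
  have hidx : N ^ 2 = (center W₀).index := hclass.finrank_sq hSD.card_ne_zero hirr₀
  have hN2 : N ^ 2 * 2 ^ cx = 2 ^ m := by
    rw [hidx, Subgroup.index_eq_card, ← Nat.card_congr e, ← hprod, ← hr]
  have hNbig : 2 ^ (p - 1) ≤ N := by
    refine (Nat.pow_le_pow_iff_left two_ne_zero).1 (Nat.le_of_mul_le_mul_right ?_ (pow_pos two_pos cx))
    rw [hN2, ← pow_mul, ← pow_add]
    exact Nat.pow_le_pow_right two_pos (by omega)
  have h2p : 2 * p ≤ N := (two_pow_big hp5).trans hNbig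
  set Fz := {mm : W₀ ⧸ center W₀ // (MulAut.conjNormal z₀ : MulAut W₀) mm.out * mm.out⁻¹ ∈ center W₀}
  have hFz : Nat.card Fz ≤ N := by
    have hinjP : Nat.card Fz ≤ Nat.card P := by
      refine le_trans (card_fixed_top_le (σ := σ) (x := x₁) (z := z₁) _ hker (θ z) (fun a => rfl)
        (fun hw => hSD.conjNormal_center z₀ hw)) (le_of_eq ?_)
      exact Nat.card_congr (Equiv.subtypeEquivRight fun a => by rw [hr])
    refine (Nat.pow_le_pow_iff_left two_ne_zero).1 ((Nat.pow_le_pow_left hinjP 2).trans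
      (Nat.le_of_mul_le_mul_right ?_ (pow_pos two_pos (2 * cx))))
    calc Nat.card P ^ 2 * 2 ^ (2 * cx) = (Nat.card P * 2 ^ cx) ^ 2 := by rw [mul_pow, ← pow_mul, mul_comm 2 cx]
      _ ≤ (2 ^ cz) ^ 2 := Nat.pow_le_pow_left hP 2
      _ = 2 ^ (2 * cz) := by rw [← pow_mul, mul_comm]
      _ ≤ 2 ^ (m + cx) := Nat.pow_le_pow_right two_pos htwo
      _ = N ^ 2 * 2 ^ (2 * cx) := by rw [pow_add, ← hN2, mul_assoc, ← pow_add, two_mul]
  subst hq2
  exact count_core hSD hp5 hmx₀ hxp₀ hzq₀ hxz₀ hzγ hpK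
    (fun v hv => hf.fixed_le hxp₁ hpK (b := z₁) hfix v hv) h2p hFz

end main

section general'

variable {k : Type uk} [Field k] [IsAlgClosed k] {V : Type uV} [AddCommGroup V] [Module k V]
  [FiniteDimensional k V] {Γ : Type*} [Group Γ] [Finite Γ] {ρ : Γ →* Module.End k V} {p q r : ℕ}
  [Fact p.Prime] [Fact q.Prime] [Fact r.Prime] {x z n s : Γ} {W R : Subgroup Γ}

/-- **The J-lemma for a linear group.** -/
theorem moved_pair (hp5 : 5 ≤ p) (hqp : q ≠ p) (hrq : r ≠ q) (hrp : r ≠ p) (hW : IsPGroup q W)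
    (hR : IsPGroup r R) (hRW : R ≤ normalizer (W : Set Γ)) (hxW : x ∈ normalizer (W : Set Γ))
    (hzW : z ∈ normalizer (W : Set Γ)) (hxR : x ∈ normalizer (R : Set Γ)) (hxp : x ^ p = 1) (hzq : z ^ q = 1)
    (hxz : x * z = z * x) (hs : s ∈ W) (hxs : x * s = s * x) (hzn : z = s * n)
    (hnR : n ∈ normalizer (R : Set Γ)) (hnC : ∀ c ∈ R, x * c = c * x → n * c = c * n)
    (hWR : ⁅W, R⁆ = W) (hRx : ⁅R, zpowers x⁆ = R) (hRn : ⁅R, zpowers n⁆ = R)
    (hqK : (q : k) ≠ 0) (hpK : (p : k) ≠ 0) (hfix : ∀ v, ρ x v = v → ρ z v = v)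
    (hfixC : ∀ c ∈ W, x * c = c * x → ∀ v, ρ x v = v → ρ ⁅c, z⁆ v = v) : ∀ w ∈ W, ρ w = 1 := by
  by_contra hno
  push Not at hno
  obtain ⟨w, hw, hwne⟩ := hno
  set C := closure ({x, z} : Set Γ) with hC
  set Δ := W ⊔ (R ⊔ C) with hΔ
  have hRΔ : R ≤ Δ := le_sup_left.trans le_sup_right
  have hCΔ : C ≤ Δ := le_sup_right.trans le_sup_right
  have hxΔ : x ∈ Δ := hCΔ (subset_closure (by simp))
  have hzΔ : z ∈ Δ := hCΔ (subset_closure (by simp))
  have hWΔ : W ≤ Δ := le_sup_left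
  have hnΔ : n ∈ Δ := by
    rw [show n = s⁻¹ * z by rw [hzn, inv_mul_cancel_left]]
    exact mul_mem (inv_mem (hWΔ hs)) hzΔ
  set W' := W.subgroupOf Δ
  set R' := R.subgroupOf Δ
  haveI : W'.Normal := normal_subgroupOf_sup (sup_le hRW ((closure_le _).2 (by
    rintro g (rfl | rfl) <;> assumption)))
  set x' : Δ := ⟨x, hxΔ⟩
  set z' : Δ := ⟨z, hzΔ⟩
  set n' : Δ := ⟨n, hnΔ⟩
  set s' : Δ := ⟨s, hWΔ hs⟩
  have hW' : IsPGroup q W' := hW.comap_subtype
  obtain ⟨U₁, U₂, hf, w', hw', hw'ne⟩ := exists_factor_nontrivial (ρ := ρ.comp Δ.subtype) W'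
    (card_ne_zero_of_pgroup hW' hqK) (w := ⟨w, hWΔ hw⟩) hw hwne
  haveI := hf.nontrivial
  set g := hf.rep.toHomUnits.rangeRestrict with hg
  set ρ' : hf.rep.toHomUnits.range →* Module.End k (↥U₂ ⧸ U₁.comap U₂.subtype) :=
    (Units.coeHom _).comp hf.rep.toHomUnits.range.subtype
  have hgs : Function.Surjective g := MonoidHom.rangeRestrict_surjective _
  haveI : Finite hf.rep.toHomUnits.range := Finite.of_surjective g hgs
  have hρ' : ∀ a, ρ' (g a) = hf.rep a := fun a => rfl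
  haveI : (W'.map g).Normal := Normal.map inferInstance g hgs
  have hgen : W' ⊔ R' ⊔ closure ({x', z'} : Set Δ) = ⊤ := by
    refine map_injective Δ.subtype_injective ?_
    rw [Subgroup.map_sup, Subgroup.map_sup, map_subgroupOf_eq_of_le hWΔ, map_subgroupOf_eq_of_le hRΔ,
      MonoidHom.map_closure, Set.image_pair, ← MonoidHom.range_eq_map, range_subtype]
    exact sup_assoc W R C
  have hxp' : x' ^ p = 1 := Subtype.ext hxp
  have hxR' : x' ∈ normalizer (R' : Set Δ) := mem_normalizer_iff.2 fun a => mem_normalizer_iff.1 hxR (a : Γ)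
  have hnR' : n' ∈ normalizer (R' : Set Δ) := mem_normalizer_iff.2 fun a => mem_normalizer_iff.1 hnR (a : Γ)
  have hxW' : x' ∈ normalizer (W' : Set Δ) := by rw [normalizer_eq_top]; trivial
  have h := pair_core (ρ := ρ') (x := g x') (z := g z') (n := g n') (s := g s') (W := W'.map g) (R := R'.map g)
    (fun a b e => Subtype.ext (Units.ext e))
    (fun U hU => hf.irreducible U fun a u hu => hρ' a ▸ hU (g a) u hu)
    (by rw [show ({g x', g z'} : Set _) = g '' {x', z'} from (Set.image_pair g x' z').symm,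
      ← MonoidHom.map_closure, ← Subgroup.map_sup, ← Subgroup.map_sup, hgen, map_top_of_surjective g hgs])
    hp5 hqp hrq hrp (hW'.map g) ((hR.comap_subtype).map g) (le_normalizer_map g (mem_map_of_mem g hxR'))
    (by rw [← map_pow, hxp', map_one]) (by rw [← map_pow, show z' ^ q = 1 from Subtype.ext hzq, map_one])
    (by rw [← map_mul, ← map_mul, show x' * z' = z' * x' from Subtype.ext hxz])
    (mem_map_of_mem g hs) (by rw [← map_mul, ← map_mul, show x' * s' = s' * x' from Subtype.ext hxs])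
    (by rw [← map_mul, show z' = s' * n' from Subtype.ext hzn])
    (le_normalizer_map g (mem_map_of_mem g hnR'))
    (by
      rintro _ ⟨c, hc, rfl⟩ hxc
      obtain ⟨c', hc', hxc', e⟩ := exists_commute_lift g hxR'
        (coprime_zpowers hxp' hrp hR.comap_subtype) hc hxc
      rw [← e, ← map_mul, ← map_mul,
        show n' * c' = c' * n' from Subtype.ext (hnC c' hc' (congrArg Subtype.val hxc'))])
    (by rw [← map_commutator, commutator_subgroupOf hWΔ hRΔ hWR])
    (by rw [← MonoidHom.map_zpowers, ← map_commutator, ← zpowers_subgroupOf,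
      commutator_subgroupOf hRΔ (zpowers_le.2 hxΔ) hRx])
    (by rw [← MonoidHom.map_zpowers, ← map_commutator, ← zpowers_subgroupOf,
      commutator_subgroupOf hRΔ (zpowers_le.2 hnΔ) hRn])
    hqK hpK (fun v hv => hf.fixed_le hxp' hpK (b := z') hfix v hv)
    (by
      rintro _ ⟨c, hc, rfl⟩ hxc v hv
      obtain ⟨c', hc', hxc', e⟩ := exists_commute_lift g hxW' (coprime_zpowers hxp' hqp hW') hc hxc
      rw [← e, ← map_commutatorElement]
      exact hf.fixed_le hxp' hpK (fun u hu => hfixC c' hc' (congrArg Subtype.val hxc') u hu) v hv)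
  have h1 : g w' = 1 := by
    rw [← mem_bot, ← h]
    exact mem_map_of_mem g hw'
  exact hw'ne (by rw [← hρ', h1, map_one])

end general'

end Cfsg.Agent.TwoGenSolvable
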