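import Mathlib
import Cfsg.Agent.Lib.TwoGenSolvable.Found
import Cfsg.Agent.Lib.TwoGenSolvable.LMain
import Cfsg.Agent.Lib.TwoGenSolvable.SectionRep
import Cfsg.Agent.Lib.TwoGenSolvable.Factor
import Cfsg.Agent.Lib.TwoGenSolvable.JMoved
import Cfsg.Agent.Lib.TwoGenSolvable.Pair
import Cfsg.Agent.Lib.Components.PAction

/-!
# Moved `q`-by-`r` pairs
-/

set_option autoImplicit false
set_option linter.style.haveILetI false
set_option linter.unusedSectionVars false

namespace Cfsg.Agent.TwoGenSolvable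

open Subgroup
open scoped commutatorElement Pointwise

universe u

variable {G : Type u} [Group G] [Finite G] {p q : ℕ} {x z : G}

/-- Commutators with the powers of an element normalising `M`. -/
theorem commutator_zpowers_le_of_forall {M A : Subgroup G} {y : G} (hy : y ∈ normalizer (M : Set G))
    (h : ∀ a ∈ A, ⁅a, y⁆ ∈ M) : ⁅A, zpowers y⁆ ≤ M := by
  rw [commutator_le]
  intro a ha g hg
  obtain ⟨i, rfl⟩ := (isOfFinOrder_of_finite y).mem_powers_iff_mem_zpowers.mpr hg
  show ⁅a, y ^ i⁆ ∈ M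
  induction i with
  | zero => simp
  | succ i ih =>
    rw [pow_succ', show ⁅a, y * y ^ i⁆ = ⁅a, y⁆ * (y * ⁅a, y ^ i⁆ * y⁻¹) by
      simp only [commutatorElement_def]; group]
    exact mul_mem (h a ha) ((mem_normalizer_iff.1 hy _).1 (ih (pow_mem (mem_zpowers y) i)))

theorem coprime_pgroups {r s : ℕ} (hr : r.Prime) (hs : s.Prime) (hrs : r ≠ s) {A B : Subgroup G}
    (hA : IsPGroup r A) (hB : IsPGroup s B) : (Nat.card A).Coprime (Nat.card B) := by
  haveI := Fact.mk hr
  haveI := Fact.mk hs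
  obtain ⟨i, hi⟩ := hA.exists_card_eq
  obtain ⟨j, hj⟩ := hB.exists_card_eq
  rw [hi, hj]
  exact (((Nat.coprime_primes hr hs).2 hrs).pow_left i).pow_right j

theorem coprime_pgroup {r : ℕ} (hr : r.Prime) {n : ℕ} (hn : n.Prime) (hrn : r ≠ n) {A : Subgroup G}
    (hA : IsPGroup r A) : (Nat.card A).Coprime n := by
  haveI := Fact.mk hr
  obtain ⟨i, hi⟩ := hA.exists_card_eq
  rw [hi]
  exact ((Nat.coprime_primes hr hn).2 hrn).pow_left i

section pair

variable {r : ℕ} {S R : Subgroup G}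

/-- `S` is the unique Sylow `q`-subgroup of `S R`. -/
theorem IsPair.mem_left (hP : IsPair q x z r S R) (hq : q.Prime) {g : G} (hg : g ∈ S ⊔ R)
    {j : ℕ} (hj : g ^ q ^ j = 1) : g ∈ S := by
  rw [sup_comm] at hg
  obtain ⟨s, hs, a, ha, rfl⟩ := (Coprime.mem_sup_iff_of_le_normalizer' hP.normS).1 hg
  have hn : ∀ n : ℕ, (s * a) ^ n * (a ^ n)⁻¹ ∈ S := fun n => by
    induction n with
    | zero => simp
    | succ n ih =>
      rw [show (s * a) ^ (n + 1) * (a ^ (n + 1))⁻¹ = s * (a * ((s * a) ^ n * (a ^ n)⁻¹) * a⁻¹) by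
        rw [pow_succ' (s * a), pow_succ' a]; group]
      exact mul_mem hs ((mem_normalizer_iff.1 (hP.normS ha) _).1 ih)
  have h1 : a ^ q ^ j ∈ R ⊓ S := mem_inf.2 ⟨pow_mem ha _, (inv_mem_iff (H := S)).1 (by simpa [hj] using hn (q ^ j))⟩
  rw [Coprime.disjoint_of_coprime_card (coprime_pgroups hP.rprime hq hP.ne_q hP.rgroup hP.qgroup),
    mem_bot] at h1
  have h2 : orderOf a = 1 := Nat.eq_one_of_dvd_coprimes ((coprime_pgroup hP.rprime hq hP.ne_q hP.rgroup).pow_right j)
    (R.orderOf_dvd_natCard ha) (orderOf_dvd_of_pow_eq_one h1)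
  rw [orderOf_eq_one_iff.1 h2, mul_one]
  exact hs

/-- `z` centralises `C_R(x)` modulo `S`. -/
theorem IsPair.commutator_mem_left (h : QCtx p q x z) (hP : IsPair q x z r S R) {c : G} (hc : c ∈ R)
    (hxc : x * c = c * x) : ⁅c, z⁆ ∈ S := by
  have hD : ⁅c, z⁆ ∈ Cfsg.pCoreOf q (centralizer ({x} : Set G)) := by
    rw [commutatorElement_def, show c * z * c⁻¹ * z⁻¹ = c * z * c⁻¹ * z⁻¹ from rfl]
    exact mul_mem ((mem_normalizer_iff.1 (PCore.le_normalizer_pCoreOf _ (mem_centralizer_singleton_iff.2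
      hxc.symm)) z).1 h.z_mem) (inv_mem h.z_mem)
  obtain ⟨j, hj⟩ := PCore.isPGroup_pCoreOf _ ⟨_, hD⟩
  exact hP.mem_left h.qprime (Coprime.commutator_le_left_of_le_normalizer (zpowers_le.2 hP.z_norm)
    (commutator_mem_commutator (mem_sup_right hc) (mem_zpowers z))) (congrArg Subtype.val hj)

theorem IsPair.le_of_le_sup (hP : IsPair q x z r S R) (hq : q.Prime) {T : Subgroup G} (hT : T ≤ R)
    (h : R ≤ T ⊔ S) : R ≤ T := by
  intro a ha
  obtain ⟨t, ht, s, hs, rfl⟩ := (Coprime.mem_sup_iff_of_le_normalizer (hT.trans hP.normS)).1 (h ha)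
  have h1 : s ∈ R ⊓ S := ⟨by simpa using mul_mem (inv_mem (hT ht)) ha, hs⟩
  rw [Coprime.disjoint_of_coprime_card (coprime_pgroups hP.rprime hq hP.ne_q hP.rgroup hP.qgroup),
    mem_bot] at h1
  rw [h1, mul_one]
  exact ht

theorem IsPair.commutator_x (h : QCtx p q x z) (hqp : q ≠ p) (hP : IsPair q x z r S R) (hrp : r ≠ p) :
    ⁅R, zpowers x⁆ = R := by
  haveI := Fact.mk h.prime
  haveI := Fact.mk hP.rprime
  set T := ⁅R, zpowers x⁆ with hT
  have hTR : T ≤ R := Coprime.commutator_le_left_of_le_normalizer (zpowers_le.2 hP.x_normR)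
  refine le_antisymm hTR (hP.le_of_le_sup h.qprime hTR ?_)
  set M := T ⊔ S with hM
  have hRM : R ≤ normalizer (M : Set G) :=
    (le_inf (normalizer_commutator_ge_left R (zpowers x)) hP.normS).trans (normalizer_inf_normalizer_le_normalizer_sup _ _)
  -- `M` is also `[S R, x] S`
  have hM' : M = ⁅S ⊔ R, zpowers x⁆ ⊔ S := by
    refine le_antisymm (sup_le_sup_right (commutator_mono le_sup_right le_rfl) S) (sup_le ?_ le_sup_right)
    rw [commutator_le]
    intro g hg y hy
    rw [sup_comm] at hg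
    obtain ⟨s, hs, a, ha, rfl⟩ := (Coprime.mem_sup_iff_of_le_normalizer' hP.normS).1 hg
    rw [commutatorElement_mul_left_eq_conj_mul]
    exact mul_mem (mul_mem (mul_mem (mem_sup_right hs) (mem_sup_left (commutator_mem_commutator ha hy)))
        (inv_mem (mem_sup_right hs)))
      (mem_sup_right (Coprime.commutator_le_left_of_le_normalizer (zpowers_le.2 hP.x_normS)
        (commutator_mem_commutator hs hy)))
  have hzM : z ∈ normalizer (M : Set G) := by
    rw [hM']
    refine normalizer_inf_normalizer_le_normalizer_sup _ _ (mem_inf.2 ⟨?_, hP.z_normS⟩)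
    exact Coprime.le_normalizer_commutator (C := zpowers z) (zpowers_le.2 hP.z_norm)
      (zpowers_le.2 (mem_centralizer_iff.2 fun g hg => by
        obtain ⟨i, rfl⟩ := hg
        exact ((show Commute x z from h.commute).zpow_left i).eq)) (mem_zpowers z)
  refine hP.move.trans (sup_le (commutator_zpowers_le_of_forall hzM fun g hg => ?_) le_sup_right)
  rw [sup_comm] at hg
  obtain ⟨s, hs, a, ha, rfl⟩ := (Coprime.mem_sup_iff_of_le_normalizer' hP.normS).1 hg
  obtain ⟨c, hc, m, hm, rfl⟩ := Coprime.exists_centralizer_mul_commutator (zpowers_le.2 hP.x_normR)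
    (coprime_zpowers (by rw [← h.order_x, pow_orderOf_eq_one]) hrp hP.rgroup) (Or.inl inferInstance) ha
  have h1 : ⁅c, z⁆ ∈ M :=
    mem_sup_right (hP.commutator_mem_left h hc.1 (mem_centralizer_iff.1 hc.2 x (mem_zpowers x)))
  have h2 : ⁅m, z⁆ ∈ M := by
    rw [commutatorElement_def, show m * z * m⁻¹ * z⁻¹ = m * (z * m⁻¹ * z⁻¹) by group]
    exact mul_mem (mem_sup_left hm) ((mem_normalizer_iff.1 hzM _).1 (inv_mem (mem_sup_left hm)))
  rw [commutatorElement_mul_left_eq_conj_mul, commutatorElement_mul_left_eq_conj_mul]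
  exact mul_mem (mul_mem (mul_mem (mem_sup_right hs)
      (mul_mem ((mem_normalizer_iff.1 (hRM hc.1) _).1 h2) h1)) (inv_mem (mem_sup_right hs)))
    (mem_sup_right (Coprime.commutator_le_left_of_le_normalizer (zpowers_le.2 hP.z_normS)
      (commutator_mem_commutator hs (mem_zpowers z))))

/-- The pair is moved by an element `c⁻¹ z` centralising `x` and normalising `R`. -/
theorem IsPair.exists_normalizing (h : QCtx p q x z) (hqp : q ≠ p) (hP : IsPair q x z r S R) :
    z ∈ normalizer ((⁅S, R⁆ : Subgroup G) : Set G) ∧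
    ∃ c ∈ ⁅S, R⁆, ∃ n : G, z = c * n ∧ x * c = c * x ∧ n ∈ normalizer (R : Set G) ∧
      (∀ a ∈ R, x * a = a * x → n * a = a * n) ∧ ⁅R, zpowers n⁆ = R := by
  haveI := Fact.mk h.prime
  haveI := Fact.mk h.qprime
  haveI := Fact.mk hP.rprime
  have hxp : x ^ p = 1 := by rw [← h.order_x, pow_orderOf_eq_one]
  have hcopRS := coprime_pgroups hP.rprime h.qprime hP.ne_q hP.rgroup hP.qgroup
  set Y := ⁅S, R⁆ with hY
  have hYS : Y ≤ S := Coprime.commutator_le_left_of_le_normalizer hP.normS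
  have hSY : S ≤ normalizer (Y : Set G) := normalizer_commutator_ge_left S R
  have hRY : R ≤ normalizer (Y : Set G) := normalizer_commutator_ge_right S R
  have hxY : x ∈ normalizer (Y : Set G) := mem_normalizer_iff_map_conj_eq.2 (by
    rw [hY, map_commutator, mem_normalizer_iff_map_conj_eq.1 hP.x_normS,
      mem_normalizer_iff_map_conj_eq.1 hP.x_normR])
  have hsolS : Group.IsSolvable S := by
    haveI := hP.qgroup.isNilpotent
    infer_instance
  -- the conjugate of `R`
  set R' := MulAut.conj z • R with hR'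
  obtain ⟨s₀, hs₀, hs₀R⟩ := Coprime.exists_conj_eq_of_le_sup (N := S) (H := R) (K := R') hP.normS (by
      intro g hg
      obtain ⟨a, ha, rfl⟩ := hg
      rw [sup_comm]
      exact (mem_normalizer_iff.1 hP.z_norm a).1 (mem_sup_right ha))
    (Coprime.card_conj_smul z R) hcopRS (Or.inl hsolS)
  have hzY : z ∈ normalizer (Y : Set G) := by
    refine mem_normalizer_iff_map_conj_eq.2 ?_
    have e1 : R.map ((MulAut.conj z : MulAut G) : G →* G) = R.map ((MulAut.conj s₀ : MulAut G) : G →* G) :=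
      hs₀R.symm
    rw [hY, map_commutator, mem_normalizer_iff_map_conj_eq.1 hP.z_normS, e1]
    conv_lhs => rw [← mem_normalizer_iff_map_conj_eq.1 (le_normalizer (H := S) hs₀), ← map_commutator]
    exact mem_normalizer_iff_map_conj_eq.1 (hSY hs₀)
  -- conjugation by an element of `Y`
  obtain ⟨k₀, hk₀, hk₀R⟩ := Coprime.exists_conj_eq_of_le_sup (N := Y) (H := R) (K := R') hRY (by
      rw [← hs₀R]
      rintro _ ⟨a, ha, rfl⟩
      rw [sup_comm]
      show s₀ * a * s₀⁻¹ ∈ Y ⊔ R
      rw [show s₀ * a * s₀⁻¹ = ⁅s₀, a⁆ * a by simp [commutatorElement_def]]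
      exact mul_mem (mem_sup_left (commutator_mem_commutator hs₀ ha)) (mem_sup_right ha))
    (Coprime.card_conj_smul z R) (hcopRS.coprime_dvd_right (card_dvd_of_le hYS))
    (Or.inl (Coprime.isSolvable_of_le hYS hsolS))
  obtain ⟨c, hc, hcN⟩ := Coprime.exists_mem_inf_centralizer_leftCoset (A := zpowers x) (K := Y)
    (N := Y ⊓ normalizer (R : Set G)) (zpowers_le.2 (by
      refine mem_normalizer_iff_map_conj_eq.2 ?_
      have hxNR : x ∈ normalizer ((normalizer (R : Set G) : Subgroup G) : Set G) := le_normalizer hP.x_normR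
      rw [map_inf_eq _ _ _ (MulAut.conj x).injective, mem_normalizer_iff_map_conj_eq.1 hxY,
        mem_normalizer_iff_map_conj_eq.1 hxNR]))
    inf_le_left (coprime_zpowers hxp hqp (hP.qgroup.to_le hYS)) (Or.inl inferInstance) hk₀ fun a ha => by
      obtain ⟨i, rfl⟩ := ha
      have hR : MulAut.conj (x ^ i) • R = R :=
        Coprime.conj_smul_eq_self_of_mem (zpow_mem hP.x_normR i)
      have hR'x : MulAut.conj (x ^ i) • R' = R' := by
        rw [hR', Coprime.conj_smul_smul, ((show Commute x z from h.commute).zpow_left i).eq,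
          ← Coprime.conj_smul_smul, hR]
      refine ⟨mul_mem (mul_mem (inv_mem hk₀) ((mem_normalizer_iff.1 (zpow_mem hxY i) k₀).1 hk₀)) (one_mem _) |> fun h' => by
        simpa [mul_assoc] using h', Coprime.mem_normalizer_of_conj_smul_eq ?_⟩
      show MulAut.conj (k₀⁻¹ * x ^ i * k₀ * (x ^ i)⁻¹) • R = R
      rw [← Coprime.conj_smul_smul, ← Coprime.conj_smul_smul, ← Coprime.conj_smul_smul]
      rw [show MulAut.conj (x ^ i)⁻¹ • R = R by rw [← hR, Coprime.conj_smul_smul, inv_mul_cancel, map_one, one_smul, hR],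
        hk₀R, hR'x, ← hk₀R, Coprime.conj_smul_smul, inv_mul_cancel, map_one, one_smul]
  have hcR : MulAut.conj c • R = R' := by
    rw [← hk₀R]
    conv_lhs => rw [show c = k₀ * (k₀⁻¹ * c) by group, ← Coprime.conj_smul_smul,
      Coprime.conj_smul_eq_self_of_mem hcN.2]
  have hxc : x * c = c * x := mem_centralizer_iff.1 hc.2 x (mem_zpowers x)
  refine ⟨hzY, c, hc.1, c⁻¹ * z, by group, hxc, ?_, ?_⟩
  · refine Coprime.mem_normalizer_of_conj_smul_eq ?_
    rw [← Coprime.conj_smul_smul]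
    show MulAut.conj c⁻¹ • R' = R
    rw [← hcR, Coprime.conj_smul_smul, inv_mul_cancel, map_one, one_smul]
  have hn : c⁻¹ * z ∈ normalizer (R : Set G) := by
    refine Coprime.mem_normalizer_of_conj_smul_eq ?_
    rw [← Coprime.conj_smul_smul]
    show MulAut.conj c⁻¹ • R' = R
    rw [← hcR, Coprime.conj_smul_smul, inv_mul_cancel, map_one, one_smul]
  have hcS : c ∈ S := hYS hc.1
  refine ⟨fun a ha hxa => ?_, ?_⟩
  · have h1 : ⁅a, c⁻¹ * z⁆ ∈ R ⊓ S := by
      refine mem_inf.2 ⟨Coprime.commutator_le_left_of_le_normalizer (zpowers_le.2 hn)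
        (commutator_mem_commutator ha (mem_zpowers _)), ?_⟩
      rw [show ⁅a, c⁻¹ * z⁆ = ⁅a, c⁻¹⁆ * (c⁻¹ * ⁅a, z⁆ * c) by simp only [commutatorElement_def]; group]
      refine mul_mem ?_ (mul_mem (mul_mem (inv_mem hcS) (hP.commutator_mem_left h ha hxa)) hcS)
      rw [commutatorElement_def]
      exact mul_mem ((mem_normalizer_iff.1 (hP.normS ha) _).1 (inv_mem hcS)) (inv_mem (inv_mem hcS))
    rw [Coprime.disjoint_of_coprime_card hcopRS, mem_bot] at h1
    exact (commutatorElement_eq_one_iff_mul_comm.1 h1).symm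
  · set n := c⁻¹ * z with hndef
    set T := ⁅R, zpowers n⁆ with hT
    have hTR : T ≤ R := Coprime.commutator_le_left_of_le_normalizer (zpowers_le.2 hn)
    refine le_antisymm hTR (hP.le_of_le_sup h.qprime hTR ?_)
    set M := T ⊔ S with hM
    have hnM : n ∈ normalizer (M : Set G) :=
      normalizer_inf_normalizer_le_normalizer_sup _ _ (mem_inf.2 ⟨normalizer_commutator_ge_right R (zpowers n)
        (mem_zpowers n), mul_mem (inv_mem (le_normalizer hcS)) hP.z_normS⟩)
    have hcM : c ∈ M := mem_sup_right hcS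
    have hzM : z ∈ normalizer (M : Set G) := by
      rw [show z = c * n by rw [hndef, mul_inv_cancel_left]]
      exact mul_mem (le_normalizer hcM) hnM
    refine hP.move.trans (sup_le (commutator_zpowers_le_of_forall hzM fun g hg => ?_) le_sup_right)
    rw [sup_comm] at hg
    obtain ⟨s, hs, a, ha, rfl⟩ := (Coprime.mem_sup_iff_of_le_normalizer' hP.normS).1 hg
    have h1 : ⁅a, z⁆ ∈ M := by
      rw [show z = c * n by rw [hndef, mul_inv_cancel_left],
        show ⁅a, c * n⁆ = ⁅a, c⁆ * (c * ⁅a, n⁆ * c⁻¹) by simp only [commutatorElement_def]; group]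
      refine mul_mem (mem_sup_right ?_) (mul_mem (mul_mem hcM
        (mem_sup_left (commutator_mem_commutator ha (mem_zpowers n)))) (inv_mem hcM))
      rw [commutatorElement_def]
      exact mul_mem ((mem_normalizer_iff.1 (hP.normS ha) _).1 hcS) (inv_mem hcS)
    rw [commutatorElement_mul_left_eq_conj_mul]
    exact mul_mem (mul_mem (mul_mem (mem_sup_right hs) h1) (inv_mem (mem_sup_right hs)))
      (mem_sup_right (Coprime.commutator_le_left_of_le_normalizer (zpowers_le.2 hP.z_normS)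
        (commutator_mem_commutator hs (mem_zpowers z))))

end pair

/-- A `q`-subgroup outside `O_q` moves an elementary chief-like section of order prime to `p q`. -/
theorem exists_moved_section {X : Type*} [Group X] [Finite X] {p q : ℕ} [Fact p.Prime] [Fact q.Prime]
    (Θ : Subgroup X) [Θ.Normal] (hsol : Group.IsSolvable Θ) (hcop : (Nat.card Θ).Coprime p) {Y : Subgroup X}
    (hYΘ : Y ≤ Θ) (hY : IsPGroup q Y) (hnot : ¬ Y ≤ (Cfsg.pCore q Θ).map Θ.subtype) :
    ∃ l : ℕ, l.Prime ∧ l ≠ p ∧ l ≠ q ∧ ∃ M L : Subgroup X, M.Normal ∧ L.Normal ∧ M ≤ Θ ∧ IsESection l M L ∧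
      (∀ a ∈ M, ∀ j : ℕ, a ^ q ^ j = 1 → a ∈ L) ∧ ∃ y ∈ Y, ∃ a ∈ M, ⁅y, a⁆ ∉ L := by
  classical
  haveI := hsol
  set U := Cfsg.pCore q Θ with hU
  set Q := Θ ⧸ U
  set π := QuotientGroup.mk' U with hπ
  set Y' := (Y.subgroupOf Θ).map π with hY'
  have hY'p : IsPGroup q Y' := hY.comap_subtype.map π
  have hQ : Cfsg.pCore q Q = ⊥ := PCore.pCore_quotient_self_eq_bot
  -- some `O_l` is moved
  obtain ⟨t, ht, htmove⟩ : ∃ t ∈ (Nat.card Q).primeFactors, ¬ Y' ≤ centralizer (Cfsg.pCore t Q : Set Q) := by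
    by_contra hall
    push Not at hall
    apply hnot
    have hF : Y' ≤ centralizer (Cfsg.fittingSubgroup Q : Set Q) := by
      rw [Subgroup.le_centralizer_iff, Components.fittingSubgroup_eq_iSup_pCore]
      exact iSup_le fun t => Subgroup.le_centralizer_iff.1 (hall t t.2)
    have hbot : Y' = ⊥ := PCore.eq_bot_of_isPGroup_of_coprime hY'p
      ((Components.coprime_card_fittingSubgroup (p := q) hQ).coprime_dvd_left
        (card_dvd_of_le (hF.trans Components.centralizer_fittingSubgroup_le)))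
    intro y hy
    refine ⟨⟨y, hYΘ hy⟩, (QuotientGroup.eq_one_iff _).1 ?_, rfl⟩
    rw [← mem_bot, ← hbot]
    exact mem_map_of_mem π (by exact hy)
  have htP := Nat.prime_of_mem_primeFactors ht
  haveI := Fact.mk htP
  have htq : t ≠ q := fun e => htmove (by
    subst e
    rw [hQ]
    exact fun g _ => mem_centralizer_iff.2 fun a ha => by rw [mem_bot.1 ha, one_mul, mul_one])
  have htp : t ≠ p := fun e => by
    subst e
    exact htP.not_dvd_one (hcop.gcd_eq_one ▸ Nat.dvd_gcd
      ((Nat.dvd_of_mem_primeFactors ht).trans (card_quotient_dvd_card U)) dvd_rfl)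
  set P := Cfsg.pCore t Q with hPdef
  have hPp : IsPGroup t P := PCore.isPGroup_pCore
  set Φ := (frattini P).map P.subtype with hΦ
  have hsec := isESection_frattini hPp
  haveI hΦn : Φ.Normal := by
    rw [← normalizer_eq_top_iff]
    refine top_unique (le_trans ?_ (Components.normalizer_le_normalizer_map_of_characteristic P (frattini P)))
    rw [normalizer_eq_top]
  -- pull back, with normality in the whole group
  have hchar : ∀ (K : Subgroup Q), K.Normal → (∀ ψ : MulAut Q, K.map ψ.toMonoidHom ≤ K) →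
      ((K.comap π).map Θ.subtype).Normal := by
    intro K hK hψ
    refine ⟨?_⟩
    rintro _ ⟨a, ha, rfl⟩ g
    let e : MulAut Θ := MulAut.conjNormal g
    let ψ : MulAut Q := QuotientGroup.congr U U e (PCore.map_pCore_mulEquiv e)
    refine ⟨e a, hψ ψ ⟨π a, ha, rfl⟩, ?_⟩
    exact MulAut.conjNormal_apply g a
  have hPψ : ∀ ψ : MulAut Q, P.map ψ.toMonoidHom ≤ P := fun ψ => (PCore.map_pCore_mulEquiv ψ).le
  have hΦψ : ∀ ψ : MulAut Q, Φ.map ψ.toMonoidHom ≤ Φ := by
    intro ψ
    have hmem : ∀ a ∈ P, ψ a ∈ P := fun a ha => hPψ ψ ⟨a, ha, rfl⟩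
    have hmem' : ∀ a ∈ P, ψ.symm a ∈ P := fun a ha => hPψ ψ.symm ⟨a, ha, rfl⟩
    let ψP : MulAut P :=
      { toFun := fun a => ⟨ψ a, hmem a a.2⟩
        invFun := fun a => ⟨ψ.symm a, hmem' a a.2⟩
        left_inv := fun a => Subtype.ext (ψ.symm_apply_apply (a : Q))
        right_inv := fun a => Subtype.ext (ψ.apply_symm_apply (a : Q))
        map_mul' := fun a b => Subtype.ext (map_mul ψ (a : Q) b) }
    rintro _ ⟨_, ⟨a, ha, rfl⟩, rfl⟩
    exact ⟨ψP a, (characteristic_iff_map_eq.1 (inferInstance : (frattini P).Characteristic) ψP).le ⟨a, ha, rfl⟩, rfl⟩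
  set M := (P.comap π).map Θ.subtype with hM
  set L := (Φ.comap π).map Θ.subtype with hL
  have hMn : M.Normal := hchar P inferInstance hPψ
  have hLn : L.Normal := hchar Φ hΦn hΦψ
  have hmemL : ∀ a : Θ, π a ∈ Φ → (a : X) ∈ L := fun a ha => ⟨a, ha, rfl⟩
  refine ⟨t, htP, htp, htq, M, L, hMn, hLn, map_subtype_le _, ⟨map_mono (comap_mono hsec.le), ?_, ?_, ?_⟩, ?_, ?_⟩
  · rw [normalizer_eq_top]; exact le_top
  · rintro _ ⟨a, ha, rfl⟩ _ ⟨b, hb, rfl⟩
    refine ⟨⁅a, b⁆, ?_, map_commutatorElement Θ.subtype a b⟩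
    show π ⁅a, b⁆ ∈ Φ
    rw [map_commutatorElement]
    exact hsec.comm _ ha _ hb
  · rintro _ ⟨a, ha, rfl⟩
    refine ⟨a ^ t, ?_, map_pow Θ.subtype a t⟩
    show π (a ^ t) ∈ Φ
    rw [map_pow]
    exact hsec.exp _ ha
  · rintro _ ⟨a, ha, rfl⟩ j hj
    obtain ⟨i, hi⟩ := hPp ⟨π a, ha⟩
    have h1 : π a ^ q ^ j = 1 := by
      rw [← map_pow, show a ^ q ^ j = 1 from Subtype.ext (by simpa using hj), map_one]
    have h2 : orderOf (π a) = 1 := Nat.eq_one_of_dvd_coprimes
      ((((Nat.coprime_primes htP (Fact.out : q.Prime)).2 htq).pow_left i).pow_right j)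
      (orderOf_dvd_of_pow_eq_one (congrArg Subtype.val hi)) (orderOf_dvd_of_pow_eq_one h1)
    refine hmemL a ?_
    rw [orderOf_eq_one_iff.1 h2]
    exact one_mem _
  · by_contra hno
    push Not at hno
    refine htmove (Coprime.le_centralizer_of_frattini (by rw [normalizer_eq_top]; exact le_top) ?_ ?_)
    · exact (coprime_pgroups (Fact.out : q.Prime) htP htq.symm hY'p hPp).coprime_dvd_right
        (card_subgroup_dvd_card (frattini P))
    · rintro _ ⟨y, hy, rfl⟩ b hb
      obtain ⟨a, rfl⟩ := QuotientGroup.mk'_surjective U b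
      obtain ⟨e, he, hea⟩ := hno (y : X) hy (a : X) ⟨a, hb, rfl⟩
      have : e = ⁅y, a⁆ := Subtype.ext (hea.trans (map_commutatorElement Θ.subtype y a).symm)
      subst this
      change π ⁅y, a⁆ ∈ Φ at he
      rwa [map_commutatorElement, commutatorElement_def] at he

/-- The J-lemma. -/
theorem IsPair.commutator_le_core (h : QCtx p q x z) (hqp : q ≠ p) {H : Subgroup G} (hH : Group.IsSolvable H)
    (hx : x ∈ H) (hz : z ∈ H) {r : ℕ} {S R : Subgroup G} (hP : IsPair q x z r S R) (hrp : r ≠ p) (hS : S ≤ H)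
    (hR : R ≤ H) : ⁅S, R⁆ ≤ Cfsg.pCoreOf q (ppOf p H) := by
  haveI := Fact.mk h.prime
  haveI := Fact.mk h.qprime
  haveI := Fact.mk hP.rprime
  haveI := hH
  have hRx := hP.commutator_x h hqp hrp
  have hRΘ : R ≤ ppOf p H := hRx ▸ h.commutator_le_ppOf hH hx hR (coprime_pgroup hP.rprime h.prime hrp hP.rgroup)
    hP.x_normR
  have hYΘ : ⁅S, R⁆ ≤ ppOf p H := by
    rw [commutator_le]
    intro s hs a ha
    rw [commutatorElement_def]
    exact mul_mem ((mem_normalizer_iff.1 (le_normalizer_ppOf p H (hS hs)) a).1 (hRΘ ha)) (inv_mem (hRΘ ha))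
  obtain ⟨hzY, c, hc, n, hzn, hxc, hnR, hnC, hRn⟩ := hP.exists_normalizing h hqp
  set Y := ⁅S, R⁆ with hY
  have hYS : Y ≤ S := Coprime.commutator_le_left_of_le_normalizer hP.normS
  have hYH : Y ≤ H := hYS.trans hS
  have hnH : n ∈ H := by
    rw [show n = c⁻¹ * z by rw [hzn, inv_mul_cancel_left]]
    exact mul_mem (inv_mem (hYH hc)) hz
  have hYR : ⁅Y, R⁆ = Y := Coprime.commutator_commutator_eq hP.normS
    (coprime_pgroups hP.rprime h.qprime hP.ne_q hP.rgroup hP.qgroup) (Or.inr (by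
      haveI := hP.qgroup.isNilpotent
      infer_instance))
  -- everything inside `H`
  set Θ := Cfsg.pPrimeCore p H with hΘ
  haveI : Θ.Normal := PCore.pPrimeCore_normal
  set Y' := Y.subgroupOf H with hY'
  set R' := R.subgroupOf H with hR'
  by_contra hnot
  have hY'Θ : Y' ≤ Θ := fun y hy => by
    obtain ⟨hy', h1⟩ := mem_ppOf.1 (hYΘ hy)
    exact h1
  obtain ⟨l, hl, hlp, hlq, M, L, hMn, hLn, hMΘ, hsec, hML, y, hy, a, ha, hya⟩ :=
    exists_moved_section (p := p) (q := q) Θ inferInstance PCore.coprime_card_pPrimeCore hY'Θ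
      ((hP.qgroup.to_le hYS).comap_subtype) fun hle => hnot fun g hg => by
        refine PCore.le_pCoreOf (R := ((Cfsg.pCore q Θ).map Θ.subtype).map H.subtype) ?_ ?_ ?_
          ⟨⟨g, hYH hg⟩, hle hg, rfl⟩
        · exact map_mono (map_subtype_le _)
        · exact (PCore.isPGroup_pCore.map _).map _
        · refine (le_normalizer_ppOf p H |> fun _ => ppOf_le p H).trans (le_trans ?_ (le_normalizer_map H.subtype))
          rw [normalizer_eq_top_iff.2 inferInstance, ← MonoidHom.range_eq_map, range_subtype]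
  haveI := hMn
  haveI := hLn
  haveI := Fact.mk hl
  obtain ⟨m, ρ₀, -, h1, -, h3⟩ := hsec.exists_rep
  have hNtop : ∀ g : H, g ∈ normalizer (M : Set H) ⊓ normalizer (L : Set H) := fun g => by
    rw [normalizer_eq_top, normalizer_eq_top]; exact ⟨trivial, trivial⟩
  set ρ := ρ₀.comp ((MonoidHom.id H).codRestrict _ hNtop) with hρ
  set x' : H := ⟨x, hx⟩
  set z' : H := ⟨z, hz⟩
  set n' : H := ⟨n, hnH⟩
  set c' : H := ⟨c, hYH hc⟩
  have hxp : x ^ p = 1 := by rw [← h.order_x, pow_orderOf_eq_one]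
  have hxp' : x' ^ p = 1 := Subtype.ext hxp
  have hD : ∀ g : H, (g : G) ∈ Cfsg.pCoreOf q (centralizer ({x} : Set G)) → ∀ v, ρ x' v = v → ρ g v = v := by
    intro g hg v hv
    refine h3 ⟨x', hNtop x'⟩ ⟨g, hNtop g⟩ p (Subtype.ext hxp')
      (fun hd => hlp ((Nat.prime_dvd_prime_iff_eq hl h.prime).1 hd)) (fun b hb hxb => ?_) v hv
    obtain ⟨d, hdM, e, heL, hxd, rfl⟩ := exists_fixed_mod hsec.le
      (show x' ∈ normalizer (L : Set H) from (hNtop x').2)
      (((PCore.coprime_card_pPrimeCore (G := H) (p := p)).symm.coprime_dvd_left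
        (Nat.card_zpowers x' ▸ orderOf_dvd_of_pow_eq_one hxp')).coprime_dvd_right (card_dvd_of_le hMΘ)) hb hxb
    rw [show ⁅g, e * d⁆ = ⁅g, e⁆ * (e * ⁅g, d⁆ * e⁻¹) by simp only [commutatorElement_def]; group]
    refine mul_mem ?_ (Normal.conj_mem hLn _ ?_ _)
    · rw [commutatorElement_def]
      exact mul_mem (hLn.conj_mem e heL g) (inv_mem heL)
    · have hgd : (⁅g, d⁆ : H) ∈ M := by
        rw [commutatorElement_def]
        exact mul_mem (hMn.conj_mem d hdM g) (inv_mem hdM)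
      have hgd' : ((⁅g, d⁆ : H) : G) ∈ Cfsg.pCoreOf q (centralizer ({x} : Set G)) := by
        have hdC : (d : G) ∈ centralizer ({x} : Set G) :=
          mem_centralizer_singleton_iff.2 (congrArg Subtype.val hxd).symm
        show (g : G) * d * (g : G)⁻¹ * (d : G)⁻¹ ∈ _
        rw [show (g : G) * d * (g : G)⁻¹ * (d : G)⁻¹ = g * (d * (g : G)⁻¹ * (d : G)⁻¹) by group]
        exact mul_mem hg ((mem_normalizer_iff.1 (PCore.le_normalizer_pCoreOf _ hdC) _).1 (inv_mem hg))
      obtain ⟨j, hj⟩ := PCore.isPGroup_pCoreOf _ ⟨_, hgd'⟩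
      exact hML _ hgd j (Subtype.ext (by simpa using congrArg Subtype.val hj))
  have hne : ((l : ℕ) : AlgebraicClosure (ZMod l)) = 0 := by
    haveI : CharP (AlgebraicClosure (ZMod l)) l :=
      charP_of_injective_algebraMap (algebraMap (ZMod l) (AlgebraicClosure (ZMod l))).injective l
    exact CharP.cast_eq_zero _ l
  have hcast : ∀ t : ℕ, t.Prime → l ≠ t → (t : AlgebraicClosure (ZMod l)) ≠ 0 := by
    intro t ht hlt e
    haveI : CharP (AlgebraicClosure (ZMod l)) l :=
      charP_of_injective_algebraMap (algebraMap (ZMod l) (AlgebraicClosure (ZMod l))).injective l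
    exact hlt ((Nat.prime_dvd_prime_iff_eq hl ht).1 ((CharP.cast_eq_zero_iff _ l t).1 e))
  have key := moved_pair (ρ := ρ) (q := q) (r := r) (x := x') (z := z') (n := n') (s := c') (W := Y') (R := R')
    h.five_le hqp hP.ne_q hrp ((hP.qgroup.to_le hYS).comap_subtype) hP.rgroup.comap_subtype
    (fun g hg => mem_normalizer_iff.2 fun b => mem_normalizer_iff.1 (normalizer_commutator_ge_right S R hg) (b : G))
    (mem_normalizer_iff.2 fun b => mem_normalizer_iff.1 (mem_normalizer_iff_map_conj_eq.2 (by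
      rw [hY, map_commutator, mem_normalizer_iff_map_conj_eq.1 hP.x_normS,
        mem_normalizer_iff_map_conj_eq.1 hP.x_normR]) : x ∈ normalizer (Y : Set G)) (b : G))
    (mem_normalizer_iff.2 fun b => mem_normalizer_iff.1 hzY (b : G))
    (mem_normalizer_iff.2 fun b => mem_normalizer_iff.1 hP.x_normR (b : G))
    hxp' (Subtype.ext (by simp [z', ← h.order_z, pow_orderOf_eq_one])) (Subtype.ext h.commute) hc
    (Subtype.ext hxc) (Subtype.ext hzn) (mem_normalizer_iff.2 fun b => mem_normalizer_iff.1 hnR (b : G))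
    (fun b hb hxb => Subtype.ext (hnC b hb (congrArg Subtype.val hxb)))
    (commutator_subgroupOf hYH hR hYR)
    (by rw [← zpowers_subgroupOf]; exact commutator_subgroupOf hR (zpowers_le.2 hx) hRx)
    (by rw [← zpowers_subgroupOf]; exact commutator_subgroupOf hR (zpowers_le.2 hnH) hRn)
    (hcast q h.qprime hlq) (hcast p h.prime hlp) (hD z' h.z_mem) (fun b hb hxb => hD _ (by
      show ((⁅b, z'⁆ : H) : G) ∈ _
      show (b : G) * z * (b : G)⁻¹ * z⁻¹ ∈ _
      exact mul_mem ((mem_normalizer_iff.1 (PCore.le_normalizer_pCoreOf _ (mem_centralizer_singleton_iff.2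
        (congrArg Subtype.val hxb).symm)) z).1 h.z_mem) (inv_mem h.z_mem)))
  exact hya ((h1 ⟨y, hNtop y⟩).1 (key y hy) a ha)

end Cfsg.Agent.TwoGenSolvable
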