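import Mathlib
import Cfsg.Agent.Lib.TwoGenSolvable.Found
import Cfsg.Agent.Lib.TwoGenSolvable.Clusters
import Cfsg.Agent.Lib.FixedDim.MaximalPair
import Cfsg.Agent.Lib.Coprime.Commutator
import Cfsg.Agent.Lib.Coprime.Sylow
import Cfsg.Agent.Lib.Involution.BaerSuzuki

/-!
# Members of a good element: basic facts
-/

set_option autoImplicit false
set_option linter.style.haveILetI false

set_option linter.unusedSectionVars false

namespace Cfsg.Agent.TwoGenSolvable

open Subgroup
open scoped commutatorElement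

universe u

variable {G : Type u} [Group G] [Finite G] {p q s : ℕ} {x z : G} {B : Subgroup G}

/-! ### Generalities -/

theorem pow_dvd_orderOf {a : G} {n : ℕ} (h : a ^ n = 1) : orderOf a ∣ n := orderOf_dvd_of_pow_eq_one h

theorem map_pCoreOf_le (e : MulAut G) (H : Subgroup G) :
    (Cfsg.pCoreOf q H).map e.toMonoidHom ≤ Cfsg.pCoreOf q (H.map e.toMonoidHom) :=
  PCore.le_pCoreOf (map_mono (PCore.pCoreOf_le H)) ((PCore.isPGroup_pCoreOf H).map _)
    ((map_mono (PCore.le_normalizer_pCoreOf H)).trans (le_normalizer_map _))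

theorem map_ppOf (r : ℕ) (e : MulAut G) (H : Subgroup G) :
    ppOf r (H.map e.toMonoidHom) = (ppOf r H).map e.toMonoidHom := by
  have key : ∀ (e : MulAut G) (H : Subgroup G), (ppOf r H).map e.toMonoidHom ≤ ppOf r (H.map e.toMonoidHom) :=
    fun e H => le_ppOf (map_mono (ppOf_le r H))
      (by rw [card_map_of_injective e.injective]; exact coprime_card_ppOf r H)
      ((map_mono (le_normalizer_ppOf r H)).trans (le_normalizer_map _))
  refine le_antisymm ?_ (key e H)
  intro g hg
  have h1 := key e⁻¹ (H.map e.toMonoidHom) ⟨g, hg, rfl⟩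
  have e1 : (H.map e.toMonoidHom).map (e⁻¹ : MulAut G).toMonoidHom = H := by
    rw [map_map, show (e⁻¹ : MulAut G).toMonoidHom.comp e.toMonoidHom = MonoidHom.id G from
      MonoidHom.ext fun a => e.symm_apply_apply a, map_id]
  rw [e1] at h1
  exact ⟨_, h1, e.apply_symm_apply g⟩

theorem mem_pPrimePCore_congr {X Y : Type u} [Group X] [Group Y] (r : ℕ) (e : X ≃* Y) {a : X}
    (ha : a ∈ Cfsg.pPrimePCore r X) : e a ∈ Cfsg.pPrimePCore r Y :=
  (PCore.mem_pCore_congr (QuotientGroup.congr (Cfsg.pPrimeCore r X) (Cfsg.pPrimeCore r Y) e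
    (PCore.map_pPrimeCore_mulEquiv e))).2 ha

theorem coprime_of_pgroup {s r : ℕ} (hs : s.Prime) (hr : r.Prime) (hsr : s ≠ r) {B : Subgroup G}
    (hB : IsPGroup s B) : (Nat.card B).Coprime r := by
  haveI := Fact.mk hs
  obtain ⟨n, hn⟩ := IsPGroup.iff_card.1 hB
  rw [hn]
  exact ((Nat.coprime_primes hs hr).2 hsr).pow_left n

theorem mem_closure_pair_commute (hxz : x * z = z * x) {c : G} (hc : c ∈ closure ({x, z} : Set G)) :
    c * x = x * c ∧ c * z = z * c := by
  induction hc using closure_induction with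
  | mem y hy =>
    rcases hy with rfl | rfl
    · exact ⟨rfl, hxz⟩
    · exact ⟨hxz.symm, rfl⟩
  | one => simp
  | mul a b _ _ ha hb => exact ⟨((show Commute a x from ha.1).mul_left hb.1).eq, ((show Commute a z from ha.2).mul_left hb.2).eq⟩
  | inv a _ ha => exact ⟨((show Commute a x from ha.1).inv_left).eq, ((show Commute a z from ha.2).inv_left).eq⟩

theorem QCtx.coprime_pq (h : QCtx p q x z) {n : ℕ} (hp : n.Coprime p) (hq : n.Coprime q) :
    (Nat.card (closure ({x, z} : Set G))).Coprime n := by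
  refine Nat.coprime_of_dvd fun r hr hrA hrn => ?_
  haveI := Fact.mk hr
  obtain ⟨c, hc⟩ := exists_prime_orderOf_dvd_card' (G := closure ({x, z} : Set G)) r hrA
  have hall : ∀ c ∈ closure ({x, z} : Set G), Commute c x ∧ Commute c z ∧ c ^ (p * q) = 1 := by
    intro c hc
    induction hc using closure_induction with
    | mem y hy =>
      rcases hy with rfl | rfl
      · exact ⟨Commute.refl y, h.commute, by rw [pow_mul, ← h.order_x, pow_orderOf_eq_one, one_pow]⟩
      · exact ⟨h.commute.symm, Commute.refl y, by rw [mul_comm, pow_mul, ← h.order_z, pow_orderOf_eq_one, one_pow]⟩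
    | one => exact ⟨Commute.one_left _, Commute.one_left _, one_pow _⟩
    | mul a b ha' hb' ha hb =>
      refine ⟨ha.1.mul_left hb.1, ha.2.1.mul_left hb.2.1, ?_⟩
      have hab : Commute a b := by
        clear ha hb
        induction hb' using closure_induction with
        | mem y hy =>
          rcases hy with rfl | rfl
          · exact ((mem_closure_pair_commute h.commute ha').1 : _)
          · exact ((mem_closure_pair_commute h.commute ha').2 : _)
        | one => exact Commute.one_right _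
        | mul _ _ _ _ h1 h2 => exact h1.mul_right h2
        | inv _ _ h1 => exact h1.inv_right
      rw [hab.mul_pow, ha.2.2, hb.2.2, one_mul]
    | inv a _ ha => exact ⟨ha.1.inv_left, ha.2.1.inv_left, by rw [inv_pow, ha.2.2, inv_one]⟩
  have h1 : r ∣ p * q := by
    rw [← hc, ← orderOf_submonoid]
    exact orderOf_dvd_of_pow_eq_one (hall c c.2).2.2
  rcases hr.dvd_mul.1 h1 with hd | hd
  · rw [(Nat.prime_dvd_prime_iff_eq hr h.prime).1 hd] at hrn
    exact h.prime.not_dvd_one (hp.gcd_eq_one ▸ Nat.dvd_gcd hrn dvd_rfl)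
  · rw [(Nat.prime_dvd_prime_iff_eq hr h.qprime).1 hd] at hrn
    exact h.qprime.not_dvd_one (hq.gcd_eq_one ▸ Nat.dvd_gcd hrn dvd_rfl)

theorem closure_pair_le_normalizer {B : Subgroup G} (hx : x ∈ normalizer (B : Set G))
    (hz : z ∈ normalizer (B : Set G)) : closure ({x, z} : Set G) ≤ normalizer (B : Set G) := by
  rw [closure_le]
  rintro y (rfl | rfl)
  · exact hx
  · exact hz

theorem QCtx.closure_pair_solvable (h : QCtx p q x z) : Group.IsSolvable (closure ({x, z} : Set G)) :=
  h.proper _ (h.pair x z)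

theorem commutator_zpowers_le {B : Subgroup G} (hzB : z ∈ normalizer (B : Set G)) :
    ⁅B, zpowers z⁆ ≤ B :=
  Coprime.commutator_le_left_of_le_normalizer (zpowers_le.2 hzB)

theorem mem_normalizer_commutator {B : Subgroup G} {u : G} (hu : u ∈ normalizer (B : Set G))
    (huz : Commute u z) : u ∈ normalizer ((⁅B, zpowers z⁆ : Subgroup G) : Set G) := by
  refine mem_normalizer_iff_map_conj_eq.2 ?_
  rw [map_commutator, mem_normalizer_iff_map_conj_eq.1 hu, MonoidHom.map_zpowers]
  congr 2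
  exact mul_inv_eq_iff_eq_mul.2 huz.eq

/-- `z` is a proper non-trivial element. -/
theorem QCtx.z_ne_one (h : QCtx p q x z) : z ≠ 1 := by
  intro e
  exact h.qprime.ne_one (by rw [← h.order_z, e, orderOf_one])

/-- Some element generates a subgroup containing `x` and `z`: every `g` lies in a solvable subgroup with them. -/
theorem QCtx.exists_solvable (h : QCtx p q x z) (g : G) :
    ∃ H : Subgroup G, Group.IsSolvable H ∧ x ∈ H ∧ z ∈ H ∧ g ∈ H ∧ H ≠ ⊤ := by
  by_cases hqp : q = p
  · obtain rfl := h.z_eq_x hqp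
    exact ⟨closure {z, g}, h.proper _ (h.pair z g), subset_closure (by simp), subset_closure (by simp),
      subset_closure (by simp), h.pair z g⟩
  · have hxg : x * z ∈ closure ({x * z, g} : Set G) := subset_closure (by simp)
    have hxp : x ^ p = 1 := h.order_x ▸ pow_orderOf_eq_one x
    have hzq : z ^ q = 1 := h.order_z ▸ pow_orderOf_eq_one z
    have hc : Commute x z := h.commute
    have hcop : q.Coprime p := (Nat.coprime_primes h.qprime h.prime).2 hqp
    have hx : x ∈ closure ({x * z, g} : Set G) := by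
      obtain ⟨m, hm⟩ := exists_pow_eq_self_of_coprime (x := x) (n := q) (by rwa [h.order_x])
      have := pow_mem (pow_mem hxg q) m
      rwa [hc.mul_pow, hzq, mul_one, hm] at this
    have hz : z ∈ closure ({x * z, g} : Set G) := by
      have := mul_mem (inv_mem hx) hxg
      rwa [inv_mul_cancel_left] at this
    exact ⟨_, h.proper _ (h.pair _ g), hx, hz, subset_closure (by simp), h.pair _ g⟩

theorem QCtx.solvable_centralizer_z (h : QCtx p q x z) :
    Group.IsSolvable ↥(centralizer ({z} : Set G)) ∧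
      Group.IsSolvable ↥(normalizer (zpowers z : Set G)) := by
  have hne : zpowers z ≠ ⊥ := fun e => h.z_ne_one (zpowers_eq_bot.1 e)
  haveI := Fact.mk h.qprime
  have hzp : IsPGroup q (zpowers z) := IsPGroup.of_card (n := 1) (by rw [Nat.card_zpowers, pow_one, h.order_z])
  have h1 := h.toMinCE.ne_top_of_normalizer hzp.isNilpotent hne
  refine ⟨h.proper _ fun e => h1 (top_le_iff.1 ?_), h.proper _ h1⟩
  rw [← e, zpowers_eq_closure, ← centralizer_closure]
  exact centralizer_le_normalizer _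

theorem ZCtx.conj (h : ZCtx p q x z) (g : G) : ZCtx p q (g * x * g⁻¹) (g * z * g⁻¹) := by
  set e : MulAut G := MulAut.conj g with he
  have hC : (centralizer ({x} : Set G)).map e.toMonoidHom = centralizer ({g * x * g⁻¹} : Set G) := by
    ext y
    constructor
    · rintro ⟨c, hc, rfl⟩
      have hc' := mem_centralizer_singleton_iff.1 hc
      refine mem_centralizer_singleton_iff.2 ?_
      show e c * e x = e x * e c
      rw [← map_mul, ← map_mul, hc']
    · intro hy
      refine ⟨e.symm y, mem_centralizer_singleton_iff.2 ?_, e.apply_symm_apply y⟩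
      have := mem_centralizer_singleton_iff.1 hy
      apply e.injective
      rw [map_mul, map_mul, e.apply_symm_apply]
      exact this
  refine ⟨⟨h.toXCtx.conj g, h.qprime, ?_, ?_, ?_, ?_⟩, ?_⟩
  · rw [show g * z * g⁻¹ = e z from rfl, MulEquiv.orderOf_eq]
    exact h.order_z
  · rw [← hC]
    exact map_pCoreOf_le e _ ⟨z, h.z_mem, rfl⟩
  · intro d hd
    rw [← hC] at hd
    have hb := map_pCoreOf_le e⁻¹ _ ⟨d, hd, rfl⟩
    rw [map_map, show (e⁻¹ : MulAut G).toMonoidHom.comp e.toMonoidHom = MonoidHom.id G from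
      MonoidHom.ext fun a => e.symm_apply_apply a, map_id] at hb
    have h1 : z * e.symm d = e.symm d * z := h.z_central _ hb
    have h2 := congrArg e h1
    rw [map_mul, map_mul, e.apply_symm_apply] at h2
    exact h2
  · intro hqp
    rw [h.z_eq_x hqp]
  · intro H hH hx hz
    set H₀ := H.map (e⁻¹ : MulAut G).toMonoidHom with hH₀
    have hback : H₀.map e.toMonoidHom = H := by
      rw [hH₀, map_map, show e.toMonoidHom.comp (e⁻¹ : MulAut G).toMonoidHom = MonoidHom.id G from
        MonoidHom.ext fun a => e.apply_symm_apply a, map_id]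
    haveI := hH
    obtain ⟨g1, g2⟩ := h.good H₀
      (Group.isSolvable_of_surjective
        (f := (H.equivMapOfInjective (e⁻¹ : MulAut G).toMonoidHom (e⁻¹ : MulAut G).injective).toMonoidHom)
        (H.equivMapOfInjective (e⁻¹ : MulAut G).toMonoidHom (e⁻¹ : MulAut G).injective).surjective)
      ⟨_, hx, e.symm_apply_apply x⟩ ⟨_, hz, e.symm_apply_apply z⟩
    have hΘ : (ppOf p H₀).map e.toMonoidHom = ppOf p H := by rw [← map_ppOf, hback]
    refine ⟨fun hqp => ?_, fun r hr hrq W hW hm hWr => ?_⟩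
    · obtain ⟨y, hy, hyz⟩ := g1 hqp
      let ε : ppOf p H₀ ≃* ppOf p H :=
        ((ppOf p H₀).equivMapOfInjective e.toMonoidHom e.injective).trans (MulEquiv.subgroupCongr hΘ)
      refine ⟨ε y, mem_pPrimePCore_congr q ε hy, ?_⟩
      show e (y : G) = _
      rw [show (y : G) = z from hyz]
      rfl
    · have hW₀ : W.map (e⁻¹ : MulAut G).toMonoidHom ≤ ppOf p H₀ := by
        rw [map_ppOf]
        exact map_mono hW
      have hm₀ : IsMoved x z (W.map (e⁻¹ : MulAut G).toMonoidHom) := by
        refine ⟨?_, ?_, ?_⟩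
        · exact le_normalizer_map _ ⟨_, hm.x_norm, e.symm_apply_apply x⟩
        · exact le_normalizer_map _ ⟨_, hm.z_norm, e.symm_apply_apply z⟩
        · rw [show zpowers z = (zpowers (g * z * g⁻¹)).map (e⁻¹ : MulAut G).toMonoidHom by
            rw [MonoidHom.map_zpowers]; congr 1; exact (e.symm_apply_apply z).symm, ← map_commutator, hm.eq]
      have h3 := g2 r hr hrq _ hW₀ hm₀ (hWr.map _)
      intro w hw
      have h4 := map_pCoreOf_le e _ ⟨_, h3 ⟨w, hw, rfl⟩, rfl⟩
      rw [hΘ] at h4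
      rwa [show e.toMonoidHom ((e⁻¹ : MulAut G).toMonoidHom w) = w from e.apply_symm_apply w] at h4

theorem IsMember.conj (hB : IsMember q x z s B) (g : G) :
    IsMember q (g * x * g⁻¹) (g * z * g⁻¹) s (B.map (MulAut.conj g).toMonoidHom) := by
  set e : MulAut G := MulAut.conj g
  refine ⟨hB.sprime, hB.ne_q, ?_, hB.pgroup.map _, le_normalizer_map _ ⟨x, hB.moved.x_norm, rfl⟩,
    le_normalizer_map _ ⟨z, hB.moved.z_norm, rfl⟩, ?_⟩
  · exact fun hb => hB.ne_bot ((map_eq_bot_iff_of_injective _ e.injective).1 hb)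
  · rw [show zpowers (g * z * g⁻¹) = (zpowers z).map e.toMonoidHom by rw [MonoidHom.map_zpowers]; rfl,
      ← map_commutator, hB.moved.eq]

theorem IsMember.ne_top (h : QCtx p q x z) (hB : IsMember q x z s B) :
    normalizer (B : Set G) ≠ ⊤ ∧ Group.IsSolvable ↥(normalizer (B : Set G)) := by
  haveI := Fact.mk hB.sprime
  have h1 := h.toMinCE.ne_top_of_normalizer hB.pgroup.isNilpotent hB.ne_bot
  exact ⟨h1, h.proper _ h1⟩

theorem IsMember.ne_p (h : QCtx p q x z) (hB : IsMember q x z s B) : s ≠ p := by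
  rintro rfl
  refine hB.ne_bot ?_
  have hqs : q ≠ s := fun e => hB.ne_q e.symm
  have hN := (hB.ne_top h).2
  have hzT : z ∈ ppOf s (normalizer (B : Set G)) :=
    h.pCoreOf_inf_le hqs hN hB.moved.x_norm ⟨h.z_mem, hB.moved.z_norm⟩
  rw [eq_bot_iff, ← PCore.eq_bot_of_isPGroup_of_coprime
    (A := B ⊓ ppOf s (normalizer (B : Set G))) (p := s) (hB.pgroup.to_le inf_le_left)
    ((coprime_card_ppOf s _).coprime_dvd_left (card_dvd_of_le inf_le_right))]
  conv_lhs => rw [← hB.moved.eq]
  rw [commutator_le]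
  rintro b hb c hc
  refine mem_inf.2 ⟨(commutator_zpowers_le hB.moved.z_norm) (commutator_mem_commutator hb hc), ?_⟩
  have hcT : c ∈ ppOf s (normalizer (B : Set G)) := zpowers_le.2 hzT hc
  rw [commutatorElement_def]
  exact mul_mem ((mem_normalizer_iff.1 (le_normalizer_ppOf s _ (le_normalizer hb)) c).1 hcT) (inv_mem hcT)

theorem IsMember.centralizer_x_le (h : QCtx p q x z) (hB : IsMember q x z s B) :
    ∀ b ∈ B, x * b = b * x → z * b = b * z := by
  intro b hb hxb
  haveI := Fact.mk hB.sprime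
  haveI := Fact.mk h.qprime
  have hbC : b ∈ centralizer ({x} : Set G) := mem_centralizer_singleton_iff.2 hxb.symm
  have h1 : z * b * z⁻¹ * b⁻¹ ∈ B := mul_mem ((mem_normalizer_iff.1 hB.moved.z_norm b).1 hb) (inv_mem hb)
  have h2 : z * b * z⁻¹ * b⁻¹ ∈ Cfsg.pCoreOf q (centralizer ({x} : Set G)) := by
    rw [show z * b * z⁻¹ * b⁻¹ = z * (b * z⁻¹ * b⁻¹) by group]
    exact mul_mem h.z_mem ((mem_normalizer_iff.1 (PCore.le_normalizer_pCoreOf _ hbC) _).1 (inv_mem h.z_mem))
  have h3 := (IsPGroup.disjoint_of_ne s q hB.ne_q B _ hB.pgroup (PCore.isPGroup_pCoreOf _)).le_bot ⟨h1, h2⟩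
  rw [mem_bot, mul_inv_eq_one, mul_inv_eq_iff_eq_mul] at h3
  exact h3

/-- `x` moves a member too. -/
theorem IsMember.commutator_x (h : QCtx p q x z) (hB : IsMember q x z s B) : ⁅B, zpowers x⁆ = B := by
  have hxn := hB.moved.x_norm
  have hcop : (Nat.card (zpowers x)).Coprime (Nat.card B) := by
    rw [Nat.card_zpowers, h.order_x]
    exact (coprime_of_pgroup hB.sprime h.prime (hB.ne_p h) hB.pgroup).symm
  have hle : ⁅B, zpowers x⁆ ≤ B := commutator_zpowers_le hxn
  refine le_antisymm hle ?_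
  have hzM : z ∈ normalizer ((⁅B, zpowers x⁆ : Subgroup G) : Set G) :=
    mem_normalizer_commutator hB.moved.z_norm h.commute.symm
  have hBM : B ≤ normalizer ((⁅B, zpowers x⁆ : Subgroup G) : Set G) := by
    have key : ∀ b ∈ B, ∀ m ∈ ⁅B, zpowers x⁆, b * m * b⁻¹ ∈ ⁅B, zpowers x⁆ := by
      intro b hb m hm
      have hle' : ⁅B, zpowers x⁆ ≤ (⁅B, zpowers x⁆ : Subgroup G).comap (MulAut.conj b).toMonoidHom := by
        rw [commutator_le]
        intro a ha c hc
        show b * ⁅a, c⁆ * b⁻¹ ∈ ⁅B, zpowers x⁆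
        rw [show b * ⁅a, c⁆ * b⁻¹ = ⁅b * a, c⁆ * ⁅b, c⁆⁻¹ by
          simp only [commutatorElement_def]; group]
        exact mul_mem (commutator_mem_commutator (mul_mem hb ha) hc) (inv_mem (commutator_mem_commutator hb hc))
      exact hle' hm
    intro b hb
    refine mem_normalizer_iff.2 fun m => ⟨key b hb m, fun hm => ?_⟩
    have := key b⁻¹ (inv_mem hb) _ hm
    simpa [mul_assoc] using this
  conv_lhs => rw [← hB.moved.eq]
  rw [commutator_le]
  rintro b hb _ ⟨i, rfl⟩
  haveI : Group.IsSolvable (zpowers x) := inferInstance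
  obtain ⟨c, hc, m, hm, rfl⟩ := Coprime.exists_centralizer_mul_commutator (A := zpowers x) (zpowers_le.2 hxn) hcop
    (Or.inl inferInstance) hb
  have hcx : x * c = c * x := mem_centralizer_iff.1 hc.2 x (mem_zpowers x)
  have hcz : Commute z c := hB.centralizer_x_le h c hc.1 hcx
  have hzi : z ^ i ∈ normalizer ((⁅B, zpowers x⁆ : Subgroup G) : Set G) := zpow_mem hzM i
  show ⁅c * m, z ^ i⁆ ∈ _
  rw [commutatorElement_def, show c * m * z ^ i * (c * m)⁻¹ * (z ^ i)⁻¹ =
    c * (m * (z ^ i * m⁻¹ * (z ^ i)⁻¹)) * (z ^ i * c⁻¹ * (z ^ i)⁻¹) by group,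
    show z ^ i * c⁻¹ * (z ^ i)⁻¹ = c⁻¹ from mul_inv_eq_iff_eq_mul.2 ((hcz.inv_right.zpow_left i).eq)]
  exact (mem_normalizer_iff.1 (hBM hc.1) _).1
    (mul_mem hm ((mem_normalizer_iff.1 hzi _).1 (inv_mem hm)))

/-- Moved parts of `s`-subgroups normalised by `x` and `z` are members. -/
theorem isMember_commutator (h : QCtx p q x z) (hs : s.Prime) (hsq : s ≠ q) {R : Subgroup G}
    (hR : IsPGroup s R) (hxR : x ∈ normalizer (R : Set G)) (hzR : z ∈ normalizer (R : Set G))
    (hne : ⁅R, zpowers z⁆ ≠ ⊥) : IsMember q x z s ⁅R, zpowers z⁆ := by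
  haveI := Fact.mk hs
  have hcop : (Nat.card (zpowers z)).Coprime (Nat.card R) := by
    rw [Nat.card_zpowers, h.order_z]
    exact (coprime_of_pgroup hs h.qprime hsq hR).symm
  exact ⟨hs, hsq, hne, hR.to_le (commutator_zpowers_le hzR), mem_normalizer_commutator hxR h.commute,
    mem_normalizer_commutator hzR rfl,
    Coprime.commutator_commutator_eq (zpowers_le.2 hzR) hcop (Or.inl inferInstance)⟩

/-- `z` lies in `O_{q',q}(O_{p'}(H))` (`q ≠ p`): this is the first half of `Good`. -/
theorem ZCtx.pow_mem_core (h : ZCtx p q x z) (hqp : q ≠ p) {H : Subgroup G} (hH : Group.IsSolvable H)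
    (hx : x ∈ H) (hz : z ∈ H) :
    ∃ N : Subgroup G, N ≤ ppOf p H ∧ ppOf q (ppOf p H) ≤ N ∧ H ≤ normalizer (N : Set G) ∧ z ∈ N ∧
      ∀ n ∈ N, ∃ k, n ^ q ^ k ∈ ppOf q (ppOf p H) := by
  refine ⟨(Cfsg.pPrimePCore q (ppOf p H)).map (ppOf p H).subtype, map_subtype_le _,
    map_mono PCore.pPrimeCore_le_pPrimePCore,
    FixedDim.le_normalizer_map_char (le_normalizer_ppOf p H) _, (h.good H hH hx hz).1 hqp, ?_⟩
  rintro _ ⟨n, hn, rfl⟩
  obtain ⟨k, hk⟩ := pow_mem_of_mem_pPrimePCore hn
  exact ⟨k, _, hk, map_pow _ _ _⟩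

/-- A moved `s`-subgroup normalised by `z` (not necessarily by `x`) lies in the `s`-core. -/
theorem ZCtx.le_core_of_zmoved (h : ZCtx p q x z) (hs : s.Prime) (hsq : s ≠ q) {H W : Subgroup G}
    (hH : Group.IsSolvable H) (hx : x ∈ H) (hz : z ∈ H) (hWH : W ≤ H) (hW : IsPGroup s W)
    (hzW : z ∈ normalizer (W : Set G)) (heq : ⁅W, zpowers z⁆ = W) :
    W ≤ Cfsg.pCoreOf s (ppOf p H) := by
  haveI := Fact.mk hs
  set O := ppOf q (ppOf p H) with hO
  have hWs : ∀ w ∈ W, ∀ t : ℕ, t.Prime → t ≠ s → (orderOf w).Coprime t := fun w hw t ht hts =>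
    coprime_orderOf_of_mem (coprime_of_pgroup hs ht (Ne.symm hts) hW) hw
  have hWO : W ≤ O := by
    by_cases hqp : q = p
    · have hzx := h.z_eq_x hqp
      have hsp : s ≠ p := hqp ▸ hsq
      have h1 := h.toXCtx.commutator_le_ppOf hH hx hWH (coprime_of_pgroup hs h.prime hsp hW) (hzx ▸ hzW)
      rw [← hzx, heq] at h1
      exact h1.trans (le_ppOf le_rfl (hqp ▸ coprime_card_ppOf p H) le_normalizer)
    · obtain ⟨N, hNT, -, hHN, hzN, hNp⟩ := h.pow_mem_core hqp hH hx hz
      intro w hw
      have hwN : w ∈ N := by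
        have hle : W ≤ N := by
          conv_lhs => rw [← heq]
          rw [commutator_le]
          rintro b hb c hc
          have hcN : c ∈ N := zpowers_le.2 hzN hc
          rw [commutatorElement_def]
          exact mul_mem ((mem_normalizer_iff.1 (hHN (hWH hb)) c).1 hcN) (inv_mem hcN)
        exact hle hw
      obtain ⟨k, hk⟩ := hNp w hwN
      obtain ⟨m, hm⟩ := exists_pow_eq_self_of_coprime (x := w)
        (Nat.Coprime.pow_left k (hWs w hw q h.qprime (Ne.symm hsq)).symm)
      rw [← hm]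
      exact pow_mem hk m
  have hHΘ := le_normalizer_ppOf p H
  have hHO : H ≤ normalizer (O : Set G) :=
    FixedDim.le_normalizer_map_char hHΘ (Cfsg.pPrimeCore q (ppOf p H))
  have hOT : O ≤ ppOf p H := ppOf_le q _
  have hcopO : ∀ A : Subgroup G, A ≤ closure ({x, z} : Set G) → (Nat.card A).Coprime (Nat.card O) := fun A hA =>
    Nat.Coprime.coprime_dvd_left (card_dvd_of_le hA) (h.toQCtx.coprime_pq
      ((coprime_card_ppOf p H).coprime_dvd_left (card_dvd_of_le hOT)) (coprime_card_ppOf q _))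
  have hA : closure ({x, z} : Set G) ≤ normalizer (O : Set G) :=
    closure_pair_le_normalizer (hHO hx) (hHO hz)
  haveI := h.toQCtx.closure_pair_solvable
  obtain ⟨T, hT⟩ := Coprime.exists_invariant_sylow hA (hcopO _ le_rfl) (Or.inl inferInstance) s
  have hzA : zpowers z ≤ closure ({x, z} : Set G) := zpowers_le.2 (subset_closure (by simp))
  obtain ⟨T₂, hWT, hT₂⟩ := Coprime.exists_invariant_sylow_ge (hzA.trans hA) (hcopO _ hzA) (Or.inl inferInstance)
    hWO hW (zpowers_le.2 hzW)
  obtain ⟨c, hcz, hcT⟩ := Coprime.exists_centralizer_smul_sylow (hzA.trans hA) (hcopO _ hzA) (Or.inl inferInstance)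
    T T₂ (hzA.trans hT) hT₂
  set T' := (T : Subgroup O).map O.subtype with hT'
  have hT₂eq : (T₂ : Subgroup O).map O.subtype = T'.map (MulAut.conj (c : G)).toMonoidHom := by
    rw [← hcT, Sylow.coe_subgroup_smul, Subgroup.pointwise_smul_def]
    ext y
    constructor
    · rintro ⟨_, ⟨t, ht, rfl⟩, rfl⟩
      exact ⟨_, ⟨t, ht, rfl⟩, rfl⟩
    · rintro ⟨_, ⟨t, ht, rfl⟩, rfl⟩
      exact ⟨_, ⟨t, ht, rfl⟩, rfl⟩
  rw [hT₂eq] at hWT
  have hxT : x ∈ normalizer (T' : Set G) := hT (subset_closure (by simp))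
  have hzT : z ∈ normalizer (T' : Set G) := hT (subset_closure (by simp))
  have hTs : IsPGroup s T' := T.2.map _
  have hT'O : T' ≤ O := map_subtype_le _
  have hmoved : IsMoved x z ⁅T', zpowers z⁆ := by
    refine ⟨mem_normalizer_commutator hxT h.toQCtx.commute, mem_normalizer_commutator hzT rfl, ?_⟩
    exact Coprime.commutator_commutator_eq (zpowers_le.2 hzT)
      (Nat.Coprime.coprime_dvd_right (card_dvd_of_le hT'O) (hcopO _ hzA)) (Or.inl inferInstance)
  have hgood := (h.good H hH hx hz).2 s hs hsq _ ((commutator_zpowers_le hzT).trans (hT'O.trans hOT)) hmoved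
    (hTs.to_le (commutator_zpowers_le hzT))
  intro w hw
  rw [← heq] at hw
  have h1 := commutator_mono hWT (le_refl (zpowers z)) hw
  have hzc : (zpowers z).map (MulAut.conj (c : G)).toMonoidHom = zpowers z := by
    rw [MonoidHom.map_zpowers]
    congr 1
    exact mul_inv_eq_iff_eq_mul.2 (mem_centralizer_iff.1 hcz z (mem_zpowers z)).symm
  rw [← hzc, ← map_commutator] at h1
  obtain ⟨t, ht, rfl⟩ := h1
  exact (mem_normalizer_iff.1 (PCore.le_normalizer_pCoreOf _ (hOT c.2)) t).1 (hgood ht)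

/-- A member inside a solvable subgroup containing `x` and `z` lies in the member cut out by its `s`-core. -/
theorem IsMember.le_core (h : ZCtx p q x z) (hB : IsMember q x z s B) {H : Subgroup G}
    (hH : Group.IsSolvable H) (hx : x ∈ H) (hz : z ∈ H) (hBH : B ≤ H) :
    B ≤ ⁅Cfsg.pCoreOf s (ppOf p H), zpowers z⁆ ∧
      IsMember q x z s ⁅Cfsg.pCoreOf s (ppOf p H), zpowers z⁆ := by
  haveI := Fact.mk hB.sprime
  have h1 := h.le_core_of_zmoved hB.sprime hB.ne_q hH hx hz hBH hB.pgroup hB.moved.z_norm hB.moved.eq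
  have h2 : B ≤ ⁅Cfsg.pCoreOf s (ppOf p H), zpowers z⁆ := by
    conv_lhs => rw [← hB.moved.eq]
    exact commutator_mono h1 le_rfl
  have hn : H ≤ normalizer (Cfsg.pCoreOf s (ppOf p H) : Set G) :=
    FixedDim.le_normalizer_map_char (le_normalizer_ppOf p H) _
  exact ⟨h2, isMember_commutator h.toQCtx hB.sprime hB.ne_q (PCore.isPGroup_pCoreOf _) (hn hx) (hn hz)
    fun e => hB.ne_bot (le_bot_iff.1 (e ▸ h2))⟩

/-- Two members of different primes in a common solvable subgroup commute. -/
theorem IsMember.commute_of_le (h : ZCtx p q x z) {t : ℕ} {Y : Subgroup G} (hB : IsMember q x z s B)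
    (hY : IsMember q x z t Y) (hst : s ≠ t) {H : Subgroup G} (hH : Group.IsSolvable H) (hx : x ∈ H)
    (hz : z ∈ H) (hBH : B ≤ H) (hYH : Y ≤ H) : ∀ b ∈ B, ∀ y ∈ Y, b * y = y * b := by
  haveI := Fact.mk hB.sprime
  haveI := Fact.mk hY.sprime
  intro b hb y hy
  have hb1 := h.le_core_of_zmoved hB.sprime hB.ne_q hH hx hz hBH hB.pgroup hB.moved.z_norm hB.moved.eq hb
  have hy1 := h.le_core_of_zmoved hY.sprime hY.ne_q hH hx hz hYH hY.pgroup hY.moved.z_norm hY.moved.eq hy
  obtain ⟨b', hb', rfl⟩ := hb1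
  obtain ⟨y', hy', rfl⟩ := hy1
  exact congrArg Subtype.val (PCore.commute_of_normal_of_disjoint PCore.pCore_normal PCore.pCore_normal
    (PCore.pCore_disjoint_pCore hst) (a := b') (b := y') hb' hy')

/-- Members are generated by moved cyclically generated members: every member is the join of members generated
by the `⟨x, z⟩`-orbit of one element. -/
theorem IsMember.eq_iSup_cyclic (h : QCtx p q x z) (hB : IsMember q x z s B) :
    B ≤ ⨆ (v : G) (_ : v ∈ B ∧ IsMember q x z s
      (closure ((fun c => c * v * c⁻¹) '' (closure {x, z} : Subgroup G)))),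
      closure ((fun c => c * v * c⁻¹) '' (closure {x, z} : Subgroup G)) := by
  suffices ∀ n, ∀ B₁ : Subgroup G, Nat.card B₁ = n → IsMember q x z s B₁ → B₁ ≤ B →
      B₁ ≤ ⨆ (v : G) (_ : v ∈ B ∧ IsMember q x z s
        (closure ((fun c => c * v * c⁻¹) '' (closure {x, z} : Subgroup G)))),
        closure ((fun c => c * v * c⁻¹) '' (closure {x, z} : Subgroup G)) from this _ B rfl hB le_rfl
  intro n
  induction n using Nat.strong_induction_on with
  | _ n ih =>
    intro B₁ hn hB₁ hle
    subst hn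
    set A := closure ({x, z} : Set G) with hA
    have hAB : A ≤ normalizer (B₁ : Set G) := closure_pair_le_normalizer hB₁.moved.x_norm hB₁.moved.z_norm
    let U : G → Subgroup G := fun v => closure ((fun c => c * v * c⁻¹) '' (A : Set G))
    have hUle : ∀ b ∈ B₁, U b ≤ B₁ := fun b hb => by
      rw [closure_le]
      rintro _ ⟨c, hc, rfl⟩
      exact (mem_normalizer_iff.1 (hAB hc) b).1 hb
    have hUn : ∀ b, ∀ u ∈ A, u ∈ normalizer (U b : Set G) := by
      intro b u hu
      refine mem_normalizer_iff_map_conj_eq.2 ?_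
      rw [MonoidHom.map_closure]
      congr 1
      ext y
      constructor
      · rintro ⟨_, ⟨c, hc, rfl⟩, rfl⟩
        exact ⟨u * c, mul_mem hu hc, by simp [mul_assoc]⟩
      · rintro ⟨c, hc, rfl⟩
        exact ⟨_, ⟨u⁻¹ * c, mul_mem (inv_mem hu) hc, rfl⟩, by simp [mul_assoc]⟩
    have hUself : ∀ b, b ∈ U b := fun b => subset_closure ⟨1, one_mem _, by simp⟩
    by_cases hex : ∃ b ∈ B₁, ⁅U b, zpowers z⁆ = B₁
    · obtain ⟨b, hb, he⟩ := hex
      have hU : U b = B₁ := le_antisymm (hUle b hb)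
        (he ▸ commutator_zpowers_le (hUn b z (subset_closure (by simp))))
      exact le_trans (le_of_eq hU.symm) (le_iSup₂_of_le b ⟨hle hb, show IsMember q x z s (U b) from hU.symm ▸ hB₁⟩ le_rfl)
    · push Not at hex
      conv_lhs => rw [← hB₁.moved.eq]
      rw [commutator_le]
      intro b hb c hc
      have hin : ⁅b, c⁆ ∈ ⁅U b, zpowers z⁆ := commutator_mem_commutator (hUself b) hc
      by_cases hne : ⁅U b, zpowers z⁆ = ⊥
      · rw [hne, mem_bot] at hin
        rw [hin]
        exact one_mem _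
      have hsub : ⁅U b, zpowers z⁆ ≤ B₁ :=
        (commutator_zpowers_le (hUn b z (subset_closure (by simp)))).trans (hUle b hb)
      refine ih _ ?_ _ rfl (isMember_commutator h hB₁.sprime hB₁.ne_q (hB₁.pgroup.to_le (hUle b hb))
        (hUn b x (subset_closure (by simp))) (hUn b z (subset_closure (by simp))) hne) (hsub.trans hle) hin
      refine lt_of_le_of_ne (card_le_of_le hsub) fun e => hex b hb ?_
      exact eq_of_le_of_card_ge hsub e.ge

/-- If `v` generates a member `B` under `⟨x, z⟩`, then every subgroup containing `x`, `z` and all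
`[v, z ^ i]` contains `B`. -/
theorem IsMember.le_of_commutators (hB : IsMember q x z s B) {v : G}
    (hv : B = closure ((fun c => c * v * c⁻¹) '' (closure {x, z} : Subgroup G))) (hxz : x * z = z * x)
    {H : Subgroup G} (hx : x ∈ H) (hz : z ∈ H) (hcomm : ∀ i : ℕ, ⁅v, z ^ i⁆ ∈ H) : B ≤ H := by
  haveI := Fact.mk hB.sprime
  set A := closure ({x, z} : Set G) with hA
  have hAH : A ≤ H := by
    rw [hA, closure_le]
    rintro y (rfl | rfl)
    · exact hx
    · exact hz
  have hAB : A ≤ normalizer (B : Set G) := closure_pair_le_normalizer hB.moved.x_norm hB.moved.z_norm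
  have hvB : v ∈ B := hv ▸ subset_closure ⟨1, one_mem _, by simp⟩
  suffices hne : (H ⊓ B).subgroupOf B = ⊤ by
    intro b hb
    have h1 : (⟨b, hb⟩ : B) ∈ (H ⊓ B).subgroupOf B := hne.symm ▸ mem_top _
    exact (mem_inf.1 (mem_subgroupOf.1 h1)).1
  by_contra hne
  haveI : Group.IsNilpotent B := hB.pgroup.isNilpotent
  obtain ⟨K, hK, hMK⟩ := (eq_top_or_exists_le_coatom _).resolve_left hne
  have hKn : K.Normal := Subgroup.NormalizerCondition.normal_of_coatom K Group.normalizerCondition_of_isNilpotent hK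
  have hc : ∀ (c : G), c ∈ A → ∀ i : ℕ, ∀ hm : ⁅c * v * c⁻¹, z ^ i⁆ ∈ B, (⟨_, hm⟩ : B) ∈ K := by
    intro c hcA i hm
    refine hMK (mem_subgroupOf.2 (mem_inf.2 ⟨?_, hm⟩))
    have hcz : Commute c (z ^ i) := (show Commute c z from (mem_closure_pair_commute hxz hcA).2).pow_right i
    show ⁅c * v * c⁻¹, z ^ i⁆ ∈ H
    have h1 := mul_mem (mul_mem (hAH hcA) (hcomm i)) (inv_mem (hAH hcA))
    rwa [show ⁅c * v * c⁻¹, z ^ i⁆ = c * ⁅v, z ^ i⁆ * c⁻¹ by
      conv_lhs => rw [show z ^ i = c * z ^ i * c⁻¹ from (mul_inv_eq_iff_eq_mul.2 hcz.eq).symm]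
      rw [commutatorElement_def, commutatorElement_def]
      group]
  have hzn : ∀ i : ℕ, z ^ i ∈ normalizer (B : Set G) := fun i => pow_mem hB.moved.z_norm i
  have hmem : ∀ (b : G) (i : ℕ), b ∈ B → ⁅b, z ^ i⁆ ∈ B := fun b i hb => by
    rw [commutatorElement_def, show b * z ^ i * b⁻¹ * (z ^ i)⁻¹ = b * (z ^ i * b⁻¹ * (z ^ i)⁻¹) by group]
    exact mul_mem hb ((mem_normalizer_iff.1 (hzn i) _).1 (inv_mem hb))
  let S : Subgroup B :=
    { carrier := {b | ∀ i : ℕ, (⟨⁅(b : G), z ^ i⁆, hmem b i b.2⟩ : B) ∈ K}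
      one_mem' := fun i => by
        convert one_mem K
        exact commutatorElement_one_left _
      mul_mem' := fun {a b} ha hb i => by
        convert mul_mem (hKn.conj_mem _ (hb i) a) (ha i) using 1
        refine Subtype.ext ?_
        simp only [Subgroup.coe_mul, InvMemClass.coe_inv, commutatorElement_def]
        group
      inv_mem' := fun {a} ha i => by
        convert hKn.conj_mem _ (inv_mem (ha i)) a⁻¹ using 1
        refine Subtype.ext ?_
        simp only [Subgroup.coe_mul, InvMemClass.coe_inv, commutatorElement_def]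
        group }
  have hS : B ≤ S.map B.subtype := by
    conv_lhs => rw [hv]
    rw [closure_le]
    rintro _ ⟨c, hcA, rfl⟩
    exact ⟨⟨_, (mem_normalizer_iff.1 (hAB hcA) v).1 hvB⟩, fun i => hc c hcA i _, rfl⟩
  have hBK : B ≤ K.map B.subtype := by
    conv_lhs => rw [← hB.moved.eq]
    rw [commutator_le]
    intro b hb c hc'
    have hzfin : IsOfFinOrder z := isOfFinOrder_of_finite z
    obtain ⟨i, rfl⟩ := hzfin.mem_powers_iff_mem_zpowers.2 hc'
    obtain ⟨b', hb', rfl⟩ := hS hb
    exact ⟨_, hb' i, rfl⟩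
  refine hK.1 ((eq_top_iff' _).2 fun b => ?_)
  obtain ⟨b', hb', he⟩ := hBK b.2
  rwa [← Subtype.ext he]

/-- There are members. -/
theorem ZCtx.exists_member (h : ZCtx p q x z) : ∃ (s : ℕ) (B : Subgroup G), IsMember q x z s B := by
  haveI := Fact.mk h.qprime
  by_contra hno
  push Not at hno
  have hz1 : ∀ g : G, IsPGroup q (closure ({z, g * z * g⁻¹} : Set G)) := by
    intro g
    obtain ⟨H, hH, hx, hz, hg, -⟩ := h.toQCtx.exists_solvable g
    set O := ppOf q (ppOf p H) with hO
    have hzg : g * z * g⁻¹ ∈ H := mul_mem (mul_mem hg hz) (inv_mem hg)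
    -- the subgroup `N`
    obtain ⟨N, hHN, hzN, hON, hNp⟩ : ∃ N : Subgroup G, H ≤ normalizer (N : Set G) ∧ z ∈ N ∧ O ≤ N ∧
        ∀ n ∈ N, ∃ k, n ^ q ^ k ∈ O := by
      by_cases hqp : q = p
      · subst hqp
        obtain ⟨N, -, hθN, hHN, hxN, hNp⟩ := h.toXCtx.pow_mem_ppOf hH hx
        refine ⟨N, hHN, h.z_eq_x rfl ▸ hxN, (ppOf_le q _).trans hθN, fun n hn => ?_⟩
        obtain ⟨k, hk⟩ := hNp n hn
        exact ⟨k, le_ppOf le_rfl (coprime_card_ppOf q H) le_normalizer hk⟩
      · obtain ⟨N, -, hON, hHN, hzN, hNp⟩ := h.pow_mem_core hqp hH hx hz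
        exact ⟨N, hHN, hzN, hON, hNp⟩
    -- `z` centralises `O`
    have hHΘ := le_normalizer_ppOf p H
    have hHO : H ≤ normalizer (O : Set G) :=
      FixedDim.le_normalizer_map_char hHΘ (Cfsg.pPrimeCore q (ppOf p H))
    have hA : closure ({x, z} : Set G) ≤ normalizer (O : Set G) :=
      closure_pair_le_normalizer (hHO hx) (hHO hz)
    have hOp : (Nat.card O).Coprime p := (coprime_card_ppOf p H).coprime_dvd_left (card_dvd_of_le (ppOf_le q _))
    have hOq : (Nat.card O).Coprime q := coprime_card_ppOf q _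
    haveI := h.toQCtx.closure_pair_solvable
    have hcent : O ⊓ centralizer (zpowers z : Set G) = O := by
      refine Coprime.eq_of_forall_invariant_pgroup_le hA (h.toQCtx.coprime_pq hOp hOq) (Or.inl inferInstance)
        inf_le_left fun r P hr hP hPO hAP => le_inf hPO ?_
      by_cases hP1 : P = ⊥
      · rw [hP1]; exact bot_le
      haveI := Fact.mk hr
      have hrq : r ≠ q := by
        rintro rfl
        exact hP1 (PCore.eq_bot_of_isPGroup_of_coprime hP (hOq.coprime_dvd_left (card_dvd_of_le hPO)))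
      refine commutator_eq_bot_iff_le_centralizer.1 (by_contra fun hne => hno r ⁅P, zpowers z⁆ ?_)
      exact isMember_commutator h.toQCtx hr hrq hP (hAP (subset_closure (by simp)))
        (hAP (subset_closure (by simp))) hne
    have hzO : ∀ u ∈ H, u * z * u⁻¹ ∈ centralizer (O : Set G) := by
      intro u hu
      refine mem_centralizer_iff.2 fun o ho => ?_
      have ho' : u⁻¹ * o * u ∈ O := by simpa using (mem_normalizer_iff.1 (hHO (inv_mem hu)) o).1 ho
      have h1 := mem_centralizer_iff.1 (mem_inf.1 (hcent.ge ho')).2 z (mem_zpowers z)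
      calc o * (u * z * u⁻¹) = u * ((u⁻¹ * o * u) * z) * u⁻¹ := by group
        _ = u * (z * (u⁻¹ * o * u)) * u⁻¹ := by rw [h1]
        _ = u * z * u⁻¹ * o := by group
    -- a nilpotent subgroup containing both
    set M := N ⊓ centralizer (O : Set G) with hM
    have hzM : z ∈ M := ⟨hzN, by simpa using hzO 1 (one_mem H)⟩
    have hzgM : g * z * g⁻¹ ∈ M := ⟨(mem_normalizer_iff.1 (hHN hg) z).1 hzN, hzO g hg⟩
    haveI hnil : Group.IsNilpotent M := by
      refine Group.of_quotient_center_nilpotent (IsPGroup.isNilpotent (p := q) ?_)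
      intro m
      induction m using QuotientGroup.induction_on with | _ m => ?_
      obtain ⟨k, hk⟩ := hNp m m.2.1
      refine ⟨k, ?_⟩
      rw [← QuotientGroup.mk_pow, QuotientGroup.eq_one_iff, mem_center_iff]
      intro y
      exact Subtype.ext (by
        simpa using (mem_centralizer_iff.1 y.2.2 _ hk).symm)
    have hle : ∀ u (hu : u ∈ M), u ^ q = 1 → u ∈ (Cfsg.pCore q M).map M.subtype := by
      intro u hu hq1
      have hup : IsPGroup q (zpowers (⟨u, hu⟩ : M)) := by
        rintro ⟨_, j, rfl⟩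
        refine ⟨1, Subtype.ext (Subtype.ext ?_)⟩
        simp only [pow_one, SubgroupClass.coe_pow, SubgroupClass.coe_zpow, OneMemClass.coe_one]
        rw [← zpow_natCast, ← zpow_mul, mul_comm, zpow_mul, zpow_natCast, hq1, one_zpow]
      obtain ⟨P, hP⟩ := hup.exists_le_sylow
      haveI := P.normal_of_normalizerCondition Group.normalizerCondition_of_isNilpotent
      exact ⟨⟨u, hu⟩, PCore.le_pCore P.2 (hP (mem_zpowers _)), rfl⟩
    have hzq : z ^ q = 1 := h.order_z ▸ pow_orderOf_eq_one z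
    refine ((PCore.isPGroup_pCore (G := M) (p := q)).map M.subtype).to_le ?_
    rw [closure_le]
    rintro y (rfl | rfl)
    · exact hle _ hzM hzq
    · exact hle _ hzgM (by rw [conj_pow, hzq, mul_one, mul_inv_cancel])
  have hN := Involution.baer_suzuki z hz1
  haveI := h.simple
  rcases (normalClosure_normal (s := ({z} : Set G))).eq_bot_or_eq_top with hb | ht
  · exact h.toQCtx.z_ne_one (by simpa [hb] using (subset_normalClosure rfl : z ∈ normalClosure ({z} : Set G)))
  · rw [ht] at hN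
    haveI : Group.IsNilpotent G := (hN.of_equiv topEquiv).isNilpotent
    exact h.not_solvable inferInstance

end Cfsg.Agent.TwoGenSolvable
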