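import Mathlib
import Cfsg.Agent.Lib.TwoGenSolvable.Pair
import Cfsg.Agent.Lib.TwoGenSolvable.SectAux
import Cfsg.Agent.Lib.TwoGenSolvable.MemberBasic

/-!
# Generation of moved pairs
-/

set_option autoImplicit false
set_option linter.style.haveILetI false

namespace Cfsg.Agent.TwoGenSolvable

open Subgroup
open scoped commutatorElement

universe u

variable {G : Type u} [Group G] [Finite G] {p q r : ℕ} {x z : G}

/-- The elements of `N(M)` whose commutators with `M` lie in `X`. -/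
def commInto (M X : Subgroup G) : Subgroup G :=
  let S : Submonoid G :=
    { carrier := {r | r ∈ normalizer (M : Set G) ∧ ∀ m ∈ M, ⁅m, r⁆ ∈ X}
      one_mem' := ⟨one_mem _, fun m _ => by rw [commutatorElement_one_right]; exact one_mem X⟩
      mul_mem' := by
        rintro r₁ r₂ ⟨h1, h1'⟩ ⟨h2, h2'⟩
        refine ⟨mul_mem h1 h2, fun m hm => ?_⟩
        set u := ⁅m, r₂⁆ with hu
        have huM : u ∈ M := by
          rw [hu, commutatorElement_def, show m * r₂ * m⁻¹ * r₂⁻¹ = m * (r₂ * m⁻¹ * r₂⁻¹) by group]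
          exact mul_mem hm ((mem_normalizer_iff.1 h2 _).1 (inv_mem hm))
        rw [show ⁅m, r₁ * r₂⁆ = ⁅m, r₁⁆ * (⁅u, r₁⁆⁻¹ * u) by
          rw [hu]; simp only [commutatorElement_def]; group]
        exact mul_mem (h1' m hm) (mul_mem (inv_mem (h1' u huM)) (h2' m hm)) }
  { S with
    inv_mem' := fun {r} hr => by
      have h1 : r ^ (orderOf r - 1) = r⁻¹ := eq_inv_of_mul_eq_one_left (by
        rw [← pow_succ, Nat.sub_add_cancel (orderOf_pos r), pow_orderOf_eq_one])
      rw [← h1]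
      exact S.pow_mem hr _ }

/-- Either one twisted pair generates a moved pair, or it lies in every subgroup containing `S` and all its
proper moved subpairs. -/
theorem IsPair.le_of_subpairs (h : QCtx p q x z) {S R₁ : Subgroup G} (hP₁ : IsPair q x z r S R₁)
    (hRx : ⁅R₁, zpowers x⁆ = R₁) {X : Subgroup G} (hSI : S ≤ X)
    (hsub : ∀ R'' : Subgroup G, R'' ≤ R₁ → Nat.card R'' < Nat.card R₁ → IsPair q x z r S R'' → R'' ≤ X)
    (hex : ∀ v ∈ R₁, ¬ S ⊔ R₁ ≤ S ⊔ Subgroup.closure (⋃ i : ℕ, (fun y => z ^ i * y * (z ^ i)⁻¹) ''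
      ((R₁ ⊓ Subgroup.closure ({x, v * x * v⁻¹} : Set G) : Subgroup G) : Set G))) : R₁ ≤ X := by
  haveI := Fact.mk h.qprime
  haveI := Fact.mk hP₁.rprime
  have hcomm : Commute x z := h.commute
  set orb : G → Subgroup G := fun v => S ⊔ Subgroup.closure (⋃ i : ℕ, (fun y => z ^ i * y * (z ^ i)⁻¹) ''
    ((R₁ ⊓ Subgroup.closure ({x, v * x * v⁻¹} : Set G) : Subgroup G) : Set G)) with horb
  have hSR : S ⊔ R₁ ≤ normalizer (S : Set G) := sup_le le_normalizer hP₁.normS
  set N := normalizer (S : Set G) with hN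
  haveI : (S.subgroupOf N).Normal := Coprime.normal_subgroupOf_of_le_normalizer le_rfl
  set π := QuotientGroup.mk' (S.subgroupOf N) with hπ
  have hSN : S ≤ N := le_normalizer
  let img : Subgroup G → Subgroup (N ⧸ S.subgroupOf N) := fun K => (K.subgroupOf N).map π
  have himg : ∀ K : Subgroup G, K ≤ N → ∀ g ∈ N, ∀ hg : g ∈ N, π ⟨g, hg⟩ ∈ img K → g ∈ K ⊔ S := by
    intro K hK g _ hg hgK
    obtain ⟨b, hb, e⟩ := hgK
    have h1 : (b⁻¹ * ⟨g, hg⟩ : N) ∈ S.subgroupOf N := by
      rw [← QuotientGroup.ker_mk' (S.subgroupOf N), MonoidHom.mem_ker, map_mul, map_inv, ← hπ, e,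
        inv_mul_cancel]
    have := mul_mem (mem_sup_left (T := S) (show (b : G) ∈ K from hb)) (mem_sup_right (mem_subgroupOf.1 h1))
    simpa using this
  set Rb := img (S ⊔ R₁) with hRb
  have hRbr : IsPGroup r Rb := by
    have h1 : Rb = (R₁.subgroupOf N).map π := by
      rw [hRb]
      show ((S ⊔ R₁).subgroupOf N).map π = _
      rw [subgroupOf_sup hSN hP₁.normS, Subgroup.map_sup]
      rw [show (S.subgroupOf N).map π = ⊥ by
        rw [eq_bot_iff]; rintro _ ⟨a, ha, rfl⟩; exact mem_bot.2 ((QuotientGroup.eq_one_iff a).2 ha), bot_sup_eq]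
    rw [h1]
    exact (hP₁.rgroup.of_equiv (subgroupOfEquivOfLe hP₁.normS).symm).map π
  set zb := π ⟨z, hP₁.z_normS⟩ with hzb
  have hzRb : zb ∈ normalizer (Rb : Set _) := by
    refine le_normalizer_map π ⟨_, ?_, rfl⟩
    exact mem_normalizer_iff.2 fun m => mem_normalizer_iff.1 hP₁.z_norm (m : G)
  have hzpow : ∀ c ∈ zpowers zb, ∃ i : ℕ, c = π ⟨z ^ i, pow_mem hP₁.z_normS i⟩ := fun c hc => by
    obtain ⟨i, rfl⟩ := (isOfFinOrder_of_finite zb).mem_powers_iff_mem_zpowers.2 hc
    exact ⟨i, by rw [hzb]; exact (map_pow π _ i).symm⟩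
  have hqz : (Nat.card (zpowers zb)).Coprime r := by
    refine Nat.Coprime.coprime_dvd_left ?_ ((Nat.coprime_primes h.qprime hP₁.rprime).2 (Ne.symm hP₁.ne_q))
    rw [Nat.card_zpowers]
    refine orderOf_dvd_of_pow_eq_one ?_
    rw [hzb, ← map_pow, ← map_one π]
    congr 1
    exact Subtype.ext (by simpa using (h.order_z ▸ pow_orderOf_eq_one z))
  have hRbeq : ⁅Rb, zpowers zb⁆ = Rb := by
    refine le_antisymm (commutator_zpowers_le hzRb) ?_
    rintro _ ⟨g, hg, rfl⟩
    have h1 : ∀ y ∈ ⁅S ⊔ R₁, zpowers z⁆ ⊔ S, ∀ hy : y ∈ N, π ⟨y, hy⟩ ∈ ⁅Rb, zpowers zb⁆ := by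
      intro y hy hyN
      have hle : ⁅S ⊔ R₁, zpowers z⁆ ⊔ S ≤ (⁅Rb, zpowers zb⁆.comap π).map N.subtype := by
        refine sup_le (commutator_le.2 fun a ha c hc => ?_) fun a ha => ⟨⟨a, hSN ha⟩, ?_, rfl⟩
        · obtain ⟨i, rfl⟩ := (isOfFinOrder_of_finite z).mem_powers_iff_mem_zpowers.2 hc
          refine ⟨⁅(⟨a, hSR ha⟩ : N), ⟨z ^ i, pow_mem hP₁.z_normS i⟩⁆, ?_, rfl⟩
          refine mem_comap.2 ?_
          rw [map_commutatorElement]
          refine commutator_mem_commutator ⟨_, ha, rfl⟩ ?_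
          rw [show (⟨z ^ i, pow_mem hP₁.z_normS i⟩ : N) = (⟨z, hP₁.z_normS⟩ : N) ^ i from rfl, map_pow]
          exact pow_mem (mem_zpowers _) i
        · refine mem_comap.2 ?_
          rw [show π ⟨a, hSN ha⟩ = 1 from (QuotientGroup.eq_one_iff _).2 ha]
          exact one_mem _
      obtain ⟨b, hb, e⟩ := hle hy
      rwa [show (⟨y, hyN⟩ : N) = b from Subtype.ext e.symm]
    exact h1 _ (sup_le le_sup_right hP₁.move hg) g.2
  -- the generators `[v, x ^ i]`
  set T : Set (N ⧸ S.subgroupOf N) := ⋃ v ∈ R₁, (img (orb v) : Set _) with hT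
  have hxzN : ∀ v ∈ R₁, orb v ≤ S ⊔ R₁ := by
    intro v _
    refine sup_le le_sup_left ((closure_le _).2 ?_)
    intro y hy
    obtain ⟨i, y', hy', rfl⟩ := by simpa only [Set.mem_iUnion, Set.mem_image] using hy
    exact (mem_normalizer_iff.1 (pow_mem hP₁.z_norm i) y').1 (mem_sup_right hy'.1)
  have hzorb : ∀ v, z ∈ normalizer (orb v : Set G) := by
    intro v
    refine mem_normalizer_sup hP₁.z_normS (mem_normalizer_of_conj_mem ?_)
    intro y hy
    induction hy using closure_induction with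
    | mem y hy =>
      obtain ⟨i, y', hy', rfl⟩ := by simpa only [Set.mem_iUnion, Set.mem_image] using hy
      refine subset_closure (Set.mem_iUnion.2 ⟨i + 1, y', hy', ?_⟩)
      simp [pow_succ', mul_assoc]
    | one => simp
    | mul a b _ _ ha hb =>
      rw [← conj_mul]
      exact mul_mem ha hb
    | inv a _ ha =>
      rw [← conj_inv]
      exact inv_mem ha
  have hI : ∀ v ∈ R₁, ⁅orb v, zpowers z⁆ ≤ X := by
    intro v hv
    set P'' := ⁅orb v, zpowers z⁆ ⊔ S with hP''
    set R'' := R₁ ⊓ P'' with hR''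
    have hCo : ⁅orb v, zpowers z⁆ ≤ orb v := commutator_zpowers_le (hzorb v)
    have hP''o : P'' ≤ orb v := sup_le hCo le_sup_left
    have hP''le : P'' ≤ S ⊔ R₁ := hP''o.trans (hxzN v hv)
    have hzP'' : z ∈ normalizer (P'' : Set G) :=
      mem_normalizer_sup (mem_normalizer_commutator (hzorb v) rfl) hP₁.z_normS
    have hxorb : x ∈ normalizer (orb v : Set G) := by
      refine mem_normalizer_sup hP₁.x_normS (mem_normalizer_of_conj_mem ?_)
      intro y hy
      induction hy using closure_induction with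
      | mem y hy =>
        obtain ⟨i, y', hy', rfl⟩ := by simpa only [Set.mem_iUnion, Set.mem_image] using hy
        refine subset_closure (Set.mem_iUnion.2 ⟨i, x * y' * x⁻¹, ?_, ?_⟩)
        · exact ⟨(mem_normalizer_iff.1 hP₁.x_normR y').1 hy'.1,
            Subgroup.mul_mem _ (Subgroup.mul_mem _ (subset_closure (by simp : x ∈ ({x, v * x * v⁻¹} : Set G))) hy'.2) (Subgroup.inv_mem _ (subset_closure (by simp : x ∈ ({x, v * x * v⁻¹} : Set G))))⟩
        · have e : z ^ i * x = x * z ^ i := (hcomm.symm.pow_left i).eq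
          calc z ^ i * (x * y' * x⁻¹) * (z ^ i)⁻¹
              = (z ^ i * x) * y' * (z ^ i * x)⁻¹ := by group
            _ = _ := by rw [e]; group
      | one => simp
      | mul a b _ _ ha hb =>
        rw [← conj_mul]
        exact mul_mem ha hb
      | inv a _ ha =>
        rw [← conj_inv]
        exact inv_mem ha
    have hxP'' : x ∈ normalizer (P'' : Set G) :=
      mem_normalizer_sup (mem_normalizer_commutator hxorb hcomm) hP₁.x_normS
    have hsup : S ⊔ R'' = P'' := by
      refine le_antisymm (sup_le le_sup_right inf_le_right) fun g hg => ?_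
      obtain ⟨b, hb, a, ha, e⟩ := (Coprime.mem_sup_iff_of_le_normalizer hP₁.normS).1
        (by rw [sup_comm]; exact hP''le hg : g ∈ R₁ ⊔ S)
      rw [← e]
      refine mul_mem (mem_sup_right ⟨hb, ?_⟩) (mem_sup_left ha)
      rw [show b = g * a⁻¹ by rw [← e, mul_inv_cancel_right]]
      exact P''.mul_mem hg (P''.inv_mem (mem_sup_right ha))
    have hoN : orb v ≤ N := (hxzN v hv).trans hSR
    set Kb := img (orb v) with hKb
    have hKR : Kb ≤ Rb := map_mono fun g hg => hxzN v hv hg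
    have hzKb : zb ∈ normalizer (Kb : Set _) := by
      refine le_normalizer_map π ⟨_, ?_, rfl⟩
      exact mem_normalizer_iff.2 fun m => mem_normalizer_iff.1 (hzorb v) (m : G)
    have hKcop : (Nat.card (zpowers zb)).Coprime (Nat.card Kb) := by
      obtain ⟨k, hk⟩ := IsPGroup.iff_card.1 (hRbr.to_le hKR)
      rw [hk]
      exact hqz.pow_right k
    have hKK := Coprime.commutator_commutator_eq (zpowers_le.2 hzKb) hKcop (Or.inl inferInstance)
    have hC1 : ⁅Kb, zpowers zb⁆ ≤ img P'' := by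
      rw [commutator_le]
      rintro _ ⟨a, ha, rfl⟩ c hc
      obtain ⟨i, rfl⟩ := hzpow c hc
      rw [← map_commutatorElement]
      exact ⟨_, mem_sup_left (commutator_mem_commutator (mem_subgroupOf.1 ha) (pow_mem (mem_zpowers z) i)), rfl⟩
    have hmove : ⁅orb v, zpowers z⁆ ≤ ⁅P'', zpowers z⁆ ⊔ S := by
      intro g hg
      have hgN : g ∈ N := hoN (hCo hg)
      have hP''N : P'' ≤ N := hP''le.trans hSR
      have hC : ⁅P'', zpowers z⁆ ≤ N := (commutator_zpowers_le hzP'').trans hP''N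
      have h1 : π ⟨g, hgN⟩ ∈ ⁅Kb, zpowers zb⁆ := by
        have hle : ⁅orb v, zpowers z⁆ ≤ (⁅Kb, zpowers zb⁆.comap π).map N.subtype :=
          commutator_le.2 fun a ha c hc => by
            obtain ⟨i, rfl⟩ := (isOfFinOrder_of_finite z).mem_powers_iff_mem_zpowers.2 hc
            refine ⟨⁅(⟨a, hoN ha⟩ : N), ⟨z ^ i, pow_mem hP₁.z_normS i⟩⁆, mem_comap.2 ?_, rfl⟩
            rw [map_commutatorElement]
            refine commutator_mem_commutator ⟨_, ha, rfl⟩ ?_
            rw [show (⟨z ^ i, pow_mem hP₁.z_normS i⟩ : N) = (⟨z, hP₁.z_normS⟩ : N) ^ i from rfl, map_pow]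
            exact pow_mem (mem_zpowers _) i
        obtain ⟨b, hb, e⟩ := hle hg
        rwa [show (⟨g, hgN⟩ : N) = b from Subtype.ext e.symm]
      rw [← hKK] at h1
      have h2 : ⁅⁅Kb, zpowers zb⁆, zpowers zb⁆ ≤ img ⁅P'', zpowers z⁆ := by
        rw [commutator_le]
        intro a ha c hc
        obtain ⟨a', ha', rfl⟩ := hC1 ha
        obtain ⟨i, rfl⟩ := hzpow c hc
        rw [← map_commutatorElement]
        exact ⟨_, mem_subgroupOf.2 (commutator_mem_commutator (mem_subgroupOf.1 ha') (pow_mem (mem_zpowers z) i)), rfl⟩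
      exact himg _ hC g hgN hgN (h2 h1)
    have hR''pair : IsPair q x z r S R'' :=
      { rprime := hP₁.rprime
        ne_q := hP₁.ne_q
        qgroup := hP₁.qgroup
        rgroup := hP₁.rgroup.to_le inf_le_left
        x_normS := hP₁.x_normS
        z_normS := hP₁.z_normS
        x_normR := inf_normalizer_le_normalizer_inf ⟨hP₁.x_normR, hxP''⟩
        normS := inf_le_left.trans hP₁.normS
        z_norm := by rw [hsup]; exact hzP''
        move := by
          rw [hsup]
          exact inf_le_right.trans (sup_le hmove le_sup_right) }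
    have hlt : Nat.card R'' < Nat.card R₁ := by
      refine lt_of_le_of_ne (card_le_of_le inf_le_left) fun e => hex v hv ?_
      have hR : R'' = R₁ := eq_of_le_of_card_ge inf_le_left e.ge
      exact sup_le le_sup_left (hR.ge.trans (inf_le_right.trans hP''o))
    have := hsub R'' inf_le_left hlt hR''pair
    exact le_sup_left.trans (hsup.ge.trans (sup_le hSI this))
  set J := X ⊓ (S ⊔ R₁) with hJ
  have hRK : Rb ≤ img J := by
    refine le_of_commutator_gen hRbr hzRb hRbeq (T := ⋃ v ∈ R₁, (img (orb v) : Set _)) ?_ ?_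
      (map_mono fun g hg => hg.2) ?_
    · refine Set.iUnion₂_subset fun v hv g hg => ?_
      obtain ⟨a, ha, rfl⟩ := hg
      exact ⟨a, hxzN v hv ha, rfl⟩
    · have hle : S ⊔ R₁ ≤ ((Subgroup.closure (⋃ v ∈ R₁, (img (orb v) : Set _))).comap π).map N.subtype := by
        have hgen : ∀ v ∈ R₁, ∀ g ∈ orb v, g ∈
            ((Subgroup.closure (⋃ v ∈ R₁, (img (orb v) : Set _))).comap π).map N.subtype := fun v hv g hg =>
          ⟨⟨g, hSR (hxzN v hv hg)⟩, mem_comap.2 (subset_closure (Set.mem_iUnion₂.2 ⟨v, hv, _, hg, rfl⟩)), rfl⟩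
        refine sup_le (fun g hg => hgen 1 (one_mem _) g (mem_sup_left hg)) ?_
        refine (le_of_eq (hRx).symm).trans (commutator_le.2 fun v hv c hc => ?_)
        refine hgen v hv _ (mem_sup_right (subset_closure (Set.mem_iUnion.2 ⟨0, ⁅v, c⁆, ⟨?_, ?_⟩, (by simp : (fun y => z ^ 0 * y * (z ^ 0)⁻¹) ⁅v, c⁆ = ⁅v, c⁆)⟩)))
        · rw [commutatorElement_def, show v * c * v⁻¹ * c⁻¹ = v * (c * v⁻¹ * c⁻¹) by group]
          exact mul_mem hv ((mem_normalizer_iff.1 (zpowers_le.2 hP₁.x_normR hc) _).1 (inv_mem hv))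
        · obtain ⟨i, rfl⟩ := hc
          show v * x ^ i * v⁻¹ * (x ^ i)⁻¹ ∈ _
          rw [← conj_zpow]
          exact Subgroup.mul_mem _ (Subgroup.zpow_mem _ (subset_closure (by simp)) i)
            (Subgroup.inv_mem _ (Subgroup.zpow_mem _ (subset_closure (by simp)) i))
      rintro _ ⟨g, hg, rfl⟩
      obtain ⟨b, hb, e⟩ := hle hg
      rw [show g = b from Subtype.ext e.symm]
      exact hb
    · intro t ht c hc
      obtain ⟨v, hv, a, ha, rfl⟩ := Set.mem_iUnion₂.1 ht
      obtain ⟨i, rfl⟩ := hzpow c hc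
      rw [← map_commutatorElement]
      have hc' := commutator_mem_commutator (H₂ := zpowers z) (mem_subgroupOf.1 ha) (pow_mem (mem_zpowers z) i)
      exact ⟨_, ⟨hI v hv hc', hxzN v hv (commutator_zpowers_le (hzorb v) hc')⟩, rfl⟩
  intro g hg
  have hgN : g ∈ N := hP₁.normS hg
  have := himg J (inf_le_right.trans hSR) g hgN hgN (hRK ⟨_, mem_sup_right hg, rfl⟩)
  exact sup_le inf_le_left hSI this

end Cfsg.Agent.TwoGenSolvable
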