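import Mathlib
import Cfsg.Agent.Lib.TwoGenSolvable.JLemma
import Cfsg.Agent.Lib.TwoGenSolvable.Pair
import Cfsg.Agent.Lib.TwoGenSolvable.GoodAux
import Cfsg.Agent.Lib.TwoGenSolvable.PairGen

/-!
# A bad section yields a twisted pair of conjugates that is bad in every overgroup
-/

set_option autoImplicit false
set_option linter.style.haveILetI false

namespace Cfsg.Agent.TwoGenSolvable

open Subgroup
open scoped commutatorElement

universe u

variable {G : Type u} [Group G] [Finite G] {p q r s : ℕ} {x z : G}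

/-- In a good subgroup moved pairs lie in the cores. -/
theorem Good.pair_le (h : QCtx p q x z) (hqp : q ≠ p) {H : Subgroup G} (hH : Group.IsSolvable H) (hx : x ∈ H)
    (hz : z ∈ H) (hg : Good p q x z H) {S R : Subgroup G} (hP : IsPair q x z r S R) (hrp : r ≠ p) (hS : S ≤ H)
    (hR : R ≤ H) : R ≤ Cfsg.pCoreOf r (ppOf p H) := by
  haveI := Fact.mk h.qprime
  haveI := Fact.mk hP.rprime
  set Θ := ppOf p H
  have hRx := hP.commutator_x h hqp hrp
  have hRΘ : R ≤ Θ := by
    rw [← hRx]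
    exact h.toXCtx.commutator_le_ppOf hH hx hR (coprime_of_pgroup hP.rprime h.prime hrp hP.rgroup) hP.x_normR
  set E := (Cfsg.pPrimePCore q Θ).map Θ.subtype with hE
  set O := ppOf q Θ with hO
  have hHE : H ≤ normalizer (E : Set G) := FixedDim.le_normalizer_map_char (le_normalizer_ppOf p H) _
  have hHO : H ≤ normalizer (O : Set G) :=
    FixedDim.le_normalizer_map_char (le_normalizer_ppOf p H) (Cfsg.pPrimeCore q Θ)
  obtain ⟨z', hz', hzeq⟩ := hg.1 hqp
  have hzE : z ∈ E := ⟨z', hz', hzeq⟩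
  have hSR : S ⊔ R ≤ H := sup_le hS hR
  have hC : ⁅S ⊔ R, zpowers z⁆ ≤ E := by
    rw [commutator_le]
    intro g hg' c hc
    rw [commutatorElement_def]
    exact mul_mem ((mem_normalizer_iff.1 (hHE (hSR hg')) c).1 (zpowers_le.2 hzE hc))
      (inv_mem (zpowers_le.2 hzE hc))
  have hEO : ∀ g ∈ E, ∃ k, g ^ q ^ k ∈ O := by
    rintro _ ⟨g, hg', rfl⟩
    obtain ⟨k, hk⟩ := pow_mem_of_mem_pPrimePCore hg'
    exact ⟨k, ⟨_, hk, by simp⟩⟩
  -- `R` lies in `O`
  have hRO : R ≤ O := by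
    intro w hw
    obtain ⟨c, hc, b, hb, e⟩ := (Coprime.mem_sup_iff_of_le_normalizer'
      ((hS).trans hHE)).1 (show w ∈ S ⊔ E from (hP.move.trans (sup_le (hC.trans le_sup_right) le_sup_left)) hw)
    -- `w = c * b`, with `b ∈ S`
    have hbq : ∃ k, b ^ q ^ k = 1 := by
      obtain ⟨k, hk⟩ := hP.qgroup ⟨b, hb⟩
      exact ⟨k, by simpa using congrArg Subtype.val hk⟩
    obtain ⟨k, hk⟩ := hbq
    have hpow : ∀ n : ℕ, (c * b) ^ n * (b ^ n)⁻¹ ∈ E := by
      intro n
      induction n with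
      | zero => simp
      | succ n ih =>
        rw [pow_succ (c * b), pow_succ b, show (c * b) ^ n * (c * b) * (b ^ n * b)⁻¹ =
          ((c * b) ^ n * (b ^ n)⁻¹) * (b ^ n * c * (b ^ n)⁻¹) by group]
        exact mul_mem ih ((mem_normalizer_iff.1 (hHE (pow_mem (hS hb) n)) c).1 hc)
    have h1 : w ^ q ^ k ∈ E := by
      have := hpow (q ^ k)
      rwa [hk, inv_one, mul_one, e] at this
    obtain ⟨k', hk'⟩ := hEO _ h1
    rw [← pow_mul, ← pow_add] at hk'
    obtain ⟨m, hm⟩ := exists_pow_eq_self_of_coprime (x := w) (n := q ^ (k + k')) (by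
      obtain ⟨j, hj⟩ := hP.rgroup ⟨w, hw⟩
      exact Nat.Coprime.coprime_dvd_right (orderOf_dvd_of_pow_eq_one (by simpa using congrArg Subtype.val hj))
        (Nat.Coprime.pow _ _ ((Nat.coprime_primes h.qprime hP.rprime).2 (Ne.symm hP.ne_q))))
    rw [← hm]
    exact pow_mem hk' m
  -- so `z` normalises `R`
  have hRS : S ⊓ R = ⊥ :=
    (IsPGroup.disjoint_of_ne q r (Ne.symm hP.ne_q) S R hP.qgroup hP.rgroup).eq_bot
  have hOR : O ⊓ (S ⊔ R) = R := by
    refine (eq_of_le_of_card_ge (le_inf hRO le_sup_right) (Nat.le_of_dvd Nat.card_pos ?_)).symm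
    have h1 : Nat.card ↥(O ⊓ (S ⊔ R)) ∣ Nat.card R * Nat.card S := by
      refine (card_dvd_of_le inf_le_right).trans ?_
      rw [sup_comm]
      exact AbelianPComplement.card_sup_dvd_mul hP.normS
    refine Nat.Coprime.dvd_of_dvd_mul_right ?_ h1
    obtain ⟨n, hn⟩ := IsPGroup.iff_card.1 hP.qgroup
    rw [hn]
    exact ((coprime_card_ppOf q Θ).coprime_dvd_left (card_dvd_of_le inf_le_left)).pow_right n
  have hzR : z ∈ normalizer (R : Set G) := by
    rw [← hOR]
    exact inf_normalizer_le_normalizer_inf ⟨hHO hz, hP.z_norm⟩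
  have hmove : ⁅R, zpowers z⁆ = R := by
    refine le_antisymm (commutator_zpowers_le hzR) fun w hw => ?_
    have h1 : ⁅S ⊔ R, zpowers z⁆ ≤ S ⊔ ⁅R, zpowers z⁆ := by
      rw [commutator_le]
      intro g hg' c hc
      obtain ⟨n, hn, b, hb, rfl⟩ := (Coprime.mem_sup_iff_of_le_normalizer hP.normS).1
        (by rw [sup_comm]; exact hg' : g ∈ R ⊔ S)
      rw [show ⁅n * b, c⁆ = n * (b * (c * b⁻¹ * c⁻¹)) * n⁻¹ * ⁅n, c⁆ by
        simp only [commutatorElement_def]; group]
      exact mul_mem (mem_sup_left ((mem_normalizer_iff.1 (hP.normS hn) _).1 (mul_mem hb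
        ((mem_normalizer_iff.1 (zpowers_le.2 hP.z_normS hc) _).1 (inv_mem hb)))))
        (mem_sup_right (commutator_mem_commutator hn hc))
    have hCR : ⁅R, zpowers z⁆ ≤ R := commutator_zpowers_le hzR
    obtain ⟨c, hc, b, hb, e⟩ := (Coprime.mem_sup_iff_of_le_normalizer (hCR.trans hP.normS)).1
      (show w ∈ ⁅R, zpowers z⁆ ⊔ S from (hP.move.trans (sup_le (h1.trans (sup_comm _ _).le) le_sup_right)) hw)
    have hbR : b ∈ S ⊓ R := by
      refine ⟨hb, ?_⟩
      rw [show b = c⁻¹ * w by rw [← e, inv_mul_cancel_left]]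
      exact R.mul_mem (R.inv_mem (hCR hc)) hw
    rw [hRS, mem_bot] at hbR
    rw [← e, hbR, mul_one]
    exact hc
  exact hg.2 r hP.rprime hP.ne_q R hRΘ ⟨hP.x_normR, hzR, hmove⟩ hP.rgroup

/-- A bad section gives a twisted pair `x, x^a` that is bad in every solvable overgroup containing `z`. -/
theorem BadSect.exists_twist_bad (h : QCtx p q x z) (hqp : q ≠ p) {H : Subgroup G} (hH : Group.IsSolvable H)
    (hxH : x ∈ H) {S R M L : Subgroup G} (hb : BadSect p q x z H r s S R M L) :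
    ∃ a : G, a ∈ closure ({x, a * x * a⁻¹} : Set G) ∧ ∀ H' : Subgroup G, Group.IsSolvable H' → x ∈ H' →
      z ∈ H' → closure ({x, a * x * a⁻¹} : Set G) ≤ H' → ¬ Good p q x z H' := by
  haveI := Fact.mk h.prime
  haveI := Fact.mk h.qprime
  haveI := Fact.mk hb.sprime
  haveI := Fact.mk hb.pair.rprime
  have hp3 : 3 < p := by have := h.five_le; omega
  have hML := hb.sect
  -- a minimal sub-pair acting non-trivially
  set N := normalizer (M : Set G) ⊓ normalizer (L : Set G) with hN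
  obtain ⟨R₁, ⟨hR₁R, hP₁, hnt⟩, hmin⟩ := wellFounded_lt.has_min
    {R' : Subgroup G | R' ≤ R ∧ IsPair q x z r S R' ∧ ¬ ⁅M, R'⁆ ≤ L} ⟨R, le_rfl, hb.pair, hb.nontriv⟩
  have hRM₁ : R₁ ≤ normalizer (M : Set G) := hR₁R.trans hb.R_normM
  have hRL₁ : R₁ ≤ normalizer (L : Set G) := hR₁R.trans hb.R_normL
  have hzX : z ∈ normalizer (commInto M L : Set G) := by
    refine mem_normalizer_of_conj_mem fun y hy => ⟨mul_mem (mul_mem hb.z_normM hy.1) (inv_mem hb.z_normM),
      fun m hm => ?_⟩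
    have h1 := hy.2 _ ((mem_normalizer_iff.1 (inv_mem hb.z_normM) m).1 hm)
    have h2 := (mem_normalizer_iff.1 hb.z_normL _).1 h1
    convert h2 using 1
    simp [commutatorElement_def, mul_assoc]
  have hSI : S ≤ commInto M L := by
    intro a ha
    have key : ∀ b ∈ S, ∀ y ∈ M, b * y * b⁻¹ ∈ M := fun b hb' y hy => by
      rw [show b * y * b⁻¹ = ⁅b, y⁆ * y by rw [commutatorElement_def]; group]
      exact mul_mem (hML.le (hb.triv b hb' y hy)) hy
    refine ⟨mem_normalizer_of_conj_mem (key a ha), fun m hm => ?_⟩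
    rw [← commutatorElement_inv]
    exact inv_mem (hb.triv a ha m hm)
  have hRx := hP₁.commutator_x h hqp hb.r_ne_p
  obtain ⟨v, hv, hgen⟩ : ∃ v ∈ R₁, S ⊔ R₁ ≤ S ⊔ closure (⋃ i : ℕ, (fun y => z ^ i * y * (z ^ i)⁻¹) ''
      ((R₁ ⊓ closure ({x, v * x * v⁻¹} : Set G) : Subgroup G) : Set G)) := by
    by_contra hex
    push Not at hex
    refine hnt (commutator_le.2 fun m hm g hg =>
      (hP₁.le_of_subpairs h hRx hSI (fun R'' hle hlt hpair => ?_) hex hg).2 m hm)
    have hlt' : R'' < R₁ := lt_of_le_of_ne hle fun e => hlt.ne (by rw [e])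
    have htriv : ⁅M, R''⁆ ≤ L := by
      by_contra hcon
      exact hmin R'' ⟨hle.trans hR₁R, hpair, hcon⟩ hlt'
    exact fun g hg => ⟨hRM₁ (hle hg), fun m hm => htriv (commutator_mem_commutator hm hg)⟩
  set R₀ := R₁ ⊓ closure ({x, v * x * v⁻¹} : Set G) with hR₀
  have hR₀R : R₀ ≤ R₁ := inf_le_left
  have hxR₀ : x ∈ normalizer (R₀ : Set G) :=
    inf_normalizer_le_normalizer_inf ⟨hP₁.x_normR, le_normalizer (subset_closure (by simp))⟩
  have hR₀nt : ¬ ⁅M, R₀⁆ ≤ L := by
    intro htriv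
    refine hnt (commutator_le.2 fun m hm g hg => ?_)
    have hle : S ⊔ R₁ ≤ commInto M L := by
      refine hgen.trans (sup_le hSI ((closure_le _).2 ?_))
      intro y hy
      obtain ⟨i, y', hy', rfl⟩ := by simpa only [Set.mem_iUnion, Set.mem_image] using hy
      exact (mem_normalizer_iff.1 (pow_mem hzX i) y').1
        ⟨hRM₁ (hR₀R hy'), fun m hm => htriv (commutator_mem_commutator hm hy')⟩
    exact (hle (mem_sup_right hg)).2 m hm
  obtain ⟨v₀, hv₀R, hv₀c, hv₀⟩ := exists_conj_mem h.order_x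
    (coprime_of_pgroup hP₁.rprime h.prime hb.r_ne_p hP₁.rgroup) hP₁.x_normR hv
  have hgen₀ : closure ({x, v₀ * x * v₀⁻¹} : Set G) = R₀ ⊔ zpowers x := by
    rw [hv₀]
    have hxc : x ∈ closure ({x, v * x * v⁻¹} : Set G) := subset_closure (by simp)
    refine le_antisymm (fun y hy => ?_) (sup_le inf_le_right (zpowers_le.2 hxc))
    have hXR : zpowers x ≤ normalizer (R₁ : Set G) := zpowers_le.2 hP₁.x_normR
    have h1 : y ∈ zpowers x ⊔ R₁ := by
      revert y
      show Subgroup.closure _ ≤ _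
      rw [closure_le]
      rintro y (rfl | rfl)
      · exact mem_sup_left (mem_zpowers _)
      · exact mul_mem (mul_mem (mem_sup_right hv) (mem_sup_left (mem_zpowers _))) (inv_mem (mem_sup_right hv))
    obtain ⟨a, ha, b, hb', rfl⟩ := (Coprime.mem_sup_iff_of_le_normalizer hXR).1 h1
    refine mul_mem (mem_sup_right ha) (mem_sup_left ⟨hb', ?_⟩)
    have := mul_mem (inv_mem (zpowers_le.2 hxc ha)) hy
    rwa [inv_mul_cancel_left] at this
  -- a minimal section moved by `R₀`
  set M₀ := ⁅M, R₀⁆ ⊔ L with hM₀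
  have hR₀M : R₀ ≤ normalizer (M : Set G) := hR₀R.trans hRM₁
  have hR₀L : R₀ ≤ normalizer (L : Set G) := hR₀R.trans hRL₁
  have hM₀M : M₀ ≤ M := sup_le (Coprime.commutator_le_left_of_le_normalizer hR₀M) hML.le
  have hR₀M₀ : R₀ ≤ normalizer (M₀ : Set G) := fun g hg =>
    mem_normalizer_of_conj_mem fun y hy => by
      rw [show g * y * g⁻¹ = ⁅y, g⁆⁻¹ * y by rw [commutatorElement_def]; group]
      exact mul_mem (inv_mem (mem_sup_left (commutator_mem_commutator (hM₀M hy) hg))) hy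
  obtain ⟨U, ⟨hLU, hUM₀, hxU, hRU⟩, hUmin⟩ := wellFounded_lt.has_min
    {V : Subgroup G | L < V ∧ V ≤ M₀ ∧ x ∈ normalizer (V : Set G) ∧ R₀ ≤ normalizer (V : Set G)}
    ⟨M₀, lt_of_le_of_ne le_sup_right fun e => hR₀nt (le_sup_left.trans e.ge), le_rfl,
      mem_normalizer_sup (mem_normalizer_commutator_both hb.x_normM hxR₀) hb.x_normL, hR₀M₀⟩
  have hUM : U ≤ M := hUM₀.trans hM₀M
  have hsec : IsESection s U L := ⟨hLU.le, hUM.trans hML.norm, fun a ha b hb' => hML.comm a (hUM ha) b (hUM hb'),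
    fun a ha => hML.exp a (hUM ha)⟩
  have hrc : ∀ n, n.Prime → n ≠ r → (Nat.card R₀).Coprime n := fun n hn hnr =>
    coprime_of_pgroup hP₁.rprime hn (Ne.symm hnr) (hP₁.rgroup.to_le hR₀R)
  have hfixU : ∀ u ∈ U, (∀ r' ∈ R₀, ⁅r', u⁆ ∈ L) → u ∈ L := fun u hu hfix =>
    hML.mem_of_fixed hR₀M hR₀L (hrc s hb.sprime hb.s_ne_r) (hUM₀ hu) hfix
  have hsolA : Group.IsSolvable ↥(R₀ ⊔ zpowers x) :=
    Coprime.isSolvable_of_le (sup_le ((hR₀R.trans hR₁R).trans hb.R_le) (zpowers_le.2 hxH)) hH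
  obtain ⟨w, hw, hcov⟩ := exists_twist_cover hp3 hb.s_ne_p h.order_x hsec hLU.ne' hxU hb.x_normL hRU hR₀L hxR₀
    hgen₀ ⟨hv₀R, hv₀c⟩ (hrc s hb.sprime hb.s_ne_r) hsolA hfixU fun U' h1 h2 h3 => by
      rcases eq_or_ne U' L with e | e
      · exact Or.inl e
      refine Or.inr (le_antisymm h2 ?_)
      by_contra hcon
      exact hUmin U' ⟨lt_of_le_of_ne h1 (Ne.symm e), h2.trans hUM₀, h3 (mem_sup_right (mem_zpowers x)),
        le_sup_left.trans h3⟩ (lt_of_le_of_ne h2 fun e' => hcon e'.ge)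
  have hcard : (Nat.card ↥(U ⊔ R₀)).Coprime p := by
    rw [sup_comm]
    exact AbelianPComplement.coprime_card_sup hRU (hrc p h.prime (Ne.symm hb.r_ne_p))
      (hb.cop.coprime_dvd_left (card_dvd_of_le hUM))
  have hwv : w * v₀ ∈ U ⊔ R₀ := mul_mem (mem_sup_left hw) (mem_sup_right ⟨hv₀R, hv₀c⟩)
  obtain ⟨a, -, haB, haeq⟩ := exists_conj_mem h.order_x hcard (mem_normalizer_sup hxU hxR₀) hwv
  set B := closure ({x, w * v₀ * x * (w * v₀)⁻¹} : Set G) with hB
  have hBa : closure ({x, a * x * a⁻¹} : Set G) = B := by rw [haeq]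
  refine ⟨a, hBa.symm ▸ haB, fun H' hH' hxH' hzH' hle hgood => ?_⟩
  rw [hBa] at hle
  set B' := B ⊔ zpowers z with hB'
  have hB'H : B' ≤ H' := sup_le hle (zpowers_le.2 hzH')
  have hxB : x ∈ B := subset_closure (by simp)
  have hxB' : x ∈ B' := mem_sup_left hxB
  have hzB' : z ∈ B' := mem_sup_right (mem_zpowers z)
  -- the subgroup inside `B'`
  set Q := M ⊔ S with hQ
  have hxQ : x ∈ normalizer (Q : Set G) := mem_normalizer_sup hb.x_normM hb.pair.x_normS
  have hzQ : z ∈ normalizer (Q : Set G) := mem_normalizer_sup hb.z_normM hb.pair.z_normS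
  have hRQ : R₁ ≤ normalizer (Q : Set G) := fun g hg => mem_normalizer_sup (hRM₁ hg) (hP₁.normS hg)
  set P' := (Q ⊔ R₁) ⊓ B' with hP'
  have hzQR : z ∈ normalizer ((Q ⊔ R₁ : Subgroup G) : Set G) := by
    rw [hQ, sup_assoc]
    exact mem_normalizer_sup hb.z_normM hP₁.z_norm
  have hzP' : z ∈ normalizer (P' : Set G) := inf_normalizer_le_normalizer_inf ⟨hzQR, le_normalizer hzB'⟩
  have hxP' : x ∈ normalizer (P' : Set G) :=
    inf_normalizer_le_normalizer_inf ⟨mem_normalizer_sup hxQ hP₁.x_normR, le_normalizer hxB'⟩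
  have hP'H : P' ≤ H' := inf_le_right.trans hB'H
  have hUQ : U ≤ Q := hUM.trans le_sup_left
  have hBL : B ≤ normalizer (L : Set G) := by
    rw [hB, closure_le]
    have hwvL : w * v₀ ∈ normalizer (L : Set G) := mul_mem (hML.norm (hUM hw)) (hR₀L ⟨hv₀R, hv₀c⟩)
    rintro y (rfl | rfl)
    · exact hb.x_normL
    · exact mul_mem (mul_mem hwvL hb.x_normL) (inv_mem hwvL)
  have hR₀P : R₀ ≤ Q ⊔ P' := by
    intro r₀ hr₀
    obtain ⟨b, hb', l, hl, e⟩ := (Coprime.mem_sup_iff_of_le_normalizer hBL).1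
      (hcov (mem_sup_left (mem_sup_right hr₀)))
    have hbQR : b ∈ Q ⊔ R₁ := by
      rw [show b = r₀ * l⁻¹ by rw [← e, mul_inv_cancel_right]]
      exact mul_mem (mem_sup_right (hR₀R hr₀)) (inv_mem (mem_sup_left (mem_sup_left (hML.le hl))))
    rw [← e]
    exact mul_mem (mem_sup_right ⟨hbQR, mem_sup_left hb'⟩) (mem_sup_left (mem_sup_left (hML.le hl)))
  have hzQP : z ∈ normalizer ((Q ⊔ P' : Subgroup G) : Set G) := mem_normalizer_sup hzQ hzP'
  have hR₁P : R₁ ≤ Q ⊔ P' := by
    refine le_sup_right.trans (hgen.trans (sup_le (le_sup_right.trans le_sup_left) ((closure_le _).2 ?_)))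
    intro y hy
    obtain ⟨i, y', hy', rfl⟩ := by simpa only [Set.mem_iUnion, Set.mem_image] using hy
    exact (mem_normalizer_iff.1 (pow_mem hzQP i) y').1 (hR₀P hy')
  have hP'Q : P' ≤ normalizer (Q : Set G) := inf_le_left.trans (sup_le le_normalizer hRQ)
  -- `R` lies in `O_r` modulo `Q`
  set O := Cfsg.pCoreOf r (ppOf p H') with hO
  have hHO : H' ≤ normalizer (O : Set G) := FixedDim.le_normalizer_map_char (le_normalizer_ppOf p H') _
  have hRO : R₁ ≤ Q ⊔ (O ⊓ (Q ⊔ R₁)) := by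
    have hP'p : (Nat.card P').Coprime p := by
      refine Nat.Coprime.coprime_dvd_left (card_dvd_of_le inf_le_left) ?_
      rw [sup_comm]
      refine AbelianPComplement.coprime_card_sup hRQ (coprime_of_pgroup hP₁.rprime h.prime hb.r_ne_p hP₁.rgroup) ?_
      rcases hb.kind with ⟨-, hMS⟩ | ⟨-, hS, -⟩
      · rw [hQ, sup_eq_right.2 hMS]
        exact coprime_of_pgroup h.qprime h.prime hqp hb.pair.qgroup
      · rw [hQ, hS, sup_bot_eq]
        exact hb.cop
    rcases hb.kind with ⟨-, hMS⟩ | ⟨hsq, hS, hMq⟩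
    · -- a pair inside `H'`
      have hQS : Q = S := sup_eq_right.2 hMS
      obtain ⟨T, hT⟩ := Coprime.exists_invariant_sylow (A := zpowers x) (zpowers_le.2 hxP')
        (by rw [Nat.card_zpowers, h.order_x]; exact hP'p.symm) (Or.inl inferInstance) r
      set R' := (T : Subgroup P').map P'.subtype with hR'
      set S' := S ⊓ B' with hS'
      have hR'P' : R' ≤ P' := map_subtype_le _
      have hS'P' : S' ≤ P' := inf_le_inf_right _ (hQS ▸ le_sup_left)
      have hP'S' : P' ≤ normalizer (S' : Set G) :=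
        Coprime.le_normalizer_inf_of_le (hQS ▸ hP'Q) (inf_le_right.trans le_normalizer)
      have hSR' : S' ⊔ R' = P' := by
        refine le_antisymm (sup_le hS'P' hR'P') (relIndex_eq_one.1 (Nat.dvd_one.1 ?_))
        have h1 : (S' ⊔ R').relIndex P' ∣ S.relIndex (S ⊔ R₁) := by
          refine (relIndex_dvd_of_le_left P' (le_sup_left : S' ≤ S' ⊔ R')).trans ?_
          rw [hS', show (S ⊓ B').relIndex P' = S.relIndex P' by
            rw [← inf_relIndex_right (S ⊓ B'), ← inf_relIndex_right S, inf_assoc,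
              inf_eq_right.2 (inf_le_right : P' ≤ B')]]
          rw [← Coprime.relIndex_sup_right_of_le_normalizer (hQS ▸ hP'Q : P' ≤ normalizer (S : Set G))]
          exact Dvd.intro _ (relIndex_mul_relIndex S (P' ⊔ S) (S ⊔ R₁) le_sup_right
            (sup_le (hQS ▸ inf_le_left) le_sup_left))
        have h3 : ¬ r ∣ R'.relIndex P' := by
          rw [relIndex, subgroupOf, hR', comap_map_eq_self_of_injective P'.subtype_injective]
          exact T.not_dvd_index
        have h4 : S.relIndex (S ⊔ R₁) ∣ Nat.card R₁ := by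
          rw [sup_comm, Coprime.relIndex_sup_right_of_le_normalizer hP₁.normS]
          exact relIndex_dvd_card S R₁
        obtain ⟨n, hn⟩ := IsPGroup.iff_card.1 hP₁.rgroup
        rw [← ((hP₁.rprime.coprime_iff_not_dvd.2 h3).pow_left n).gcd_eq_one, ← hn]
        exact Nat.dvd_gcd (h1.trans h4) (relIndex_dvd_of_le_left P' le_sup_right)
      have hSRP : S ⊔ R₁ ≤ S ⊔ P' := sup_le le_sup_left (hQS ▸ hR₁P)
      have hpair : IsPair q x z r S' R' :=
        { rprime := hP₁.rprime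
          ne_q := hP₁.ne_q
          qgroup := hP₁.qgroup.to_le inf_le_left
          rgroup := T.2.map _
          x_normS := inf_normalizer_le_normalizer_inf ⟨hP₁.x_normS, le_normalizer hxB'⟩
          z_normS := inf_normalizer_le_normalizer_inf ⟨hP₁.z_normS, le_normalizer hzB'⟩
          x_normR := hT (mem_zpowers x)
          normS := hR'P'.trans hP'S'
          z_norm := by rw [hSR']; exact hzP'
          move := by
            rw [hSR']
            intro r' hr'
            have hP'N : P' ≤ normalizer (S : Set G) := hQS ▸ hP'Q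
            have h1 : ⁅S ⊔ R₁, zpowers z⁆ ≤ S ⊔ ⁅P', zpowers z⁆ := by
              rw [commutator_le]
              intro g hg c hc
              obtain ⟨n, hn, b, hb', rfl⟩ := (Coprime.mem_sup_iff_of_le_normalizer hP'N).1
                (by rw [sup_comm]; exact hSRP hg : g ∈ P' ⊔ S)
              rw [show ⁅n * b, c⁆ = n * (b * (c * b⁻¹ * c⁻¹)) * n⁻¹ * ⁅n, c⁆ by
                simp only [commutatorElement_def]; group]
              exact mul_mem (mem_sup_left ((mem_normalizer_iff.1 (hP'N hn) _).1 (mul_mem hb'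
                ((mem_normalizer_iff.1 (zpowers_le.2 hP₁.z_normS hc) _).1 (inv_mem hb')))))
                (mem_sup_right (commutator_mem_commutator hn hc))
            have h3 : S ⊔ R₁ ≤ ⁅P', zpowers z⁆ ⊔ S := sup_le le_sup_right
              (hP₁.move.trans (sup_le (h1.trans (sup_comm _ _).le) le_sup_right))
            have hCP : ⁅P', zpowers z⁆ ≤ P' := commutator_zpowers_le hzP'
            obtain ⟨c, hc, b, hb', e⟩ := (Coprime.mem_sup_iff_of_le_normalizer (hCP.trans hP'N)).1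
              (h3 (hQS ▸ (hR'P' hr').1))
            rw [← e]
            refine mul_mem (mem_sup_left hc) (mem_sup_right ⟨hb', ?_⟩)
            have hb'' : b = c⁻¹ * r' := by rw [← e, inv_mul_cancel_left]
            rw [hb'']
            exact (mul_mem (inv_mem (hCP hc)) (hR'P' hr')).2 }
      have h5 := hgood.pair_le h hqp hH' hxH' hzH' hpair hb.r_ne_p (hS'P'.trans hP'H) (hR'P'.trans hP'H)
      refine hR₁P.trans (sup_le le_sup_left ?_)
      rw [← hSR']
      exact sup_le ((inf_le_left : S' ≤ S).trans (hQS ▸ le_sup_left))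
        ((le_inf h5 (hR'P'.trans inf_le_left)).trans le_sup_right)
    · -- `z` acts coprimely
      have hQM : Q = M := by rw [hQ, hS, sup_bot_eq]
      have hP'q : (Nat.card P').Coprime q := by
        refine Nat.Coprime.coprime_dvd_left (card_dvd_of_le inf_le_left) ?_
        rw [sup_comm]
        exact AbelianPComplement.coprime_card_sup hRQ (coprime_of_pgroup hP₁.rprime h.qprime hP₁.ne_q hP₁.rgroup)
          (hQM ▸ hMq)
      haveI := h.closure_pair_solvable
      obtain ⟨T, hT⟩ := Coprime.exists_invariant_sylow (A := closure ({x, z} : Set G))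
        (closure_pair_le_normalizer hxP' hzP') (h.coprime_pq hP'p hP'q) (Or.inl inferInstance) r
      set R' := (T : Subgroup P').map P'.subtype with hR'
      have hR'P' : R' ≤ P' := map_subtype_le _
      have hxR' : x ∈ normalizer (R' : Set G) := hT (subset_closure (by simp))
      have hzR' : z ∈ normalizer (R' : Set G) := hT (subset_closure (by simp))
      have hQR' : Q ⊔ R' = Q ⊔ P' := by
        refine le_antisymm (sup_le_sup_left hR'P' _) (sup_le le_sup_left (relIndex_eq_one.1 (Nat.dvd_one.1 ?_)))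
        have h1 : (Q ⊔ R').relIndex P' ∣ Q.relIndex (Q ⊔ R₁) := by
          refine (relIndex_dvd_of_le_left P' (le_sup_left : Q ≤ Q ⊔ R')).trans ?_
          rw [← Coprime.relIndex_sup_right_of_le_normalizer hP'Q]
          exact Dvd.intro _ (relIndex_mul_relIndex Q (P' ⊔ Q) (Q ⊔ R₁) le_sup_right
            (sup_le inf_le_left le_sup_left))
        have h3 : ¬ r ∣ R'.relIndex P' := by
          rw [relIndex, subgroupOf, hR', comap_map_eq_self_of_injective P'.subtype_injective]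
          exact T.not_dvd_index
        have h4 : Q.relIndex (Q ⊔ R₁) ∣ Nat.card R₁ := by
          rw [sup_comm, Coprime.relIndex_sup_right_of_le_normalizer hRQ]
          exact relIndex_dvd_card Q R₁
        obtain ⟨n, hn⟩ := IsPGroup.iff_card.1 hP₁.rgroup
        rw [← ((hP₁.rprime.coprime_iff_not_dvd.2 h3).pow_left n).gcd_eq_one, ← hn]
        exact Nat.dvd_gcd (h1.trans h4) (relIndex_dvd_of_le_left P' le_sup_right)
      have hR'N : R' ≤ normalizer (Q : Set G) := hR'P'.trans hP'Q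
      set W := ⁅R', zpowers z⁆ with hW
      have hWR' : W ≤ R' := commutator_zpowers_le hzR'
      have hWQ : R₁ ≤ Q ⊔ W := by
        have h1 : ⁅Q ⊔ R', zpowers z⁆ ≤ Q ⊔ W := by
          rw [commutator_le]
          intro g hg c hc
          obtain ⟨n, hn, b, hb', rfl⟩ := (Coprime.mem_sup_iff_of_le_normalizer hR'N).1
            (by rw [sup_comm]; exact hg : g ∈ R' ⊔ Q)
          rw [show ⁅n * b, c⁆ = n * (b * (c * b⁻¹ * c⁻¹)) * n⁻¹ * ⁅n, c⁆ by
            simp only [commutatorElement_def]; group]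
          exact mul_mem (mem_sup_left ((mem_normalizer_iff.1 (hR'N hn) _).1 (mul_mem hb'
            ((mem_normalizer_iff.1 (zpowers_le.2 hzQ hc) _).1 (inv_mem hb')))))
            (mem_sup_right (commutator_mem_commutator hn hc))
        refine hP₁.move.trans (sup_le ((commutator_mono ?_ le_rfl).trans h1) (le_sup_right.trans le_sup_left))
        rw [hQR']
        exact sup_le (le_sup_right.trans le_sup_left) hR₁P
      by_cases hW1 : W = ⊥
      · rw [hW1, sup_bot_eq] at hWQ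
        exact hWQ.trans le_sup_left
      have hmv : ⁅W, zpowers z⁆ = W := Coprime.commutator_commutator_eq (zpowers_le.2 hzR')
        (Nat.Coprime.coprime_dvd_right (card_dvd_of_le hR'P') (by
          rw [Nat.card_zpowers, h.order_z]; exact hP'q.symm)) (Or.inl inferInstance)
      have hWm : IsMember q x z r W := isMember_commutator h hP₁.rprime hP₁.ne_q (T.2.map _) hxR' hzR' hW1
      have hWΘ : W ≤ ppOf p H' := by
        rw [← hWm.commutator_x h]
        exact h.toXCtx.commutator_le_ppOf hH' hxH' (hWR'.trans (hR'P'.trans hP'H))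
          (coprime_of_pgroup hP₁.rprime h.prime hb.r_ne_p hWm.pgroup) hWm.moved.x_norm
      have hWO : W ≤ O := hgood.2 r hP₁.rprime hP₁.ne_q W hWΘ hWm.moved hWm.pgroup
      exact hWQ.trans (sup_le_sup_left (le_inf hWO (hWR'.trans (hR'P'.trans inf_le_left))) _)
  -- now everything is trivial on `U / L`
  have hQN : Q ≤ normalizer (M : Set G) ⊓ normalizer (L : Set G) := by
    refine sup_le (le_inf le_normalizer hML.norm) fun g hg => ⟨(hSI hg).1, ?_⟩
    refine mem_normalizer_of_conj_mem fun y hy => ?_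
    rw [show g * y * g⁻¹ = ⁅g, y⁆ * y by rw [commutatorElement_def]; group]
    exact mul_mem (hb.triv g hg y (hML.le hy)) hy
  have hQI : Q ≤ commInto M L :=
    sup_le (fun g hg => ⟨le_normalizer hg, fun m hm => hML.comm m hm g hg⟩) hSI
  refine hLU.not_ge fun u hu => hfixU u hu fun r₀ hr₀ => ?_
  obtain ⟨u', hu', l, hl, e⟩ := (Coprime.mem_sup_iff_of_le_normalizer hBL).1
    (hcov (mem_sup_left (mem_sup_left hu)))
  have hu'U : u' ∈ U := by
    rw [show u' = u * l⁻¹ by rw [← e, mul_inv_cancel_right]]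
    exact mul_mem hu (inv_mem (hLU.le hl))
  obtain ⟨c, hc, o, ho, e'⟩ := (Coprime.mem_sup_iff_of_le_normalizer'
    (inf_le_right.trans (sup_le le_normalizer hRQ) : O ⊓ (Q ⊔ R₁) ≤ normalizer (Q : Set G))).1
    (by rw [sup_comm]; exact hRO (hR₀R hr₀) : r₀ ∈ (O ⊓ (Q ⊔ R₁)) ⊔ Q)
  have hoN : o ∈ normalizer (M : Set G) ⊓ normalizer (L : Set G) :=
    (sup_le hQN (le_inf hRM₁ hRL₁)) ho.2
  have hu'O : ⁅o, u'⁆ ∈ L := by
    have h1 : ⁅o, u'⁆ ∈ O := by
      rw [commutatorElement_def, show o * u' * o⁻¹ * u'⁻¹ = o * (u' * o⁻¹ * u'⁻¹) by group]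
      exact mul_mem ho.1 ((mem_normalizer_iff.1 (hHO (hle hu')) _).1 (inv_mem ho.1))
    have h2 : ⁅o, u'⁆ ∈ M := by
      rw [commutatorElement_def]
      exact mul_mem ((mem_normalizer_iff.1 hoN.1 u').1 (hUM hu'U)) (inv_mem (hUM hu'U))
    obtain ⟨k, hk⟩ := (PCore.isPGroup_pCoreOf (p := r) (ppOf p H')) ⟨_, h1⟩
    have hk' : ⁅o, u'⁆ ^ r ^ k = 1 := by simpa using congrArg Subtype.val hk
    haveI : (L.subgroupOf M).Normal := Coprime.normal_subgroupOf_of_le_normalizer hML.norm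
    set y : M := ⟨⁅o, u'⁆, h2⟩
    have hy : (QuotientGroup.mk' (L.subgroupOf M)) y = 1 := by
      have e1 : (QuotientGroup.mk' (L.subgroupOf M) y) ^ r ^ k = 1 := by
        rw [← map_pow, show y ^ r ^ k = 1 from Subtype.ext (by simpa using hk'), map_one]
      have e2 : (QuotientGroup.mk' (L.subgroupOf M) y) ^ s = 1 := by
        rw [← map_pow]
        exact (QuotientGroup.eq_one_iff _).2 (mem_subgroupOf.2 (by simpa using hML.exp _ h2))
      exact orderOf_eq_one_iff.1 (Nat.dvd_one.1 ((((Nat.coprime_primes hb.sprime hP₁.rprime).2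
        hb.s_ne_r).pow_right k).gcd_eq_one ▸ Nat.dvd_gcd (orderOf_dvd_of_pow_eq_one e2)
        (orderOf_dvd_of_pow_eq_one e1)))
    exact mem_subgroupOf.1 ((QuotientGroup.eq_one_iff _).1 hy)
  -- `⁅r₀, u⁆ ∈ L`
  have hr₀L : r₀ ∈ normalizer (L : Set G) := hR₀L hr₀
  have hcI : ⁅c, o * u' * o⁻¹⁆ ∈ L := by
    have hm : o * u' * o⁻¹ ∈ M := (mem_normalizer_iff.1 hoN.1 u').1 (hUM hu'U)
    rw [← commutatorElement_inv]
    exact inv_mem ((hQI hc).2 _ hm)
  have hru' : ⁅r₀, u'⁆ ∈ L := by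
    rw [← e', show ⁅c * o, u'⁆ = ⁅c, o * u' * o⁻¹⁆ * ⁅o, u'⁆ by
      simp only [commutatorElement_def]; group]
    exact mul_mem hcI hu'O
  rw [← e, show ⁅r₀, u' * l⁆ = ⁅r₀, u'⁆ * (u' * (r₀ * l * r₀⁻¹ * l⁻¹) * u'⁻¹) by
    simp only [commutatorElement_def]; group]
  exact mul_mem hru' ((mem_normalizer_iff.1 (hML.norm (hUM hu'U)) _).1
    (mul_mem ((mem_normalizer_iff.1 hr₀L l).1 hl) (inv_mem hl)))

end Cfsg.Agent.TwoGenSolvable
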