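import Mathlib
import Cfsg.Agent.Lib.TwoGenSolvable.Found
import Cfsg.Agent.Lib.TwoGenSolvable.MemberBasic
import Cfsg.Agent.Lib.Solvable.Basic
import Cfsg.Agent.Lib.Coprime.Commutator
import Cfsg.Agent.Lib.PCore.HallHigman

/-!
# The choice of `z`
-/

set_option autoImplicit false
set_option linter.style.haveILetI false

namespace Cfsg.Agent.TwoGenSolvable

open Subgroup
open scoped commutatorElement

universe u

/-- The five ways in which `z` is chosen. -/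
structure ZChoice {G : Type u} [Group G] (p q : ℕ) (x z : G) : Prop extends QCtx p q x z where
  kind : (q = p ∧ ppOf p (centralizer ({x} : Set G)) = ⊥) ∨ (q ≠ p ∧ q ≠ 2) ∨
    (q = 2 ∧ q ≠ p ∧ (∀ s : ℕ, s.Prime → s ≠ 2 → s ≠ p → Cfsg.pCoreOf s (centralizer ({x} : Set G)) = ⊥) ∧
      (IsPGroup q (ppOf p (centralizer ({x} : Set G))) ∨
        (∃ d ∈ Cfsg.pCoreOf 2 (centralizer ({x} : Set G)), ∃ d' ∈ Cfsg.pCoreOf 2 (centralizer ({x} : Set G)),
          z = ⁅d, d'⁆) ∨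
        ((∀ a ∈ Cfsg.pCoreOf 2 (centralizer ({x} : Set G)), ∀ b ∈ Cfsg.pCoreOf 2 (centralizer ({x} : Set G)),
            a * b = b * a) ∧
          ∃ d ∈ Cfsg.pCoreOf 2 (centralizer ({x} : Set G)), d ^ 2 = 1 ∧ ∃ y ∈ centralizer ({x} : Set G),
            Odd (orderOf y) ∧ (orderOf y).Coprime p ∧ z = ⁅d, y⁆ ∧
            ∀ c ∈ centralizer ({x} : Set G), ⁅y, ⁅y, c⁆⁆ ∈ Cfsg.pCoreOf 2 (centralizer ({x} : Set G)))))

/-- Two elements of a non-abelian `2`-group with a central involution as commutator. -/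
theorem exists_central_commutator {D : Type u} [Group D] [Finite D] (hD : IsPGroup 2 D)
    (hna : ∃ a b : D, a * b ≠ b * a) : ∃ a b : D, ⁅a, b⁆ ∈ center D ∧ orderOf ⁅a, b⁆ = 2 := by
  haveI := Fact.mk Nat.prime_two
  haveI : Group.IsNilpotent D := hD.isNilpotent
  set π := QuotientGroup.mk' (center D) with hπ
  have hne : center D ≠ ⊤ := by
    obtain ⟨a, b, hab⟩ := hna
    exact fun e => hab (mem_center_iff.1 (e ▸ mem_top b) a)
  haveI : Nontrivial (D ⧸ center D) := by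
    rw [QuotientGroup.nontrivial_iff]
    exact hne
  haveI : Nontrivial (center (D ⧸ center D)) := (hD.to_quotient (center D)).center_nontrivial
  obtain ⟨⟨ab', hab'⟩, hab'1⟩ := exists_ne (1 : center (D ⧸ center D))
  obtain ⟨a, rfl⟩ := QuotientGroup.mk'_surjective _ ab'
  have hac : ∀ b : D, ⁅a, b⁆ ∈ center D := fun b => by
    rw [← QuotientGroup.eq_one_iff, ← QuotientGroup.mk'_apply, map_commutatorElement,
      commutatorElement_eq_one_iff_mul_comm]
    exact (mem_center_iff.1 hab' _).symm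
  obtain ⟨b, hb⟩ : ∃ b : D, ⁅a, b⁆ ≠ 1 := by
    by_contra hall
    push Not at hall
    refine hab'1 (Subtype.ext ((QuotientGroup.eq_one_iff a).2 (mem_center_iff.2 fun g => ?_)))
    exact (commutatorElement_eq_one_iff_mul_comm.1 (hall g)).symm
  obtain ⟨k, hk⟩ := IsPGroup.iff_orderOf.1 hD ⁅a, b⁆
  rcases k with _ | k
  · exact absurd (orderOf_eq_one_iff.1 (by simpa using hk)) hb
  have hpow : ∀ n : ℕ, ⁅a ^ n, b⁆ = ⁅a, b⁆ ^ n := by
    intro n
    induction n with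
    | zero => simp
    | succ n ih =>
      have hc : a ^ n * ⁅a, b⁆ = ⁅a, b⁆ * a ^ n := mem_center_iff.1 (hac b) _
      rw [pow_succ, pow_succ', show ⁅a ^ n * a, b⁆ = a ^ n * ⁅a, b⁆ * (a ^ n)⁻¹ * ⁅a ^ n, b⁆ by
        simp only [commutatorElement_def]; group, hc, mul_inv_cancel_right, ih]
  refine ⟨a ^ 2 ^ k, b, ?_, ?_⟩
  · rw [hpow]
    exact pow_mem (hac b) _
  · rw [hpow]
    refine orderOf_eq_prime ?_ fun e => ?_
    · rw [← pow_mul, ← pow_succ, ← hk, pow_orderOf_eq_one]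
    · have := orderOf_dvd_of_pow_eq_one e
      rw [hk, Nat.pow_dvd_pow_iff_le_right one_lt_two] at this
      omega

/-- An involution and an element of odd order acting non-trivially on an abelian `O_2`. -/
theorem exists_odd_acting {X : Type u} [Group X] [Finite X] [Group.IsSolvable X] {K : Subgroup X} [K.Normal]
    (hK : ¬ IsPGroup 2 K)
    (hCK : K ⊓ centralizer (Cfsg.pCore 2 X : Set X) ≤ Cfsg.pCore 2 X)
    (hab : ∀ a ∈ Cfsg.pCore 2 X, ∀ b ∈ Cfsg.pCore 2 X, a * b = b * a) :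
    ∃ d ∈ Cfsg.pCore 2 X, d ^ 2 = 1 ∧ ∃ y ∈ K, Odd (orderOf y) ∧ ⁅d, y⁆ ≠ 1 ∧
      ∀ c : X, ⁅y, ⁅y, c⁆⁆ ∈ Cfsg.pCore 2 X := by
  haveI := Fact.mk Nat.prime_two
  set D := Cfsg.pCore 2 X with hD
  have hDp : IsPGroup 2 D := PCore.isPGroup_pCore
  set π := QuotientGroup.mk' D with hπ
  have hπ1 : ∀ g : X, π g = 1 ↔ g ∈ D := fun g => QuotientGroup.eq_one_iff g
  haveI : (K.map π).Normal := Normal.map inferInstance π (QuotientGroup.mk'_surjective _)
  have hKne : K.map π ≠ ⊥ := fun e => hK (hDp.to_le fun g hg => (hπ1 g).1 (mem_bot.1 (e ▸ ⟨g, hg, rfl⟩)))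
  obtain ⟨N, r, hNn, hNK, hN1, -, hNc, hr, hNr⟩ := Solvable.exists_abelian_minimal_normal
    (inferInstance : Group.IsSolvable (K.map π)) hKne
  haveI := hNn
  have hr2 : r ≠ 2 := by
    rintro rfl
    have h1 : N ≤ Cfsg.pCore 2 (X ⧸ D) := PCore.le_pCore hNr
    exact hN1 (le_bot_iff.1 (h1.trans (PCore.pCore_quotient_self_eq_bot (p := 2) (G := X)).le))
  obtain ⟨yb, hybN, hyb1⟩ : ∃ yb ∈ N, yb ≠ 1 := by
    by_contra hall
    push Not at hall
    exact hN1 ((Subgroup.eq_bot_iff_forall N).2 hall)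
  obtain ⟨y₀, hy₀K, rfl⟩ := hNK hybN
  set k := (orderOf y₀).factorization 2 with hk
  set y := y₀ ^ 2 ^ k with hy
  have hodd : Odd (orderOf y) := by
    rw [hy, orderOf_pow_of_dvd (by positivity) (Nat.ordProj_dvd _ 2), Nat.odd_iff, ← Nat.two_dvd_ne_zero]
    exact Nat.not_dvd_ordCompl Nat.prime_two (orderOf_pos y₀).ne'
  have hy1 : π y ≠ 1 := by
    intro e
    rw [hy, map_pow] at e
    obtain ⟨j, hj⟩ := hNr ⟨π y₀, hybN⟩
    have hj' : π y₀ ^ r ^ j = 1 := by simpa using congrArg Subtype.val hj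
    refine hyb1 (orderOf_eq_one_iff.1 (Nat.dvd_one.1 ?_))
    rw [← (Nat.Coprime.pow k j ((Nat.coprime_primes Nat.prime_two hr).2 hr2.symm)).gcd_eq_one]
    exact Nat.dvd_gcd (orderOf_dvd_of_pow_eq_one e) (orderOf_dvd_of_pow_eq_one hj')
  have hyK : y ∈ K := pow_mem hy₀K _
  have hyN : π y ∈ N := by rw [hy, map_pow]; exact pow_mem hybN _
  have hy2 : ∀ c : X, ⁅y, ⁅y, c⁆⁆ ∈ D := fun c => by
    rw [← hπ1, map_commutatorElement, commutatorElement_eq_one_iff_mul_comm, map_commutatorElement]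
    have h1 : ⁅π y, π c⁆ ∈ N := by
      rw [commutatorElement_def, show π y * π c * (π y)⁻¹ * (π c)⁻¹ = π y * (π c * (π y)⁻¹ * (π c)⁻¹) by group]
      exact mul_mem hyN (hNn.conj_mem _ (inv_mem hyN) _)
    exact congrArg Subtype.val (hNc.is_comm.comm ⟨_, hyN⟩ ⟨_, h1⟩)
  obtain ⟨d, hd, hd2, hdy⟩ : ∃ d ∈ D, d ^ 2 = 1 ∧ ⁅d, y⁆ ≠ 1 := by
    by_contra hall
    push Not at hall
    haveI : IsMulCommutative D := ⟨⟨fun a b => Subtype.ext (hab a a.2 b b.2)⟩⟩
    have hDn : zpowers y ≤ normalizer (D : Set X) := by rw [normalizer_eq_top]; exact le_top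
    have hcop : (Nat.card (zpowers y)).Coprime (Nat.card D) := by
      obtain ⟨m, hm⟩ := IsPGroup.iff_card.1 hDp
      rw [hm, Nat.card_zpowers]
      exact (Nat.coprime_two_right.2 hodd).pow_right m
    have hc := Coprime.le_centralizer_of_prime_order hDn hcop fun v hv hvp a ha => ?_
    · exact hy1 ((hπ1 y).2 (hCK ⟨hyK, hc (mem_zpowers y)⟩))
    · obtain ⟨m, hm⟩ := IsPGroup.iff_orderOf.1 hDp ⟨v, hv⟩
      rw [orderOf_mk] at hm
      rw [hm] at hvp
      have h2 : v ^ 2 = 1 := by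
        rw [← orderOf_dvd_iff_pow_eq_one, hm, (Nat.Prime.eq_one_of_pow hvp), pow_one]
      have h3 : Commute v y := commutatorElement_eq_one_iff_commute.1 (hall v hv h2)
      obtain ⟨i, rfl⟩ := ha
      exact (h3.zpow_right i).symm.eq
  exact ⟨d, hd, hd2, y, hyK, hodd, hdy, hy2⟩

variable {G : Type u} [Group G] [Finite G] {p : ℕ} {x : G}

theorem XCtx.exists_choice (h : XCtx p x) : ∃ (q : ℕ) (z : G), ZChoice p q x z := by
  haveI := Fact.mk h.prime
  set C := centralizer ({x} : Set G) with hC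
  haveI := h.solvable_centralizer
  have hxC : x ∈ C := mem_centralizer_singleton_iff.2 rfl
  by_cases hK : ppOf p C = ⊥
  · refine ⟨p, x, ⟨⟨h, h.prime, h.order_x, ?_, fun d hd => ?_, fun _ => rfl⟩, Or.inl ⟨rfl, hK⟩⟩⟩
    · refine PCore.le_pCoreOf (zpowers_le.2 hxC) (IsPGroup.of_card (n := 1) ?_) ?_ (mem_zpowers x)
      · rw [Nat.card_zpowers, pow_one, h.order_x]
      · rw [zpowers_eq_closure]
        refine le_trans ?_ (centralizer_le_normalizer _)
        rw [centralizer_closure]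
    · exact (mem_centralizer_singleton_iff.1 (PCore.pCoreOf_le C hd)).symm
  -- an element of order `q` central in `O_q`
  have hex : ∀ q : ℕ, q.Prime → q ≠ p → Cfsg.pCoreOf q C ≠ ⊥ → ∃ z, QCtx p q x z := by
    intro q hq hqp hne
    haveI := Fact.mk hq
    set D := Cfsg.pCoreOf q C
    haveI : Nontrivial D := (Subgroup.nontrivial_iff_ne_bot D).2 hne
    have hDq : IsPGroup q D := PCore.isPGroup_pCoreOf C
    haveI := hDq.center_nontrivial
    obtain ⟨n, hn⟩ := IsPGroup.iff_card.1 (hDq.to_subgroup (center D))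
    obtain ⟨c, hc⟩ := exists_prime_orderOf_dvd_card' (G := center D) q (by
      rw [hn]
      refine dvd_pow_self q fun h0 => ?_
      have := Finite.one_lt_card (α := center D)
      rw [hn, h0, pow_zero] at this
      exact lt_irrefl 1 this)
    exact ⟨((c : D) : G), h, hq, by rw [orderOf_coe, orderOf_coe, hc], (c : D).2,
      fun d hd => (congrArg Subtype.val (mem_center_iff.1 c.2 ⟨d, hd⟩)).symm, fun e => absurd e hqp⟩
  by_cases hodd : ∃ q : ℕ, q.Prime ∧ q ≠ 2 ∧ q ≠ p ∧ Cfsg.pCoreOf q C ≠ ⊥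
  · obtain ⟨q, hq, hq2, hqp, hne⟩ := hodd
    obtain ⟨z, hz⟩ := hex q hq hqp hne
    exact ⟨q, z, hz, Or.inr (Or.inl ⟨hqp, hq2⟩)⟩
  push Not at hodd
  have hp2 : (2 : ℕ) ≠ p := by have := h.five_le; omega
  haveI := Fact.mk Nat.prime_two
  set K' := Cfsg.pPrimeCore p C with hK'
  set D' := Cfsg.pCore 2 C with hD'
  have hD'K : D' ≤ K' := PCore.le_pPrimeCore (by
    obtain ⟨n, hn⟩ := IsPGroup.iff_card.1 (PCore.isPGroup_pCore (p := 2) (G := C))
    rw [hn]
    exact ((Nat.coprime_primes Nat.prime_two h.prime).2 hp2).pow_left n)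
  -- the minimal normal subgroups of `C` in `O_{p'}` are `2`-groups
  have hmin : ∀ N : Subgroup C, N.Normal → N ≤ K' → N ≠ ⊥ →
      ∃ N' : Subgroup C, N' ≤ N ∧ N' ≠ ⊥ ∧ IsPGroup 2 N' := by
    intro N hN hNK hN1
    haveI := hN
    obtain ⟨M, r, hMn, hMN, hM1, -, -, hr, hMr⟩ := Solvable.exists_abelian_minimal_normal
      (inferInstance : Group.IsSolvable N) hN1
    haveI := hMn
    haveI := Fact.mk hr
    have hrp : r ≠ p := by
      rintro rfl
      exact hM1 (PCore.eq_bot_of_isPGroup_of_coprime hMr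
        (PCore.coprime_card_pPrimeCore.coprime_dvd_left (card_dvd_of_le (hMN.trans hNK))))
    by_cases hr2 : r = 2
    · exact ⟨M, hMN, hM1, hr2 ▸ hMr⟩
    · exfalso
      refine hM1 (le_bot_iff.1 fun m hm => mem_bot.2 (Subtype.ext ?_))
      have h1 : (m : G) ∈ Cfsg.pCoreOf r C := ⟨m, PCore.le_pCore hMr hm, rfl⟩
      rw [hodd r hr hr2 hrp] at h1
      exact mem_bot.1 h1
  have hK'1 : K' ≠ ⊥ := fun e => hK (by rw [ppOf, ← hK', e, Subgroup.map_bot])
  have hfull : ∀ q' : ℕ, q'.Prime → q' ≠ 2 → q' ≠ p → Cfsg.pCoreOf q' C = ⊥ := hodd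
  have hCK : K' ⊓ centralizer (D' : Set C) ≤ D' := by
    have h0 : Cfsg.pPrimeCore 2 K' = ⊥ := by
      by_contra hne
      obtain ⟨N', hle, hN'1, hN'2⟩ := hmin ((Cfsg.pPrimeCore 2 K').map K'.subtype) inferInstance
        (map_subtype_le _) (fun e => hne ((map_eq_bot_iff_of_injective _ K'.subtype_injective).1 e))
      refine hN'1 (PCore.eq_bot_of_isPGroup_of_coprime hN'2 (Nat.Coprime.coprime_dvd_left (card_dvd_of_le hle) ?_))
      rw [card_map_of_injective K'.subtype_injective]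
      exact PCore.coprime_card_pPrimeCore
    intro g hg
    have h2 : (⟨g, hg.1⟩ : K') ∈ Cfsg.pCore 2 K' := PCore.centralizer_pCore_le_of_isSolvable h0
      (mem_centralizer_iff.2 fun d hd => Subtype.ext (mem_centralizer_iff.1 hg.2 (d : C) ?_))
    · have h3 : g ∈ (Cfsg.pCore 2 K').map K'.subtype := ⟨⟨g, hg.1⟩, h2, rfl⟩
      rw [PCore.map_pCore_subtype_of_normal] at h3
      exact h3.1
    · have h3 : (d : C) ∈ (Cfsg.pCore 2 K').map K'.subtype := ⟨d, hd, rfl⟩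
      rw [PCore.map_pCore_subtype_of_normal] at h3
      exact h3.1
  have hmem : ∀ g : C, g ∈ D' → (g : G) ∈ Cfsg.pCoreOf 2 C := fun g hg => ⟨g, hg, rfl⟩
  have hback : ∀ g ∈ Cfsg.pCoreOf 2 C, ∃ hg : g ∈ C, (⟨g, hg⟩ : C) ∈ D' := by
    rintro _ ⟨g, hg, rfl⟩
    exact ⟨g.2, hg⟩
  by_cases hK2 : IsPGroup 2 (ppOf p C)
  · have hne : Cfsg.pCoreOf 2 C ≠ ⊥ := by
      intro e
      obtain ⟨N', hle, hN'1, hN'2⟩ := hmin K' inferInstance le_rfl hK'1
      apply hK'1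
      have h1 : IsPGroup 2 K' :=
        hK2.of_equiv (K'.equivMapOfInjective C.subtype C.subtype_injective).symm
      refine le_bot_iff.1 fun g hg => mem_bot.2 (Subtype.ext ?_)
      have h2 : (g : G) ∈ Cfsg.pCoreOf 2 C := hmem g (PCore.le_pCore h1 hg)
      rw [e] at h2
      exact mem_bot.1 h2
    obtain ⟨z, hz⟩ := hex 2 Nat.prime_two hp2 hne
    exact ⟨2, z, hz, Or.inr (Or.inr ⟨rfl, hp2, hfull, Or.inl hK2⟩)⟩
  have hK'2 : ¬ IsPGroup 2 K' := fun e => hK2 (e.map C.subtype)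
  have hord : ∀ z ∈ Cfsg.pCoreOf 2 C, orderOf z = 2 → (∀ d ∈ Cfsg.pCoreOf 2 C, z * d = d * z) →
      QCtx p 2 x z := fun z hz hoz hzc => ⟨h, Nat.prime_two, hoz, hz, hzc, fun e => absurd e hp2⟩
  by_cases hab : ∀ a ∈ Cfsg.pCoreOf 2 C, ∀ b ∈ Cfsg.pCoreOf 2 C, a * b = b * a
  · obtain ⟨d, hd, hd2, y, hy, hyodd, hdy, hy2⟩ := exists_odd_acting hK'2 hCK fun a ha b hb =>
      Subtype.ext (hab a (hmem a ha) b (hmem b hb))
    have hzD : ⁅d, y⁆ ∈ D' := by
      rw [commutatorElement_def, show d * y * d⁻¹ * y⁻¹ = d * (y * d⁻¹ * y⁻¹) by group]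
      exact mul_mem hd ((PCore.pCore_normal (p := 2) (G := C)).conj_mem _ (inv_mem hd) y)
    have hz2 : ((⁅d, y⁆ : C) : G) ^ 2 = 1 := by
      have h1 : (y * d⁻¹ * y⁻¹) ∈ D' := (PCore.pCore_normal (p := 2) (G := C)).conj_mem _ (inv_mem hd) y
      have h2 : Commute d (y * d⁻¹ * y⁻¹) := Subtype.ext (hab d (hmem d hd) _ (hmem _ h1))
      rw [← SubgroupClass.coe_pow, commutatorElement_def,
        show d * y * d⁻¹ * y⁻¹ = d * (y * d⁻¹ * y⁻¹) by group, h2.mul_pow, hd2, one_mul, conj_pow, inv_pow,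
        hd2, inv_one, mul_one, mul_inv_cancel, OneMemClass.coe_one]
    have hyp : (orderOf (y : G)).Coprime p := coprime_orderOf_of_mem (coprime_card_ppOf p C) ⟨y, hy, rfl⟩
    refine ⟨2, ((⁅d, y⁆ : C) : G), hord _ (hmem _ hzD)
      (orderOf_eq_prime hz2 fun e => hdy (Subtype.ext e)) (fun a ha => hab _ (hmem _ hzD) a ha),
      Or.inr (Or.inr ⟨rfl, hp2, hfull, Or.inr (Or.inr ⟨hab, d, hmem d hd, by
        rw [← SubgroupClass.coe_pow, hd2, OneMemClass.coe_one], y, y.2, by rwa [orderOf_coe], hyp, rfl,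
        fun c hc => hmem _ (hy2 ⟨c, hc⟩)⟩)⟩)⟩
  · push Not at hab
    obtain ⟨a, ha, b, hb, hab⟩ := hab
    obtain ⟨d, d', hc, ho⟩ := exists_central_commutator (PCore.isPGroup_pCoreOf (p := 2) C)
      ⟨⟨a, ha⟩, ⟨b, hb⟩, fun e => hab (congrArg Subtype.val e)⟩
    refine ⟨2, ((⁅d, d'⁆ : Cfsg.pCoreOf 2 C) : G), hord _ (⁅d, d'⁆).2 (by rw [orderOf_coe, ho])
      (fun e he => (congrArg Subtype.val (mem_center_iff.1 hc ⟨e, he⟩)).symm),
      Or.inr (Or.inr ⟨rfl, hp2, hfull, Or.inr (Or.inl ⟨d, d.2, d', d'.2, rfl⟩)⟩)⟩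

end Cfsg.Agent.TwoGenSolvable
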