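import Mathlib
import Cfsg.Agent.Lib.TwoGenSolvable.MemberBasic
import Cfsg.Agent.Lib.AbelianPComplement.Local

/-!
# The product of two commuting good elements is good
-/

set_option autoImplicit false
set_option linter.style.haveILetI false

namespace Cfsg.Agent.TwoGenSolvable

open Subgroup
open scoped commutatorElement

universe u

variable {G : Type u} [Group G] [Finite G] {p q : ℕ} {x z z' : G}

theorem ZCtx.mul_good (h : ZCtx p q x z) (h' : ZCtx p q x z') (hqp : q ≠ p) (hzz : z * z' = z' * z)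
    (he : z * z' ≠ 1) {H : Subgroup G} (hH : Group.IsSolvable H) (hx : x ∈ H) (hz : z ∈ H) (hz' : z' ∈ H) :
    Good p q x (z * z') H := by
  haveI := Fact.mk h.qprime
  haveI := Fact.mk h.prime
  set Θ := ppOf p H with hΘdef
  set O := ppOf q Θ with hOdef
  set e := z * z' with hedef
  obtain ⟨a, ha, hae⟩ := (h.good H hH hx hz).1 hqp
  obtain ⟨b, hb, hbe⟩ := (h'.good H hH hx hz').1 hqp
  have hE : e ∈ (Cfsg.pPrimePCore q Θ).map Θ.subtype := ⟨a * b, mul_mem ha hb, by rw [map_mul, hae, hbe]⟩
  refine ⟨fun _ => hE, fun r hr hrq W hWΘ hm hW => ?_⟩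
  haveI := Fact.mk hr
  have heq : e ^ q = 1 := by
    rw [hedef, (show Commute z z' from hzz).mul_pow]
    conv_lhs => rw [← h.order_z, pow_orderOf_eq_one, one_mul]
    rw [h.order_z, ← h'.order_z, pow_orderOf_eq_one]
  have hHΘ := le_normalizer_ppOf p H
  have hHO : H ≤ normalizer (O : Set G) :=
    FixedDim.le_normalizer_map_char hHΘ (Cfsg.pPrimeCore q Θ)
  have heH : e ∈ H := mul_mem hz hz'
  -- `W ≤ O`
  have hWO : W ≤ O := by
    intro w hw
    obtain ⟨e', he', hee⟩ := hE
    have hHE : H ≤ normalizer ((Cfsg.pPrimePCore q Θ).map Θ.subtype : Set G) :=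
      FixedDim.le_normalizer_map_char hHΘ _
    have hle : W ≤ (Cfsg.pPrimePCore q Θ).map Θ.subtype := by
      conv_lhs => rw [← hm.eq]
      rw [commutator_le]
      intro w' hw' c hc
      have hcE : c ∈ (Cfsg.pPrimePCore q Θ).map Θ.subtype := zpowers_le.2 (show e ∈ (Cfsg.pPrimePCore q Θ).map Θ.subtype from ⟨e', he', hee⟩) hc
      rw [commutatorElement_def]
      exact mul_mem ((mem_normalizer_iff.1 (hHE (ppOf_le p H (hWΘ hw'))) c).1 hcE) (inv_mem hcE)
    obtain ⟨w', hw', rfl⟩ := hle hw
    refine ⟨w', mem_pPrimeCore_of_coprime hw' ?_, rfl⟩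
    rw [← orderOf_coe]
    exact coprime_orderOf_of_mem (coprime_of_pgroup hr h.qprime hrq hW) hw
  -- a Sylow subgroup invariant under `x`, `z`, `z'`
  set A := closure ({z, z'} : Set G) with hA
  set A' := zpowers x ⊔ A with hA'
  have hxA : zpowers x ≤ normalizer (A : Set G) := by
    rw [zpowers_eq_closure]
    refine le_trans ?_ (centralizer_le_normalizer _)
    rw [closure_le, hA, centralizer_closure, Set.singleton_subset_iff, SetLike.mem_coe, mem_centralizer_iff]
    rintro y (rfl | rfl)
    · exact h.commute.symm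
    · exact h'.commute.symm
  have hcardA : Nat.card A ∣ q * q := by
    have e1 : A = zpowers z ⊔ zpowers z' := by
      rw [hA, zpowers_eq_closure, zpowers_eq_closure, ← Subgroup.closure_union, Set.singleton_union]
    have h1 : zpowers z ≤ normalizer (zpowers z' : Set G) := by
      rw [zpowers_eq_closure z', zpowers_eq_closure z]
      refine le_trans ?_ (centralizer_le_normalizer _)
      rw [closure_le, centralizer_closure, Set.singleton_subset_iff, SetLike.mem_coe, mem_centralizer_iff]
      rintro y rfl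
      exact hzz.symm
    have h2 := AbelianPComplement.card_sup_dvd_mul h1
    rw [← e1, Nat.card_zpowers, Nat.card_zpowers, h.order_z, h'.order_z] at h2
    exact h2
  have hcop : (Nat.card A').Coprime (Nat.card O) := by
    have h1 : Nat.card A' ∣ p * (q * q) := (AbelianPComplement.card_sup_dvd_mul hxA).trans
      (mul_dvd_mul (by rw [Nat.card_zpowers, h.order_x]) hcardA)
    refine Nat.Coprime.coprime_dvd_left h1 ?_
    have hp : p.Coprime (Nat.card O) :=
      ((coprime_card_ppOf p H).coprime_dvd_left (card_dvd_of_le (ppOf_le q _))).symm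
    have hq : q.Coprime (Nat.card O) := (coprime_card_ppOf q _).symm
    exact hp.mul_left (hq.mul_left hq)
  have hA'H : A' ≤ H := sup_le (zpowers_le.2 hx) (by
    rw [hA, closure_le]
    rintro y (rfl | rfl)
    · exact hz
    · exact hz')
  haveI : Group.IsSolvable A' := Coprime.isSolvable_of_le hA'H hH
  obtain ⟨T, hT⟩ := Coprime.exists_invariant_sylow (hA'H.trans hHO) hcop (Or.inl inferInstance) r
  set T' := (T : Subgroup O).map O.subtype with hT'
  have hT'O : T' ≤ O := map_subtype_le _
  have hTz : z ∈ normalizer (T' : Set G) := hT (mem_sup_right (subset_closure (by simp)))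
  have hTz' : z' ∈ normalizer (T' : Set G) := hT (mem_sup_right (subset_closure (by simp)))
  have hTx : x ∈ normalizer (T' : Set G) := hT (mem_sup_left (mem_zpowers x))
  set K := Cfsg.pCoreOf r Θ with hKdef
  have hHK : H ≤ normalizer (K : Set G) := FixedDim.le_normalizer_map_char hHΘ _
  have hTH : T' ≤ H := hT'O.trans ((ppOf_le q _).trans (ppOf_le p H))
  have hone : ∀ w, ZCtx p q x w → w ∈ H → w ∈ normalizer (T' : Set G) → ⁅T', zpowers w⁆ ≤ K := by
    intro w hw hwH hwT
    refine hw.le_core_of_zmoved hr hrq hH hx hwH ((commutator_zpowers_le hwT).trans hTH)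
      ((T.2.map _).to_le (commutator_zpowers_le hwT)) (mem_normalizer_commutator hwT rfl) ?_
    refine Coprime.commutator_commutator_eq (zpowers_le.2 hwT) ?_ (Or.inl inferInstance)
    refine Nat.Coprime.coprime_dvd_right (card_dvd_of_le hT'O) ?_
    rw [Nat.card_zpowers, hw.order_z]
    exact (coprime_card_ppOf q _).symm
  have hTe : ⁅T', zpowers e⁆ ≤ K := by
    have h1 := hone z h hz hTz
    have h2 := hone z' h' hz' hTz'
    rw [commutator_le]
    intro t ht c hc
    obtain ⟨i, rfl⟩ := (isOfFinOrder_of_finite e).mem_powers_iff_mem_zpowers.2 hc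
    show ⁅t, e ^ i⁆ ∈ K
    rw [hedef, (show Commute z z' from hzz).mul_pow, show ⁅t, z ^ i * z' ^ i⁆ =
      ⁅t, z ^ i⁆ * (z ^ i * ⁅t, z' ^ i⁆ * (z ^ i)⁻¹) by simp only [commutatorElement_def]; group]
    exact mul_mem (h1 (commutator_mem_commutator ht (pow_mem (mem_zpowers z) i)))
      ((mem_normalizer_iff.1 (hHK (pow_mem hz i)) _).1
        (h2 (commutator_mem_commutator ht (pow_mem (mem_zpowers z') i))))
  -- conjugate `W` into it
  have heA : zpowers e ≤ A' :=
    zpowers_le.2 (mul_mem (mem_sup_right (subset_closure (by simp))) (mem_sup_right (subset_closure (by simp))))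
  have hcope : (Nat.card (zpowers e)).Coprime (Nat.card O) := hcop.coprime_dvd_left (card_dvd_of_le heA)
  obtain ⟨T₂, hWT, hT₂⟩ := Coprime.exists_invariant_sylow_ge (heA.trans (hA'H.trans hHO)) hcope
    (Or.inl inferInstance) hWO hW (zpowers_le.2 hm.z_norm)
  obtain ⟨c, hcz, hcT⟩ := Coprime.exists_centralizer_smul_sylow (heA.trans (hA'H.trans hHO)) hcope
    (Or.inl inferInstance) T T₂ (heA.trans hT) hT₂
  have hT₂eq : (T₂ : Subgroup O).map O.subtype = T'.map (MulAut.conj (c : G)).toMonoidHom := by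
    rw [← hcT, Sylow.coe_subgroup_smul, Subgroup.pointwise_smul_def]
    ext y
    constructor
    · rintro ⟨_, ⟨t, ht, rfl⟩, rfl⟩
      exact ⟨_, ⟨t, ht, rfl⟩, rfl⟩
    · rintro ⟨_, ⟨t, ht, rfl⟩, rfl⟩
      exact ⟨_, ⟨t, ht, rfl⟩, rfl⟩
  rw [hT₂eq] at hWT
  intro w hw
  rw [← hm.eq] at hw
  have h1 := commutator_mono hWT (le_refl (zpowers e)) hw
  have hec : (zpowers e).map (MulAut.conj (c : G)).toMonoidHom = zpowers e := by
    rw [MonoidHom.map_zpowers]
    congr 1
    exact mul_inv_eq_iff_eq_mul.2 (mem_centralizer_iff.1 hcz e (mem_zpowers e)).symm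
  rw [← hec, ← map_commutator] at h1
  obtain ⟨t, ht, rfl⟩ := h1
  exact (mem_normalizer_iff.1 (hHK (ppOf_le p H (ppOf_le q _ c.2))) t).1 (hTe ht)

end Cfsg.Agent.TwoGenSolvable
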