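import Mathlib
import Cfsg.Agent.Lib.TwoGenSolvable.MemberBasic
import Cfsg.Agent.Lib.PGroup.Basic
import Cfsg.Agent.Lib.PGroup.Frattini
import Cfsg.Agent.Lib.AbelianCent.Fpf
import Cfsg.Agent.Lib.Coprime.Generation

/-!
# Small tools for clusters: fixed points, fixed-point-free groups
-/

set_option autoImplicit false
set_option linter.style.haveILetI false
set_option linter.unusedSectionVars false

namespace Cfsg.Agent.TwoGenSolvable

open Subgroup
open scoped commutatorElement

universe u

variable {G : Type u} [Group G] [Finite G] {p q r s : ℕ} {x z : G} {B : Subgroup G}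

theorem centralizer_le_normalizer_zpowers (a : G) :
    centralizer ({a} : Set G) ≤ normalizer (zpowers a : Set G) := by
  rw [zpowers_eq_closure, ← centralizer_closure]
  exact centralizer_le_normalizer _

theorem card_subgroupOf_dvd (A L : Subgroup G) : Nat.card (A.subgroupOf L) ∣ Nat.card A := by
  rw [← card_map_of_injective (K := A.subgroupOf L) L.subtype_injective, subgroupOf_map_subtype]
  exact card_dvd_of_le inf_le_left

/-- A join of `q'`-subgroups that normalise each other is a `q'`-group. -/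
theorem coprime_of_le_of_normalize {T : Subgroup G}
    (h : T ≤ ⨆ (B : Subgroup G) (_ : B ≤ T ∧ (Nat.card B).Coprime q ∧ T ≤ normalizer (B : Set G)), B) :
    (Nat.card T).Coprime q := by
  have hle : T ≤ (Cfsg.pPrimeCore q T).map T.subtype := h.trans (iSup₂_le fun B ⟨hBT, hBq, hn⟩ => by
    haveI := Coprime.normal_subgroupOf_of_le_normalizer hn
    intro b hb
    refine ⟨⟨b, hBT hb⟩, PCore.le_pPrimeCore (N := B.subgroupOf T) ?_ hb, rfl⟩
    rwa [Nat.card_congr (subgroupOfEquivOfLe hBT).toEquiv])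
  have hdvd := card_dvd_of_le hle
  rw [card_map_of_injective T.subtype_injective] at hdvd
  exact PCore.coprime_card_pPrimeCore.coprime_dvd_left hdvd

theorem MinCE.ne_top_of_coprime (h : MinCE G) (hz : orderOf z = q) (hq : q.Prime) {K : Subgroup G}
    (hK : (Nat.card K).Coprime q) : K ≠ ⊤ := by
  rintro rfl
  rw [card_top] at hK
  exact (hq.coprime_iff_not_dvd.1 hK.symm) (hz ▸ orderOf_dvd_natCard z)

theorem MinCE.solvable_normalizer_of_ne (h : MinCE G) {K : Subgroup G} (h1 : K ≠ ⊥) (h2 : K ≠ ⊤) :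
    normalizer (K : Set G) ≠ ⊤ ∧ Group.IsSolvable ↥(normalizer (K : Set G)) := by
  haveI := h.simple
  have hne : normalizer (K : Set G) ≠ ⊤ := fun ht =>
    (normalizer_eq_top_iff.mp ht).eq_bot_or_eq_top.elim h1 h2
  exact ⟨hne, h.proper _ hne⟩

/-- If `z` centralises `⁅v, z⁆` and the latter has order prime to that of `z`, it is trivial. -/
theorem commute_of_commutator_commute {v : G} (hc : Commute z ⁅v, z⁆)
    (hcop : (orderOf ⁅v, z⁆).Coprime (orderOf z)) : v * z = z * v := by
  have hpow : ⁅v, z⁆ ^ orderOf z = 1 := by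
    have h1 : (⁅v, z⁆ * z) ^ orderOf z = 1 := by
      rw [show ⁅v, z⁆ * z = v * z * v⁻¹ by simp [commutatorElement_def], conj_pow, pow_orderOf_eq_one,
        mul_one, mul_inv_cancel]
    rwa [hc.symm.mul_pow, pow_orderOf_eq_one, mul_one] at h1
  have h1 : orderOf ⁅v, z⁆ = 1 :=
    Nat.eq_one_of_dvd_coprimes hcop dvd_rfl (orderOf_dvd_of_pow_eq_one hpow)
  exact commutatorElement_eq_one_iff_mul_comm.1 (orderOf_eq_one_iff.1 h1)

/-- An element of a coprime group normalised by `z` that normalises `⟨z⟩` commutes with `z`. -/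
theorem commute_of_mem_normalizer {K : Subgroup G} (hzK : z ∈ normalizer (K : Set G))
    (hcop : (Nat.card K).Coprime (orderOf z)) {v : G} (hv : v ∈ K)
    (hvn : v ∈ normalizer (zpowers z : Set G)) : v * z = z * v := by
  have h1 : ⁅v, z⁆ ∈ K := by
    rw [commutatorElement_def, show v * z * v⁻¹ * z⁻¹ = v * (z * v⁻¹ * z⁻¹) by group]
    exact mul_mem hv ((mem_normalizer_iff.1 hzK _).1 (inv_mem hv))
  have h2 : ⁅v, z⁆ ∈ zpowers z := by
    rw [commutatorElement_def]
    exact mul_mem ((mem_normalizer_iff.1 hvn z).1 (mem_zpowers z)) (inv_mem (mem_zpowers z))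
  have h3 : orderOf ⁅v, z⁆ = 1 :=
    Nat.eq_one_of_dvd_coprimes hcop (K.orderOf_dvd_natCard h1) (orderOf_dvd_of_mem_zpowers h2)
  exact commutatorElement_eq_one_iff_mul_comm.1 (orderOf_eq_one_iff.1 h3)

/-- An element of order dividing `q` normalising a subgroup of prime order `q` centralises it. -/
theorem commute_of_pow_prime {a b : G} (hq : q.Prime) (ha : a ^ q = 1) (hb : orderOf b = q)
    (hn : a ∈ normalizer (zpowers b : Set G)) : a * b = b * a := by
  haveI := Fact.mk hq
  obtain ⟨k, hk⟩ := mem_zpowers_iff.1 ((mem_normalizer_iff.1 hn b).1 (mem_zpowers b))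
  have hit : ∀ j : ℕ, a ^ j * b * (a ^ j)⁻¹ = b ^ k ^ j := by
    intro j
    induction j with
    | zero => simp
    | succ j ih =>
      rw [pow_succ', show a * a ^ j * b * (a * a ^ j)⁻¹ = a * (a ^ j * b * (a ^ j)⁻¹) * a⁻¹ by group, ih,
        ← conj_zpow, ← hk, ← zpow_mul, ← pow_succ']
  have h1 := hit q
  rw [ha, one_mul, inv_one, mul_one] at h1
  have h2 : ((1 : ℤ) : ZMod q) = ((k ^ q : ℤ) : ZMod q) := by
    rw [ZMod.intCast_eq_intCast_iff, ← hb, ← zpow_eq_zpow_iff_modEq, zpow_one, hb]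
    exact h1
  push_cast at h2
  rw [ZMod.pow_card] at h2
  have h3 : b ^ k = b ^ (1 : ℤ) := by
    rw [zpow_eq_zpow_iff_modEq, hb, ← ZMod.intCast_eq_intCast_iff]
    push_cast
    exact h2.symm
  rw [hk, zpow_one, mul_inv_eq_iff_eq_mul] at h3
  exact h3

/-- A subgroup that supplements the fixed points of `z` in a member is the whole member. -/
theorem IsMember.eq_of_le_sup (hB : IsMember q x z s B) {K : Subgroup G} (hK : K ≤ B)
    (hzK : z ∈ normalizer (K : Set G)) (hsup : B ≤ K ⊔ B ⊓ centralizer ({z} : Set G)) : K = B := by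
  haveI := Fact.mk hB.sprime
  set M := K ⊔ ⁅B, B⁆ with hM
  have hBB : ⁅B, B⁆ ≤ B := commutator_le_self B
  have hMB : M ≤ B := sup_le hK hBB
  have hBM : B ≤ normalizer (M : Set G) := fun b hb => mem_normalizer_iff.2 fun m => by
    have key : ∀ c ∈ B, ∀ y ∈ M, c * y * c⁻¹ ∈ M := fun c hc y hy => by
      rw [show c * y * c⁻¹ = ⁅c, y⁆ * y by simp [commutatorElement_def]]
      exact mul_mem (mem_sup_right (commutator_mem_commutator hc (hMB hy))) hy
    exact ⟨key b hb m, fun hm => by simpa [mul_assoc] using key b⁻¹ (inv_mem hb) _ hm⟩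
  have hzM : z ∈ normalizer (M : Set G) := by
    refine mem_normalizer_iff_map_conj_eq.2 ?_
    rw [Subgroup.map_sup, map_commutator, mem_normalizer_iff_map_conj_eq.1 hzK,
      mem_normalizer_iff_map_conj_eq.1 hB.moved.z_norm]
  have hle : B ≤ M := by
    conv_lhs => rw [← hB.moved.eq]
    rw [commutator_le]
    intro b hb c hc
    let S : Subgroup G :=
      { carrier := {a | a ∈ B ∧ ∀ c ∈ zpowers z, ⁅a, c⁆ ∈ M}
        one_mem' := ⟨one_mem _, fun c _ => by rw [commutatorElement_one_left]; exact one_mem _⟩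
        mul_mem' := fun {a a'} ha ha' => ⟨mul_mem ha.1 ha'.1, fun c hc => by
          rw [show ⁅a * a', c⁆ = a * ⁅a', c⁆ * a⁻¹ * ⁅a, c⁆ by simp only [commutatorElement_def]; group]
          exact mul_mem ((mem_normalizer_iff.1 (hBM ha.1) _).1 (ha'.2 c hc)) (ha.2 c hc)⟩
        inv_mem' := fun {a} ha => ⟨inv_mem ha.1, fun c hc => by
          rw [show ⁅a⁻¹, c⁆ = a⁻¹ * ⁅a, c⁆⁻¹ * a⁻¹⁻¹ by simp only [commutatorElement_def]; group]
          exact (mem_normalizer_iff.1 (hBM (inv_mem ha.1)) _).1 (inv_mem (ha.2 c hc))⟩ }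
    refine ((sup_le (fun a ha => ?_) fun a ha => ?_ : K ⊔ B ⊓ centralizer ({z} : Set G) ≤ S) (hsup hb)).2 c hc
    · refine ⟨hK ha, fun d hd => ?_⟩
      rw [show ⁅a, d⁆ = a * (d * a⁻¹ * d⁻¹) by simp only [commutatorElement_def]; group]
      exact mul_mem (mem_sup_left ha) ((mem_normalizer_iff.1 (zpowers_le.2 hzM hd) _).1
        (inv_mem (mem_sup_left ha)))
    · refine ⟨ha.1, fun d hd => ?_⟩
      obtain ⟨i, rfl⟩ := hd
      have hcm : Commute a (z ^ i) :=
        (show Commute a z from mem_centralizer_singleton_iff.1 ha.2).zpow_right i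
      rw [show ⁅a, z ^ i⁆ = 1 from commutatorElement_eq_one_iff_mul_comm.2 hcm.eq]
      exact one_mem _
  have hP : IsPGroup s B := hB.pgroup
  have htop : K.subgroupOf B ⊔ frattini B = ⊤ := by
    refine top_unique fun b _ => ?_
    have h1 : K.subgroupOf B ⊔ commutator B = ⊤ := by
      refine map_injective B.subtype_injective ?_
      rw [Subgroup.map_sup, map_subgroupOf_eq_of_le hK, commutator_def, map_commutator,
        ← MonoidHom.range_eq_map, range_subtype]
      exact le_antisymm hMB hle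
    have h2 := mem_top b
    rw [← h1] at h2
    exact (sup_le_sup_left (PGroup.commutator_le_frattini hP) _) h2
  have h3 := frattini_nongenerating htop
  refine le_antisymm hK fun b hb => ?_
  have h4 : (⟨b, hb⟩ : B) ∈ K.subgroupOf B := h3 ▸ mem_top _
  exact h4

/-- A non-trivial `s`-group normalised by an element of order `s` has a non-trivial element commuting with it. -/
theorem exists_commute_of_pgroup [Fact s.Prime] (hB : IsPGroup s B) (hne : B ≠ ⊥) {t : G}
    (ht : IsPGroup s (zpowers t)) (htB : t ∈ normalizer (B : Set G)) : ∃ v ∈ B, v ≠ 1 ∧ t * v = v * t := by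
  set Q := B ⊔ zpowers t with hQ
  have hQp : IsPGroup s Q := hB.to_sup_of_normal_left' ht (zpowers_le.2 htB)
  haveI : (B.subgroupOf Q).Normal :=
    Coprime.normal_subgroupOf_of_le_normalizer (sup_le le_normalizer (zpowers_le.2 htB))
  have hne' : B.subgroupOf Q ≠ ⊥ := fun e => hne (by
    rw [← map_subgroupOf_eq_of_le (le_sup_left : B ≤ Q), ← hQ, e, Subgroup.map_bot])
  obtain ⟨⟨v, hv⟩, hv0⟩ := Subgroup.ne_bot_iff_exists_ne_one.1 (PGroup.inf_center_ne_bot hQp (B.subgroupOf Q) hne')
  have hv1 : v ≠ 1 := fun e => hv0 (Subtype.ext e)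
  refine ⟨v, hv.1, fun e => hv1 (Subtype.ext e), ?_⟩
  exact congrArg Subtype.val (mem_center_iff.1 hv.2 ⟨t, mem_sup_right (mem_zpowers t)⟩)

/-- `N` acts without fixed points on `B`. -/
def IsFpf (N B : Subgroup G) : Prop :=
  ∀ t ∈ N, t ≠ 1 → ∀ v ∈ B, t * v = v * t → v = 1

theorem IsFpf.coprime {N : Subgroup G} (hf : IsFpf N B) [Fact s.Prime] (hB : IsPGroup s B) (hne : B ≠ ⊥)
    (hNB : N ≤ normalizer (B : Set G)) : (Nat.card N).Coprime s := by
  refine ((Fact.out : s.Prime).coprime_iff_not_dvd.2 fun hd => ?_).symm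
  obtain ⟨t, ht⟩ := exists_prime_orderOf_dvd_card' (G := N) s hd
  have ht' : orderOf (t : G) = s := by rw [orderOf_submonoid, ht]
  obtain ⟨v, hv, hv1, hc⟩ := exists_commute_of_pgroup hB hne (t := (t : G))
    (IsPGroup.of_card (n := 1) (by rw [Nat.card_zpowers, ht', pow_one])) (hNB t.2)
  exact hv1 (hf t t.2 (fun e => (Fact.out : s.Prime).ne_one (by rw [← ht', e, orderOf_one])) v hv hc)

/-- Commuting elements of the same prime order generate the same subgroup. -/
theorem IsFpf.mem_zpowers_of_commute {N : Subgroup G} (hf : IsFpf N B) [Fact s.Prime] (hB : IsPGroup s B) (hne : B ≠ ⊥)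
    (hNB : N ≤ normalizer (B : Set G)) (hr : r.Prime) {a b : G} (ha : a ∈ N) (hb : b ∈ N)
    (hao : orderOf a = r) (hbr : b ^ r = 1) (hab : a * b = b * a) : b ∈ zpowers a := by
  haveI := Fact.mk hr
  by_contra hno
  set A := closure ({a, b} : Set G) with hA
  haveI hAc : IsMulCommutative A := isMulCommutative_closure (by
    rintro u (rfl | rfl) v (rfl | rfl) <;> first | rfl | exact hab | exact hab.symm)
  have hAN : A ≤ N := by
    rw [closure_le]; rintro u (rfl | rfl) <;> assumption
  have hAr : ∀ u ∈ A, u ^ r = 1 := fun u hu => by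
    induction hu using closure_induction with
    | mem y hy =>
      rcases hy with rfl | rfl
      · exact hao ▸ pow_orderOf_eq_one _
      · exact hbr
    | one => exact one_pow _
    | mul u v hu' hv' hu hv =>
      have : Commute u v := congrArg Subtype.val (hAc.is_comm.comm ⟨u, hu'⟩ ⟨v, hv'⟩)
      rw [this.mul_pow, hu, hv, one_mul]
    | inv u _ hu => rw [inv_pow, hu, inv_one]
  have hAcyc : ¬ IsCyclic A := by
    intro hc
    obtain ⟨g, hg⟩ := hc.exists_generator
    have hcard : Nat.card A ∣ r := by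
      rw [← orderOf_eq_card_of_forall_mem_zpowers hg, ← orderOf_submonoid]
      exact orderOf_dvd_of_pow_eq_one (hAr g g.2)
    have heq : zpowers a = A := eq_of_le_of_card_ge (zpowers_le.2 (subset_closure (by simp)))
      (by rw [Nat.card_zpowers, hao]; exact Nat.le_of_dvd hr.pos hcard)
    exact hno (heq.ge (subset_closure (by simp)))
  refine hne (Coprime.eq_of_forall_centralizer_le hAcyc (hAN.trans hNB) ?_ bot_le fun c hc hc1 => ?_).symm
  · obtain ⟨n, hn⟩ := IsPGroup.iff_card.1 hB
    rw [hn]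
    exact ((hf.coprime hB hne hNB).coprime_dvd_left (card_dvd_of_le hAN)).pow_right n
  · rintro v ⟨hv, hvc⟩
    exact mem_bot.2 (hf c (hAN hc) hc1 v hv (mem_centralizer_singleton_iff.1 hvc).symm)

/-- An element of prime order normalising a subgroup of another prime order centralises it. -/
theorem IsFpf.commute_of_normalize {N : Subgroup G} (hf : IsFpf N B) [Fact s.Prime] (hB : IsPGroup s B)
    (hne : B ≠ ⊥) (hNB : N ≤ normalizer (B : Set G)) {a y : G} (ha : a ∈ N) (hy : y ∈ N)
    (ha1 : a ≠ 1) (hao : (orderOf a).Prime) (hyo : (orderOf y).Prime)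
    (hn : y ∈ normalizer (zpowers a : Set G)) : y * a = a * y := by
  by_contra hno
  haveI : Nontrivial B := by rwa [nontrivial_iff_ne_bot]
  set V := (center B).map B.subtype with hV
  haveI : IsMulCommutative V := by rw [hV]; infer_instance
  have hVne : V ≠ ⊥ := by
    rw [hV, Ne, map_eq_bot_iff_of_injective _ B.subtype_injective]
    haveI := hB.center_nontrivial
    exact (nontrivial_iff_ne_bot _).1 inferInstance
  have hVB : V ≤ B := map_subtype_le _
  have hNV : N ≤ normalizer (V : Set G) := FixedDim.le_normalizer_map_char hNB _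
  have hkey := AbelianCent.le_centralizer_of_fpf (V := V) (U := zpowers a) (L := zpowers y)
    ((zpowers_le.2 ha).trans hNV) ((zpowers_le.2 hy).trans hNV) (zpowers_le.2 hn) ?_ ?_ ?_
  · obtain ⟨⟨v, hv⟩, hv1⟩ := Subgroup.ne_bot_iff_exists_ne_one.1 hVne
    exact hv1 (Subtype.ext (hf a ha ha1 v (hVB hv)
      (mem_centralizer_iff.1 (hkey (mem_zpowers a)) v hv).symm))
  · obtain ⟨n, hn'⟩ := IsPGroup.iff_card.1 (hB.to_le hVB)
    rw [hn']
    exact ((hf.coprime hB hne hNB).coprime_dvd_left (card_dvd_of_le (zpowers_le.2 ha))).pow_right n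
  · intro l hl hl1 u hu hc
    by_contra hu1
    haveI := Fact.mk hao
    haveI := Fact.mk hyo
    have hal : zpowers a ≤ centralizer ({l} : Set G) := by
      have hu' : zpowers u = zpowers a := eq_of_le_of_card_ge (zpowers_le.2 hu) (by
        rw [Nat.card_zpowers, Nat.card_zpowers, ((Nat.dvd_prime hao).1 (orderOf_dvd_of_mem_zpowers hu)).resolve_left
          (fun e => hu1 (orderOf_eq_one_iff.1 e))])
      rw [← hu', zpowers_le]
      exact mem_centralizer_singleton_iff.2 hc.symm
    have hyl : zpowers y ≤ centralizer ({a} : Set G) := by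
      have hl' : zpowers l = zpowers y := eq_of_le_of_card_ge (zpowers_le.2 hl) (by
        rw [Nat.card_zpowers, Nat.card_zpowers, ((Nat.dvd_prime hyo).1 (orderOf_dvd_of_mem_zpowers hl)).resolve_left
          (fun e => hl1 (orderOf_eq_one_iff.1 e))])
      rw [← hl', zpowers_le]
      exact mem_centralizer_singleton_iff.2 (mem_centralizer_singleton_iff.1 (hal (mem_zpowers a))).symm
    exact hno (mem_centralizer_singleton_iff.1 (hyl (mem_zpowers y)))
  · rw [eq_bot_iff]
    rintro v ⟨hv, hvc⟩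
    exact mem_bot.2 (hf y hy (fun e => hno (by rw [e, one_mul, mul_one])) v (hVB hv)
      (mem_centralizer_iff.1 hvc y (mem_zpowers y)))

/-- Involutions acting without fixed points on an odd-order group coincide. -/
theorem IsFpf.involution_unique {N : Subgroup G} (hf : IsFpf N B) (hne : B ≠ ⊥)
    (hNB : N ≤ normalizer (B : Set G)) {a b : G} (ha : a ∈ N) (hb : b ∈ N) (ha2 : orderOf a = 2)
    (hb2 : orderOf b = 2) : a = b := by
  have hinv : ∀ t ∈ N, orderOf t = 2 → ∀ v ∈ B, t * v * t⁻¹ = v⁻¹ := by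
    intro t ht ht2 v hv
    have ht1 : t ≠ 1 := fun e => by rw [e, orderOf_one] at ht2; omega
    have htt : t * t = 1 := by rw [← pow_two, ← ht2]; exact pow_orderOf_eq_one t
    let f : B → B := fun v => v⁻¹ * ⟨t * (v : G) * t⁻¹, (mem_normalizer_iff.1 (hNB ht) _).1 v.2⟩
    have hinj : Function.Injective f := by
      intro v w hvw
      have e : (v : G)⁻¹ * (t * v * t⁻¹) = (w : G)⁻¹ * (t * w * t⁻¹) := congrArg Subtype.val hvw
      have h1 : (w : G) * (v : G)⁻¹ = 1 := hf t ht ht1 _ (mul_mem w.2 (inv_mem v.2)) (by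
        calc t * ((w : G) * (v : G)⁻¹) = (t * w * t⁻¹) * ((t * v * t⁻¹)⁻¹ * t) := by group
          _ = (w : G) * ((w : G)⁻¹ * (t * w * t⁻¹)) * ((t * v * t⁻¹)⁻¹ * t) := by group
          _ = (w : G) * ((v : G)⁻¹ * (t * v * t⁻¹)) * ((t * v * t⁻¹)⁻¹ * t) := by rw [e]
          _ = (w : G) * (v : G)⁻¹ * t := by group)
      exact Subtype.ext (mul_inv_eq_one.1 h1).symm
    obtain ⟨w, hw⟩ := (Finite.injective_iff_surjective.1 hinj) ⟨v, hv⟩
    have e : (w : G)⁻¹ * (t * w * t⁻¹) = v := congrArg Subtype.val hw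
    have hti : t⁻¹ = t := inv_eq_of_mul_eq_one_right htt
    rw [← e, hti]
    simp only [mul_assoc, mul_inv_rev, inv_inv, hti, htt, mul_one]
  have hab : a * b = 1 := by
    by_contra h1
    obtain ⟨⟨v, hv⟩, hv1⟩ := Subgroup.ne_bot_iff_exists_ne_one.1 hne
    refine hv1 (Subtype.ext (hf (a * b) (mul_mem ha hb) h1 v hv ?_))
    have e1 : a * b * v * (a * b)⁻¹ = v := by
      rw [show a * b * v * (a * b)⁻¹ = a * (b * v * b⁻¹) * a⁻¹ by group, hinv b hb hb2 v hv,
        hinv a ha ha2 _ (inv_mem hv), inv_inv]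
    calc a * b * v = (a * b * v * (a * b)⁻¹) * (a * b) := by group
      _ = v * (a * b) := by rw [e1]
  have haa : a * a = 1 := by rw [← pow_two, ← ha2]; exact pow_orderOf_eq_one a
  exact mul_left_cancel (haa.trans hab.symm)

end Cfsg.Agent.TwoGenSolvable
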