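import Mathlib
import Cfsg.Agent.Lib.Coprime.Commutator
import Cfsg.Agent.Lib.Coprime.Basic

/-!
# The lower exponent-`s` central series of a subgroup and generators of its layers
-/

set_option autoImplicit false
set_option linter.style.haveILetI false
set_option linter.unusedSectionVars false

namespace Cfsg.Agent.TwoGenSolvable

open Subgroup
open scoped commutatorElement

universe u

variable {G : Type u} [Group G] [Finite G] {s : ℕ} {B : Subgroup G}

/-- The lower exponent-`s` central series of `B`, starting with `B` at `0`. -/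
def sSer (B : Subgroup G) (s : ℕ) : ℕ → Subgroup G
  | 0 => B
  | k + 1 => ⁅sSer B s k, B⁆ ⊔ closure {y | ∃ a ∈ sSer B s k, y = a ^ s}

theorem sSer_zero : sSer B s 0 = B := rfl

theorem sSer_succ (k : ℕ) :
    sSer B s (k + 1) = ⁅sSer B s k, B⁆ ⊔ closure {y | ∃ a ∈ sSer B s k, y = a ^ s} := rfl

theorem sSer_conj_mem {g : G} (hg : g ∈ normalizer (B : Set G)) :
    ∀ k, g ∈ normalizer (sSer B s k : Set G) := by
  intro k
  induction k with
  | zero => exact hg
  | succ k ih =>
    refine mem_normalizer_iff_map_conj_eq.2 ?_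
    rw [sSer_succ, Subgroup.map_sup, map_commutator, mem_normalizer_iff_map_conj_eq.1 ih,
      mem_normalizer_iff_map_conj_eq.1 hg, MonoidHom.map_closure]
    congr 2
    ext y
    constructor
    · rintro ⟨_, ⟨a, ha, rfl⟩, rfl⟩
      exact ⟨g * a * g⁻¹, (mem_normalizer_iff.1 ih a).1 ha, (map_pow (MulAut.conj g).toMonoidHom a s)⟩
    · rintro ⟨a, ha, rfl⟩
      refine ⟨(g⁻¹ * a * g) ^ s, ⟨_, ?_, rfl⟩, ?_⟩
      · exact (mem_normalizer_iff.1 ih _).2 (by simpa [mul_assoc] using ha)
      · rw [map_pow]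
        congr 1
        show g * (g⁻¹ * a * g) * g⁻¹ = a
        group

theorem le_normalizer_sSer (k : ℕ) : B ≤ normalizer (sSer B s k : Set G) :=
  fun _ hb => sSer_conj_mem (le_normalizer hb) k

theorem sSer_succ_le (k : ℕ) : sSer B s (k + 1) ≤ sSer B s k := by
  rw [sSer_succ]
  refine sup_le (Coprime.commutator_le_left_of_le_normalizer (le_normalizer_sSer k)) ((closure_le _).2 ?_)
  rintro _ ⟨a, ha, rfl⟩
  exact pow_mem ha s

theorem sSer_le (k : ℕ) : sSer B s k ≤ B := by
  induction k with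
  | zero => exact le_rfl
  | succ k ih => exact (sSer_succ_le k).trans ih

theorem sSer_antitone : Antitone (sSer B s) := antitone_nat_of_succ_le fun k => sSer_succ_le k

theorem commutator_sSer_le (k : ℕ) : ⁅sSer B s k, B⁆ ≤ sSer B s (k + 1) := le_sup_left

theorem pow_mem_sSer_succ {k : ℕ} {a : G} (ha : a ∈ sSer B s k) : a ^ s ∈ sSer B s (k + 1) :=
  mem_sup_right (subset_closure ⟨a, ha, rfl⟩)

/-- A proper subgroup of an `s`-group lies in a normal subgroup `K` with exponent `s`, abelian quotient. -/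
theorem exists_maximal_normal [Fact s.Prime] {P : Type u} [Group P] [Finite P] (hP : IsPGroup s P)
    {H : Subgroup P} (hH : H ≠ ⊤) :
    ∃ K : Subgroup P, H ≤ K ∧ K ≠ ⊤ ∧ K.Normal ∧ (∀ a : P, a ^ s ∈ K) ∧ ∀ a b : P, ⁅a, b⁆ ∈ K := by
  haveI : Group.IsNilpotent P := hP.isNilpotent
  obtain ⟨K, hK, hHK⟩ := (eq_top_or_exists_le_coatom H).resolve_left hH
  haveI hKn : K.Normal := NormalizerCondition.normal_of_coatom K Group.normalizerCondition_of_isNilpotent hK
  have hQ : IsPGroup s (P ⧸ K) := hP.to_quotient K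
  haveI : Nontrivial (P ⧸ K) := QuotientGroup.nontrivial_iff.2 hK.1
  have hmin : ∀ M : Subgroup (P ⧸ K), M = ⊥ ∨ M = ⊤ := by
    intro M
    rcases hK.le_iff.1 (show K ≤ M.comap (QuotientGroup.mk' K) from
      (QuotientGroup.ker_mk' K).ge.trans (MonoidHom.ker_le_comap _ _)) with h | h
    · right
      rw [← map_comap_eq_self_of_surjective (QuotientGroup.mk'_surjective K) M, h,
        map_top_of_surjective _ (QuotientGroup.mk'_surjective K)]
    · left
      rw [← map_comap_eq_self_of_surjective (QuotientGroup.mk'_surjective K) M, h]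
      exact (Subgroup.map_eq_bot_iff _).2 (QuotientGroup.ker_mk' K).ge
  haveI := hQ.center_nontrivial
  have hcen : center (P ⧸ K) = ⊤ := (hmin _).resolve_left ((nontrivial_iff_ne_bot _).1 inferInstance)
  obtain ⟨y, hy⟩ := exists_prime_orderOf_dvd_card' (G := P ⧸ K) s (by
    obtain ⟨n, hn⟩ := IsPGroup.iff_card.1 hQ
    rw [hn]
    refine dvd_pow_self s fun h0 => ?_
    have := Finite.one_lt_card (α := P ⧸ K)
    rw [hn, h0, pow_zero] at this
    exact lt_irrefl 1 this)
  have hy1 : zpowers y = ⊤ := (hmin _).resolve_left fun hb => by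
    rw [zpowers_eq_bot.1 hb, orderOf_one] at hy
    exact (Fact.out : s.Prime).ne_one hy.symm
  refine ⟨K, hHK, hK.1, hKn, fun a => ?_, fun a b => ?_⟩
  · rw [← QuotientGroup.eq_one_iff, QuotientGroup.mk_pow]
    obtain ⟨i, hi⟩ : (a : P ⧸ K) ∈ zpowers y := hy1 ▸ mem_top _
    rw [← show y ^ i = (a : P ⧸ K) from hi, ← zpow_natCast, ← zpow_mul, mul_comm, zpow_mul, zpow_natCast,
      ← hy, pow_orderOf_eq_one, one_zpow]
  · rw [← QuotientGroup.eq_one_iff]
    show QuotientGroup.mk' K ⁅a, b⁆ = 1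
    rw [map_commutatorElement, commutatorElement_eq_one_iff_mul_comm]
    exact mem_center_iff.1 (hcen ▸ mem_top _) _

/-- The Frattini property of the first term. -/
theorem eq_of_sup_sSer_one [Fact s.Prime] (hB : IsPGroup s B) {X : Subgroup G} (hX : X ≤ B)
    (h : X ⊔ sSer B s 1 = B) : X = B := by
  by_contra hne
  obtain ⟨K, hXK, hKt, -, hKp, hKc⟩ := exists_maximal_normal hB (H := X.subgroupOf B)
    (fun e => hne (le_antisymm hX (subgroupOf_eq_top.1 e)))
  refine hKt (eq_top_iff.2 fun b _ => ?_)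
  have h1 : B ≤ K.map B.subtype := by
    conv_lhs => rw [← h]
    refine sup_le (fun y hy => ⟨⟨y, hX hy⟩, hXK hy, rfl⟩) ?_
    rw [sSer_succ, sSer_zero, sup_le_iff, commutator_le, closure_le]
    refine ⟨fun a ha c hc => ⟨_, hKc ⟨a, ha⟩ ⟨c, hc⟩, rfl⟩, ?_⟩
    rintro _ ⟨a, ha, rfl⟩
    exact ⟨_, hKp ⟨a, ha⟩, rfl⟩
  obtain ⟨b', hb', he⟩ := h1 b.2
  rwa [← Subtype.ext he]

theorem sSer_succ_lt [Fact s.Prime] (hB : IsPGroup s B) {k : ℕ} (hk : sSer B s k ≠ ⊥) :
    sSer B s (k + 1) < sSer B s k := by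
  refine lt_of_le_of_ne (sSer_succ_le k) fun he => ?_
  have hlt := Coprime.commutator_lt_of_isPGroup hB (hB.to_le (sSer_le (s := s) k)) (le_normalizer_sSer k) hk
  obtain ⟨K, hDK, hKt, -, hKp, -⟩ := exists_maximal_normal (hB.to_le (sSer_le (s := s) k))
    (H := ⁅sSer B s k, B⁆.subgroupOf (sSer B s k))
    (fun e => hlt.ne (le_antisymm hlt.le (subgroupOf_eq_top.1 e)))
  refine hKt (eq_top_iff.2 fun b _ => ?_)
  have h1 : sSer B s (k + 1) ≤ K.map (sSer B s k).subtype := by
    rw [sSer_succ, sup_le_iff, closure_le]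
    refine ⟨fun y hy => ⟨⟨y, hlt.le hy⟩, hDK hy, rfl⟩, ?_⟩
    rintro _ ⟨a, ha, rfl⟩
    exact ⟨_, hKp ⟨a, ha⟩, rfl⟩
  obtain ⟨b', hb', hbe⟩ := h1 (he.ge b.2)
  rwa [← Subtype.ext hbe]

/-- Generators of a layer: commutators and powers of generators of `B`. -/
theorem sSer_succ_le_gen {S : Set G} (hS : B ≤ closure S) (hSB : S ⊆ B) :
    ∀ k, sSer B s (k + 1) ≤
      (⁅sSer B s k, B⁆ ⊔ sSer B s (k + 2)) ⊔ closure {y | ∃ u ∈ S, y = u ^ s ^ (k + 1)} := by
  -- the `s`-th power is multiplicative modulo `R`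
  have step : ∀ (k : ℕ) (Gen : Set G), Gen ⊆ (sSer B s k : Set G) →
      sSer B s k ≤ closure Gen ⊔ sSer B s (k + 1) →
      ∀ Tg : Subgroup G, ⁅sSer B s k, B⁆ ⊔ sSer B s (k + 2) ≤ Tg →
        (∀ a ∈ Gen, a ^ s ∈ Tg) → sSer B s (k + 1) ≤ Tg := by
    intro k Gen hGenle hgen Tg hTg hpow
    set R := ⁅sSer B s k, B⁆ ⊔ sSer B s (k + 2) with hR
    have hRB : R ≤ B := sup_le ((commutator_sSer_le k).trans (sSer_le _)) (sSer_le _)
    have hRn : B ≤ normalizer (R : Set G) := le_normalizer_iff_commutator_le_left.2 (le_trans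
      (le_trans (commutator_mono (sup_le ((commutator_sSer_le k).trans (sSer_succ_le k))
        ((sSer_antitone (Nat.le_add_right k 2)))) le_rfl) le_sup_left) le_rfl)
    haveI := Coprime.normal_subgroupOf_of_le_normalizer hRn
    set π := QuotientGroup.mk' (R.subgroupOf B) with hπ
    have hcomm : ∀ a b : B, (a : G) ∈ sSer B s k → π a * π b = π b * π a := fun a b ha => by
      rw [← commutatorElement_eq_one_iff_mul_comm, ← map_commutatorElement]
      refine (QuotientGroup.eq_one_iff _).2 (mem_subgroupOf.2 (mem_sup_left ?_))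
      exact commutator_mem_commutator ha b.2
    have hmem : ∀ a b : B, π a = π b → (a : G) ∈ Tg → (b : G) ∈ Tg := fun a b hab ha => by
      have h1 : (a⁻¹ * b : B) ∈ R.subgroupOf B := QuotientGroup.eq.1 hab
      have := mul_mem ha (hTg (mem_subgroupOf.1 h1))
      simpa using this
    let D : Subgroup G :=
      { carrier := {a | a ∈ sSer B s k ∧ a ^ s ∈ Tg}
        one_mem' := ⟨one_mem _, by rw [one_pow]; exact one_mem _⟩
        mul_mem' := fun {a b} ha hb => ⟨mul_mem ha.1 hb.1, by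
          have h1 : π ((⟨a, sSer_le k ha.1⟩ : B) ^ s * (⟨b, sSer_le k hb.1⟩ : B) ^ s) =
              π ((⟨a, sSer_le k ha.1⟩ * ⟨b, sSer_le k hb.1⟩ : B) ^ s) := by
            rw [map_mul, map_pow, map_pow, map_pow, map_mul,
              (show Commute (π ⟨a, sSer_le k ha.1⟩) (π ⟨b, sSer_le k hb.1⟩) from hcomm _ _ ha.1).mul_pow]
          simpa using hmem _ _ h1 (by simpa using mul_mem ha.2 hb.2)⟩
        inv_mem' := fun {a} ha => ⟨inv_mem ha.1, by rw [inv_pow]; exact inv_mem ha.2⟩ }
    have hD : sSer B s k ≤ D := by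
      refine hgen.trans (sup_le ((closure_le _).2 fun a ha => ⟨hGenle ha, hpow a ha⟩) fun a ha => ?_)
      exact ⟨sSer_succ_le k ha, hTg (mem_sup_right (pow_mem_sSer_succ ha))⟩
    rw [sSer_succ, sup_le_iff, closure_le]
    refine ⟨le_sup_left.trans hTg, ?_⟩
    rintro _ ⟨a, ha, rfl⟩
    exact (hD ha).2
  intro k
  induction k with
  | zero =>
    refine step 0 S hSB (le_sup_of_le_left hS) _ le_sup_left fun a ha => ?_
    exact mem_sup_right (subset_closure ⟨a, ha, by rw [zero_add, pow_one]⟩)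
  | succ k ih =>
    set C : Set G := {y | ∃ a ∈ sSer B s k, ∃ b ∈ B, y = ⁅a, b⁆}
    set U : Set G := {y | ∃ u ∈ S, y = u ^ s ^ (k + 1)}
    have hU : U ⊆ (sSer B s (k + 1) : Set G) := by
      have hall : ∀ j : ℕ, ∀ u ∈ S, u ^ s ^ j ∈ sSer B s j := by
        intro j
        induction j with
        | zero => intro u hu; rw [pow_zero, pow_one]; exact hSB hu
        | succ j ihj => intro u hu; rw [pow_succ, pow_mul]; exact pow_mem_sSer_succ (ihj u hu)
      rintro _ ⟨u, hu, rfl⟩
      exact hall _ u hu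
    have hC : C ⊆ (sSer B s (k + 1) : Set G) := by
      rintro _ ⟨a, ha, b, hb, rfl⟩
      exact commutator_sSer_le k (commutator_mem_commutator ha hb)
    refine step (k + 1) (C ∪ U) (Set.union_subset hC hU) ?_ _ le_sup_left ?_
    · refine ih.trans (sup_le (sup_le ?_ le_sup_right) (le_sup_of_le_left (closure_mono Set.subset_union_right)))
      rw [commutator_le]
      intro a ha b hb
      exact mem_sup_left (subset_closure (Or.inl ⟨a, ha, b, hb, rfl⟩))
    · rintro _ (⟨a, ha, b, hb, rfl⟩ | ⟨u, hu, rfl⟩)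
      · set c := ⁅a, b⁆
        have hc : c ∈ sSer B s (k + 1) := commutator_sSer_le k (commutator_mem_commutator ha hb)
        set R := ⁅sSer B s (k + 1), B⁆ ⊔ sSer B s (k + 3) with hR
        have hasa : a ^ s ∈ sSer B s (k + 1) := pow_mem_sSer_succ ha
        have h1 : ∀ i : ℕ, (c ^ i)⁻¹ * ⁅a ^ i, b⁆ ∈ R := by
          have hRn : B ≤ normalizer (R : Set G) := le_normalizer_iff_commutator_le_left.2
            ((commutator_mono (sup_le ((commutator_sSer_le (k + 1)).trans (sSer_succ_le (k + 1)))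
              (sSer_antitone (Nat.le_add_right (k + 1) 2))) le_rfl).trans le_sup_left)
          intro i
          induction i with
          | zero => simp
          | succ i ihi =>
            -- `⁅a ^ (i + 1), b⁆ = a ⁅a ^ i, b⁆ a⁻¹ * c`
            have haB : a ∈ B := sSer_le k ha
            have e1 : ⁅a ^ (i + 1), b⁆ = a * ⁅a ^ i, b⁆ * a⁻¹ * c := by
              show _ = a * ⁅a ^ i, b⁆ * a⁻¹ * ⁅a, b⁆
              rw [pow_succ', commutatorElement_def, commutatorElement_def, commutatorElement_def]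
              group
            have e2 : a * c ^ i * a⁻¹ * (c ^ i)⁻¹ ∈ R := by
              refine mem_sup_left ?_
              rw [commutator_comm]
              exact commutator_mem_commutator haB (pow_mem hc i)
            have e3 : (c ^ i)⁻¹ * (a * c ^ i * a⁻¹) ∈ R := by
              have := (mem_normalizer_iff.1 (hRn (sSer_le _ (inv_mem (pow_mem hc i)))) _).1 e2
              simpa [mul_assoc] using this
            have e4 : c⁻¹ * ((c ^ i)⁻¹ * (a * c ^ i * a⁻¹) * (a * ((c ^ i)⁻¹ * ⁅a ^ i, b⁆) * a⁻¹)) * c ∈ R := by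
              have := (mem_normalizer_iff.1 (hRn (sSer_le _ (inv_mem hc))) _).1
                (mul_mem e3 ((mem_normalizer_iff.1 (hRn haB) _).1 ihi))
              simpa using this
            rw [e1, pow_succ]
            convert e4 using 1
            group
        have h2 : R ≤ ⁅sSer B s (k + 1), B⁆ ⊔ sSer B s (k + 3) ⊔ closure {y | ∃ u ∈ S, y = u ^ s ^ (k + 2)} :=
          le_sup_left
        have h3 : c ^ s ∈ R := by
          have h4 : ⁅a ^ s, b⁆ ∈ R := mem_sup_left (commutator_mem_commutator hasa hb)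
          have := mul_mem h4 (inv_mem (h1 s))
          rwa [mul_inv_rev, inv_inv, mul_inv_cancel_left] at this
        exact h2 h3
      · exact mem_sup_right (subset_closure ⟨u, hu, by rw [← pow_mul, ← pow_succ]⟩)

end Cfsg.Agent.TwoGenSolvable
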