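import Mathlib
import Cfsg.Agent.Lib.TwoGenSolvable.SSeries

/-!
# Covering fixed points on a central layer

For a layer `L ≤ K` central in `B` and an abelian group `A` of order prime to `|B|`, `exists_cov` gives the
subgroup of elements of `K` whose `A`-norm lies in `T L`.
-/

set_option autoImplicit false
set_option linter.style.haveILetI false
set_option linter.unusedSectionVars false

namespace Cfsg.Agent.TwoGenSolvable

open Subgroup
open scoped commutatorElement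

universe u

variable {G : Type u} [Group G] [Finite G]

theorem exists_cov {A B K L T : Subgroup G} (hLK : L ≤ K) (hKB : K ≤ B) (hLB : B ≤ normalizer (L : Set G))
    (hcentral : ⁅K, B⁆ ≤ L) (hAK : A ≤ normalizer (K : Set G))
    (hAL : A ≤ normalizer (L : Set G)) (hAc : ∀ a ∈ A, ∀ b ∈ A, a * b = b * a)
    (hcop : (Nat.card A).Coprime (Nat.card B)) :
    ∃ Cov : Subgroup G, L ≤ Cov ∧ Cov ≤ K ∧ (∀ a ∈ K, ∀ c ∈ A, a⁻¹ * (c * a * c⁻¹) ∈ Cov) ∧
      (∀ M : Subgroup G, M ≤ B → A ≤ normalizer (M : Set G) →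
        M ⊓ centralizer (A : Set G) ≤ T → M ⊓ K ≤ Cov) ∧
      ∀ a ∈ Cov, a ∈ centralizer (A : Set G) → ∃ t ∈ T ⊓ K, t⁻¹ * a ∈ L := by
  classical
  letI := Fintype.ofFinite A
  haveI := Coprime.normal_subgroupOf_of_le_normalizer hLB
  set π := QuotientGroup.mk' (L.subgroupOf B) with hπ
  have hπK : ∀ a : B, (a : G) ∈ K → π a ∈ center (B ⧸ L.subgroupOf B) := by
    intro a ha
    refine mem_center_iff.2 fun y => ?_
    obtain ⟨y, rfl⟩ := QuotientGroup.mk'_surjective (L.subgroupOf B) y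
    rw [eq_comm, ← commutatorElement_eq_one_iff_mul_comm, ← map_commutatorElement]
    exact (QuotientGroup.eq_one_iff _).2 (mem_subgroupOf.2 (hcentral (commutator_mem_commutator ha y.2)))
  let Z := center (B ⧸ L.subgroupOf B)
  letI : CommGroup Z := { (inferInstance : Group Z) with
    mul_comm := fun a b => Subtype.ext (mem_center_iff.1 b.2 a) }
  let ι : K →* Z := ((π.comp (inclusion hKB)).codRestrict Z fun a => hπK _ a.2)
  have hι : ∀ a b : K, ι a = ι b ↔ (a : G)⁻¹ * b ∈ L := fun a b => by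
    rw [Subtype.ext_iff]
    show π (inclusion hKB a) = π (inclusion hKB b) ↔ _
    rw [hπ, QuotientGroup.mk'_eq_mk']
    constructor
    · rintro ⟨l, hl, hl'⟩
      rw [← show (a : G) * (l : G) = b from congrArg Subtype.val hl']
      simpa using (mem_subgroupOf.1 hl)
    · intro h
      exact ⟨(inclusion hKB a)⁻¹ * inclusion hKB b, mem_subgroupOf.2 h, by group⟩
  let ψ : A → K →* K := fun c =>
    { toFun := fun a => ⟨(c : G) * a * (c : G)⁻¹, (mem_normalizer_iff.1 (hAK c.2) a).1 a.2⟩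
      map_one' := Subtype.ext (by simp)
      map_mul' := fun a b => Subtype.ext (by simp [mul_assoc]) }
  let ν : K →* Z := ∏ c : A, ι.comp (ψ c)
  have hν : ∀ a, ν a = ∏ c : A, ι (ψ c a) := fun a => by
    simp only [ν, MonoidHom.finsetProd_apply, MonoidHom.comp_apply]
  set Tb : Subgroup Z := ((T ⊓ K).subgroupOf K).map ι with hTb
  refine ⟨(Tb.comap ν).map K.subtype, ?_, map_subtype_le _, ?_, ?_, ?_⟩
  · intro l hl
    refine ⟨⟨l, hLK hl⟩, ?_, rfl⟩
    show ν ⟨l, hLK hl⟩ ∈ Tb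
    rw [hν, Finset.prod_eq_one fun c _ => ?_]
    · exact one_mem _
    rw [← map_one ι, eq_comm, hι]
    simpa [ψ] using (mem_normalizer_iff.1 (hAL c.2) l).1 hl
  · intro a ha c hc
    refine ⟨⟨a, ha⟩⁻¹ * ψ ⟨c, hc⟩ ⟨a, ha⟩, ?_, rfl⟩
    show ν _ ∈ Tb
    have h1 : ν (ψ ⟨c, hc⟩ ⟨a, ha⟩) = ν ⟨a, ha⟩ := by
      rw [hν, hν]
      refine Fintype.prod_equiv (Equiv.mulRight (⟨c, hc⟩ : A)) _ _ fun d => congrArg ι (Subtype.ext ?_)
      show (d : G) * (c * a * c⁻¹) * (d : G)⁻¹ = ((d : G) * c) * a * ((d : G) * c)⁻¹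
      group
    rw [map_mul, map_inv, h1, inv_mul_cancel]
    exact one_mem _
  · intro M hMB hAM hMT a ha
    refine ⟨⟨a, ha.2⟩, ?_, rfl⟩
    show ν ⟨a, ha.2⟩ ∈ Tb
    -- a representative of the norm in `M ⊓ K`
    obtain ⟨m, hm, hmν⟩ : ν ⟨a, ha.2⟩ ∈ ((M ⊓ K).subgroupOf K).map ι := by
      rw [hν]
      refine Subgroup.prod_mem _ fun c _ => ⟨ψ c ⟨a, ha.2⟩, mem_subgroupOf.2 ?_, rfl⟩
      exact mem_inf.2 ⟨(mem_normalizer_iff.1 (hAM c.2) a).1 ha.1, (mem_normalizer_iff.1 (hAK c.2) a).1 ha.2⟩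
    have hmL : ∀ c ∈ A, (m : G)⁻¹ * c * m * c⁻¹ ∈ M ⊓ L := by
      intro c hc
      have hmM : (m : G) ∈ M := (mem_subgroupOf.1 hm).1
      refine mem_inf.2 ⟨?_, ?_⟩
      · rw [show (m : G)⁻¹ * c * m * c⁻¹ = (m : G)⁻¹ * (c * m * c⁻¹) by group]
        exact mul_mem (inv_mem hmM) ((mem_normalizer_iff.1 (hAM hc) _).1 hmM)
      · have h1 : ι m = ι (ψ ⟨c, hc⟩ m) := by
          have h2 : ∀ b b' : K, ι b = ι b' → ι (ψ ⟨c, hc⟩ b) = ι (ψ ⟨c, hc⟩ b') := fun b b' hbb => by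
            rw [hι] at hbb ⊢
            have := (mem_normalizer_iff.1 (hAL hc) _).1 hbb
            simpa [ψ, mul_assoc] using this
          obtain ⟨n, hn⟩ : ∃ n : K, ι n = ν ⟨a, ha.2⟩ ∧ ι (ψ ⟨c, hc⟩ n) = ν ⟨a, ha.2⟩ := by
            have hex : ∀ s : Finset A, ∃ n : K, ι n = ∏ d ∈ s, ι (ψ d ⟨a, ha.2⟩) ∧
                ι (ψ ⟨c, hc⟩ n) = ∏ d ∈ s, ι (ψ (⟨c, hc⟩ * d) ⟨a, ha.2⟩) := by
              intro s
              induction s using Finset.induction_on with
              | empty => exact ⟨1, map_one ι, by rw [map_one, map_one]; rfl⟩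
              | insert d s hd ih =>
                obtain ⟨n, hn1, hn2⟩ := ih
                refine ⟨ψ d ⟨a, ha.2⟩ * n, by rw [Finset.prod_insert hd, map_mul, hn1], ?_⟩
                rw [Finset.prod_insert hd, map_mul, map_mul, hn2]
                congr 2
                refine Subtype.ext ?_
                show c * ((d : G) * a * (d : G)⁻¹) * c⁻¹ = (c * (d : G)) * a * (c * (d : G))⁻¹
                group
            obtain ⟨n, hn1, hn2⟩ := hex Finset.univ
            refine ⟨n, by rw [hn1, hν], hn2.trans ?_⟩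
            rw [hν]
            exact Fintype.prod_equiv (Equiv.mulLeft (⟨c, hc⟩ : A)) _ _ fun d => rfl
          rw [hmν, ← hn.2]
          exact (h2 _ _ (hmν.trans hn.1.symm)).symm
        rw [hι] at h1
        simpa [ψ, mul_assoc] using h1
    have hAML : A ≤ normalizer ((M ⊓ L : Subgroup G) : Set G) := fun c hc =>
      inf_normalizer_le_normalizer_inf ⟨hAM hc, hAL hc⟩
    obtain ⟨c₀, hc₀, hc₀'⟩ := Coprime.exists_mem_inf_centralizer_leftCoset (A := A) (K := M ⊓ K) (N := M ⊓ L)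
      hAML (inf_le_inf_left M hLK) (hcop.coprime_dvd_right (card_dvd_of_le (inf_le_left.trans hMB)))
      (Or.inl (Group.isSolvable_of_comm fun a b => Subtype.ext (hAc a a.2 b b.2)))
      (mem_subgroupOf.1 hm) hmL
    refine ⟨⟨c₀, hc₀.1.2⟩, mem_subgroupOf.2 (mem_inf.2 ⟨hMT (mem_inf.2 ⟨hc₀.1.1, hc₀.2⟩), hc₀.1.2⟩), ?_⟩
    rw [← hmν, eq_comm, hι]
    exact hc₀'.2
  · rintro _ ⟨a, ha, rfl⟩ hac
    have hfix : ν a = ι a ^ Nat.card A := by
      rw [hν, Finset.prod_congr rfl fun c _ => show ι (ψ c a) = ι a from congrArg ι (Subtype.ext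
        (show (c : G) * (a : G) * (c : G)⁻¹ = a from mul_inv_eq_iff_eq_mul.2 (mem_centralizer_iff.1 hac c c.2))),
        Finset.prod_const, Finset.card_univ, Nat.card_eq_fintype_card]
    have hord : (Nat.card A).Coprime (orderOf (ι a)) := by
      refine hcop.coprime_dvd_right ((orderOf_map_dvd ι a).trans ?_)
      rw [← orderOf_submonoid]
      exact B.orderOf_dvd_natCard (hKB a.2)
    obtain ⟨m, hm⟩ := exists_pow_eq_self_of_coprime hord
    have h1 : ι a ∈ Tb := by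
      rw [← hm]
      exact pow_mem (hfix ▸ ha) m
    obtain ⟨t, ht, hta⟩ := h1
    exact ⟨t, mem_subgroupOf.1 ht, (hι t a).1 hta⟩

end Cfsg.Agent.TwoGenSolvable
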