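import Mathlib
import Cfsg.Agent.Lib.TwoGenSolvable.Found

/-!
# Solvable subgroups containing `x`, an element commuting with it and an arbitrary element
-/

set_option autoImplicit false

namespace Cfsg.Agent.TwoGenSolvable

open Subgroup

universe u

variable {G : Type u} [Group G] [Finite G] {p q : ℕ} {x z : G}

/-- The slot: `u` commutes with `x` and has order prime to `p`, `g` is arbitrary. -/
theorem XCtx.exists_solvable_of_commute (h : XCtx p x) {c : G} (hxc : x * c = c * x)
    (hc : (orderOf c).Coprime p) (g : G) :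
    ∃ H : Subgroup G, H ≠ ⊤ ∧ Group.IsSolvable H ∧ x ∈ H ∧ c ∈ H ∧ g ∈ H := by
  set H := closure ({x * c, g} : Set G)
  have hne : H ≠ ⊤ := h.pair _ _
  have hm : x * c ∈ H := subset_closure (by simp)
  have hC : Commute x c := hxc
  have hxH : x ∈ H := by
    have h1 : x ^ orderOf c ∈ H := by
      have := pow_mem hm (orderOf c)
      rwa [hC.mul_pow, pow_orderOf_eq_one, mul_one] at this
    have hcop : (orderOf x).Coprime (orderOf c) := by rw [h.order_x]; exact hc.symm
    obtain ⟨m, hm⟩ := exists_pow_eq_self_of_coprime hcop.symm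
    rw [← hm]
    exact pow_mem h1 m
  refine ⟨H, hne, h.proper _ hne, hxH, ?_, subset_closure (by simp)⟩
  have := mul_mem (inv_mem hxH) hm
  rwa [inv_mul_cancel_left] at this

/-- The element `z` with a `c` commuting with `x` and `z`, of order prime to `q` and `p`. -/
theorem QCtx.exists_solvable_of_commute (h : QCtx p q x z) {c : G} (hxc : x * c = c * x)
    (hzc : z * c = c * z) (hcp : (orderOf c).Coprime p) (hcq : (orderOf c).Coprime q) (g : G) :
    ∃ H : Subgroup G, H ≠ ⊤ ∧ Group.IsSolvable H ∧ x ∈ H ∧ z ∈ H ∧ c ∈ H ∧ g ∈ H := by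
  rcases eq_or_ne q p with hqp | hqp
  · obtain ⟨H, h1, h2, hx, hc', hg⟩ := h.toXCtx.exists_solvable_of_commute hxc hcp g
    exact ⟨H, h1, h2, hx, by rw [h.z_eq_x hqp]; exact hx, hc', hg⟩
  · have hzcop : (orderOf z).Coprime p := by
      rw [h.order_z]; exact (Nat.coprime_primes h.qprime h.prime).2 hqp
    have hZC : Commute z c := hzc
    have hXZ : Commute x z := h.commute
    have hoz : orderOf (z * c) = orderOf z * orderOf c :=
      hZC.orderOf_mul_eq_mul_orderOf_of_coprime (by rw [h.order_z]; exact hcq.symm)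
    obtain ⟨H, h1, h2, hx, hm, hg⟩ := h.toXCtx.exists_solvable_of_commute
      (c := z * c) (hXZ.mul_right hxc).eq (by rw [hoz]; exact hzcop.mul_left hcp) g
    have hzc' : z ^ orderOf c ∈ H := by
      have := pow_mem hm (orderOf c)
      rwa [hZC.mul_pow, pow_orderOf_eq_one, mul_one] at this
    obtain ⟨m, hm'⟩ := exists_pow_eq_self_of_coprime (x := z) (n := orderOf c) (by rw [h.order_z]; exact hcq)
    have hz : z ∈ H := by rw [← hm']; exact pow_mem hzc' m
    refine ⟨H, h1, h2, hx, hz, ?_, hg⟩
    have := mul_mem (inv_mem hz) hm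
    rwa [inv_mul_cancel_left] at this

end Cfsg.Agent.TwoGenSolvable
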