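import Mathlib
import Cfsg.Agent.Lib.TwoGenSolvable.MemberBasic
import Cfsg.Agent.Lib.TwoGenSolvable.Cover
import Cfsg.Agent.Lib.TwoGenSolvable.Slot
import Cfsg.Agent.Lib.Involution.BaerSuzuki

/-!
# The fixed points of `z` on a member, up to the second layer

`IsMember.inf_centralizer_le_of_cyclic`: cyclically generated members. For the others, induction on the proper
members: the layers from the third on are covered, and on the second layer the elements fixed by a group
`A ≤ ⟨x, z⟩` moving everything by an element of odd order.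
-/

set_option autoImplicit false
set_option linter.style.haveILetI false
set_option linter.unusedSectionVars false

namespace Cfsg.Agent.TwoGenSolvable

open Subgroup
open scoped commutatorElement

universe u

variable {G : Type u} [Group G] [Finite G] {p q s : ℕ} {x z : G} {B : Subgroup G}

/-- The orbit closure of `v`. -/
def orbitClosure (x z v : G) : Subgroup G :=
  closure ((fun c => c * v * c⁻¹) '' (closure {x, z} : Subgroup G))

theorem mem_orbitClosure_self (x z v : G) : v ∈ orbitClosure x z v := subset_closure ⟨1, one_mem _, by simp⟩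

theorem mem_normalizer_orbitClosure (v : G) {c : G} (hc : c ∈ closure ({x, z} : Set G)) :
    c ∈ normalizer (orbitClosure x z v : Set G) := by
  refine mem_normalizer_iff_map_conj_eq.2 ?_
  rw [orbitClosure, MonoidHom.map_closure]
  congr 1
  ext y
  constructor
  · rintro ⟨_, ⟨d, hd, rfl⟩, rfl⟩
    exact ⟨c * d, mul_mem hc hd, by simp [mul_assoc]⟩
  · rintro ⟨d, hd, rfl⟩
    exact ⟨_, ⟨c⁻¹ * d, mul_mem (inv_mem hc) hd, rfl⟩, by simp [mul_assoc]⟩

theorem orbitClosure_le (hB : IsMoved x z B) {v : G} (hv : v ∈ B) : orbitClosure x z v ≤ B := by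
  rw [orbitClosure, closure_le]
  rintro _ ⟨c, hc, rfl⟩
  exact (mem_normalizer_iff.1 (closure_pair_le_normalizer hB.x_norm hB.z_norm hc) v).1 hv

/-- A member generated by the orbit of one element. -/
theorem IsMember.inf_centralizer_le_of_cyclic (h : ZCtx p q x z) (hB : IsMember q x z s B) {v : G}
    (hv : B = orbitClosure x z v) :
    B ⊓ centralizer ({z} : Set G) ≤ Cfsg.pCoreOf s (centralizer ({z} : Set G)) := by
  haveI := Fact.mk hB.sprime
  rintro w ⟨hwB, hwz⟩
  have hbs := Involution.baer_suzuki (p := s) (⟨w, hwz⟩ : centralizer ({z} : Set G)) fun c => by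
    obtain ⟨H, hH, hx, hz, hg, -⟩ := h.toQCtx.exists_solvable (v * (c : G))
    have hcz : Commute (c : G) z := mem_centralizer_singleton_iff.1 c.2
    have hBH : B ≤ H := hB.le_of_commutators hv h.toQCtx.commute hx hz fun i => by
      have he : ⁅v * (c : G), z ^ i⁆ = ⁅v, z ^ i⁆ := by
        rw [commutatorElement_def, commutatorElement_def, mul_inv_rev,
          show v * (c : G) * z ^ i * ((c : G)⁻¹ * v⁻¹) = v * ((c : G) * z ^ i * (c : G)⁻¹) * v⁻¹ by group,
          mul_inv_eq_iff_eq_mul.2 (hcz.pow_right i).eq]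
      rw [← he]
      exact mul_mem (mul_mem (mul_mem hg (pow_mem hz i)) (inv_mem hg)) (inv_mem (pow_mem hz i))
    have hcH : (c : G) ∈ H := by
      have := mul_mem (inv_mem (hBH (hv ▸ mem_orbitClosure_self x z v))) hg
      rwa [inv_mul_cancel_left] at this
    have hn : H ≤ normalizer (Cfsg.pCoreOf s (ppOf p H) : Set G) :=
      FixedDim.le_normalizer_map_char (le_normalizer_ppOf p H) _
    have hw : w ∈ Cfsg.pCoreOf s (ppOf p H) :=
      h.le_core_of_zmoved hB.sprime hB.ne_q hH hx hz hBH hB.pgroup hB.moved.z_norm hB.moved.eq hwB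
    refine (PCore.isPGroup_pCoreOf (p := s) (ppOf p H)).comap_subtype.to_le ?_
    rw [closure_le]
    rintro y (rfl | rfl)
    · exact hw
    · exact (mem_normalizer_iff.1 (hn hcH) w).1 hw
  exact ⟨⟨w, hwz⟩, PCore.le_pCore hbs (subset_normalClosure (Set.mem_singleton _)), rfl⟩

/-- The situation: all proper members are covered by `T`. -/
structure TStep (p q : ℕ) (x z : G) (s : ℕ) (B : Subgroup G) : Prop extends IsMember q x z s B where
  ctx : ZCtx p q x z
  notCyclic : ∀ v ∈ B, orbitClosure x z v ≠ B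
  proper : ∀ M : Subgroup G, IsMember q x z s M → M ≤ B → M ≠ B →
    M ⊓ centralizer ({z} : Set G) ≤ Cfsg.pCoreOf s (centralizer ({z} : Set G))

theorem TStep.zpowers_le_normalizer (h : TStep p q x z s B) : zpowers z ≤ normalizer (B : Set G) :=
  zpowers_le.2 h.moved.z_norm

theorem TStep.coprime_zpowers (h : TStep p q x z s B) : (Nat.card (zpowers z)).Coprime (Nat.card B) := by
  rw [Nat.card_zpowers, h.ctx.order_z]
  exact (coprime_of_pgroup h.sprime h.ctx.qprime h.ne_q h.pgroup).symm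

/-- `z` has no fixed points on the first factor. -/
theorem TStep.inf_centralizer_le_one (h : TStep p q x z s B) :
    B ⊓ centralizer ({z} : Set G) ≤ sSer B s 1 := by
  classical
  haveI := Fact.mk h.sprime
  have hn : B ≤ normalizer (sSer B s 1 : Set G) := le_normalizer_sSer 1
  haveI := Coprime.normal_subgroupOf_of_le_normalizer hn
  set π := QuotientGroup.mk' ((sSer B s 1).subgroupOf B)
  have hab : ∀ a b : B, π a * π b = π b * π a := fun a b => by
    rw [← commutatorElement_eq_one_iff_mul_comm, ← map_commutatorElement]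
    exact (QuotientGroup.eq_one_iff _).2 (mem_subgroupOf.2 (commutator_sSer_le 0 (commutator_mem_commutator a.2 b.2)))
  letI : CommGroup (B ⧸ (sSer B s 1).subgroupOf B) := { (inferInstance : Group _) with
    mul_comm := fun a b => by
      obtain ⟨a, rfl⟩ := QuotientGroup.mk'_surjective _ a
      obtain ⟨b, rfl⟩ := QuotientGroup.mk'_surjective _ b
      exact hab a b }
  have hzi : ∀ i : ℕ, z ^ i ∈ normalizer (B : Set G) := fun i => pow_mem h.moved.z_norm i
  let φ : ℕ → B →* B := fun i =>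
    { toFun := fun a => ⟨z ^ i * a * (z ^ i)⁻¹, (mem_normalizer_iff.1 (hzi i) a).1 a.2⟩
      map_one' := Subtype.ext (by simp)
      map_mul' := fun a b => Subtype.ext (by simp [mul_assoc]) }
  set ν : B →* B ⧸ (sSer B s 1).subgroupOf B := ∏ i ∈ Finset.range q, π.comp (φ i) with hν
  have hνa : ∀ a, ν a = ∏ i ∈ Finset.range q, π (φ i a) := fun a => by
    simp only [hν, MonoidHom.finsetProd_apply, MonoidHom.comp_apply]
  have hzq : z ^ q = 1 := h.ctx.order_z ▸ pow_orderOf_eq_one z
  have hstep : ∀ a, ν (φ 1 a) = ν a := by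
    intro a
    rw [hνa, hνa]
    obtain ⟨n, hn⟩ : ∃ n, q = n + 1 := ⟨q - 1, by have := h.ctx.qprime.pos; omega⟩
    have e1 : ∀ i, φ i (φ 1 a) = φ (i + 1) a := fun i => Subtype.ext (by
      show z ^ i * (z ^ 1 * (a : G) * (z ^ 1)⁻¹) * (z ^ i)⁻¹ = z ^ (i + 1) * (a : G) * (z ^ (i + 1))⁻¹
      rw [pow_one, pow_succ]; group)
    have e0 : φ q a = φ 0 a := Subtype.ext (by simp [φ, hzq])
    simp only [e1]
    conv_rhs => rw [hn, Finset.prod_range_succ']
    conv_lhs => rw [hn, Finset.prod_range_succ, ← hn, e0]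
  have hall : ∀ i a, ν (φ i a) = ν a := by
    intro i
    induction i with
    | zero => intro a; congr 1; exact Subtype.ext (by simp [φ])
    | succ i ih =>
      intro a
      rw [← ih a, ← hstep (φ i a)]
      congr 1
      refine Subtype.ext ?_
      show z ^ (i + 1) * (a : G) * (z ^ (i + 1))⁻¹ = z ^ 1 * (z ^ i * (a : G) * (z ^ i)⁻¹) * (z ^ 1)⁻¹
      rw [pow_succ', pow_one]; group
  have hker : B ≤ ν.ker.map B.subtype := by
    conv_lhs => rw [← h.moved.eq]
    rw [commutator_le]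
    intro b hb c hc
    obtain ⟨i, rfl⟩ := (isOfFinOrder_of_finite z).mem_powers_iff_mem_zpowers.2 hc
    refine ⟨⟨b, hb⟩ * (φ i ⟨b, hb⟩)⁻¹, ?_, ?_⟩
    · show _ ∈ ν.ker
      rw [MonoidHom.mem_ker, map_mul, map_inv, hall, mul_inv_cancel]
    · show b * (z ^ i * b * (z ^ i)⁻¹)⁻¹ = ⁅b, z ^ i⁆
      rw [commutatorElement_def]; group
  rintro w ⟨hwB, hwz⟩
  obtain ⟨w', hw', hwe⟩ := hker hwB
  have hw0 : ν ⟨w, hwB⟩ = 1 := by
    rw [show (⟨w, hwB⟩ : B) = w' from Subtype.ext hwe.symm]
    exact hw'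
  rw [hνa, Finset.prod_congr rfl fun i _ => show π (φ i ⟨w, hwB⟩) = π ⟨w, hwB⟩ from congrArg π (Subtype.ext (by
    show z ^ i * w * (z ^ i)⁻¹ = w
    exact mul_inv_eq_iff_eq_mul.2 ((show Commute w z from mem_centralizer_singleton_iff.1 hwz).pow_right i).eq.symm)),
    Finset.prod_const, Finset.card_range, ← map_pow] at hw0
  have hwq : w ^ q ∈ sSer B s 1 := mem_subgroupOf.1 ((QuotientGroup.eq_one_iff _).1 hw0)
  obtain ⟨m, hm⟩ := exists_pow_eq_self_of_coprime (x := w) (n := q)
    ((coprime_orderOf_of_mem (coprime_of_pgroup h.sprime h.ctx.qprime h.ne_q h.pgroup) hwB).symm)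
  rw [← hm]
  exact pow_mem hwq m

theorem TStep.closure_le_normalizer (h : TStep p q x z s B) : closure ({x, z} : Set G) ≤ normalizer (B : Set G) :=
  closure_pair_le_normalizer h.moved.x_norm h.moved.z_norm

/-- `[Y, z]` for a proper invariant subgroup is covered. -/
theorem TStep.covered_commutator (h : TStep p q x z s B) {Y : Subgroup G} (hYB : Y ≤ B) (hne : Y ≠ B)
    (hn : closure ({x, z} : Set G) ≤ normalizer (Y : Set G)) :
    ⁅Y, zpowers z⁆ ⊓ centralizer ({z} : Set G) ≤ Cfsg.pCoreOf s (centralizer ({z} : Set G)) := by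
  by_cases h0 : ⁅Y, zpowers z⁆ = ⊥
  · rw [h0, bot_inf_eq]; exact bot_le
  have hzY : z ∈ normalizer (Y : Set G) := hn (subset_closure (by simp))
  have hle : ⁅Y, zpowers z⁆ ≤ Y := commutator_zpowers_le hzY
  exact h.proper _ (isMember_commutator h.ctx.toQCtx h.sprime h.ne_q (h.pgroup.to_le hYB)
    (hn (subset_closure (by simp))) hzY h0) (hle.trans hYB) fun e => hne (le_antisymm hYB (e ▸ hle))

/-- The union of the proper members generates. -/
theorem TStep.exists_generators (h : TStep p q x z s B) :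
    ∃ S : Set G, B ≤ closure S ∧ S ⊆ B ∧ ∀ u ∈ S, ∃ M, IsMember q x z s M ∧ M ≤ B ∧ M ≠ B ∧ u ∈ M := by
  refine ⟨{u | ∃ M, IsMember q x z s M ∧ M ≤ B ∧ M ≠ B ∧ u ∈ M}, ?_, fun u ⟨M, _, hMB, _, hu⟩ => hMB hu,
    fun u hu => hu⟩
  refine (IsMember.eq_iSup_cyclic h.ctx.toQCtx h.toIsMember).trans (iSup₂_le fun v hv => ?_)
  intro w hw
  exact subset_closure ⟨_, hv.2, orbitClosure_le h.moved hv.1, h.notCyclic v hv.1, hw⟩

theorem le_normalizer_sup' {A X Y : Subgroup G} (hX : A ≤ normalizer (X : Set G))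
    (hY : A ≤ normalizer (Y : Set G)) : A ≤ normalizer ((X ⊔ Y : Subgroup G) : Set G) := by
  intro c hc
  refine mem_normalizer_iff_map_conj_eq.2 ?_
  rw [Subgroup.map_sup, mem_normalizer_iff_map_conj_eq.1 (hX hc), mem_normalizer_iff_map_conj_eq.1 (hY hc)]

/-- Adjoining the first term keeps a proper subgroup proper. -/
theorem TStep.sup_one_ne (h : TStep p q x z s B) {M : Subgroup G} (hMB : M ≤ B) (hne : M ≠ B) :
    M ⊔ sSer B s 1 ≠ B :=
  haveI := Fact.mk h.sprime
  fun e => hne (eq_of_sup_sSer_one h.pgroup hMB e)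

theorem normalizer_of_central {B K L Cov : Subgroup G} (hL : L ≤ Cov) (hK : Cov ≤ K) (hc : ⁅K, B⁆ ≤ L) :
    B ≤ normalizer (Cov : Set G) :=
  le_normalizer_iff_commutator_le_left.2 ((commutator_mono hK le_rfl).trans (hc.trans hL))

/-- Fixed points in the layers from the third on. -/
theorem TStep.inf_centralizer_le_two (h : TStep p q x z s B) :
    sSer B s 2 ⊓ centralizer ({z} : Set G) ≤ Cfsg.pCoreOf s (centralizer ({z} : Set G)) := by
  classical
  haveI := Fact.mk h.sprime
  suffices ∀ n j : ℕ, Nat.card (sSer B s (j + 2)) ≤ n →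
      sSer B s (j + 2) ⊓ centralizer ({z} : Set G) ≤ Cfsg.pCoreOf s (centralizer ({z} : Set G)) from
    this _ 0 le_rfl
  intro n
  induction n with
  | zero => intro j hj; exact absurd hj (not_le.2 Nat.card_pos)
  | succ n ih =>
    intro j hj
    by_cases hbot : sSer B s (j + 2) = ⊥
    · rw [hbot, bot_inf_eq]; exact bot_le
    have hnext := ih (j + 1) (by
      have hlt : sSer B s (j + 1 + 2) < sSer B s (j + 2) := sSer_succ_lt h.pgroup hbot
      have hle := card_le_of_le hlt.le
      rcases Nat.lt_or_eq_of_le hle with h' | h'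
      · omega
      · exact absurd (eq_of_le_of_card_ge hlt.le h'.ge) hlt.ne)
    set K := sSer B s (j + 2)
    set L := sSer B s (j + 3)
    set P := sSer B s (j + 1)
    set T := Cfsg.pCoreOf s (centralizer ({z} : Set G)) with hT
    have hzK : ∀ k, zpowers z ≤ normalizer (sSer B s k : Set G) := fun k =>
      zpowers_le.2 (sSer_conj_mem h.moved.z_norm k)
    obtain ⟨Cov, hLC, hCK, hinv, hmem, hout⟩ := exists_cov (A := zpowers z) (B := B) (K := K) (L := L) (T := T)
      (sSer_succ_le _) (sSer_le _) (le_normalizer_sSer _) (commutator_sSer_le _) (hzK _) (hzK _)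
      (fun a ⟨i, ha⟩ b ⟨j, hb⟩ => ha ▸ hb ▸ ((Commute.refl z).zpow_zpow i j).eq) h.coprime_zpowers
    have hCn : B ≤ normalizer (Cov : Set G) := normalizer_of_central hLC hCK (commutator_sSer_le _)
    have hconj : ∀ b ∈ B, ∀ a ∈ Cov, b * a * b⁻¹ ∈ Cov := fun b hb a ha => (mem_normalizer_iff.1 (hCn hb) a).1 ha
    have hprop : ∀ Y : Subgroup G, Y ≤ B → Y ≠ B → closure ({x, z} : Set G) ≤ normalizer (Y : Set G) →
        ⁅Y, zpowers z⁆ ⊓ K ≤ Cov := fun Y hYB hne hn => by
      have hzY : z ∈ normalizer (Y : Set G) := hn (subset_closure (by simp))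
      refine hmem _ ((commutator_zpowers_le hzY).trans hYB) (zpowers_le.2 (mem_normalizer_commutator hzY rfl)) ?_
      refine le_trans (inf_le_inf_left _ ?_) (h.covered_commutator hYB hne hn)
      exact centralizer_le (by simp)
    -- commutators
    have hcom : ∀ a ∈ P, ∀ b ∈ B, ⁅a, b⁆ ∈ Cov := by
      obtain ⟨S, hS, -, hSm⟩ := h.exists_generators
      have hmov : ∀ m ∈ ⁅P, zpowers z⁆, ∀ b ∈ B, ⁅m, b⁆ ∈ Cov := by
        intro m hm
        have hmP : m ∈ P := Coprime.commutator_le_left_of_le_normalizer (hzK _) hm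
        let D : Subgroup G :=
          { carrier := {b | b ∈ B ∧ ⁅m, b⁆ ∈ Cov}
            one_mem' := ⟨one_mem _, by rw [commutatorElement_one_right]; exact one_mem _⟩
            mul_mem' := fun {a b} ha hb => ⟨mul_mem ha.1 hb.1, by
              rw [show ⁅m, a * b⁆ = ⁅m, a⁆ * (a * ⁅m, b⁆ * a⁻¹) by simp only [commutatorElement_def]; group]
              exact mul_mem ha.2 (hconj a ha.1 _ hb.2)⟩
            inv_mem' := fun {a} ha => ⟨inv_mem ha.1, by
              rw [show ⁅m, a⁻¹⁆ = a⁻¹ * ⁅m, a⁆⁻¹ * a by simp only [commutatorElement_def]; group]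
              have := hconj a⁻¹ (inv_mem ha.1) _ (inv_mem ha.2)
              rwa [inv_inv] at this⟩ }
        have hD : B ≤ D := hS.trans ((closure_le _).2 fun u hu => by
          obtain ⟨M, hM, hMB, hMne, huM⟩ := hSm u hu
          set Y := M ⊔ sSer B s 1
          have hYB : Y ≤ B := sup_le hMB (sSer_le 1)
          have hAY : closure ({x, z} : Set G) ≤ normalizer (Y : Set G) :=
            le_normalizer_sup' (closure_pair_le_normalizer hM.moved.x_norm hM.moved.z_norm) fun c hc =>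
              sSer_conj_mem (h.closure_le_normalizer hc) 1
          have h1 : M ≤ ⁅Y, zpowers z⁆ := hM.moved.eq.ge.trans (commutator_mono le_sup_left le_rfl)
          have h2 : ⁅P, zpowers z⁆ ≤ ⁅Y, zpowers z⁆ :=
            commutator_mono ((sSer_antitone (Nat.le_add_left 1 j)).trans le_sup_right) le_rfl
          refine ⟨hMB huM, hprop Y hYB (h.sup_one_ne hMB hMne) hAY (mem_inf.2 ⟨?_, ?_⟩)⟩
          · exact mul_mem (mul_mem (mul_mem (h2 hm) (h1 huM)) (inv_mem (h2 hm))) (inv_mem (h1 huM))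
          · exact commutator_sSer_le _ (commutator_mem_commutator hmP (hMB huM)))
        exact fun b hb => (hD hb).2
      have hfix : ∀ c ∈ P, c ∈ centralizer (zpowers z : Set G) → ∀ b ∈ B, ⁅c, b⁆ ∈ Cov := by
        intro c hcP hcz
        haveI := Coprime.normal_subgroupOf_of_le_normalizer hCn
        set π := QuotientGroup.mk' (Cov.subgroupOf B)
        have hK : ∀ b : B, ⁅c, (b : G)⁆ ∈ K := fun b => commutator_sSer_le _ (commutator_mem_commutator hcP b.2)
        let f : B →* B ⧸ Cov.subgroupOf B :=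
          { toFun := fun b => π ⟨⁅c, (b : G)⁆, sSer_le _ (hK b)⟩
            map_one' := by rw [← map_one π]; congr 1; exact Subtype.ext (by simp)
            map_mul' := fun a b => by
              have hc0 : π a * π ⟨⁅c, (b : G)⁆, sSer_le _ (hK b)⟩ = π ⟨⁅c, (b : G)⁆, sSer_le _ (hK b)⟩ * π a := by
                rw [eq_comm, ← commutatorElement_eq_one_iff_mul_comm, ← map_commutatorElement]
                exact (QuotientGroup.eq_one_iff _).2 (mem_subgroupOf.2
                  (hLC (commutator_sSer_le _ (commutator_mem_commutator (hK b) a.2))))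
              rw [show (⟨⁅c, ((a * b : B) : G)⁆, sSer_le _ (hK _)⟩ : B) =
                ⟨⁅c, (a : G)⁆, sSer_le _ (hK a)⟩ * (a * ⟨⁅c, (b : G)⁆, sSer_le _ (hK b)⟩ * a⁻¹) from
                  Subtype.ext (by simp only [Subgroup.coe_mul, InvMemClass.coe_inv, commutatorElement_def]; group),
                map_mul, map_mul, map_mul, map_inv, hc0, mul_inv_cancel_right] }
        have hker : B ≤ f.ker.map B.subtype := by
          conv_lhs => rw [← h.moved.eq]
          rw [commutator_le]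
          intro v hv d hd
          have hdn : d ∈ normalizer (B : Set G) := h.zpowers_le_normalizer hd
          have hdv : d * v * d⁻¹ ∈ B := (mem_normalizer_iff.1 hdn v).1 hv
          have e : f ⟨d * v * d⁻¹, hdv⟩ = f ⟨v, hv⟩ := by
            have hcd : d * c * d⁻¹ = c := mul_inv_eq_iff_eq_mul.2 (mem_centralizer_iff.1 hcz d hd)
            show π _ = π _
            refine QuotientGroup.eq.2 (mem_subgroupOf.2 ?_)
            show ⁅c, d * v * d⁻¹⁆⁻¹ * ⁅c, v⁆ ∈ Cov
            have h1 := hinv _ (hK ⟨v, hv⟩) d hd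
            rw [show d * ⁅c, v⁆ * d⁻¹ = ⁅d * c * d⁻¹, d * v * d⁻¹⁆ by simp only [commutatorElement_def]; group,
              hcd] at h1
            simpa using inv_mem h1
          refine ⟨⟨v, hv⟩ * ⟨d * v * d⁻¹, hdv⟩⁻¹, ?_, ?_⟩
          · show _ ∈ f.ker
            rw [MonoidHom.mem_ker, map_mul, map_inv, e, mul_inv_cancel]
          · show v * (d * v * d⁻¹)⁻¹ = ⁅v, d⁆
            rw [commutatorElement_def]; group
        intro b hb
        obtain ⟨b', hb', he⟩ := hker hb
        have h1 : π ⟨⁅c, (b' : G)⁆, sSer_le _ (hK b')⟩ = 1 := hb'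
        rw [← he]
        exact mem_subgroupOf.1 ((QuotientGroup.eq_one_iff _).1 h1)
      intro a ha b hb
      obtain ⟨c, hc, m, hm, rfl⟩ := Coprime.exists_centralizer_mul_commutator (A := zpowers z) (hzK (j + 1))
        (h.coprime_zpowers.coprime_dvd_right (card_dvd_of_le (sSer_le _))) (Or.inl inferInstance) ha
      rw [show ⁅c * m, b⁆ = c * ⁅m, b⁆ * c⁻¹ * ⁅c, b⁆ by simp only [commutatorElement_def]; group]
      exact mul_mem (hconj c (sSer_le _ hc.1) _ (hmov m hm b hb)) (hfix c hc.1 hc.2 b hb)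
    -- powers
    obtain ⟨S, hS, hSB, hSm⟩ := h.exists_generators
    have hKC : K ≤ Cov := by
      refine (sSer_succ_le_gen hS hSB (j + 1)).trans (sup_le (sup_le ?_ hLC) ((closure_le _).2 ?_))
      · rw [commutator_le]; exact hcom
      · rintro _ ⟨u, hu, rfl⟩
        obtain ⟨M, hM, hMB, hMne, huM⟩ := hSm u hu
        refine hmem M hMB (zpowers_le.2 hM.moved.z_norm) ?_ (mem_inf.2 ⟨pow_mem huM _, ?_⟩)
        · exact le_trans (inf_le_inf_left _ (centralizer_le (by simp))) (h.proper M hM hMB hMne)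
        · have hall : ∀ i : ℕ, u ^ s ^ i ∈ sSer B s i := by
            intro i
            induction i with
            | zero => rw [pow_zero, pow_one]; exact hSB hu
            | succ i ihi => rw [pow_succ, pow_mul]; exact pow_mem_sSer_succ ihi
          exact hall _
    rintro w ⟨hwK, hwz⟩
    have hwA : w ∈ centralizer (zpowers z : Set G) := by
      rw [zpowers_eq_closure, centralizer_closure]; exact hwz
    obtain ⟨t, ht, htl⟩ := hout w (hKC hwK) hwA
    have hl : t⁻¹ * w ∈ T := hnext (mem_inf.2 ⟨htl, mul_mem (inv_mem (PCore.pCoreOf_le _ ht.1)) hwz⟩)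
    rw [show w = t * (t⁻¹ * w) by group]
    exact mul_mem ht.1 hl


theorem commute_of_mem_closure_pair (hxz : x * z = z * x) {a b : G} (ha : a ∈ closure ({x, z} : Set G))
    (hb : b ∈ closure ({x, z} : Set G)) : a * b = b * a := by
  have hle : closure ({x, z} : Set G) ≤ centralizer ({a} : Set G) := by
    rw [closure_le]
    rintro y (rfl | rfl)
    · exact mem_centralizer_singleton_iff.2 (mem_closure_pair_commute hxz ha).1.symm
    · exact mem_centralizer_singleton_iff.2 (mem_closure_pair_commute hxz ha).2.symm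
  exact (mem_centralizer_singleton_iff.1 (hle hb)).symm

/-- The second layer: an abelian group `A ∋ z` inside `⟨x, z⟩` with an element of odd order moving all of `B`. -/
theorem TStep.fixed_le (h : TStep p q x z s B) {A : Subgroup G} (hA : A ≤ closure ({x, z} : Set G))
    (hzA : z ∈ A) {c : G} (hcA : c ∈ A) (hc2 : Odd (orderOf c)) (hBc : ⁅B, zpowers c⁆ = B) :
    sSer B s 1 ⊓ centralizer (A : Set G) ≤ Cfsg.pCoreOf s (centralizer ({z} : Set G)) := by
  classical
  haveI := Fact.mk h.sprime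
  set T := Cfsg.pCoreOf s (centralizer ({z} : Set G))
  set K := sSer B s 1 with hKdef
  have hAB : A ≤ normalizer (B : Set G) := hA.trans h.closure_le_normalizer
  have hAS : ∀ k, A ≤ normalizer (sSer B s k : Set G) := fun k a ha => sSer_conj_mem (hAB ha) k
  have hAcop : (Nat.card A).Coprime (Nat.card B) :=
    (h.ctx.toQCtx.coprime_pq (coprime_of_pgroup h.sprime h.ctx.prime (h.toIsMember.ne_p h.ctx.toQCtx) h.pgroup)
      (coprime_of_pgroup h.sprime h.ctx.qprime h.ne_q h.pgroup)).coprime_dvd_left (card_dvd_of_le hA)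
  obtain ⟨Cov, hLC, hCK, hinv, hmem, hout⟩ := exists_cov (A := A) (B := B) (K := K) (L := sSer B s 2) (T := T)
    (sSer_succ_le 1) (sSer_le 1) (le_normalizer_sSer 2) (commutator_sSer_le 1) (hAS 1) (hAS 2)
    (fun a ha b hb => commute_of_mem_closure_pair h.ctx.toQCtx.commute (hA ha) (hA hb)) hAcop
  have hCn : B ≤ normalizer (Cov : Set G) := normalizer_of_central hLC hCK (commutator_sSer_le 1)
  haveI := Coprime.normal_subgroupOf_of_le_normalizer hCn
  set π := QuotientGroup.mk' (Cov.subgroupOf B) with hπ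
  have hπ1 : ∀ a : B, π a = 1 ↔ (a : G) ∈ Cov := fun a => (QuotientGroup.eq_one_iff a).trans mem_subgroupOf
  have hsurj : Function.Surjective π := QuotientGroup.mk'_surjective _
  have hKcen : ∀ k : B, (k : G) ∈ K → ∀ d : B ⧸ Cov.subgroupOf B, ⁅π k, d⁆ = 1 := by
    intro k hk d
    obtain ⟨d, rfl⟩ := hsurj d
    rw [← map_commutatorElement, hπ1]
    exact hLC (commutator_sSer_le 1 (commutator_mem_commutator hk d.2))
  have hcen : ∀ a b d : B ⧸ Cov.subgroupOf B, ⁅a, b⁆ * d = d * ⁅a, b⁆ := by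
    intro a b d
    obtain ⟨a, rfl⟩ := hsurj a
    obtain ⟨b, rfl⟩ := hsurj b
    rw [← map_commutatorElement, ← commutatorElement_eq_one_iff_mul_comm]
    exact hKcen ⁅a, b⁆ (commutator_sSer_le 0 (commutator_mem_commutator a.2 b.2)) d
  have hmulL : ∀ a b d : B ⧸ Cov.subgroupOf B, ⁅a * b, d⁆ = ⁅b, d⁆ * ⁅a, d⁆ := by
    intro a b d
    rw [show ⁅a * b, d⁆ = a * ⁅b, d⁆ * a⁻¹ * ⁅a, d⁆ by simp only [commutatorElement_def]; group,
      ← hcen b d a, mul_inv_cancel_right]
  have hmulR : ∀ a b d : B ⧸ Cov.subgroupOf B, ⁅a, b * d⁆ = ⁅a, b⁆ * ⁅a, d⁆ := by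
    intro a b d
    rw [show ⁅a, b * d⁆ = ⁅a, b⁆ * (b * ⁅a, d⁆ * b⁻¹) by simp only [commutatorElement_def]; group,
      ← hcen a d b, mul_inv_cancel_right]
  -- `⁅w, c w c⁻¹⁆` is covered
  let σ : B → B := fun w => ⟨c * w * c⁻¹, (mem_normalizer_iff.1 (hAB hcA) w).1 w.2⟩
  have hσmul : ∀ u v, σ (u * v) = σ u * σ v := fun u v => Subtype.ext (by simp [σ, mul_assoc])
  have hzA' : ∀ a ∈ A, Commute a z := fun a ha => (mem_closure_pair_commute h.ctx.toQCtx.commute (hA ha)).2
  have hF : ∀ w : B, ⁅π w, π (σ w)⁆ = 1 := by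
    intro w
    set Y := orbitClosure x z (w : G) ⊔ K
    have hYB : Y ≤ B := sup_le (orbitClosure_le h.moved w.2) (sSer_le 1)
    have hne : Y ≠ B := h.sup_one_ne (orbitClosure_le h.moved w.2) (h.notCyclic w w.2)
    have hnY : closure ({x, z} : Set G) ≤ normalizer (Y : Set G) :=
      le_normalizer_sup' (fun d hd => mem_normalizer_orbitClosure _ hd) fun d hd =>
        sSer_conj_mem (h.closure_le_normalizer hd) 1
    have hzY : z ∈ normalizer (Y : Set G) := hnY (subset_closure (by simp))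
    have hsplit : ∀ y : B, (y : G) ∈ Y → ∃ m : B, (m : G) ∈ ⁅Y, zpowers z⁆ ∧
        ∃ k : B, (k : G) ∈ K ∧ y = k * m := by
      intro y hy
      obtain ⟨k, hk, m, hm, hkm⟩ := Coprime.exists_centralizer_mul_commutator (A := zpowers z)
        (zpowers_le.2 hzY) (h.coprime_zpowers.coprime_dvd_right (card_dvd_of_le hYB)) (Or.inl inferInstance) hy
      refine ⟨⟨m, hYB (commutator_zpowers_le hzY hm)⟩, hm, ⟨k, hYB hk.1⟩, ?_, Subtype.ext hkm⟩
      exact h.inf_centralizer_le_one ⟨hYB hk.1, centralizer_le (by simp) hk.2⟩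
    have hwY : (w : G) ∈ Y := mem_sup_left (mem_orbitClosure_self x z w)
    obtain ⟨m₁, hm₁, k₁, hk₁, e₁⟩ := hsplit w hwY
    obtain ⟨m₂, hm₂, k₂, hk₂, e₂⟩ := hsplit (σ w) ((mem_normalizer_iff.1 (hnY (hA hcA)) _).1 hwY)
    have hk₂' : ⁅π m₁, π k₂⁆ = 1 := by rw [← commutatorElement_inv, hKcen _ hk₂, inv_one]
    rw [e₂, e₁, map_mul, map_mul, hmulL, hmulR, hKcen _ hk₁, mul_one, hk₂', one_mul, ← map_commutatorElement,
      hπ1]
    refine hmem _ ((commutator_zpowers_le hzY).trans hYB) (fun d hd => ?_) ?_ (mem_inf.2 ⟨?_, ?_⟩)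
    · exact mem_normalizer_commutator (hnY (hA hd)) (hzA' d hd)
    · exact le_trans (inf_le_inf_left _ (centralizer_le (Set.singleton_subset_iff.2 hzA)))
        (h.covered_commutator hYB hne hnY)
    · exact mul_mem (mul_mem (mul_mem hm₁ hm₂) (inv_mem hm₁)) (inv_mem hm₂)
    · exact commutator_sSer_le 0 (commutator_mem_commutator m₁.2 m₂.2)
  have hinv' : ∀ u v, ⁅π (σ u), π (σ v)⁆ = ⁅π u, π v⁆ := by
    intro u v
    rw [← map_commutatorElement, ← map_commutatorElement, eq_comm, hπ, QuotientGroup.mk'_apply,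
      QuotientGroup.mk'_apply, QuotientGroup.eq, mem_subgroupOf]
    have h1 := hinv _ (commutator_sSer_le 0 (commutator_mem_commutator u.2 v.2)) c hcA
    rw [show c * ⁅(u : G), (v : G)⁆ * c⁻¹ = ⁅((σ u : B) : G), ((σ v : B) : G)⁆ by
      simp only [σ, commutatorElement_def]; group] at h1
    exact h1
  have hpol : ∀ u v, ⁅π u, π (σ v)⁆ = ⁅π (σ u), π v⁆ := by
    intro u v
    have h1 := hF (u * v)
    rw [hσmul, map_mul, map_mul, hmulL, hmulR, hmulR, hF, hF, mul_one, one_mul] at h1
    rw [← commutatorElement_inv (π v) (π (σ u))]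
    exact eq_inv_of_mul_eq_one_right h1
  have hstep : ∀ u v, ⁅π u, π (σ (σ v))⁆ = ⁅π u, π v⁆ := fun u v => (hpol u (σ v)).trans (hinv' u v)
  have hiter : ∀ (i : ℕ) (v : B) (hv : (c ^ 2) ^ i * v * ((c ^ 2) ^ i)⁻¹ ∈ B) (u : B),
      ⁅π u, π ⟨(c ^ 2) ^ i * v * ((c ^ 2) ^ i)⁻¹, hv⟩⁆ = ⁅π u, π v⁆ := by
    intro i
    induction i with
    | zero => intro v hv u; congr 2; exact Subtype.ext (by simp)
    | succ i ih =>
      intro v hv u
      have hv' : (c ^ 2) ^ i * v * ((c ^ 2) ^ i)⁻¹ ∈ B :=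
        (mem_normalizer_iff.1 (pow_mem (pow_mem (hAB hcA) 2) i) v).1 v.2
      refine Eq.trans ?_ ((hstep u ⟨_, hv'⟩).trans (ih v hv' u))
      congr 2
      refine Subtype.ext ?_
      show (c ^ 2) ^ (i + 1) * (v : G) * ((c ^ 2) ^ (i + 1))⁻¹ =
        c * (c * ((c ^ 2) ^ i * v * ((c ^ 2) ^ i)⁻¹) * c⁻¹) * c⁻¹
      rw [pow_succ' (c ^ 2) i, pow_two]
      generalize (c * c) ^ i = e
      group
  have hab : ∀ a b : B, ⁅π a, π b⁆ = 1 := by
    have hle : B ≤ ((center (B ⧸ Cov.subgroupOf B)).comap π).map B.subtype := by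
      conv_lhs => rw [← hBc]
      rw [commutator_le]
      intro v hv e he
      obtain ⟨i, rfl⟩ : ∃ i : ℕ, (c ^ 2) ^ i = e := by
        refine (isOfFinOrder_of_finite _).mem_powers_iff_mem_zpowers.2 ?_
        obtain ⟨m, hm⟩ := exists_pow_eq_self_of_coprime (x := c) (n := 2) (Nat.coprime_two_left.2 hc2)
        have h2 : c ∈ zpowers (c ^ 2) := by
          have := npow_mem_zpowers (c ^ 2) m
          rwa [hm] at this
        exact zpowers_le.2 h2 he
      have hv' : (c ^ 2) ^ i * v * ((c ^ 2) ^ i)⁻¹ ∈ B :=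
        (mem_normalizer_iff.1 (pow_mem (pow_mem (hAB hcA) 2) i) v).1 hv
      refine ⟨⟨v, hv⟩ * ⟨_, hv'⟩⁻¹, mem_comap.2 (mem_center_iff.2 fun d => ?_), ?_⟩
      · obtain ⟨d, rfl⟩ := hsurj d
        rw [← commutatorElement_eq_one_iff_mul_comm, map_mul, hmulR, map_inv]
        have h2 : ⁅π d, (π ⟨_, hv'⟩)⁻¹⁆ = ⁅π d, π ⟨_, hv'⟩⁆⁻¹ := by
          refine eq_inv_of_mul_eq_one_left ?_
          rw [← hmulR, inv_mul_cancel, commutatorElement_one_right]
        rw [h2, hiter i ⟨v, hv⟩ hv' d, mul_inv_cancel]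
      · show v * ((c ^ 2) ^ i * v * ((c ^ 2) ^ i)⁻¹)⁻¹ = ⁅v, (c ^ 2) ^ i⁆
        rw [commutatorElement_def]; group
    intro a b
    obtain ⟨b', hb', hbe⟩ := hle b.2
    rw [show b = b' from Subtype.ext hbe.symm, commutatorElement_eq_one_iff_mul_comm]
    exact mem_center_iff.1 hb' (π a)
  have hKC : K ≤ Cov := by
    obtain ⟨S, hS, hSB, hSm⟩ := h.exists_generators
    refine (sSer_succ_le_gen hS hSB 0).trans (sup_le (sup_le ?_ hLC) ((closure_le _).2 ?_))
    · rw [sSer_zero, commutator_le]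
      intro a ha b hb
      have h1 := hab ⟨a, ha⟩ ⟨b, hb⟩
      rw [← map_commutatorElement, hπ1] at h1
      exact h1
    · rintro _ ⟨u, hu, rfl⟩
      obtain ⟨M, hM, hMB, hMne, huM⟩ := hSm u hu
      refine hmem M hMB (hA.trans (closure_pair_le_normalizer hM.moved.x_norm hM.moved.z_norm)) ?_
        (mem_inf.2 ⟨pow_mem huM _, ?_⟩)
      · exact le_trans (inf_le_inf_left _ (centralizer_le (Set.singleton_subset_iff.2 hzA))) (h.proper M hM hMB hMne)
      · rw [zero_add, pow_one]
        exact pow_mem_sSer_succ (k := 0) (hSB hu)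
  rintro w ⟨hwK, hwA⟩
  have hwz : w ∈ centralizer ({z} : Set G) := centralizer_le (Set.singleton_subset_iff.2 hzA) hwA
  obtain ⟨t, ht, htl⟩ := hout w (hKC hwK) hwA
  have htz : t ∈ centralizer ({z} : Set G) := PCore.pCoreOf_le _ ht.1
  have hl : t⁻¹ * w ∈ T :=
    h.inf_centralizer_le_two (mem_inf.2 ⟨htl, mul_mem (inv_mem htz) hwz⟩)
  rw [show w = t * (t⁻¹ * w) by group]
  exact mul_mem ht.1 hl

/-- The fixed points of `z` when `q` is odd. -/
theorem TStep.inf_centralizer_le_of_odd (h : TStep p q x z s B) (hq : q ≠ 2) :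
    B ⊓ centralizer ({z} : Set G) ≤ Cfsg.pCoreOf s (centralizer ({z} : Set G)) := by
  intro w hw
  refine h.fixed_le (A := zpowers z) (zpowers_le.2 (subset_closure (by simp))) (mem_zpowers z) (mem_zpowers z)
    ?_ h.moved.eq ⟨h.inf_centralizer_le_one hw, ?_⟩
  · rw [h.ctx.order_z]
    exact h.ctx.qprime.odd_of_ne_two hq
  · rw [zpowers_eq_closure, centralizer_closure]
    exact hw.2

end Cfsg.Agent.TwoGenSolvable
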