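import Mathlib
import Cfsg.Agent.Lib.Coprime.Commutator
import Cfsg.Agent.Lib.Coprime.Sylow
import Cfsg.Agent.Lib.Components.Fitting
import Cfsg.Agent.Lib.PCore.Basic

/-!
# Lifting moved subgroups, and a criterion to be trivial in a solvable group
-/

set_option autoImplicit false
set_option linter.style.haveILetI false
set_option linter.unusedSectionVars false

namespace Cfsg.Agent.TwoGenSolvable

open Subgroup
open scoped commutatorElement

universe u

variable {X Y : Type u} [Group X] [Group Y] [Finite X] [Finite Y]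

/-- A `t`-subgroup of an image, normalised by the image of `a`, lifts to one normalised by `a`. -/
theorem exists_lift {s t : ℕ} (hs : s.Prime) (ht : t.Prime) (hts : t ≠ s) (f : X →* Y)
    (hker : IsPGroup s f.ker) {a : X} (has : (orderOf a).Coprime s) (hat : (orderOf a).Coprime t)
    {A : Subgroup Y} (hA : IsPGroup t A) (hAr : A ≤ f.range) (haA : f a ∈ normalizer (A : Set Y)) :
    ∃ F : Subgroup X, IsPGroup t F ∧ a ∈ normalizer (F : Set X) ∧ F.map f = A ∧ Set.InjOn f F := by
  haveI := Fact.mk ht
  haveI := Fact.mk hs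
  set K := A.comap f with hK
  obtain ⟨i, hi⟩ := IsPGroup.iff_card.1 hker
  obtain ⟨j, hj⟩ := IsPGroup.iff_card.1 hA
  have haK : a ∈ normalizer (K : Set X) := by
    refine mem_normalizer_iff.2 fun y => ?_
    rw [hK, mem_comap, mem_comap, map_mul, map_mul, map_inv]
    exact mem_normalizer_iff.1 haA (f y)
  have hcard : Nat.card K = t ^ j * s ^ i := by
    let g : K →* A := (f.comp K.subtype).codRestrict A fun k => k.2
    have hg : Function.Surjective g := by
      rintro ⟨y, hy⟩
      obtain ⟨k, rfl⟩ := hAr hy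
      exact ⟨⟨k, hy⟩, rfl⟩
    have e1 : g.ker ≃* f.ker :=
      { toFun := fun k => ⟨(k : K), congrArg Subtype.val (MonoidHom.mem_ker.1 k.2)⟩
        invFun := fun k => ⟨⟨k, show f k ∈ A by rw [MonoidHom.mem_ker.1 k.2]; exact one_mem A⟩,
          MonoidHom.mem_ker.2 (Subtype.ext (MonoidHom.mem_ker.1 k.2))⟩
        left_inv := fun _ => rfl
        right_inv := fun _ => rfl
        map_mul' := fun _ _ => rfl }
    rw [card_eq_card_quotient_mul_card_subgroup g.ker,
      Nat.card_congr (QuotientGroup.quotientKerEquivOfSurjective g hg).toEquiv, Nat.card_congr e1.toEquiv, hi, hj]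
  have hcop : (Nat.card (zpowers a)).Coprime (Nat.card K) := by
    rw [Nat.card_zpowers, hcard]
    exact (hat.pow_right j).mul_right (has.pow_right i)
  obtain ⟨P, hP⟩ := Coprime.exists_invariant_sylow (A := zpowers a) (zpowers_le.2 haK) hcop (Or.inl inferInstance) t
  set F := (P : Subgroup K).map K.subtype with hF
  have hFt : IsPGroup t F := P.2.map _
  have hinj : ∀ w ∈ F, f w = 1 → w = 1 := fun w hw hw1 =>
    (IsPGroup.disjoint_of_ne t s hts F f.ker hFt hker).le_bot ⟨hw, hw1⟩
  refine ⟨F, hFt, hP (mem_zpowers a), ?_, fun v hv w hw hvw => ?_⟩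
  · have hle : F.map f ≤ A := map_le_iff_le_comap.2 (map_subtype_le _)
    refine SetLike.coe_injective (Set.eq_of_subset_of_ncard_le hle ?_)
    have hcF : Nat.card (F.map f) = Nat.card F := by
      let g : F →* F.map f := f.subgroupMap F
      refine (Nat.card_congr (Equiv.ofBijective g ⟨fun v w h => ?_, f.subgroupMap_surjective F⟩)).symm
      have h1 : f ((v : X) * (w : X)⁻¹) = 1 := by
        rw [map_mul, map_inv, show f v = f w from congrArg Subtype.val h, mul_inv_cancel]
      exact Subtype.ext (mul_inv_eq_one.1 (hinj _ (mul_mem v.2 (inv_mem w.2)) h1))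
    show (A : Set Y).ncard ≤ ((F.map f : Subgroup Y) : Set Y).ncard
    rw [← Nat.card_coe_set_eq, ← Nat.card_coe_set_eq]
    show Nat.card A ≤ Nat.card (F.map f)
    rw [hcF, hF, card_map_of_injective K.subtype_injective, hj]
    refine Nat.le_of_dvd Nat.card_pos ?_
    exact P.pow_dvd_card_of_pow_dvd_card (hcard ▸ Dvd.intro _ rfl)
  · have h1 : f (v * w⁻¹) = 1 := by rw [map_mul, map_inv, hvw, mul_inv_cancel]
    exact mul_inv_eq_one.1 (hinj _ (mul_mem hv (inv_mem hw)) h1)

/-- `R = [R, a]` centralises `Q` as soon as it centralises `[Q, a]`. -/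
theorem centralizes_of_centralizes_commutator {a : X} {R Q : Subgroup X} (haQ : a ∈ normalizer (Q : Set X))
    (hRQ : R ≤ normalizer (Q : Set X)) (hRa : ⁅R, zpowers a⁆ = R)
    (hcopa : (orderOf a).Coprime (Nat.card Q)) (hcop : (Nat.card R).Coprime (Nat.card Q))
    (h : R ≤ centralizer ((⁅Q, zpowers a⁆ : Subgroup X) : Set X)) : R ≤ centralizer (Q : Set X) := by
  set M := ⁅Q, zpowers a⁆
  have hMQ : M ≤ Q := Coprime.commutator_le_left_of_le_normalizer (zpowers_le.2 haQ)
  -- `R` centralises the fixed points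
  have key : R ≤ centralizer ((Q ⊓ centralizer (zpowers a : Set X) : Subgroup X) : Set X) := by
    conv_lhs => rw [← hRa]
    rw [commutator_le]
    intro r hr e he
    refine mem_centralizer_iff.2 fun f hf => ?_
    obtain ⟨hfQ, hfe⟩ := mem_inf.1 hf
    have hef : e * f = f * e := mem_centralizer_iff.1 hfe e he
    have hf1 : r⁻¹ * f * r ∈ Q := by
      simpa using (mem_normalizer_iff.1 (hRQ (inv_mem hr)) f).1 hfQ
    set m := ⁅e, r⁻¹ * f * r⁆ with hm
    have hmM : m ∈ M := by
      rw [hm, ← commutatorElement_inv]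
      exact inv_mem (commutator_mem_commutator hf1 he)
    have hyR : ⁅r, e⁆ ∈ R := hRa.le (commutator_mem_commutator hr he)
    set y := ⁅r, e⁆ with hy
    have hmy : y * m = m * y := (mem_centralizer_iff.1 (h hyR) m hmM).symm
    have hmr : r * m = m * r := (mem_centralizer_iff.1 (h hr) m hmM).symm
    have he1 : y * f * y⁻¹ = m * f := by
      calc y * f * y⁻¹ = r * (e * (r⁻¹ * ((e⁻¹ * f * e)) * r) * e⁻¹) * r⁻¹ := by
            rw [hy, commutatorElement_def]; group
        _ = r * (e * (r⁻¹ * f * r) * e⁻¹) * r⁻¹ := by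
            rw [show e⁻¹ * f * e = f by rw [mul_assoc, ← hef, inv_mul_cancel_left]]
        _ = r * (m * (r⁻¹ * f * r)) * r⁻¹ := by rw [hm, commutatorElement_def]; group
        _ = (r * m) * r⁻¹ * f := by group
        _ = m * f := by rw [hmr, mul_inv_cancel_right]
    have hiter : ∀ n : ℕ, y ^ n * f * (y ^ n)⁻¹ = m ^ n * f := by
      intro n
      induction n with
      | zero => simp
      | succ n ih =>
        rw [pow_succ', mul_inv_rev, show y * y ^ n * f * ((y ^ n)⁻¹ * y⁻¹) = y * (y ^ n * f * (y ^ n)⁻¹) * y⁻¹ by group,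
          ih, show y * (m ^ n * f) * y⁻¹ = (y * m ^ n) * f * y⁻¹ by group,
          ((show Commute y m from hmy).pow_right n).eq,
          show m ^ n * y * f * y⁻¹ = m ^ n * (y * f * y⁻¹) by group, he1, ← mul_assoc, ← pow_succ]
    have hm1 : m = 1 := by
      have h1 := hiter (orderOf y)
      rw [pow_orderOf_eq_one, one_mul, inv_one, mul_one] at h1
      have h2 : m ^ orderOf y = 1 := by rwa [eq_comm, mul_eq_right] at h1
      rw [← orderOf_eq_one_iff]
      exact Nat.eq_one_of_dvd_coprimes hcop
        ((orderOf_dvd_of_pow_eq_one h2).trans (R.orderOf_dvd_natCard hyR)) (Q.orderOf_dvd_natCard (hMQ hmM))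
    rw [hm1, one_mul, mul_inv_eq_iff_eq_mul] at he1
    exact he1.symm
  intro r hr
  refine mem_centralizer_iff.2 fun q hq => ?_
  obtain ⟨f, hf, m, hm, rfl⟩ := Coprime.exists_centralizer_mul_commutator (A := zpowers a) (zpowers_le.2 haQ)
    (by rwa [Nat.card_zpowers]) (Or.inl inferInstance) hq
  exact ((show Commute r f from (mem_centralizer_iff.1 (key hr) f hf).symm).mul_right
    (show Commute r m from (mem_centralizer_iff.1 (h hr) m hm).symm)).eq.symm

/-- An `s`-subgroup of a solvable group centralising the other cores is trivial if `O_s = 1`. -/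
theorem eq_bot_of_centralizes_cores [Group.IsSolvable X] {s : ℕ} (hs : s.Prime)
    (hcore : Cfsg.pCore s X = ⊥) {R : Subgroup X} (hR : IsPGroup s R)
    (h : ∀ t : ℕ, t.Prime → t ≠ s → ∀ v ∈ Cfsg.pCore t X, ∀ r ∈ R, r * v = v * r) : R = ⊥ := by
  haveI := Fact.mk hs
  have hRF : R ≤ Cfsg.fittingSubgroup X := fun r hr => by
    refine Components.centralizer_fittingSubgroup_le (mem_centralizer_iff.2 fun v hv => ?_)
    have hle : Cfsg.fittingSubgroup X ≤ centralizer ({r} : Set X) := by
      rw [Components.fittingSubgroup_eq_iSup_pCore]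
      refine iSup_le fun t w hw => mem_centralizer_singleton_iff.2 ?_
      by_cases hts : (t : ℕ) = s
      · rw [hts, hcore, mem_bot] at hw
        rw [hw, one_mul, mul_one]
      · exact (h t (Nat.prime_of_mem_primeFactors t.2) hts w hw r hr).symm
    exact mem_centralizer_singleton_iff.1 (hle hv)
  have hc := Components.fittingSubgroup_isNilpotent X
  obtain ⟨S, hS⟩ := (IsPGroup.comap_subtype hR : IsPGroup s ↥(R.subgroupOf (Cfsg.fittingSubgroup X))).exists_le_sylow
  have hn : (Cfsg.fittingSubgroup X).Normal := sSup_normal _ fun _ h => h.1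
  have hSc : (S : Subgroup ↥(Cfsg.fittingSubgroup X)).Characteristic := S.characteristic_of_normal inferInstance
  have : ((S : Subgroup ↥(Cfsg.fittingSubgroup X)).map (Cfsg.fittingSubgroup X).subtype).Normal :=
    ConjAct.normal_of_characteristic_of_normal
  rw [eq_bot_iff, ← hcore]
  intro r hr
  exact PCore.le_pCore (N := (S : Subgroup ↥(Cfsg.fittingSubgroup X)).map (Cfsg.fittingSubgroup X).subtype)
    (S.2.map _) ⟨⟨r, hRF hr⟩, hS hr, rfl⟩

end Cfsg.Agent.TwoGenSolvable
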