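import Mathlib
import Cfsg.Agent.Lib.TwoGenSolvable.TFixed
import Cfsg.Agent.Lib.TwoGenSolvable.TLift
import Cfsg.Agent.Lib.TwoGenSolvable.NoFixed

/-!
# The fixed points of `z` on a member
-/

set_option autoImplicit false
set_option linter.style.haveILetI false
set_option linter.unusedSectionVars false

namespace Cfsg.Agent.TwoGenSolvable

open Subgroup
open scoped commutatorElement

universe u

variable {G : Type u} [Group G] [Finite G] {p q s : ℕ} {x z : G} {B : Subgroup G}

/-- A moved abelian or odd `t`-subgroup of `C(z)` centralises the members of the other primes. -/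
theorem ZCtx.centralizes_member (h : ZCtx p q x z) {t : ℕ} (ht : t.Prime) (htp : t ≠ p) {F : Subgroup G}
    (hF : IsPGroup t F) (hFz : F ≤ centralizer ({z} : Set G)) (hxF : x ∈ normalizer (F : Set G))
    (hFx : ⁅F, zpowers x⁆ = F) (hcase : t ≠ 2 ∨ ∀ a ∈ F, ∀ b ∈ F, a * b = b * a)
    (hB : IsMember q x z s B) (hst : s ≠ t) : ∀ f ∈ F, ∀ b ∈ B, f * b = b * f := by
  haveI := Fact.mk ht
  haveI := Fact.mk hB.sprime
  suffices hU : ∀ v ∈ B, IsMember q x z s (orbitClosure x z v) →
      orbitClosure x z v ≤ centralizer (F : Set G) by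
    have hall : B ≤ centralizer (F : Set G) :=
      (IsMember.eq_iSup_cyclic h.toQCtx hB).trans (iSup₂_le fun v hv => hU v hv.1 hv.2)
    exact fun f hf b hb => mem_centralizer_iff.1 (hall hb) f hf
  intro v hv hm
  set U := orbitClosure x z v with hUdef
  rw [le_centralizer_iff, ← hFx, commutator_le]
  intro f hf e he
  obtain ⟨H, hH, hxH, hzH, hg, -⟩ := h.toQCtx.exists_solvable (v * f)
  have hfz : Commute f z := mem_centralizer_singleton_iff.1 (hFz hf)
  have hUH : U ≤ H := hm.le_of_commutators hUdef h.toQCtx.commute hxH hzH fun i => by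
    have hE : ⁅v * f, z ^ i⁆ = ⁅v, z ^ i⁆ := by
      rw [commutatorElement_def, commutatorElement_def, mul_inv_rev,
        show v * f * z ^ i * (f⁻¹ * v⁻¹) = v * (f * z ^ i * f⁻¹) * v⁻¹ by group,
        mul_inv_eq_iff_eq_mul.2 (hfz.pow_right i).eq]
    rw [← hE]
    exact mul_mem (mul_mem (mul_mem hg (pow_mem hzH i)) (inv_mem hg)) (inv_mem (pow_mem hzH i))
  have hfH : f ∈ H := by
    have := mul_mem (inv_mem (hUH (mem_orbitClosure_self x z v))) hg
    rwa [inv_mul_cancel_left] at this
  set W := Cfsg.pCoreOf s (ppOf p H) with hW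
  have hWn : H ≤ normalizer (W : Set G) := FixedDim.le_normalizer_map_char (le_normalizer_ppOf p H) _
  have hWs : IsPGroup s W := PCore.isPGroup_pCoreOf _
  have hUW : U ≤ W := h.le_core_of_zmoved hB.sprime hB.ne_q hH hxH hzH hUH hm.pgroup hm.moved.z_norm hm.moved.eq
  set BH := ⁅W, zpowers z⁆ with hBH
  have hUB : U ≤ BH := hm.moved.eq.ge.trans (commutator_mono hUW le_rfl)
  have hBm : IsMember q x z s BH := isMember_commutator h.toQCtx hB.sprime hB.ne_q hWs (hWn hxH) (hWn hzH)
    fun e0 => hm.ne_bot (le_bot_iff.1 (e0 ▸ hUB))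
  set F' := ⁅F ⊓ H, zpowers x⁆ with hF'
  have hxFH : x ∈ normalizer ((F ⊓ H : Subgroup G) : Set G) :=
    inf_normalizer_le_normalizer_inf ⟨hxF, le_normalizer hxH⟩
  have hF'le : F' ≤ F ⊓ H := commutator_zpowers_le hxFH
  have hcopx : (Nat.card (zpowers x)).Coprime (Nat.card (F ⊓ H : Subgroup G)) := by
    rw [Nat.card_zpowers, h.order_x]
    exact (coprime_of_pgroup ht h.prime htp (hF.to_le inf_le_left)).symm
  have hF'B : F' ≤ normalizer (BH : Set G) := fun g hg' =>
    mem_normalizer_commutator (hWn (hF'le hg').2) (mem_centralizer_singleton_iff.1 (hFz (hF'le hg').1))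
  have hxF' : x ∈ normalizer (F' : Set G) := mem_normalizer_commutator hxFH rfl
  have key := centralizes_of_no_fixed h.prime (lt_of_lt_of_le (by norm_num) h.five_le) hB.sprime ht hst htp
    (hB.ne_p h.toQCtx) h.order_x ((hF.to_le inf_le_left).to_le hF'le) hBm.pgroup hxF' hBm.moved.x_norm hF'B
    (Coprime.commutator_commutator_eq (zpowers_le.2 hxFH) hcopx (Or.inl inferInstance)) (hBm.commutator_x h.toQCtx)
    (hcase.imp id fun hab => Or.inl fun a ha b hb => hab a (hF'le ha).1 b (hF'le hb).1)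
  exact mem_centralizer_iff.2 fun u hu =>
    (key _ (commutator_mem_commutator (mem_inf.2 ⟨hf, hfH⟩) he) u (hUB hu)).symm

/-- The fixed points of `z` when `q = 2`. -/
theorem TStep.inf_centralizer_le_of_two (h : TStep p q x z s B) (hq : q = 2) :
    B ⊓ centralizer ({z} : Set G) ≤ Cfsg.pCoreOf s (centralizer ({z} : Set G)) := by
  classical
  haveI := Fact.mk h.sprime
  have hp3 : 3 < p := lt_of_lt_of_le (by norm_num) h.ctx.five_le
  have hsp : s ≠ p := h.toIsMember.ne_p h.ctx.toQCtx
  have hs2 : s ≠ 2 := hq ▸ h.ne_q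
  set C := centralizer ({z} : Set G)
  set T := Cfsg.pCoreOf s C with hT
  haveI : Group.IsSolvable C := h.ctx.toQCtx.solvable_centralizer_z.1
  have hxC : x ∈ C := mem_centralizer_singleton_iff.2 h.ctx.toQCtx.commute
  have hfix : sSer B s 1 ⊓ centralizer ((closure ({x, z} : Set G) : Subgroup G) : Set G) ≤ T :=
    h.fixed_le le_rfl (subset_closure (by simp)) (c := x) (subset_closure (by simp))
      (by rw [h.ctx.order_x]; exact h.ctx.prime.odd_of_ne_two (by omega)) (h.toIsMember.commutator_x h.ctx.toQCtx)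
  set R₀ := B ⊓ C
  have hR₀K : R₀ ≤ sSer B s 1 := h.inf_centralizer_le_one
  have hxR₀ : x ∈ normalizer (R₀ : Set G) := inf_normalizer_le_normalizer_inf ⟨h.moved.x_norm, le_normalizer hxC⟩
  have hR₀s : IsPGroup s R₀ := h.pgroup.to_le inf_le_left
  have hcopR : (Nat.card (zpowers x)).Coprime (Nat.card R₀) := by
    rw [Nat.card_zpowers, h.ctx.order_x]
    exact (coprime_of_pgroup h.sprime h.ctx.prime hsp hR₀s).symm
  set R := ⁅R₀, zpowers x⁆ with hR
  suffices hRT : R ≤ T by
    intro w hw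
    obtain ⟨c, hc, m, hm, rfl⟩ := Coprime.exists_centralizer_mul_commutator (A := zpowers x)
      (zpowers_le.2 hxR₀) hcopR (Or.inl inferInstance) (show w ∈ R₀ from hw)
    refine mul_mem (hfix ⟨hR₀K hc.1, ?_⟩) (hRT hm)
    rw [centralizer_closure]
    refine mem_centralizer_iff.2 ?_
    rintro y (rfl | rfl)
    · exact mem_centralizer_iff.1 hc.2 y (mem_zpowers y)
    · exact (mem_centralizer_singleton_iff.1 hc.1.2).symm
  have hRle : R ≤ R₀ := commutator_zpowers_le hxR₀
  have hxR : x ∈ normalizer (R : Set G) := mem_normalizer_commutator hxR₀ rfl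
  have hRR : ⁅R, zpowers x⁆ = R :=
    Coprime.commutator_commutator_eq (zpowers_le.2 hxR₀) hcopR (Or.inl inferInstance)
  -- the quotient by `T`
  set π := QuotientGroup.mk' (Cfsg.pCore s C) with hπ
  have hπ1 : ∀ a : C, π a = 1 ↔ (a : G) ∈ T := fun a =>
    (QuotientGroup.eq_one_iff a).trans ⟨fun ha => ⟨a, ha, rfl⟩, fun ⟨b, hb, he⟩ => Subtype.ext he ▸ hb⟩
  have hker : IsPGroup s π.ker := by
    rw [hπ, QuotientGroup.ker_mk']
    exact PCore.isPGroup_pCore
  have hRC : R ≤ C := hRle.trans inf_le_right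
  set R' := R.subgroupOf C
  set x' : C := ⟨x, hxC⟩ with hx'
  have hox : orderOf x' = p := (orderOf_submonoid x').symm.trans h.ctx.order_x
  set RJ := R'.map π
  set xJ := π x'
  have hxJp : orderOf xJ = p := by
    haveI := Fact.mk h.ctx.prime
    refine orderOf_eq_prime (by rw [← map_pow, ← hox, pow_orderOf_eq_one, map_one]) fun e => ?_
    have hxT : x ∈ T := (hπ1 x').1 e
    have h1 := coprime_orderOf_of_mem (coprime_of_pgroup h.sprime h.ctx.prime hsp (PCore.isPGroup_pCoreOf (p := s) C)) hxT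
    rw [h.ctx.order_x, Nat.coprime_self] at h1
    exact h.ctx.prime.ne_one h1
  have hxR' : x' ∈ normalizer (R' : Set C) := mem_normalizer_iff.2 fun r => by
    rw [mem_subgroupOf, mem_subgroupOf]
    exact mem_normalizer_iff.1 hxR r
  have hRR' : ⁅R', zpowers x'⁆ = R' := by
    refine map_injective C.subtype_injective ?_
    rw [map_commutator, MonoidHom.map_zpowers, map_subgroupOf_eq_of_le hRC]
    exact hRR
  have hxRJ : xJ ∈ normalizer (RJ : Set (C ⧸ Cfsg.pCore s C)) :=
    le_normalizer_map π ⟨x', hxR', rfl⟩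
  have hRRJ : ⁅RJ, zpowers xJ⁆ = RJ := by
    rw [← MonoidHom.map_zpowers, ← map_commutator, hRR']
  have hRs : IsPGroup s RJ := ((hR₀s.to_le hRle).comap_subtype).map π
  have hRab : ∀ a ∈ RJ, ∀ b ∈ RJ, a * b = b * a := by
    rintro _ ⟨a, ha, rfl⟩ _ ⟨b, hb, rfl⟩
    rw [← commutatorElement_eq_one_iff_mul_comm, ← map_commutatorElement, hπ1]
    refine h.inf_centralizer_le_two (mem_inf.2 ⟨?_, (⁅a, b⁆ : C).2⟩)
    exact commutator_sSer_le 1 (commutator_mem_commutator (hR₀K (hRle ha)) (hRle hb).1)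
  haveI : Group.IsSolvable (C ⧸ Cfsg.pCore s C) :=
    Group.isSolvable_of_surjective (f := π) (QuotientGroup.mk'_surjective _)
  -- moved `t`-subgroups of the quotient
  have hlift : ∀ t : ℕ, t.Prime → t ≠ s → t ≠ p → ∀ A : Subgroup (C ⧸ Cfsg.pCore s C), IsPGroup t A →
      xJ ∈ normalizer (A : Set _) → ⁅A, zpowers xJ⁆ = A → (t ≠ 2 ∨ ∀ a ∈ A, ∀ b ∈ A, a * b = b * a) →
      ∀ a ∈ A, ∀ r ∈ RJ, a * r = r * a := by
    intro t ht hts htp A hA hxA hAx hcase
    obtain ⟨F, hFt, hxF, hFA, hinj⟩ := exists_lift h.sprime ht hts π hker (a := x')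
      (by rw [hox]; exact (Nat.coprime_primes h.ctx.prime h.sprime).2 hsp.symm)
      (by rw [hox]; exact (Nat.coprime_primes h.ctx.prime ht).2 htp.symm) hA
      (by rw [MonoidHom.range_eq_top.2 (QuotientGroup.mk'_surjective _)]; exact le_top) hxA
    have hcF : (Nat.card (zpowers x')).Coprime (Nat.card F) := by
      rw [Nat.card_zpowers, hox]
      exact (coprime_of_pgroup ht h.ctx.prime htp hFt).symm
    set F' := ⁅F, zpowers x'⁆ with hF'
    have hF'le : F' ≤ F := commutator_zpowers_le hxF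
    have hF'A : F'.map π = A := by rw [hF', map_commutator, MonoidHom.map_zpowers, hFA, hAx]
    have hxF' : x ∈ normalizer ((F'.map C.subtype : Subgroup G) : Set G) :=
      le_normalizer_map C.subtype ⟨x', mem_normalizer_commutator hxF rfl, rfl⟩
    have hmov : ⁅F'.map C.subtype, zpowers x⁆ = F'.map C.subtype := by
      rw [show zpowers x = (zpowers x').map C.subtype by rw [MonoidHom.map_zpowers]; rfl, ← map_commutator,
        Coprime.commutator_commutator_eq (zpowers_le.2 hxF) hcF (Or.inl inferInstance)]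
    have hcase' : t ≠ 2 ∨ ∀ a ∈ F'.map C.subtype, ∀ b ∈ F'.map C.subtype, a * b = b * a := by
      refine hcase.imp id fun hab => ?_
      rintro _ ⟨a, ha, rfl⟩ _ ⟨b, hb, rfl⟩
      rw [← map_mul, ← map_mul, hinj (mul_mem (hF'le ha) (hF'le hb)) (mul_mem (hF'le hb) (hF'le ha))]
      rw [map_mul, map_mul]
      exact hab _ (hFA.le ⟨a, hF'le ha, rfl⟩) _ (hFA.le ⟨b, hF'le hb, rfl⟩)
    have hcen := h.ctx.centralizes_member ht htp ((hFt.to_le hF'le).map C.subtype) (map_subtype_le _) hxF' hmov
      hcase' h.toIsMember hts.symm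
    rintro a ha _ ⟨r, hr, rfl⟩
    obtain ⟨f, hf, rfl⟩ := hF'A.ge ha
    rw [← map_mul, ← map_mul]
    exact congrArg π (Subtype.ext (hcen _ ⟨f, hf, rfl⟩ r (hRle hr).1))
  have hbot : RJ = ⊥ := by
    refine eq_bot_of_centralizes_cores h.sprime PCore.pCore_quotient_self_eq_bot hRs fun t ht hts v hv r hr => ?_
    haveI := Fact.mk ht
    have hQn : (Cfsg.pCore t (C ⧸ Cfsg.pCore s C)).Normal := PCore.pCore_normal
    by_cases htp : t = p
    · subst htp
      haveI : (Cfsg.pPrimeCore t C).Normal := PCore.pPrimeCore_normal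
      set D := (Cfsg.pPrimeCore t C).map π
      have hDn : D.Normal := Subgroup.Normal.map inferInstance π (QuotientGroup.mk'_surjective _)
      have hRD : RJ ≤ D := map_mono fun a ha => by
        have h1 : (a : G) ∈ ppOf t C := h.ctx.toXCtx.commutator_le_ppOf inferInstance hxC hRC
          (coprime_of_pgroup h.sprime h.ctx.prime hsp (hR₀s.to_le hRle)) hxR (hRR.ge ha)
        obtain ⟨b, hb, he⟩ := h1
        exact Subtype.ext he ▸ hb
      have hdis : Disjoint D (Cfsg.pCore t (C ⧸ Cfsg.pCore s C)) := by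
        refine disjoint_iff.2 (PCore.eq_bot_of_isPGroup_of_coprime (p := t) (PCore.isPGroup_pCore.to_le inf_le_right) ?_)
        exact (PCore.coprime_card_pPrimeCore (p := t)).coprime_dvd_left
          ((card_dvd_of_le inf_le_left).trans ((Cfsg.pPrimeCore t C).card_map_dvd π))
      exact Subgroup.commute_of_normal_of_disjoint _ _ hDn hQn hdis r v (hRD hr) hv
    · set Q := Cfsg.pCore t (C ⧸ Cfsg.pCore s C)
      have hnQ : ∀ g, g ∈ normalizer (Q : Set (C ⧸ Cfsg.pCore s C)) := fun g => by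
        rw [normalizer_eq_top_iff.2 hQn]; exact mem_top _
      have hQt : IsPGroup t Q := PCore.isPGroup_pCore
      refine (?_ : ∀ v ∈ Q, ∀ r ∈ RJ, r * v = v * r) v hv r hr
      by_cases ht2 : t = 2
      · subst ht2
        intro v hv r hr
        exact (centralizes_of_abelian_subgroups h.ctx.prime hp3 h.sprime hs2 hsp hxJp hRs hRab hQt hxRJ (hnQ _)
          (fun g _ => hnQ g) hRRJ (fun A hAQ hxA hab hAx =>
            hlift 2 ht hts htp A (hQt.to_le hAQ) hxA hAx (Or.inr hab)) v hv r hr).symm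
      · have hcop : (Nat.card (zpowers xJ)).Coprime (Nat.card Q) := by
          rw [Nat.card_zpowers, hxJp]
          exact (coprime_of_pgroup ht h.ctx.prime htp hQt).symm
        have hM : RJ ≤ centralizer ((⁅Q, zpowers xJ⁆ : Subgroup _) : Set (C ⧸ Cfsg.pCore s C)) := fun r hr =>
          mem_centralizer_iff.2 fun m hm =>
            hlift t ht hts htp _ (hQt.to_le (commutator_zpowers_le (hnQ _))) (mem_normalizer_commutator (hnQ _) rfl)
              (Coprime.commutator_commutator_eq (zpowers_le.2 (hnQ _)) hcop (Or.inl inferInstance)) (Or.inl ht2)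
              m hm r hr
        have hcopRQ : (Nat.card RJ).Coprime (Nat.card Q) := IsPGroup.coprime_card_of_ne s t hts.symm RJ Q hRs hQt
        have h1 := centralizes_of_centralizes_commutator (a := xJ) (hnQ _) (fun g _ => hnQ g) hRRJ
          (by rwa [← Nat.card_zpowers]) hcopRQ hM
        exact fun v hv r hr => (mem_centralizer_iff.1 (h1 hr) v hv).symm
  intro r hr
  have h1 : π ⟨r, hRC hr⟩ ∈ RJ := ⟨⟨r, hRC hr⟩, hr, rfl⟩
  rw [hbot, mem_bot, hπ1] at h1
  exact h1

/-- The T-lemma: the fixed points of `z` on a member lie in `O_s(C(z))`. -/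
theorem IsMember.inf_centralizer_le (h : ZCtx p q x z) (hB : IsMember q x z s B) :
    B ⊓ centralizer ({z} : Set G) ≤ Cfsg.pCoreOf s (centralizer ({z} : Set G)) := by
  suffices ∀ n, ∀ B : Subgroup G, Nat.card B = n → IsMember q x z s B →
      B ⊓ centralizer ({z} : Set G) ≤ Cfsg.pCoreOf s (centralizer ({z} : Set G)) from this _ B rfl hB
  intro n
  induction n using Nat.strong_induction_on with
  | _ n ih =>
    intro B hn hB
    by_cases hcyc : ∃ v ∈ B, orbitClosure x z v = B
    · obtain ⟨v, -, hv⟩ := hcyc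
      exact hB.inf_centralizer_le_of_cyclic h hv.symm
    push Not at hcyc
    have hT : TStep p q x z s B :=
      { hB with
        ctx := h
        notCyclic := hcyc
        proper := fun M hM hMB hne => ih _
          (hn ▸ lt_of_le_of_ne (card_le_of_le hMB) fun e => hne (eq_of_le_of_card_ge hMB e.ge)) M rfl hM }
    by_cases hq : q = 2
    · exact hT.inf_centralizer_le_of_two hq
    · exact hT.inf_centralizer_le_of_odd hq

end Cfsg.Agent.TwoGenSolvable
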