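import Mathlib
import Cfsg.Agent.Lib.TwoGenSolvable.Found
import Cfsg.Agent.Lib.TwoGenSolvable.Clusters
import Cfsg.Agent.Lib.TwoGenSolvable.Slot
import Cfsg.Agent.Lib.TwoGenSolvable.MemberBasic
import Cfsg.Agent.Lib.TwoGenSolvable.NoFixed
import Cfsg.Agent.Lib.TwoGenSolvable.TLemma
import Cfsg.Agent.Lib.TwoGenSolvable.ClusterTools
import Cfsg.Agent.Lib.Coprime.Generation

/-!
# Maximal members and their linking

* `IsMaxMember.eq_of_member`: a member lies in a single maximal member, by looking at the maximal `x, z`-invariant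
  `s`-subgroups whose fixed points of `z` lie in `O_s(C(z))`;
* `IsMaxMember.normalizer_zpowers_le`: `N(⟨z⟩)` normalises every maximal member;
* `IsMaxMember.commute_of_members`: commuting pieces force the maximal members to commute;
* `ZCtx.oneCluster_of_linkable`.
-/

set_option autoImplicit false
set_option linter.style.haveILetI false
set_option linter.unusedSectionVars false

namespace Cfsg.Agent.TwoGenSolvable

open Subgroup
open scoped commutatorElement Pointwise

universe u

variable {G : Type u} [Group G] [Finite G] {p q s t r : ℕ} {x z : G} {B Y W B' : Subgroup G}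

theorem mem_normalizer_conjMem {K : Subgroup G} {g : G} (h : ∀ k ∈ K, g * k * g⁻¹ ∈ K) :
    g ∈ normalizer (K : Set G) := by
  refine mem_normalizer_iff_map_conj_eq.2 (eq_of_le_of_card_ge ?_ ?_)
  · rintro _ ⟨k, hk, rfl⟩
    exact h k hk
  · rw [card_map_of_injective (MulAut.conj g).injective]

theorem lt_inf_normalizer_of_pgroup {D Q : Subgroup G} (hs : s.Prime) (hQ : IsPGroup s Q) (h : D < Q) :
    D < Q ⊓ normalizer (D : Set G) := by
  haveI := Fact.mk hs
  haveI := hQ.isNilpotent
  refine lt_of_le_of_ne (le_inf h.le le_normalizer) fun heq => ?_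
  have hlt : D.subgroupOf Q < ⊤ :=
    lt_top_iff_ne_top.2 fun he => h.not_ge (subgroupOf_eq_top.1 he)
  obtain ⟨n, hn, hnD⟩ := SetLike.exists_of_lt (Group.normalizerCondition_of_isNilpotent _ hlt)
  apply hnD
  rw [mem_subgroupOf, heq]
  refine ⟨n.2, mem_normalizer_conjMem fun d hd => ?_⟩
  exact (mem_normalizer_iff.1 hn ⟨d, h.le hd⟩).1 hd

theorem IsMember.le_commutator (hB : IsMember q x z s B) {R : Subgroup G} (h : B ≤ R) :
    B ≤ ⁅R, zpowers z⁆ :=
  hB.moved.eq.ge.trans (commutator_mono h le_rfl)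

theorem QCtx.coprime_zpowers (h : QCtx p q x z) (hs : s.Prime) (hsq : s ≠ q) {R : Subgroup G}
    (hR : IsPGroup s R) : (Nat.card (zpowers z)).Coprime (Nat.card R) := by
  rw [Nat.card_zpowers, h.order_z]
  exact (coprime_of_pgroup hs h.qprime hsq hR).symm

theorem QCtx.z_mem_centralizer (h : QCtx p q x z) :
    x ∈ centralizer ({z} : Set G) ∧ z ∈ centralizer ({z} : Set G) :=
  ⟨mem_centralizer_singleton_iff.2 h.commute, mem_centralizer_singleton_iff.2 rfl⟩

theorem centralizer_singleton_eq_zpowers (z : G) :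
    centralizer ({z} : Set G) = centralizer ((zpowers z : Subgroup G) : Set G) := by
  rw [zpowers_eq_closure, centralizer_closure]

/-- A `z`-invariant subgroup of coprime order with trivial moved part is centralised by `z`. -/
theorem le_centralizer_of_commutator_eq_bot {R : Subgroup G} (h : ⁅R, zpowers z⁆ = ⊥) :
    R ≤ centralizer ({z} : Set G) := by
  rw [centralizer_singleton_eq_zpowers]
  exact commutator_eq_bot_iff_le_centralizer.1 h

theorem IsMember.exists_max (hB : IsMember q x z s B) : ∃ B', IsMaxMember q x z s B' ∧ B ≤ B' := by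
  obtain ⟨B', hle, hmax⟩ := Finite.exists_le_maximal (p := fun C => IsMember q x z s C) hB
  exact ⟨B', ⟨hmax.prop, fun C hC hBC => (hmax.eq_of_le hC hBC).symm⟩, hle⟩

/-! ### Conjugation -/

theorem map_conj_inv_map (g : G) (K : Subgroup G) :
    (K.map (MulAut.conj g⁻¹).toMonoidHom).map (MulAut.conj g).toMonoidHom = K := by
  rw [map_map]
  convert map_id K
  ext a
  simp [mul_assoc]

theorem map_conj_map_inv (g : G) (K : Subgroup G) :
    (K.map (MulAut.conj g).toMonoidHom).map (MulAut.conj g⁻¹).toMonoidHom = K := by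
  simpa using map_conj_inv_map g⁻¹ K

theorem IsMember.conj_inv {g : G} (hB : IsMember q (g * x * g⁻¹) (g * z * g⁻¹) s B) :
    IsMember q x z s (B.map (MulAut.conj g⁻¹).toMonoidHom) := by
  have h := hB.conj g⁻¹
  simpa [mul_assoc] using h

theorem IsMaxMember.conj (hB : IsMaxMember q x z s B) (g : G) :
    IsMaxMember q (g * x * g⁻¹) (g * z * g⁻¹) s (B.map (MulAut.conj g).toMonoidHom) := by
  refine ⟨hB.toIsMember.conj g, fun C hC hle => ?_⟩
  have h := hB.maximal _ hC.conj_inv (le_trans (map_conj_map_inv g B).ge (map_mono hle))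
  rw [← map_conj_inv_map g C, h]

theorem IsMaxMember.conj_inv {g : G} (hB : IsMaxMember q (g * x * g⁻¹) (g * z * g⁻¹) s B) :
    IsMaxMember q x z s (B.map (MulAut.conj g⁻¹).toMonoidHom) := by
  have h := hB.conj g⁻¹
  simpa [mul_assoc] using h

theorem Linked.map (hl : Linked s t B Y) (e : MulAut G) :
    Linked s t (B.map e.toMonoidHom) (Y.map e.toMonoidHom) := by
  rcases hl with rfl | ⟨hne, hc⟩
  · exact Or.inl rfl
  · refine Or.inr ⟨hne, ?_⟩
    rintro _ ⟨b, hb, rfl⟩ _ ⟨y, hy, rfl⟩
    rw [← map_mul, ← map_mul, hc b hb y hy]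

theorem OneCluster.conj (h : OneCluster q x z) (g : G) :
    OneCluster q (g * x * g⁻¹) (g * z * g⁻¹) := by
  intro s t B Y hB hY
  have h1 := (h s t _ _ hB.conj_inv hY.conj_inv).map (MulAut.conj g)
  rwa [map_conj_inv_map, map_conj_inv_map] at h1

/-! ### Uniqueness of the maximal member -/

/-- An `x, z`-invariant `s`-subgroup whose fixed points of `z` lie in `O_s(C(z))`. -/
structure IsObj (x z : G) (s : ℕ) (X : Subgroup G) : Prop where
  pgroup : IsPGroup s X
  x_norm : x ∈ normalizer (X : Set G)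
  z_norm : z ∈ normalizer (X : Set G)
  fixed : X ⊓ centralizer ({z} : Set G) ≤ Cfsg.pCoreOf s (centralizer ({z} : Set G))

theorem IsMember.isObj (h : ZCtx p q x z) (hB : IsMember q x z s B) : IsObj x z s B :=
  ⟨hB.pgroup, hB.moved.x_norm, hB.moved.z_norm, hB.inf_centralizer_le h⟩

/-- The object attached to the normaliser `N` of a moved subgroup. -/
theorem exists_obj_normalizer (h : ZCtx p q x z) (hs : s.Prime) (hsq : s ≠ q) {X : Subgroup G}
    (hX : IsPGroup s X) (hxX : x ∈ normalizer (X : Set G)) (hzX : z ∈ normalizer (X : Set G))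
    (hne : ⁅X, zpowers z⁆ ≠ ⊥) : ∃ J : Subgroup G, IsObj x z s J ∧ ∀ M : Subgroup G, IsObj x z s M →
      X ≤ M → M ⊓ normalizer (X : Set G) ≤ J := by
  haveI := Fact.mk hs
  set N := normalizer (X : Set G) with hN
  have hX1 : X ≠ ⊥ := fun e => hne (by rw [e, commutator_bot_left])
  have hNs : Group.IsSolvable N := h.toMinCE.solvable_normalizer hX hX1
  set C := centralizer ({z} : Set G) with hC
  set T := Cfsg.pCoreOf s C with hT
  set R := Cfsg.pCoreOf s (ppOf p N) with hR
  set K := ⁅R, zpowers z⁆ with hK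
  have hRn : N ≤ normalizer (R : Set G) := FixedDim.le_normalizer_map_char (le_normalizer_ppOf p N) _
  have hKR : K ≤ R := commutator_zpowers_le (hRn hzX)
  have hTC : T ≤ C := PCore.pCoreOf_le _
  have hTK : T ⊓ N ≤ normalizer (K : Set G) := fun u hu =>
    mem_normalizer_commutator (hRn hu.2) (mem_centralizer_singleton_iff.1 (hTC hu.1))
  obtain ⟨hxC, hzC⟩ := h.toQCtx.z_mem_centralizer
  have hCT : ∀ u ∈ C, u ∈ N → u ∈ normalizer ((T ⊓ N : Subgroup G) : Set G) := fun u hu huN =>
    inf_normalizer_le_normalizer_inf ⟨PCore.le_normalizer_pCoreOf _ hu, le_normalizer huN⟩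
  have hfix : K ⊓ C ≤ T := by
    by_cases hK1 : K = ⊥
    · rw [hK1, bot_inf_eq]; exact bot_le
    exact (isMember_commutator h.toQCtx hs hsq (PCore.isPGroup_pCoreOf _) (hRn hxX) (hRn hzX)
      hK1).inf_centralizer_le h
  refine ⟨K ⊔ T ⊓ N, ⟨?_, ?_, ?_, ?_⟩, fun M hM hXM => ?_⟩
  · exact ((PCore.isPGroup_pCoreOf _).to_le hKR).to_sup_of_normal_left'
      ((PCore.isPGroup_pCoreOf _).to_le (inf_le_left : T ⊓ N ≤ T)) hTK
  · exact normalizer_inf_normalizer_le_normalizer_sup _ _
      ⟨mem_normalizer_commutator (hRn hxX) h.toQCtx.commute, hCT x hxC hxX⟩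
  · exact normalizer_inf_normalizer_le_normalizer_sup _ _
      ⟨mem_normalizer_commutator (hRn hzX) rfl, hCT z hzC hzX⟩
  · rintro w ⟨hw, hwC⟩
    replace hw : w ∈ (K : Set G) * ((T ⊓ N : Subgroup G) : Set G) := by
      rw [← coe_mul_of_right_le_normalizer_left K (T ⊓ N) hTK]
      exact hw
    rw [Set.mem_mul] at hw
    replace hwC : w ∈ C := hwC
    obtain ⟨k, hk, u, hu, rfl⟩ := hw
    have hkC : k ∈ C := by
      have h1 := mul_mem hwC (inv_mem (hTC hu.1))
      rwa [mul_inv_cancel_right] at h1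
    exact mul_mem (hfix ⟨hk, hkC⟩) hu.1
  · set A := M ⊓ N with hA
    have hAp : IsPGroup s A := hM.pgroup.to_le inf_le_left
    have hzA : z ∈ normalizer (A : Set G) := inf_normalizer_le_normalizer_inf ⟨hM.z_norm, le_normalizer hzX⟩
    have hcop := h.toQCtx.coprime_zpowers hs hsq hAp
    have hAz := commutator_zpowers_le hzA
    have hW : ⁅A, zpowers z⁆ ≤ R := h.le_core_of_zmoved hs hsq hNs hxX hzX (hAz.trans inf_le_right)
      (hAp.to_le hAz) (mem_normalizer_commutator hzA rfl)
      (Coprime.commutator_commutator_eq (zpowers_le.2 hzA) hcop (Or.inl inferInstance))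
    have hWK : ⁅A, zpowers z⁆ ≤ K := by
      rw [← Coprime.commutator_commutator_eq (zpowers_le.2 hzA) hcop (Or.inl inferInstance)]
      exact commutator_mono hW le_rfl
    rw [← Coprime.commutator_sup_centralizer (zpowers_le.2 hzA) hcop (Or.inl inferInstance),
      ← centralizer_singleton_eq_zpowers]
    refine sup_le_sup hWK ?_
    rintro a ⟨ha, haC⟩
    exact ⟨hM.fixed ⟨ha.1, haC⟩, ha.2⟩

/-- Two maximal objects with a moved intersection are equal. -/
theorem IsObj.eq_of_maximal (h : ZCtx p q x z) (hs : s.Prime) (hsq : s ≠ q) {M M' : Subgroup G}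
    (hM : Maximal (IsObj x z s) M) (hM' : Maximal (IsObj x z s) M')
    (hne : ⁅M ⊓ M', zpowers z⁆ ≠ ⊥) : M = M' := by
  haveI := Fact.mk hs
  induction hn : Nat.card G - Nat.card (M ⊓ M' : Subgroup G) using Nat.strong_induction_on
    generalizing M M' with
  | _ n ih =>
    subst hn
    by_cases hXM : M ⊓ M' = M
    · exact hM.eq_of_le hM'.prop (inf_eq_left.1 hXM)
    by_cases hXM' : M ⊓ M' = M'
    · exact (hM'.eq_of_le hM.prop (inf_eq_right.1 hXM')).symm
    have hX := hM.prop.pgroup.to_le (inf_le_left : M ⊓ M' ≤ M)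
    obtain ⟨J, hJ, hJle⟩ := exists_obj_normalizer h hs hsq hX
      (inf_normalizer_le_normalizer_inf ⟨hM.prop.x_norm, hM'.prop.x_norm⟩)
      (inf_normalizer_le_normalizer_inf ⟨hM.prop.z_norm, hM'.prop.z_norm⟩) hne
    obtain ⟨M'', hJM, hM''⟩ := Finite.exists_le_maximal (p := IsObj x z s) hJ
    have key : ∀ L : Subgroup G, Maximal (IsObj x z s) L → M ⊓ M' < L → L = M'' := by
      intro L hL hlt
      have hgrow := lt_inf_normalizer_of_pgroup hs hL.prop.pgroup hlt
      have hle : L ⊓ normalizer ((M ⊓ M' : Subgroup G) : Set G) ≤ L ⊓ M'' :=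
        le_inf inf_le_left ((hJle L hL.prop hlt.le).trans hJM)
      refine ih _ ?_ hL hM'' (fun e => hne (le_bot_iff.1 (e ▸ commutator_mono (hgrow.le.trans hle) le_rfl))) rfl
      have h1 : Nat.card (M ⊓ M' : Subgroup G) < Nat.card (L ⊓ M'' : Subgroup G) :=
        lt_of_le_of_ne (card_le_of_le (hgrow.le.trans hle)) fun e =>
          (hgrow.trans_le hle).ne (eq_of_le_of_card_ge (hgrow.le.trans hle) e.ge)
      have h2 := card_le_card_group (L ⊓ M'' : Subgroup G)
      omega
    rw [key M hM (lt_of_le_of_ne inf_le_left hXM), key M' hM' (lt_of_le_of_ne inf_le_right hXM')]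

/-- A member lies in a single maximal member. -/
theorem IsMaxMember.eq_of_member (h : ZCtx p q x z) {E : Subgroup G} (hE : IsMember q x z s E)
    (hB : IsMaxMember q x z s B) (hB' : IsMaxMember q x z s B') (h1 : E ≤ B) (h2 : E ≤ B') : B = B' := by
  haveI := Fact.mk hE.sprime
  have key : ∀ C, IsMaxMember q x z s C → E ≤ C →
      ∃ M, Maximal (IsObj x z s) M ∧ E ≤ M ∧ C = ⁅M, zpowers z⁆ := by
    intro C hC hEC
    obtain ⟨M, hCM, hM⟩ := Finite.exists_le_maximal (p := IsObj x z s) (hC.toIsMember.isObj h)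
    have hle := hC.toIsMember.le_commutator hCM
    refine ⟨M, hM, hEC.trans hCM, (hC.maximal _ (isMember_commutator h.toQCtx hE.sprime hE.ne_q hM.prop.pgroup
      hM.prop.x_norm hM.prop.z_norm fun e => hC.ne_bot (le_bot_iff.1 (e ▸ hle))) hle).symm⟩
  obtain ⟨M, hM, hEM, rfl⟩ := key B hB h1
  obtain ⟨M', hM', hEM', rfl⟩ := key B' hB' h2
  rw [IsObj.eq_of_maximal h hE.sprime hE.ne_q hM hM' fun e =>
    hE.ne_bot (le_bot_iff.1 (e ▸ hE.le_commutator (le_inf hEM hEM')))]

/-- The core of a solvable subgroup containing a piece lies in the maximal member. -/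
theorem IsMaxMember.core_le (h : ZCtx p q x z) (hB : IsMaxMember q x z s B) {E H : Subgroup G}
    (hE : IsMember q x z s E) (hEB : E ≤ B) (hH : Group.IsSolvable H) (hx : x ∈ H) (hz : z ∈ H) (hEH : E ≤ H) :
    ⁅Cfsg.pCoreOf s (ppOf p H), zpowers z⁆ ≤ B := by
  obtain ⟨h1, h2⟩ := hE.le_core h hH hx hz hEH
  obtain ⟨C, hC, hle⟩ := h2.exists_max
  rwa [← IsMaxMember.eq_of_member h hE hC hB (h1.trans hle) hEB]

/-- `N(⟨z⟩)` normalises every maximal member. -/
theorem IsMaxMember.normalizer_zpowers_le (h : ZCtx p q x z) (hB : IsMaxMember q x z s B) :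
    normalizer (zpowers z : Set G) ≤ normalizer (B : Set G) := by
  intro g hg
  refine mem_normalizer_conjMem ?_
  suffices B ≤ B.comap (MulAut.conj g).toMonoidHom from fun b hb => this hb
  refine (IsMember.eq_iSup_cyclic h.toQCtx hB.toIsMember).trans (iSup₂_le fun v hv => ?_)
  obtain ⟨hvB, hU⟩ := hv
  set U := closure ((fun c => c * v * c⁻¹) '' (closure {x, z} : Subgroup G)) with hUdef
  have hUB : U ≤ B := by
    rw [hUdef, closure_le]
    rintro _ ⟨c, hc, rfl⟩
    exact (mem_normalizer_iff.1 (closure_pair_le_normalizer hB.moved.x_norm hB.moved.z_norm hc) v).1 hvB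
  obtain ⟨H, hH, hxH, hzH, hgH, -⟩ := h.toQCtx.exists_solvable (v * g)
  have hUH : U ≤ H := hU.le_of_commutators hUdef h.toQCtx.commute hxH hzH fun i => by
    obtain ⟨k, hk⟩ := mem_zpowers_iff.1
      ((mem_normalizer_iff''.1 hg (z ^ i)).1 (pow_mem (mem_zpowers z) i))
    have e : ⁅v, z ^ i⁆ = v * g * z ^ k * (v * g)⁻¹ * (z ^ i)⁻¹ := by
      rw [commutatorElement_def, hk]; group
    rw [e]
    exact mul_mem (mul_mem (mul_mem hgH (zpow_mem hzH k)) (inv_mem hgH)) (inv_mem (pow_mem hzH i))
  have hgm : g ∈ H := by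
    have := mul_mem (inv_mem (hUH (subset_closure ⟨1, one_mem _, by simp⟩ : v ∈ U))) hgH
    rwa [inv_mul_cancel_left] at this
  have hRn : H ≤ normalizer (Cfsg.pCoreOf s (ppOf p H) : Set G) :=
    FixedDim.le_normalizer_map_char (le_normalizer_ppOf p H) _
  have hgK : g ∈ normalizer ((⁅Cfsg.pCoreOf s (ppOf p H), zpowers z⁆ : Subgroup G) : Set G) := by
    refine mem_normalizer_iff_map_conj_eq.2 ?_
    rw [map_commutator, mem_normalizer_iff_map_conj_eq.1 (hRn hgm), mem_normalizer_iff_map_conj_eq.1 hg]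
  intro w hw
  exact hB.core_le h hU hUB hH hxH hzH hUH
    ((mem_normalizer_iff.1 hgK w).1 ((hU.le_core h hH hxH hzH hUH).1 hw))

/-! ### Commuting -/

/-- An `x`-moved subgroup that is abelian modulo a normalised subgroup centralising `Y` centralises `Y`. -/
theorem centralizes_of_abelian_mod (hp : p.Prime) (hp3 : 3 < p) (hs : s.Prime) (ht : t.Prime) (hst : s ≠ t)
    (hsp : s ≠ p) (htp : t ≠ p) (hx : orderOf x = p) {F Y K : Subgroup G} (hF : IsPGroup s F)
    (hY : IsPGroup t Y) (hK : IsPGroup s K) (hxF : x ∈ normalizer (F : Set G))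
    (hxY : x ∈ normalizer (Y : Set G)) (hxK : x ∈ normalizer (K : Set G)) (hFY : F ≤ normalizer (Y : Set G))
    (hFK : F ≤ normalizer (K : Set G)) (hKY : K ≤ centralizer (Y : Set G)) (hFx : ⁅F, zpowers x⁆ = F)
    (hYx : ⁅Y, zpowers x⁆ = Y) (hmod : ⁅F, F⁆ ≤ K) : ∀ f ∈ F, ∀ y ∈ Y, f * y = y * f := by
  haveI := Fact.mk hp
  haveI := Fact.mk hs
  haveI := Fact.mk ht
  set L := normalizer (K : Set G) ⊓ normalizer (Y : Set G) with hL
  have hxL : x ∈ L := ⟨hxK, hxY⟩
  have hFL : F ≤ L := le_inf hFK hFY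
  have hYL : Y ≤ L := le_inf ((le_centralizer_iff.1 hKY).trans (centralizer_le_normalizer _)) le_normalizer
  have hKL : K ≤ L := le_inf le_normalizer (hKY.trans (centralizer_le_normalizer _))
  haveI : (K.subgroupOf L).Normal := normal_subgroupOf_of_le_normalizer inf_le_left
  set π := QuotientGroup.mk' (K.subgroupOf L) with hπ
  have hπ1 : ∀ g : L, π g = 1 ↔ (g : G) ∈ K := fun g => QuotientGroup.eq_one_iff g
  set a : L := ⟨x, hxL⟩ with ha
  have hxK' : x ∉ K := fun hm => hp.ne_one (by
    rw [← hx]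
    refine Nat.eq_one_of_dvd_coprimes (coprime_of_pgroup hs hp hsp hK) (K.orderOf_dvd_natCard hm) ?_
    rw [hx])
  have hord : orderOf (π a) = p := by
    refine orderOf_eq_prime ?_ fun e => hxK' ((hπ1 a).1 e)
    rw [← map_pow, show a ^ p = 1 from Subtype.ext (by simp [ha, ← hx, pow_orderOf_eq_one]), map_one]
  have hnorm : ∀ R : Subgroup G, R ≤ L → x ∈ normalizer (R : Set G) →
      π a ∈ normalizer (((R.subgroupOf L).map π : Subgroup _) : Set _) := fun R _ hxR =>
    le_normalizer_map π ⟨a, mem_normalizer_iff.2 fun g => by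
      simpa [mem_subgroupOf] using mem_normalizer_iff.1 hxR g, rfl⟩
  have hmoved : ∀ R : Subgroup G, R ≤ L → ⁅R, zpowers x⁆ = R →
      ⁅(R.subgroupOf L).map π, zpowers (π a)⁆ = (R.subgroupOf L).map π := fun R hR hRx => by
    rw [← MonoidHom.map_zpowers, ← map_commutator]
    congr 1
    refine map_injective L.subtype_injective ?_
    rw [map_commutator, map_subgroupOf_eq_of_le hR, MonoidHom.map_zpowers]
    exact hRx
  have key := centralizes_of_no_fixed hp hp3 ht hs hst.symm hsp htp hord
    ((hF.comap_subtype : IsPGroup s (F.subgroupOf L)).map π)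
    ((hY.comap_subtype : IsPGroup t (Y.subgroupOf L)).map π) (hnorm F hFL hxF) (hnorm Y hYL hxY)
    (by
      refine le_trans (map_mono (f := π) ?_) (le_normalizer_map π)
      intro g hg
      exact mem_normalizer_iff.2 fun y => by
        simpa [mem_subgroupOf] using mem_normalizer_iff.1 (hFY (mem_subgroupOf.1 hg)) y)
    (hmoved F hFL hFx) (hmoved Y hYL hYx)
    (Or.inr (Or.inl (by
      rintro _ ⟨f, hf, rfl⟩ _ ⟨f', hf', rfl⟩
      rw [← commutatorElement_eq_one_iff_mul_comm, ← map_commutatorElement, hπ1]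
      exact hmod (commutator_mem_commutator (mem_subgroupOf.1 hf) (mem_subgroupOf.1 hf')))))
  intro f hf y hy
  have h1 := key _ ⟨⟨f, hFL hf⟩, hf, rfl⟩ _ ⟨⟨y, hYL hy⟩, hy, rfl⟩
  rw [← commutatorElement_eq_one_iff_mul_comm, ← map_commutatorElement, hπ1] at h1
  have h2 : ⁅f, y⁆ ∈ Y := by
    rw [commutatorElement_def]
    exact mul_mem ((mem_normalizer_iff.1 (hFY hf) y).1 hy) (inv_mem hy)
  exact commutatorElement_eq_one_iff_mul_comm.1
    ((mem_bot).1 ((IsPGroup.disjoint_of_ne s t hst K Y hK hY).le_bot ⟨h1, h2⟩))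

/-- A piece commuting with a member of another prime: the whole maximal member commutes with that member. -/
theorem IsMaxMember.le_centralizer_of_piece (h : ZCtx p q x z) (hB : IsMaxMember q x z s B)
    (hY : IsMaxMember q x z t Y) (hst : s ≠ t) {B₀ Y₀ : Subgroup G} (hB₀ : IsMember q x z s B₀)
    (hY₀ : IsMember q x z t Y₀) (hB₀B : B₀ ≤ B) (hY₀Y : Y₀ ≤ Y)
    (hcomm : ∀ b ∈ B₀, ∀ y ∈ Y₀, b * y = y * b) : B ≤ centralizer (Y₀ : Set G) := by
  haveI := Fact.mk hB.sprime
  haveI := Fact.mk hY.sprime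
  have hp := h.prime
  have hp3 : 3 < p := lt_of_lt_of_le (by norm_num) h.five_le
  have hsp := hB.toIsMember.ne_p h.toQCtx
  have htp := hY.toIsMember.ne_p h.toQCtx
  -- the enlarged piece of `Y`
  set Y₁ := ⁅Y ⊓ centralizer (B₀ : Set G), zpowers z⁆ with hY₁
  have hnC : normalizer (B₀ : Set G) ≤ normalizer ((centralizer (B₀ : Set G) : Subgroup G) : Set G) :=
    Coprime.le_normalizer_centralizer le_rfl
  have hY₀₁ : Y₀ ≤ Y₁ := hY₀.le_commutator
    (le_inf hY₀Y fun y hy => mem_centralizer_iff.2 fun b hb => hcomm b hb y hy)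
  have hxYB : x ∈ normalizer ((Y ⊓ centralizer (B₀ : Set G) : Subgroup G) : Set G) :=
    inf_normalizer_le_normalizer_inf ⟨hY.moved.x_norm, hnC hB₀.moved.x_norm⟩
  have hzYB : z ∈ normalizer ((Y ⊓ centralizer (B₀ : Set G) : Subgroup G) : Set G) :=
    inf_normalizer_le_normalizer_inf ⟨hY.moved.z_norm, hnC hB₀.moved.z_norm⟩
  have hY₁le : Y₁ ≤ Y ⊓ centralizer (B₀ : Set G) := commutator_zpowers_le hzYB
  have hY₁m : IsMember q x z t Y₁ := isMember_commutator h.toQCtx hY.sprime hY.ne_q
    (hY.pgroup.to_le inf_le_left) hxYB hzYB fun e => hY₀.ne_bot (le_bot_iff.1 (e ▸ hY₀₁))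
  refine le_trans ?_ (centralizer_le (SetLike.coe_subset_coe.2 hY₀₁))
  -- its centraliser in `B`
  set K₁ := B ⊓ centralizer (Y₁ : Set G) with hK₁
  have hB₀K : B₀ ≤ K₁ := le_inf hB₀B (le_centralizer_iff.1 (hY₁le.trans inf_le_right))
  have hK₁p : IsPGroup s K₁ := hB.pgroup.to_le inf_le_left
  have hnK : normalizer (Y₁ : Set G) ≤ normalizer ((centralizer (Y₁ : Set G) : Subgroup G) : Set G) :=
    Coprime.le_normalizer_centralizer le_rfl
  have hxK : x ∈ normalizer (K₁ : Set G) :=
    inf_normalizer_le_normalizer_inf ⟨hB.moved.x_norm, hnK hY₁m.moved.x_norm⟩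
  have hzK : z ∈ normalizer (K₁ : Set G) :=
    inf_normalizer_le_normalizer_inf ⟨hB.moved.z_norm, hnK hY₁m.moved.z_norm⟩
  have hY₁K : ⁅Y ⊓ centralizer (K₁ : Set G), zpowers z⁆ = Y₁ := by
    refine le_antisymm (commutator_mono (inf_le_inf_left _ (centralizer_le (SetLike.coe_subset_coe.2 hB₀K)))
      le_rfl) (hY₁m.le_commutator (le_inf (hY₁le.trans inf_le_left) (le_centralizer_iff.1 inf_le_right)))
  -- the induction step along the lower central series
  have step : ∀ V : Subgroup G, V ≤ B → x ∈ normalizer (V : Set G) → z ∈ normalizer (V : Set G) →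
      ⁅V, B⁆ ≤ K₁ → V ≤ K₁ := by
    intro V hVB hxV hzV hVK
    refine le_inf hVB ?_
    have hVn : V ≤ normalizer (K₁ : Set G) := fun v hv => mem_normalizer_conjMem fun k hk => by
      rw [show v * k * v⁻¹ = ⁅v, k⁆ * k by simp [commutatorElement_def]]
      exact mul_mem (hVK (commutator_mem_commutator hv (inf_le_left (b := centralizer (Y₁ : Set G)) hk))) hk
    have hVp : IsPGroup s V := hB.pgroup.to_le hVB
    have hcop := h.toQCtx.coprime_zpowers hB.sprime hB.ne_q hVp
    rw [← Coprime.commutator_sup_centralizer (zpowers_le.2 hzV) hcop (Or.inl inferInstance)]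
    refine sup_le ?_ ?_
    · -- the moved part
      by_cases hV1 : ⁅V, zpowers z⁆ = ⊥
      · rw [hV1]; exact bot_le
      have hm := isMember_commutator h.toQCtx hB.sprime hB.ne_q hVp hxV hzV hV1
      have hK₁1 : K₁ ≠ ⊥ := fun e => hB₀.ne_bot (le_bot_iff.1 (e ▸ hB₀K))
      have hc := hm.commute_of_le h hY₁m hst (h.toMinCE.solvable_normalizer hK₁p hK₁1) hxK hzK
        ((commutator_zpowers_le hzV).trans hVn)
        ((le_centralizer_iff.1 inf_le_right).trans (centralizer_le_normalizer _))
      exact fun b hb => mem_centralizer_iff.2 fun y hy => (hc b hb y hy).symm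
    · -- the fixed points of `z`
      rw [← centralizer_singleton_eq_zpowers]
      set F := V ⊓ centralizer ({z} : Set G) with hF
      have hFp : IsPGroup s F := hVp.to_le inf_le_left
      have hFB : F ≤ B := inf_le_left.trans hVB
      obtain ⟨hxC, hzC⟩ := h.toQCtx.z_mem_centralizer
      have hxF : x ∈ normalizer (F : Set G) := inf_normalizer_le_normalizer_inf ⟨hxV, le_normalizer hxC⟩
      have hFY : F ≤ normalizer (Y₁ : Set G) := fun f hf => by
        rw [← hY₁K]
        exact mem_normalizer_commutator (inf_normalizer_le_normalizer_inf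
          ⟨hY.normalizer_zpowers_le h (centralizer_le_normalizer_zpowers z hf.2),
            Coprime.le_normalizer_centralizer hVn hf.1⟩) (mem_centralizer_singleton_iff.1 hf.2)
      have hcopx : (Nat.card (zpowers x)).Coprime (Nat.card F) := by
        rw [Nat.card_zpowers, h.order_x]
        exact (coprime_of_pgroup hB.sprime hp hsp hFp).symm
      rw [← Coprime.commutator_sup_centralizer (zpowers_le.2 hxF) hcopx (Or.inl inferInstance)]
      refine sup_le ?_ ?_
      · have hF' : ⁅F, zpowers x⁆ ≤ F := commutator_zpowers_le hxF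
        have hc := centralizes_of_abelian_mod hp hp3 hB.sprime hY.sprime hst hsp htp h.order_x
          (hFp.to_le hF') hY₁m.pgroup hK₁p (mem_normalizer_commutator hxF rfl) hY₁m.moved.x_norm hxK
          (hF'.trans hFY) (hF'.trans (inf_le_left.trans hVn)) inf_le_right
          (Coprime.commutator_commutator_eq (zpowers_le.2 hxF) hcopx (Or.inl inferInstance))
          (hY₁m.commutator_x h.toQCtx) ((commutator_mono (hF'.trans inf_le_left) (hF'.trans hFB)).trans hVK)
        exact fun b hb => mem_centralizer_iff.2 fun y hy => (hc b hb y hy).symm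
      · rintro c ⟨hcF, hcx⟩
        have hxc : x * c = c * x := mem_centralizer_iff.1 hcx x (mem_zpowers x)
        have hcz : c * z = z * c := mem_centralizer_singleton_iff.1 hcF.2
        have hcB : c ∈ B := hFB hcF
        have hcT : c ∈ Cfsg.pCoreOf s (centralizer ({z} : Set G)) := hB.toIsMember.inf_centralizer_le h ⟨hcB, hcF.2⟩
        by_contra hcon
        -- a smallest invariant subgroup of `Y₁` moved by `c`
        let P : Subgroup G → Prop := fun U => U ≤ Y₁ ∧ x ∈ normalizer (U : Set G) ∧
          z ∈ normalizer (U : Set G) ∧ c ∈ normalizer (U : Set G) ∧ c ∉ centralizer (U : Set G)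
        obtain ⟨U, -, hU, hmin⟩ := Finite.exists_le_minimal (p := P)
          (show P Y₁ from ⟨le_rfl, hY₁m.moved.x_norm, hY₁m.moved.z_norm, hFY hcF, hcon⟩)
        obtain ⟨hUY, hxU, hzU, hcU, hcU'⟩ := hU
        have hUp : IsPGroup t U := hY₁m.pgroup.to_le hUY
        have small : ∀ R : Subgroup G, R ≤ U → x ∈ normalizer (R : Set G) → z ∈ normalizer (R : Set G) →
            c ∈ normalizer (R : Set G) → R ≠ U → c ∈ centralizer (R : Set G) := by
          intro R hR hxR hzR hcR hne
          by_contra hcR'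
          exact hne (le_antisymm hR (hmin ⟨hR.trans hUY, hxR, hzR, hcR, hcR'⟩ hR))
        -- `z` moves all of it
        have hcopz := h.toQCtx.coprime_zpowers hY.sprime hY.ne_q hUp
        have hUz : ⁅U, zpowers z⁆ = U := by
          by_contra hne
          refine hcU' ?_
          have h1 := small _ (commutator_zpowers_le hzU) (mem_normalizer_commutator hxU h.toQCtx.commute)
            (mem_normalizer_commutator hzU rfl) (mem_normalizer_commutator hcU hcz) hne
          have h2 : U ≤ centralizer ({c} : Set G) := by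
            rw [← Coprime.commutator_sup_centralizer (zpowers_le.2 hzU) hcopz (Or.inl inferInstance),
              ← centralizer_singleton_eq_zpowers]
            refine sup_le (fun y hy => mem_centralizer_singleton_iff.2 (mem_centralizer_iff.1 h1 y hy))
              fun y hy => mem_centralizer_singleton_iff.2 ?_
            have hyT : y ∈ Cfsg.pCoreOf t (centralizer ({z} : Set G)) :=
              hY₁m.inf_centralizer_le h ⟨hUY hy.1, hy.2⟩
            obtain ⟨y', hy', rfl⟩ := hyT
            obtain ⟨c', hc', rfl⟩ := hcT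
            exact (congrArg Subtype.val (PCore.commute_of_normal_of_disjoint PCore.pCore_normal
              PCore.pCore_normal (PCore.pCore_disjoint_pCore hst) hc' hy')).symm
          exact mem_centralizer_iff.2 fun y hy => mem_centralizer_singleton_iff.1 (h2 hy)
        have hUm : IsMember q x z t U :=
          ⟨hY.sprime, hY.ne_q, fun e => hcU' (by
            rw [e]
            exact mem_centralizer_iff.2 fun y hy => by
              obtain rfl : y = 1 := mem_bot.1 hy
              rw [one_mul, mul_one]), hUp, hxU, hzU, hUz⟩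
        obtain ⟨v', hv', hv'c⟩ : ∃ v' ∈ U, ¬ c * v' = v' * c := by
          by_contra hall
          push Not at hall
          exact hcU' (mem_centralizer_iff.2 fun y hy => (hall y hy).symm)
        -- the orbit of `[v', c]` is `U`
        set A := closure ({x, z, c} : Set G) with hA
        set D := closure ((fun g => g * ⁅v', c⁆ * g⁻¹) '' (A : Set G)) with hD
        have hcomm' : ⁅v', c⁆ ∈ U := by
          rw [commutatorElement_def, show v' * c * v'⁻¹ * c⁻¹ = v' * (c * v'⁻¹ * c⁻¹) by group]
          exact mul_mem hv' ((mem_normalizer_iff.1 hcU _).1 (inv_mem hv'))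
        have hAU : A ≤ normalizer (U : Set G) := by
          rw [hA, closure_le]
          rintro y (rfl | rfl | rfl) <;> assumption
        have hDU : D ≤ U := by
          rw [hD, closure_le]
          rintro _ ⟨g, hg, rfl⟩
          exact (mem_normalizer_iff.1 (hAU hg) _).1 hcomm'
        have hAD : ∀ g ∈ A, g ∈ normalizer (D : Set G) := fun g hg => mem_normalizer_conjMem fun d hd => by
          have hle : D ≤ D.comap (MulAut.conj g).toMonoidHom := by
            refine hD.le.trans ((closure_le _).2 ?_)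
            rintro _ ⟨g', hg', rfl⟩
            exact subset_closure ⟨g * g', mul_mem hg hg', by simp [mul_assoc]⟩
          exact hle hd
        have hmemD : ⁅v', c⁆ ∈ D := subset_closure ⟨1, one_mem _, by simp⟩
        have hDeq : D = U := by
          by_contra hne
          have h1 := small D hDU (hAD x (subset_closure (by simp))) (hAD z (subset_closure (by simp)))
            (hAD c (subset_closure (by simp))) hne
          refine hv'c (commute_of_commutator_commute (mem_centralizer_iff.1 h1 _ hmemD).symm ?_).symm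
          exact ((IsPGroup.coprime_card_of_ne t s (Ne.symm hst) U B hUp hB.pgroup).coprime_dvd_left
            (U.orderOf_dvd_natCard hcomm')).coprime_dvd_right (B.orderOf_dvd_natCard hcB)
        -- every cyclic piece of `B` commutes with `U`
        have hBU : B ≤ centralizer (U : Set G) := by
          refine (IsMember.eq_iSup_cyclic h.toQCtx hB.toIsMember).trans (iSup₂_le fun u hu => ?_)
          obtain ⟨huB, huM⟩ := hu
          have hoc : ∀ l : ℕ, l.Prime → s ≠ l → (orderOf c).Coprime l := fun l hl hsl =>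
            (coprime_of_pgroup hB.sprime hl hsl hB.pgroup).coprime_dvd_left (B.orderOf_dvd_natCard hcB)
          obtain ⟨H, -, hH, hxH, hzH, hcH, hgH⟩ := h.toQCtx.exists_solvable_of_commute hxc hcz.symm
            (hoc p hp hsp) (hoc q h.qprime hB.ne_q) (v' * u)
          have hcv : ⁅v', c⁆ ∈ H := by
            have he : ⁅u, c⁆ ∈ K₁ := by
              rw [← commutatorElement_inv c u]
              exact inv_mem (hVK (commutator_mem_commutator hcF.1 huB))
            have h1 : Commute ⁅u, c⁆ v' := (mem_centralizer_iff.1 he.2 v' (hUY hv')).symm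
            have h2 : Commute ⁅u, c⁆ ⁅v', c⁆ := (mem_centralizer_iff.1 he.2 _ (hUY hcomm')).symm
            have h3 : ⁅v' * u, c⁆ = ⁅u, c⁆ * ⁅v', c⁆ := by
              rw [show ⁅v' * u, c⁆ = v' * ⁅u, c⁆ * v'⁻¹ * ⁅v', c⁆ by simp only [commutatorElement_def]; group,
                mul_inv_eq_iff_eq_mul.2 h1.symm.eq]
            have hin : ⁅v' * u, c⁆ ∈ H := by
              rw [commutatorElement_def]
              exact mul_mem (mul_mem (mul_mem hgH hcH) (inv_mem hgH)) (inv_mem hcH)
            -- orders of the two factors are coprime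
            have hco : (orderOf ⁅v', c⁆).Coprime (orderOf ⁅u, c⁆) :=
              ((IsPGroup.coprime_card_of_ne t s (Ne.symm hst) U B hUp hB.pgroup).coprime_dvd_left
                (U.orderOf_dvd_natCard hcomm')).coprime_dvd_right (B.orderOf_dvd_natCard he.1)
            obtain ⟨m, hm⟩ := exists_pow_eq_self_of_coprime hco.symm
            have h4 := pow_mem (pow_mem hin (orderOf ⁅u, c⁆)) m
            rwa [h3, h2.mul_pow, pow_orderOf_eq_one, one_mul, hm] at h4
          have hUH : U ≤ H := by
            rw [← hDeq, hD, closure_le]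
            rintro _ ⟨g, hg, rfl⟩
            have hgm : g ∈ H := by
              have : A ≤ H := by
                rw [hA, closure_le]
                rintro y (rfl | rfl | rfl) <;> assumption
              exact this hg
            exact mul_mem (mul_mem hgm hcv) (inv_mem hgm)
          have huH : u ∈ H := by
            have := mul_mem (inv_mem (hUH hv')) hgH
            rwa [inv_mul_cancel_left] at this
          have hc' := huM.commute_of_le h hUm hst hH hxH hzH (by
            rw [closure_le]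
            rintro _ ⟨g, hg, rfl⟩
            have hgm : g ∈ H := by
              have : closure ({x, z} : Set G) ≤ H := by
                rw [closure_le]
                rintro y (rfl | rfl) <;> assumption
              exact this hg
            exact mul_mem (mul_mem hgm huH) (inv_mem hgm)) hUH
          exact fun b hb => mem_centralizer_iff.2 fun y hy => (hc' b hb y hy).symm
        exact hcU' (hBU hcB)
  -- descend
  obtain ⟨n, hn⟩ := (Subgroup.isNilpotent_iff_lowerCentralSeries B).1 hB.pgroup.isNilpotent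
  have hdesc : ∀ j, B.lowerCentralSeries (n - j) ≤ K₁ := by
    intro j
    induction j with
    | zero => rw [Nat.sub_zero, hn]; exact bot_le
    | succ j ih =>
      by_cases hj : n ≤ j
      · rwa [show n - (j + 1) = n - j by omega]
      have hnorm : ∀ g ∈ normalizer (B : Set G),
          g ∈ normalizer ((B.lowerCentralSeries (n - (j + 1)) : Subgroup G) : Set G) := fun g hg => by
        refine mem_normalizer_iff_map_conj_eq.2 ?_
        rw [map_lowerCentralSeries, mem_normalizer_iff_map_conj_eq.1 hg]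
      refine step _ (B.lowerCentralSeries_antitone (Nat.zero_le _)) (hnorm x hB.moved.x_norm)
        (hnorm z hB.moved.z_norm) ?_
      rw [← Subgroup.lowerCentralSeries_succ, show n - (j + 1) + 1 = n - j by omega]
      exact ih
  have := hdesc n
  rw [Nat.sub_self, Subgroup.lowerCentralSeries_zero] at this
  exact this.trans inf_le_right

/-- Commuting pieces force maximal members to commute. -/
theorem IsMaxMember.commute_of_members (h : ZCtx p q x z) (hB : IsMaxMember q x z s B)
    (hY : IsMaxMember q x z t Y) (hst : s ≠ t) {B₀ Y₀ : Subgroup G} (hB₀ : IsMember q x z s B₀)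
    (hY₀ : IsMember q x z t Y₀) (hB₀B : B₀ ≤ B) (hY₀Y : Y₀ ≤ Y)
    (hcomm : ∀ b ∈ B₀, ∀ y ∈ Y₀, b * y = y * b) : ∀ b ∈ B, ∀ y ∈ Y, b * y = y * b := by
  have h1 := hB.le_centralizer_of_piece h hY hst hB₀ hY₀ hB₀B hY₀Y hcomm
  have h2 := hY.le_centralizer_of_piece h hB hst.symm hY₀ hB.toIsMember hY₀Y le_rfl
    fun y hy b hb => mem_centralizer_iff.1 (h1 hb) y hy
  exact fun b hb y hy => mem_centralizer_iff.1 (h2 hy) b hb

/-! ### Linking -/

/-- Members with pieces in one solvable subgroup are linked. -/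
theorem IsMaxMember.linked_of_pieces (h : ZCtx p q x z) (hB : IsMaxMember q x z s B)
    (hY : IsMaxMember q x z t Y) {H : Subgroup G} (hH : Group.IsSolvable H) (hx : x ∈ H) (hz : z ∈ H)
    {B₀ Y₀ : Subgroup G} (hB₀ : IsMember q x z s B₀) (hY₀ : IsMember q x z t Y₀) (hB₀B : B₀ ≤ B)
    (hY₀Y : Y₀ ≤ Y) (hB₀H : B₀ ≤ H) (hY₀H : Y₀ ≤ H) : Linked s t B Y := by
  by_cases hst : s = t
  · subst hst
    obtain ⟨h1, hm⟩ := hB₀.le_core h hH hx hz hB₀H
    refine Or.inl (IsMaxMember.eq_of_member h hm hB hY (hB.core_le h hB₀ hB₀B hH hx hz hB₀H) ?_)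
    exact hY.core_le h hY₀ hY₀Y hH hx hz hY₀H
  · exact Or.inr ⟨hst, hB.commute_of_members h hY hst hB₀ hY₀ hB₀B hY₀Y
      (hB₀.commute_of_le h hY₀ hst hH hx hz hB₀H hY₀H)⟩

theorem Linked.symm (hl : Linked s t B Y) : Linked t s Y B := by
  rcases hl with rfl | ⟨hne, hc⟩
  · exact Or.inl rfl
  · exact Or.inr ⟨hne.symm, fun y hy b hb => (hc b hb y hy).symm⟩

theorem IsMaxMember.linked_trans (h : ZCtx p q x z) (hB : IsMaxMember q x z s B)
    (hY : IsMaxMember q x z t Y) (hW : IsMaxMember q x z r W) (h1 : Linked s t B Y) (h2 : Linked t r Y W) :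
    Linked s r B W := by
  have hprime : ∀ {a b : ℕ} {A : Subgroup G}, IsMember q x z a A → IsMember q x z b A → a = b := by
    intro a b A ha hb
    by_contra hne
    haveI := Fact.mk ha.sprime
    haveI := Fact.mk hb.sprime
    exact ha.ne_bot (le_bot_iff.1
      ((IsPGroup.disjoint_of_ne a b hne A A ha.pgroup hb.pgroup).le_bot.trans' (le_inf le_rfl le_rfl)))
  rcases h1 with rfl | ⟨hst, hc1⟩
  · exact hprime hY.toIsMember hB.toIsMember ▸ h2
  rcases id h2 with rfl | ⟨-, hc2⟩
  · exact hprime hY.toIsMember hW.toIsMember ▸ Or.inr ⟨hst, hc1⟩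
  refine hB.linked_of_pieces h hW (hY.toIsMember.ne_top h.toQCtx).2 hY.moved.x_norm hY.moved.z_norm
    hB.toIsMember hW.toIsMember le_rfl le_rfl ?_ ?_
  · exact fun b hb => centralizer_le_normalizer _ (mem_centralizer_iff.2 fun y hy => (hc1 b hb y hy).symm)
  · exact fun w hw => centralizer_le_normalizer _ (mem_centralizer_iff.2 fun y hy => hc2 y hy w hw)

/-- If all maximal members have pieces in one solvable subgroup, there is a single cluster. -/
theorem ZCtx.oneCluster_of_pieces (h : ZCtx p q x z) {L : Subgroup G} (hL : Group.IsSolvable L) (hx : x ∈ L)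
    (hz : z ∈ L) (hall : ∀ (s' : ℕ) (B' : Subgroup G), IsMaxMember q x z s' B' →
      ∃ E : Subgroup G, IsMember q x z s' E ∧ E ≤ B' ∧ E ≤ L) : OneCluster q x z := by
  intro s t B Y hB hY
  obtain ⟨E, hE, hEB, hEL⟩ := hall s B hB
  obtain ⟨E', hE', hE'Y, hE'L⟩ := hall t Y hY
  exact hB.linked_of_pieces h hY hL hx hz hE hE' hEB hE'Y hEL hE'L

/-- A non-trivial moved subgroup of `C(z)` that is odd, abelian or moved by a further element gives a single
cluster. -/
theorem ZCtx.oneCluster_of_linkable (h : ZCtx p q x z) (ht : t.Prime) (htp : t ≠ p) {F : Subgroup G}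
    (hF : IsPGroup t F) (hne : F ≠ ⊥) (hFz : F ≤ centralizer ({z} : Set G))
    (hxF : x ∈ normalizer (F : Set G)) (hFx : ⁅F, zpowers x⁆ = F)
    (hcase : t ≠ 2 ∨ (∀ a ∈ F, ∀ b ∈ F, a * b = b * a) ∨
      ∃ w : G, (orderOf w).Prime ∧ orderOf w ≠ p ∧ orderOf w ≠ t ∧ x * w = w * x ∧ z * w = w * z ∧
        w ∈ normalizer (F : Set G) ∧ ⁅F, zpowers w⁆ = F ∧ ∀ f ∈ F, x * f = f * x → w * f = f * w) :
    OneCluster q x z := by
  haveI := Fact.mk ht
  have hFc : zpowers z ≤ centralizer (F : Set G) := by
    rw [le_centralizer_iff, ← centralizer_singleton_eq_zpowers]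
    exact hFz
  have hzF : z ∈ normalizer (F : Set G) := centralizer_le_normalizer _ (hFc (mem_zpowers z))
  refine h.oneCluster_of_pieces (h.toMinCE.solvable_normalizer hF hne) hxF hzF fun s B hB => ?_
  haveI := Fact.mk hB.sprime
  have hCB : centralizer ({z} : Set G) ≤ normalizer (B : Set G) :=
    (centralizer_le_normalizer_zpowers z).trans (hB.normalizer_zpowers_le h)
  by_cases hst : s = t
  · subst hst
    set R := B ⊓ centralizer (F : Set G) with hR
    have hnF : normalizer (F : Set G) ≤ normalizer ((centralizer (F : Set G) : Subgroup G) : Set G) :=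
      Coprime.le_normalizer_centralizer le_rfl
    have hxR : x ∈ normalizer (R : Set G) :=
      inf_normalizer_le_normalizer_inf ⟨hB.moved.x_norm, hnF hxF⟩
    have hzR : z ∈ normalizer (R : Set G) :=
      inf_normalizer_le_normalizer_inf ⟨hB.moved.z_norm, hnF hzF⟩
    refine ⟨⁅R, zpowers z⁆, isMember_commutator h.toQCtx hB.sprime hB.ne_q (hB.pgroup.to_le inf_le_left)
      hxR hzR fun e => hB.ne_bot ?_, (commutator_zpowers_le hzR).trans inf_le_left,
      (commutator_zpowers_le hzR).trans (inf_le_right.trans (centralizer_le_normalizer _))⟩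
    have hRz : R ≤ centralizer ((zpowers z : Subgroup G) : Set G) := commutator_eq_bot_iff_le_centralizer.1 e
    have hcop : (Nat.card (zpowers z)).Coprime s := by
      rw [Nat.card_zpowers, h.order_z]
      exact (Nat.coprime_primes h.qprime hB.sprime).2 (Ne.symm hB.ne_q)
    have h1 := Coprime.le_centralizer_of_pq hF hcop hB.pgroup (le_centralizer_iff.1 hFc) (hFz.trans hCB)
      (zpowers_le.2 hB.moved.z_norm) hRz
    rw [← hB.moved.eq]
    exact commutator_eq_bot_iff_le_centralizer.2 (le_centralizer_iff.1 h1)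
  · refine ⟨B, hB.toIsMember, le_rfl, fun b hb => centralizer_le_normalizer _ (mem_centralizer_iff.2 ?_)⟩
    have key := centralizes_of_no_fixed h.prime (lt_of_lt_of_le (by norm_num) h.five_le) hB.sprime ht hst htp
      (hB.toIsMember.ne_p h.toQCtx) h.order_x hF hB.pgroup hxF hB.moved.x_norm (hFz.trans hCB) hFx
      (hB.toIsMember.commutator_x h.toQCtx)
      (hcase.imp id (Or.imp id fun ⟨w, h1, h2, h3, h4, h5, h6, h7, h8⟩ =>
        ⟨w, h1, h2, h3, h4, h6, hCB (mem_centralizer_singleton_iff.2 h5.symm), h7, h8⟩))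
    exact fun f hf => key f hf b hb

end Cfsg.Agent.TwoGenSolvable
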