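import Mathlib
import Cfsg.Agent.Lib.TwoGenSolvable.MemberBasic

/-!
# A `q`-element and the invariant `q'`-subgroups of a solvable group

The facts used when all maximal members commute: moved parts fall into `O_{q'}`, and then the element lies in
`O_{q',q}`.
-/

set_option autoImplicit false
set_option linter.style.haveILetI false
set_option linter.unusedSectionVars false

namespace Cfsg.Agent.TwoGenSolvable

open Subgroup
open scoped commutatorElement

universe u

/-! ### Auxiliary facts on a solvable group -/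

section aux

variable {L : Type u} [Group L] [Finite L] {q : ℕ}

/-- A subgroup moved by the `q`-element `z` that contains all moved parts of `z`-invariant `q'`-subgroups lies
in `O_{q'}`. -/
theorem le_pPrimeCore_of_largest [Fact q.Prime] [Group.IsSolvable L] {z : L}
    (hz : IsPGroup q (zpowers z)) {W : Subgroup L} (hW : (Nat.card W).Coprime q)
    (hzW : z ∈ normalizer (W : Set L)) (heq : ⁅W, zpowers z⁆ = W)
    (hlarge : ∀ A : Subgroup L, (Nat.card A).Coprime q → z ∈ normalizer (A : Set L) → ⁅A, zpowers z⁆ ≤ W) :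
    W ≤ Cfsg.pPrimeCore q L := by
  set π := QuotientGroup.mk' (Cfsg.pPrimeCore q L)
  have hπ : Function.Surjective π := QuotientGroup.mk'_surjective _
  set P := Cfsg.pCore q (L ⧸ Cfsg.pPrimeCore q L)
  set V := W.map π with hV
  have hVq : (Nat.card V).Coprime q := hW.coprime_dvd_left (W.card_map_dvd π)
  have hzV : π z ∈ normalizer (V : Set (L ⧸ Cfsg.pPrimeCore q L)) := le_normalizer_map π ⟨z, hzW, rfl⟩
  have heqV : ⁅V, zpowers (π z)⁆ = V := by rw [← MonoidHom.map_zpowers, ← map_commutator, heq]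
  -- the largest property passes to the quotient
  have hlV : ∀ A : Subgroup (L ⧸ Cfsg.pPrimeCore q L), (Nat.card A).Coprime q →
      π z ∈ normalizer (A : Set (L ⧸ Cfsg.pPrimeCore q L)) → ⁅A, zpowers (π z)⁆ ≤ V := by
    intro A hA hzA
    have h1 : (Nat.card (A.comap π)).Coprime q := by
      refine Nat.Coprime.coprime_dvd_left (PCore.card_comap_dvd π A) ?_
      rw [QuotientGroup.ker_mk']
      exact Nat.Coprime.mul_left PCore.coprime_card_pPrimeCore hA
    have h2 : z ∈ normalizer ((A.comap π : Subgroup L) : Set L) := by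
      refine mem_normalizer_iff.2 fun y => ?_
      simp only [mem_comap, map_mul, map_inv]
      exact mem_normalizer_iff.1 hzA (π y)
    have h3 := map_mono (f := π) (hlarge _ h1 h2)
    rwa [map_commutator, map_comap_eq_self_of_surjective hπ, MonoidHom.map_zpowers] at h3
  -- conjugation by `π z` on `V` after moving by an element commuting with `z` modulo `C(V)`
  obtain ⟨S, hS⟩ := (hz.map π).exists_le_sylow
  have hzS : π z ∈ (S : Subgroup (L ⧸ Cfsg.pPrimeCore q L)) := hS ⟨z, mem_zpowers z, rfl⟩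
  have hPS : P ≤ (S : Subgroup (L ⧸ Cfsg.pPrimeCore q L)) := PCore.pCore_le_sylow S
  have hstep : ∀ u ∈ P, u⁻¹ * π z * u * (π z)⁻¹ ∈ centralizer (V : Set (L ⧸ Cfsg.pPrimeCore q L)) →
      u ∈ centralizer (V : Set (L ⧸ Cfsg.pPrimeCore q L)) := by
    intro u huP hc
    set a := π z
    set c := u⁻¹ * a * u * a⁻¹ with hcdef
    set e := MulAut.conj u
    have hcV : ∀ v ∈ V, c * v * c⁻¹ = v := fun v hv =>
      mul_inv_eq_iff_eq_mul.2 (mem_centralizer_iff.1 hc v hv).symm
    have hCN : c ∈ normalizer (V : Set (L ⧸ Cfsg.pPrimeCore q L)) := centralizer_le_normalizer _ hc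
    have ha : (MulAut.conj u).toMonoidHom (c * a) = a := by
      show u * (c * a) * u⁻¹ = a
      rw [hcdef]; group
    have hzA : a ∈ normalizer ((V.map e.toMonoidHom : Subgroup _) : Set (L ⧸ Cfsg.pPrimeCore q L)) :=
      ha ▸ le_normalizer_map _ ⟨c * a, mul_mem hCN hzV, rfl⟩
    have hcom : ∀ v ∈ V, ∀ j ∈ zpowers a, ∃ j' ∈ zpowers (c * a), ⁅v, j'⁆ = ⁅v, j⁆ := by
      rintro v hv _ ⟨i, rfl⟩
      refine ⟨(c * a) ^ i, zpow_mem (mem_zpowers _) i, ?_⟩
      -- `c * a` and `a` conjugate the elements of `V` in the same way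
      have hconj : ∀ j : ℕ, ∀ w ∈ V, (c * a) ^ j * w * ((c * a) ^ j)⁻¹ = a ^ j * w * (a ^ j)⁻¹ := by
        intro j
        induction j with
        | zero => intro w _; simp
        | succ j ih =>
          intro w hw
          have hw' : a ^ j * w * (a ^ j)⁻¹ ∈ V := (mem_normalizer_iff.1 (pow_mem hzV j) w).1 hw
          rw [pow_succ', pow_succ', show c * a * (c * a) ^ j * w * (c * a * (c * a) ^ j)⁻¹ =
            c * (a * ((c * a) ^ j * w * ((c * a) ^ j)⁻¹) * a⁻¹) * c⁻¹ by simp only [mul_inv_rev, mul_assoc], ih w hw,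
            hcV _ ((mem_normalizer_iff.1 hzV _).1 hw')]
          group
      have hi : (c * a) ^ i * v⁻¹ * ((c * a) ^ i)⁻¹ = a ^ i * v⁻¹ * (a ^ i)⁻¹ := by
        rcases Int.eq_nat_or_neg i with ⟨j, rfl | rfl⟩
        · simpa using hconj j _ (inv_mem hv)
        · simp only [zpow_neg, zpow_natCast, inv_inv]
          have hmem : (a ^ j)⁻¹ * v⁻¹ * a ^ j ∈ V := by
            have := (mem_normalizer_iff.1 (inv_mem (pow_mem hzV j)) v⁻¹).1 (inv_mem hv)
            simpa using this
          conv_lhs => rw [show v⁻¹ = a ^ j * ((a ^ j)⁻¹ * v⁻¹ * a ^ j) * (a ^ j)⁻¹ by group,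
            ← hconj j _ hmem]
          group
      simp only [commutatorElement_def]
      calc v * (c * a) ^ i * v⁻¹ * ((c * a) ^ i)⁻¹
          = v * ((c * a) ^ i * v⁻¹ * ((c * a) ^ i)⁻¹) := by group
        _ = v * (a ^ i * v⁻¹ * (a ^ i)⁻¹) := by rw [hi]
        _ = _ := by group
    have hmoved : V ≤ ⁅V, zpowers (c * a)⁆ := by
      conv_lhs => rw [← heqV]
      rw [commutator_le]
      intro v hv j hj
      obtain ⟨j', hj', hjj⟩ := hcom v hv j hj
      exact hjj ▸ commutator_mem_commutator hv hj'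
    have hle : V.map e.toMonoidHom ≤ V := by
      refine le_trans ?_ (hlV (V.map e.toMonoidHom) (by
        rw [card_map_of_injective (K := V) (f := e.toMonoidHom) e.injective]; exact hVq) hzA)
      refine le_trans (map_mono hmoved) (le_of_eq ?_)
      rw [map_commutator, MonoidHom.map_zpowers, ha]
    have huN : u ∈ normalizer (V : Set (L ⧸ Cfsg.pPrimeCore q L)) := mem_normalizer_iff_map_conj_eq.2
      (eq_of_le_of_card_ge hle (le_of_eq (card_map_of_injective (K := V) (f := e.toMonoidHom) e.injective).symm))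
    refine mem_centralizer_iff.2 fun v hv => ?_
    have h1 : u * v * u⁻¹ * v⁻¹ ∈ V := mul_mem ((mem_normalizer_iff.1 huN v).1 hv) (inv_mem hv)
    have h2 : u * v * u⁻¹ * v⁻¹ ∈ P := by
      rw [show u * v * u⁻¹ * v⁻¹ = u * (v * u⁻¹ * v⁻¹) by group]
      exact mul_mem huP ((inferInstance : P.Normal).conj_mem _ (inv_mem huP) v)
    have h3 := (PCore.disjoint_of_isPGroup_of_coprime (A := P) (B := V) PCore.isPGroup_pCore hVq).le_bot ⟨h2, h1⟩
    rw [mem_bot, mul_inv_eq_one, mul_inv_eq_iff_eq_mul] at h3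
    exact h3.symm
  -- descending along the lower central series of a Sylow subgroup
  obtain ⟨n, hn⟩ := (Subgroup.isNilpotent_iff_lowerCentralSeries (S : Subgroup (L ⧸ Cfsg.pPrimeCore q L))).1
    S.2.isNilpotent
  have hdesc : ∀ i j, i + j = n → ∀ u ∈ (S : Subgroup (L ⧸ Cfsg.pPrimeCore q L)).lowerCentralSeries j, u ∈ P →
        u ∈ centralizer (V : Set (L ⧸ Cfsg.pPrimeCore q L)) := by
    intro i
    induction i with
    | zero =>
      intro j hj u hu _
      obtain rfl : j = n := by omega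
      rw [hn, mem_bot] at hu
      subst hu
      exact one_mem _
    | succ i ih =>
      intro j hj u hu huP
      refine hstep _ huP (ih (j + 1) (by omega) _ ?_ ?_)
      · have := commutator_mem_commutator (inv_mem hu) hzS
        rw [commutatorElement_def, inv_inv] at this
        rw [Subgroup.lowerCentralSeries_succ]
        exact this
      · rw [show u⁻¹ * π z * u * (π z)⁻¹ = u⁻¹ * (π z * u * (π z)⁻¹) by group]
        exact mul_mem (inv_mem huP) ((inferInstance : P.Normal).conj_mem _ huP _)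
  have hPV : P ≤ centralizer (V : Set (L ⧸ Cfsg.pPrimeCore q L)) := fun u hu =>
    hdesc n 0 (by omega) u (by simpa using hPS hu) hu
  have hVP : V ≤ P := fun v hv => PCore.centralizer_pCore_le_of_isSolvable PCore.pPrimeCore_quotient_self_eq_bot
    (mem_centralizer_iff.2 fun u hu => (mem_centralizer_iff.1 (hPV hu) v hv).symm)
  have hV0 : V = ⊥ := PCore.eq_bot_of_isPGroup_of_coprime (PCore.isPGroup_pCore.to_le hVP) hVq
  intro w hw
  have h1 : π w ∈ V := ⟨w, hw, rfl⟩
  rw [hV0, mem_bot] at h1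
  exact (QuotientGroup.eq_one_iff _).1 h1

/-- If `z` moves `z`-invariant `q'`-subgroups into `O_{q'}` and any two conjugates lie in a `q'`-by-`q` group,
then `z` lies in `O_{q',q}`. -/
theorem mem_pPrimePCore_of_pairs [Fact q.Prime] {z : L} (hzq : z ^ q = 1)
    (hO : ∀ A : Subgroup L, (Nat.card A).Coprime q → z ∈ normalizer (A : Set L) →
      ⁅A, zpowers z⁆ ≤ Cfsg.pPrimeCore q L)
    (hpair : ∀ g : L, ∃ K R : Subgroup L, z ∈ K ∧ g * z * g⁻¹ ∈ K ∧ K ≤ normalizer (R : Set L) ∧
      (Nat.card R).Coprime q ∧ ∀ k ∈ K, ∃ n, k ^ q ^ n ∈ R) : z ∈ Cfsg.pPrimePCore q L := by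
  set π := QuotientGroup.mk' (Cfsg.pPrimeCore q L) with hπdef
  have hπ : Function.Surjective π := QuotientGroup.mk'_surjective _
  have hcomm : ∀ (R : Subgroup L) (g : L), (Nat.card R).Coprime q → g * z * g⁻¹ ∈ normalizer (R : Set L) →
      ∀ r ∈ R, π (g * z * g⁻¹) * π r = π r * π (g * z * g⁻¹) := by
    intro R g hR hgR r hr
    set A := R.map (MulAut.conj g⁻¹).toMonoidHom
    have hzA : z ∈ normalizer (A : Set L) :=
      le_normalizer_map _ ⟨g * z * g⁻¹, hgR, by simp [mul_assoc]⟩
    have h1 := hO A (by rwa [card_map_of_injective (MulAut.conj g⁻¹).injective]) hzA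
      (commutator_mem_commutator (⟨r, hr, rfl⟩ : g⁻¹ * r * (g⁻¹)⁻¹ ∈ A) (mem_zpowers z))
    have h2 := (inferInstance : (Cfsg.pPrimeCore q L).Normal).conj_mem _ h1 g
    have h3 : π (r * (g * z * g⁻¹) * r⁻¹ * (g * z * g⁻¹)⁻¹) = 1 := by
      refine (QuotientGroup.eq_one_iff _).2 ?_
      convert h2 using 1
      simp only [commutatorElement_def]
      group
    rw [map_mul, map_mul, map_mul, map_inv, map_inv, mul_inv_eq_one, mul_inv_eq_iff_eq_mul] at h3
    exact h3.symm
  refine PCore.le_pCore (hN := normalClosure_normal) (Involution.baer_suzuki (π z) fun g' => ?_)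
    (subset_normalClosure rfl)
  obtain ⟨g, rfl⟩ := hπ g'
  obtain ⟨K, R, hzK, hgK, hKR, hR, hKq⟩ := hpair g
  set M := closure ({π z, π g * π z * (π g)⁻¹} : Set (L ⧸ Cfsg.pPrimeCore q L)) with hM
  have hle : M ≤ K.map π := by
    rw [closure_le]
    rintro y (rfl | rfl)
    · exact ⟨z, hzK, rfl⟩
    · exact ⟨_, hgK, by simp⟩
  haveI hnil : Group.IsNilpotent M := by
    refine Group.of_quotient_center_nilpotent (IsPGroup.isNilpotent (p := q) ?_)
    intro m
    induction m using QuotientGroup.induction_on with | _ m => ?_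
    obtain ⟨k, hk, hkm⟩ := hle m.2
    obtain ⟨n, hn⟩ := hKq k hk
    refine ⟨n, ?_⟩
    rw [← QuotientGroup.mk_pow, QuotientGroup.eq_one_iff, mem_center_iff]
    have hcen : π (k ^ q ^ n) ∈ centralizer (M : Set (L ⧸ Cfsg.pPrimeCore q L)) := by
      rw [hM, centralizer_closure, mem_centralizer_iff]
      rintro y (rfl | rfl)
      · have := hcomm R 1 hR (by simpa using hKR hzK) _ hn
        simpa using this
      · have := hcomm R g hR (hKR hgK) _ hn
        simpa using this
    intro y
    refine Subtype.ext ?_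
    have := mem_centralizer_iff.1 hcen y y.2
    simpa [hkm] using this
  have hgen : ∀ u (hu : u ∈ M), u ^ q = 1 → u ∈ (Cfsg.pCore q M).map M.subtype := by
    intro u hu hu1
    have hup : IsPGroup q (zpowers (⟨u, hu⟩ : M)) := by
      rintro ⟨_, j, rfl⟩
      refine ⟨1, Subtype.ext (Subtype.ext ?_)⟩
      simp only [pow_one, SubgroupClass.coe_pow, SubgroupClass.coe_zpow, OneMemClass.coe_one]
      rw [← zpow_natCast, ← zpow_mul, mul_comm, zpow_mul, zpow_natCast, hu1, one_zpow]
    obtain ⟨P, hP⟩ := hup.exists_le_sylow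
    haveI := P.normal_of_normalizerCondition Group.normalizerCondition_of_isNilpotent
    exact ⟨⟨u, hu⟩, PCore.le_pCore P.2 (hP (mem_zpowers _)), rfl⟩
  refine ((PCore.isPGroup_pCore (G := M) (p := q)).map M.subtype).to_le ?_
  rw [closure_le]
  have hzq' : π z ^ q = 1 := by rw [← map_pow, hzq, map_one]
  rintro y (rfl | rfl)
  · exact hgen _ (subset_closure (by simp)) hzq'
  · exact hgen _ (subset_closure (by simp)) (by rw [conj_pow, hzq', mul_one, mul_inv_cancel])

/-- A `q'`-subgroup moved into `O_{q'}` by `z ∈ O_{q',q}` and normalised by `C(z)` lies in `O_{q'}`. -/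
theorem le_pPrimeCore_of_centralizer [Fact q.Prime] [Group.IsSolvable L] {z : L}
    (hzp : IsPGroup q (zpowers z)) (hz : z ∈ Cfsg.pPrimePCore q L)
    {X : Subgroup L} (hX : (Nat.card X).Coprime q) (hXz : ⁅X, zpowers z⁆ ≤ Cfsg.pPrimeCore q L)
    (hC : centralizer ({z} : Set L) ≤ normalizer (X : Set L)) : X ≤ Cfsg.pPrimeCore q L := by
  set π := QuotientGroup.mk' (Cfsg.pPrimeCore q L) with hπdef
  set P := Cfsg.pCore q (L ⧸ Cfsg.pPrimeCore q L)
  have hzP : π z ∈ P := hz
  have hXq : (Nat.card (X.map π)).Coprime q := hX.coprime_dvd_left (X.card_map_dvd π)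
  have hN : ∀ K : Subgroup (L ⧸ Cfsg.pPrimeCore q L), K ≤ normalizer (P : Set (L ⧸ Cfsg.pPrimeCore q L)) :=
    fun K => by rw [normalizer_eq_top_iff.mpr inferInstance]; exact le_top
  intro y hy
  have hyc : (orderOf (π y)).Coprime q :=
    hXq.coprime_dvd_left ((X.map π).orderOf_dvd_natCard ⟨y, hy, rfl⟩)
  have hyz : Commute (π y) (π z) := by
    have h1 : π ⁅y, z⁆ = 1 := (QuotientGroup.eq_one_iff _).2 (hXz (commutator_mem_commutator hy (mem_zpowers z)))
    rw [map_commutatorElement] at h1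
    exact commutatorElement_eq_one_iff_mul_comm.1 h1
  have hall := Balance.commute_of_commute_fixed (R := zpowers (π z)) (x := π y) PCore.isPGroup_pCore
    ((PCore.isPGroup_pCore (p := q)).to_le (zpowers_le.2 hzP)) (hN _) (hN _ (mem_zpowers _)) hyc
    (by rintro _ ⟨i, rfl⟩; exact hyz.zpow_right i) ?_
  · have h1 : π y ∈ P := PCore.centralizer_pCore_le_of_isSolvable PCore.pPrimeCore_quotient_self_eq_bot
      (mem_centralizer_iff.2 fun c hc => (hall c hc).eq.symm)
    have h2 := (PCore.disjoint_of_isPGroup_of_coprime (A := P) PCore.isPGroup_pCore hXq).le_bot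
      ⟨h1, y, hy, rfl⟩
    exact (QuotientGroup.eq_one_iff _).1 (mem_bot.1 h2)
  · intro c hc hcz
    have hc' : c ∈ centralizer (((zpowers z).map π : Subgroup _) : Set (L ⧸ Cfsg.pPrimeCore q L)) := by
      rw [MonoidHom.map_zpowers]
      exact mem_centralizer_iff.2 fun r hr => (hcz r hr).eq
    rw [← PCore.map_centralizer_mk' _ PCore.coprime_card_pPrimeCore hzp] at hc'
    obtain ⟨d, hd, rfl⟩ := hc'
    have hdX : d ∈ normalizer (X : Set L) := hC (mem_centralizer_singleton_iff.2
      (mem_centralizer_iff.1 hd z (mem_zpowers z)).symm)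
    have h1 : π y * π d * (π y)⁻¹ * (π d)⁻¹ ∈ X.map π := ⟨y * (d * y⁻¹ * d⁻¹),
      mul_mem hy ((mem_normalizer_iff.1 hdX _).1 (inv_mem hy)), by simp [mul_assoc]⟩
    have h2 : π y * π d * (π y)⁻¹ * (π d)⁻¹ ∈ P :=
      mul_mem ((inferInstance : P.Normal).conj_mem _ hc _) (inv_mem hc)
    have h3 := (PCore.disjoint_of_isPGroup_of_coprime (A := P) PCore.isPGroup_pCore hXq).le_bot ⟨h2, h1⟩
    rw [mem_bot, mul_inv_eq_one, mul_inv_eq_iff_eq_mul] at h3
    exact h3

end aux

end Cfsg.Agent.TwoGenSolvable
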