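import Mathlib
import Cfsg.Agent.Lib.TwoGenSolvable.MemberBasic
import Cfsg.Agent.Lib.TwoGenSolvable.Slot
import Cfsg.Agent.Lib.TwoGenSolvable.QCore
import Cfsg.Agent.Lib.TwoGenSolvable.ClusterTools
import Cfsg.Agent.Lib.TwoGenSolvable.MaxMember
import Cfsg.Agent.Lib.Coprime.Generation

/-!
# There is more than one cluster

If all maximal members commute pairwise, their join `bigMember` is a `q'`-group whose normaliser lies in a
maximal subgroup containing every conjugate of `z`.
-/

set_option autoImplicit false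
set_option linter.style.haveILetI false
set_option linter.unusedSectionVars false

namespace Cfsg.Agent.TwoGenSolvable

open Subgroup
open scoped commutatorElement

universe u

/-! ### The join of the maximal members -/

variable {G : Type u} [Group G] [Finite G] {p q : ℕ} {x z : G}

/-- The join of all maximal members. -/
def bigMember (q : ℕ) (x z : G) : Subgroup G :=
  ⨆ (s : ℕ) (B : Subgroup G) (_ : IsMaxMember q x z s B), B

theorem IsMaxMember.le_bigMember {s : ℕ} {B : Subgroup G} (hB : IsMaxMember q x z s B) :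
    B ≤ bigMember q x z :=
  le_iSup_of_le s (le_iSup_of_le B (le_iSup_of_le hB le_rfl))

theorem IsMember.le_bigMember {s : ℕ} {B : Subgroup G} (hB : IsMember q x z s B) : B ≤ bigMember q x z := by
  obtain ⟨B', hB', hle⟩ := hB.exists_max
  exact hle.trans hB'.le_bigMember

theorem bigMember_le {K : Subgroup G} (h : ∀ (s : ℕ) (B : Subgroup G), IsMaxMember q x z s B → B ≤ K) :
    bigMember q x z ≤ K :=
  iSup_le fun s => iSup_le fun B => iSup_le fun hB => h s B hB

theorem ZCtx.normalizer_zpowers_le_bigMember (h : ZCtx p q x z) :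
    normalizer (zpowers z : Set G) ≤ normalizer (bigMember q x z : Set G) := by
  intro c hc
  refine mem_normalizer_iff_map_conj_eq.2 (eq_of_le_of_card_ge ?_ (by rw [card_map_of_injective
    (MulAut.conj c).injective]))
  rw [map_le_iff_le_comap]
  exact bigMember_le fun s B hB => map_le_iff_le_comap.1
    ((mem_normalizer_iff_map_conj_eq.1 (hB.normalizer_zpowers_le h hc)).le.trans hB.le_bigMember)

theorem coprime_bigMember (hq : q.Prime) (h1 : OneCluster q x z) :
    (Nat.card (bigMember q x z)).Coprime q := by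
  set T := bigMember q x z with hT
  have hle : T ≤ (Cfsg.pPrimeCore q T).map T.subtype := bigMember_le fun s B hB => by
    have hn : T ≤ normalizer (B : Set G) := bigMember_le fun t Y hY => by
      rcases h1 s t B Y hB hY with rfl | ⟨-, hc⟩
      · exact le_normalizer
      · exact le_trans (fun y hy => mem_centralizer_iff.2 fun b hb => hc b hb y hy)
          (centralizer_le_normalizer _)
    haveI := Coprime.normal_subgroupOf_of_le_normalizer hn
    intro b hb
    refine ⟨⟨b, hB.le_bigMember hb⟩, PCore.le_pPrimeCore (N := B.subgroupOf T) ?_ hb, rfl⟩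
    rw [Nat.card_congr (subgroupOfEquivOfLe hB.le_bigMember).toEquiv]
    exact coprime_of_pgroup hB.sprime hq hB.ne_q hB.pgroup
  have hdvd := card_dvd_of_le hle
  rw [card_map_of_injective T.subtype_injective] at hdvd
  exact PCore.coprime_card_pPrimeCore.coprime_dvd_left hdvd

/-- PF0: `z`-invariant `q'`-subgroups normalise `bigMember`, and `z` moves them into it. -/
theorem ZCtx.moved_le_bigMember (h : ZCtx p q x z) {Y : Subgroup G} (hY : (Nat.card Y).Coprime q)
    (hzY : z ∈ normalizer (Y : Set G)) :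
    Y ≤ normalizer (bigMember q x z : Set G) ∧ ⁅Y, zpowers z⁆ ≤ bigMember q x z := by
  haveI := Fact.mk h.qprime
  set T := bigMember q x z with hT
  have hzY' : zpowers z ≤ normalizer (Y : Set G) := zpowers_le.2 hzY
  have hcopY : ∀ W : Subgroup G, W ≤ Y → (Nat.card (zpowers z)).Coprime (Nat.card W) := fun W hW => by
    rw [Nat.card_zpowers, h.order_z]
    exact (hY.coprime_dvd_left (card_dvd_of_le hW)).symm
  -- `[v, z^i] ∈ T` for the elements of invariant Sylow subgroups
  have key : ∀ r : ℕ, ∀ W : Subgroup G, r.Prime → IsPGroup r W → W ≤ Y →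
      z ∈ normalizer (W : Set G) → ⁅W, zpowers z⁆ ≤ T := by
    intro r W hr hW hWY hzW
    by_cases hW1 : W = ⊥
    · rw [hW1, commutator_bot_left]; exact bot_le
    have hrq : r ≠ q := by
      rintro rfl
      exact hW1 (PCore.eq_bot_of_isPGroup_of_coprime hW (hY.coprime_dvd_left (card_dvd_of_le hWY)))
    haveI := Fact.mk hr
    rw [commutator_le]
    intro v hv c hc
    set U := closure ((fun a => a * v * a⁻¹) '' (zpowers z : Set G)) with hU
    have hUW : U ≤ W := by
      rw [closure_le]
      rintro _ ⟨a, ha, rfl⟩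
      exact (mem_normalizer_iff.1 (zpowers_le.2 hzW ha) v).1 hv
    have hzU : z ∈ normalizer (U : Set G) := by
      refine mem_normalizer_iff_map_conj_eq.2 ?_
      rw [MonoidHom.map_closure]
      congr 1
      ext y
      constructor
      · rintro ⟨_, ⟨a, ha, rfl⟩, rfl⟩
        exact ⟨z * a, mul_mem (mem_zpowers z) ha, by simp [mul_assoc]⟩
      · rintro ⟨a, ha, rfl⟩
        exact ⟨_, ⟨z⁻¹ * a, mul_mem (inv_mem (mem_zpowers z)) ha, rfl⟩, by simp [mul_assoc]⟩
    have hvU : v ∈ U := subset_closure ⟨1, one_mem _, by simp⟩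
    obtain ⟨H, hH, hx, hz, hvH, -⟩ := h.toQCtx.exists_solvable v
    have hUH : U ≤ H := by
      rw [closure_le]
      rintro _ ⟨a, ha, rfl⟩
      have haH := zpowers_le.2 hz ha
      exact mul_mem (mul_mem haH hvH) (inv_mem haH)
    have hU'W : ⁅U, zpowers z⁆ ≤ W := (commutator_zpowers_le hzU).trans hUW
    have heq : ⁅⁅U, zpowers z⁆, zpowers z⁆ = ⁅U, zpowers z⁆ :=
      Coprime.commutator_commutator_eq (zpowers_le.2 hzU) (hcopY _ (hUW.trans hWY)) (Or.inl inferInstance)
    have h1 : ⁅U, zpowers z⁆ ≤ ⁅Cfsg.pCoreOf r (ppOf p H), zpowers z⁆ := by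
      rw [← heq]
      exact commutator_mono (h.le_core_of_zmoved hr hrq hH hx hz ((commutator_zpowers_le hzU).trans hUH)
        (hW.to_le hU'W) (mem_normalizer_commutator hzU rfl) heq) le_rfl
    refine h1.trans ?_ (commutator_mem_commutator hvU hc)
    by_cases hne : ⁅Cfsg.pCoreOf r (ppOf p H), zpowers z⁆ = ⊥
    · rw [hne]; exact bot_le
    · have hn : H ≤ normalizer (Cfsg.pCoreOf r (ppOf p H) : Set G) :=
        FixedDim.le_normalizer_map_char (le_normalizer_ppOf p H) _
      exact (isMember_commutator h.toQCtx hr hrq (PCore.isPGroup_pCoreOf _) (hn hx) (hn hz) hne).le_bigMember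
  have hCT : Y ⊓ centralizer (zpowers z : Set G) ≤ normalizer (T : Set G) := by
    refine inf_le_right.trans (le_trans ?_ h.normalizer_zpowers_le_bigMember)
    exact centralizer_le_normalizer _
  have hYN : Y ⊓ normalizer (T : Set G) = Y := by
    refine Coprime.eq_of_forall_invariant_pgroup_le hzY' (hcopY _ le_rfl) (Or.inl inferInstance) inf_le_left
      fun r W hr hW hWY hzW => le_inf hWY ?_
    rw [← Coprime.commutator_sup_centralizer hzW (hcopY _ hWY) (Or.inl inferInstance)]
    exact sup_le ((key r W hr hW hWY (hzW (mem_zpowers z))).trans le_normalizer)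
      (le_trans (inf_le_inf_right _ hWY) hCT)
  have hYN' : Y ≤ normalizer (T : Set G) := hYN ▸ inf_le_right
  refine ⟨hYN', ?_⟩
  let S : Subgroup G :=
    { carrier := {b | b ∈ Y ∧ ∀ c ∈ zpowers z, ⁅b, c⁆ ∈ T}
      one_mem' := ⟨one_mem _, fun c _ => by rw [commutatorElement_one_left]; exact one_mem _⟩
      mul_mem' := fun {a b} ha hb => ⟨mul_mem ha.1 hb.1, fun c hc => by
        rw [show ⁅a * b, c⁆ = a * ⁅b, c⁆ * a⁻¹ * ⁅a, c⁆ by simp only [commutatorElement_def]; group]
        exact mul_mem ((mem_normalizer_iff.1 (hYN' ha.1) _).1 (hb.2 c hc)) (ha.2 c hc)⟩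
      inv_mem' := fun {a} ha => ⟨inv_mem ha.1, fun c hc => by
        rw [show ⁅a⁻¹, c⁆ = a⁻¹ * ⁅a, c⁆⁻¹ * a⁻¹⁻¹ by simp only [commutatorElement_def]; group]
        exact (mem_normalizer_iff.1 (hYN' (inv_mem ha.1)) _).1 (inv_mem (ha.2 c hc))⟩ }
  have hS : S = Y := Coprime.eq_of_forall_invariant_pgroup_le hzY' (hcopY _ le_rfl) (Or.inl inferInstance)
    (fun b hb => hb.1) fun r W hr hW hWY hzW b hb =>
      ⟨hWY hb, fun c hc => key r W hr hW hWY (hzW (mem_zpowers z)) (commutator_mem_commutator hb hc)⟩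
  rw [commutator_le]
  exact fun b hb c hc => (hS.ge hb).2 c hc

/-- PF: with one cluster, `z` lies in `O_{q',q}` of every solvable subgroup containing it, and moves all its
invariant `q'`-subgroups into the `q'`-core. -/
theorem ZCtx.good_everywhere (h : ZCtx p q x z) (h1 : OneCluster q x z) {L : Subgroup G}
    (hL : Group.IsSolvable L) (hz : z ∈ L) :
    (⟨z, hz⟩ : L) ∈ Cfsg.pPrimePCore q L ∧ ∀ A : Subgroup G, A ≤ L → (Nat.card A).Coprime q →
      z ∈ normalizer (A : Set G) → ⁅A, zpowers z⁆ ≤ ppOf q L := by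
  haveI := Fact.mk h.qprime
  haveI := hL
  set T := bigMember q x z with hT
  set a : L := ⟨z, hz⟩
  have haq : a ^ q = 1 := Subtype.ext (by simp [a, ← h.order_z, pow_orderOf_eq_one])
  have hzp : IsPGroup q (zpowers a) := IsPGroup.of_card (n := 1) (by
    rw [Nat.card_zpowers, pow_one, ← orderOf_submonoid]; exact h.order_z)
  set B := T.subgroupOf L with hB
  have hBq : (Nat.card B).Coprime q :=
    (coprime_bigMember h.qprime h1).coprime_dvd_left (card_subgroupOf_dvd _ _)
  have hzT : z ∈ normalizer (T : Set G) :=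
    h.normalizer_zpowers_le_bigMember (le_normalizer (mem_zpowers z))
  have haB : a ∈ normalizer (B : Set L) := mem_normalizer_iff.2 fun y => mem_normalizer_iff.1 hzT (y : G)
  have hcop : ∀ A : Subgroup L, (Nat.card A).Coprime q →
      (Nat.card (zpowers a)).Coprime (Nat.card A) := fun A hA => by
    rw [Nat.card_zpowers, ← orderOf_submonoid, h.order_z]
    exact hA.symm
  have hlarge : ∀ A : Subgroup L, (Nat.card A).Coprime q → a ∈ normalizer (A : Set L) →
      ⁅A, zpowers a⁆ ≤ ⁅B, zpowers a⁆ := by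
    intro A hA haA
    rw [← Coprime.commutator_commutator_eq (zpowers_le.2 haA) (hcop A hA) (Or.inl inferInstance)]
    refine commutator_mono ?_ le_rfl
    have h2 := (h.moved_le_bigMember (Y := A.map L.subtype) (by rwa [card_map_of_injective L.subtype_injective])
      (le_normalizer_map _ ⟨a, haA, rfl⟩)).2
    intro y hy
    refine h2 ?_
    rw [show zpowers z = (zpowers a).map L.subtype by rw [MonoidHom.map_zpowers]; rfl, ← map_commutator]
    exact ⟨y, hy, rfl⟩
  have hWO : ⁅B, zpowers a⁆ ≤ Cfsg.pPrimeCore q L :=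
    le_pPrimeCore_of_largest hzp (hBq.coprime_dvd_left (card_dvd_of_le (commutator_zpowers_le haB)))
      (mem_normalizer_commutator haB rfl)
      (Coprime.commutator_commutator_eq (zpowers_le.2 haB) (hcop B hBq) (Or.inl inferInstance)) hlarge
  have hmove : ∀ A : Subgroup L, (Nat.card A).Coprime q → a ∈ normalizer (A : Set L) →
      ⁅A, zpowers a⁆ ≤ Cfsg.pPrimeCore q L := fun A hA haA => (hlarge A hA haA).trans hWO
  refine ⟨mem_pPrimePCore_of_pairs haq hmove fun g => ?_, fun A hAL hA hzA => ?_⟩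
  · obtain ⟨H, hH, hxH, hzH, hgH, -⟩ := h.toQCtx.exists_solvable (g : G)
    obtain ⟨N, hHN, hzN, hNp, hNH⟩ : ∃ N : Subgroup G, H ≤ normalizer (N : Set G) ∧ z ∈ N ∧
        (∀ n ∈ N, ∃ k, n ^ q ^ k ∈ ppOf q (ppOf p H)) ∧ N ≤ H := by
      by_cases hqp : q = p
      · subst hqp
        obtain ⟨N, hNH, -, hHN, hxN, hNp⟩ := h.toXCtx.pow_mem_ppOf hH hxH
        refine ⟨N, hHN, h.z_eq_x rfl ▸ hxN, fun n hn => ?_, hNH⟩
        obtain ⟨k, hk⟩ := hNp n hn
        exact ⟨k, le_ppOf le_rfl (coprime_card_ppOf q H) le_normalizer hk⟩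
      · obtain ⟨N, hNT, -, hHN, hzN, hNp⟩ := h.pow_mem_core hqp hH hxH hzH
        exact ⟨N, hHN, hzN, hNp, hNT.trans (ppOf_le p H)⟩
    set O := ppOf q (ppOf p H) with hO
    have hHO : H ≤ normalizer (O : Set G) :=
      FixedDim.le_normalizer_map_char (le_normalizer_ppOf p H) (Cfsg.pPrimeCore q (ppOf p H))
    refine ⟨N.subgroupOf L, O.subgroupOf L, hzN, (mem_normalizer_iff.1 (hHN hgH) z).1 hzN, fun k hk => ?_,
      (coprime_card_ppOf q _).coprime_dvd_left (card_subgroupOf_dvd _ _), fun k hk => ?_⟩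
    · exact mem_normalizer_iff.2 fun y => mem_normalizer_iff.1 (hHO (hNH hk)) (y : G)
    · obtain ⟨n, hn⟩ := hNp (k : G) hk
      exact ⟨n, mem_subgroupOf.2 (by simpa using hn)⟩
  · have h2 := hmove (A.subgroupOf L) (hA.coprime_dvd_left (card_subgroupOf_dvd _ _))
      (mem_normalizer_iff.2 fun y => mem_normalizer_iff.1 hzA (y : G))
    refine le_trans (le_of_eq ?_) (map_mono (f := L.subtype) h2)
    rw [map_commutator, map_subgroupOf_eq_of_le hAL, MonoidHom.map_zpowers]
    rfl

/-- There is more than one cluster. -/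
theorem ZCtx.not_oneCluster (h : ZCtx p q x z) : ¬ OneCluster q x z := by
  intro h1
  haveI := Fact.mk h.qprime
  haveI := h.simple
  set T := bigMember q x z with hT
  have hTq : (Nat.card T).Coprime q := coprime_bigMember h.qprime h1
  have hqG : q ∣ Nat.card G := h.order_z ▸ orderOf_dvd_natCard z
  have hne_top : ∀ K : Subgroup G, (Nat.card K).Coprime q → K ≠ ⊤ := by
    rintro K hK rfl
    rw [card_top] at hK
    exact (h.qprime.coprime_iff_not_dvd.1 hK.symm) hqG
  have hnorm : ∀ K : Subgroup G, (Nat.card K).Coprime q → K ≠ ⊥ → normalizer (K : Set G) ≠ ⊤ := fun K hK hK1 ht =>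
    (normalizer_eq_top_iff.mp ht).eq_bot_or_eq_top.elim hK1 (hne_top K hK)
  obtain ⟨s, B, hB⟩ := h.exists_member
  have hT1 : T ≠ ⊥ := fun e => hB.ne_bot (le_bot_iff.1 (hB.le_bigMember.trans e.le))
  obtain ⟨M, hM, hNM⟩ := (eq_top_or_exists_le_coatom (normalizer (T : Set G))).resolve_left (hnorm T hTq hT1)
  have hMs : Group.IsSolvable M := h.proper _ hM.1
  have hNz : normalizer (zpowers z : Set G) ≤ M := h.normalizer_zpowers_le_bigMember.trans hNM
  have hCz : centralizer ({z} : Set G) ≤ M := (centralizer_le_normalizer_zpowers z).trans hNz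
  have hzM : z ∈ M := hCz (mem_centralizer_singleton_iff.2 rfl)
  set X := ppOf q M with hX
  have hMX : M ≤ normalizer (X : Set G) := le_normalizer_ppOf q M
  have hTX : T ≤ X := bigMember_le fun t Y hY => by
    conv_lhs => rw [← hY.moved.eq]
    exact (h.good_everywhere h1 hMs hzM).2 Y (hY.le_bigMember.trans (le_normalizer.trans hNM))
      (coprime_of_pgroup hY.sprime h.qprime hY.ne_q hY.pgroup) hY.moved.z_norm
  have hXM : normalizer (X : Set G) = M := by
    have h2 := hnorm X (coprime_card_ppOf q M) fun e => hT1 (le_bot_iff.1 (hTX.trans e.le))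
    exact ((hM.le_iff).1 hMX).resolve_left h2
  -- if `u z u⁻¹ ∈ M` and `z ∈ u M u⁻¹` then `u ∈ M`
  have claim : ∀ u : G, u * z * u⁻¹ ∈ M → u⁻¹ * z * u ∈ M → u ∈ M := by
    intro u hu hu'
    set e := MulAut.conj u
    set M' := M.map e.toMonoidHom with hM'
    have hzM' : z ∈ M' := ⟨_, hu', by simp [e, mul_assoc]⟩
    haveI := hMs
    have hM's : Group.IsSolvable M' := Group.isSolvable_of_surjective
      (f := (M.equivMapOfInjective e.toMonoidHom e.injective).toMonoidHom)
      (M.equivMapOfInjective e.toMonoidHom e.injective).surjective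
    haveI := hM's
    -- `X ≤ M'`
    set A := X.map (MulAut.conj u⁻¹).toMonoidHom with hA
    have hAq : (Nat.card A).Coprime q := by
      rw [card_map_of_injective (MulAut.conj u⁻¹).injective]; exact coprime_card_ppOf q M
    have hzA : z ∈ normalizer (A : Set G) := le_normalizer_map _ ⟨_, hMX hu, by simp [mul_assoc]⟩
    have hAT := h.moved_le_bigMember hAq hzA
    have hAM : A ≤ M := by
      rw [← Coprime.commutator_sup_centralizer (zpowers_le.2 hzA)
        (by rw [Nat.card_zpowers, h.order_z]; exact hAq.symm) (Or.inl inferInstance)]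
      exact sup_le (hAT.2.trans (le_normalizer.trans hNM))
        (inf_le_right.trans ((centralizer_le (Set.singleton_subset_iff.2 (mem_zpowers z))).trans hCz))
    have hXM' : X ≤ M' := fun y hy => ⟨u⁻¹ * y * u, hAM ⟨y, hy, by simp⟩, by simp [e, mul_assoc]⟩
    -- `X ≤ O_{q'}(M')`
    obtain ⟨hzO, hmove⟩ := h.good_everywhere h1 hM's hzM'
    have hXz : z ∈ normalizer (X : Set G) := hMX hzM
    have hle : X ≤ ppOf q M' := by
      intro y hy
      refine ⟨⟨y, hXM' hy⟩, le_pPrimeCore_of_centralizer (z := (⟨z, hzM'⟩ : M')) ?_ hzO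
        (X := X.subgroupOf M') ((coprime_card_ppOf q M).coprime_dvd_left (card_subgroupOf_dvd _ _)) ?_
        (fun c hc => mem_normalizer_iff.2 fun y => mem_normalizer_iff.1 (hMX (hCz (mem_centralizer_singleton_iff.2
          (congrArg Subtype.val (mem_centralizer_singleton_iff.1 hc))))) (y : G)) hy, rfl⟩
      · exact IsPGroup.of_card (n := 1) (by rw [Nat.card_zpowers, pow_one, ← orderOf_submonoid]; exact h.order_z)
      · intro w hw
        have h2 := hmove X hXM' (coprime_card_ppOf q M) hXz
        have h3 : (w : G) ∈ ⁅X, zpowers z⁆ := by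
          have := mem_map_of_mem M'.subtype hw
          rwa [map_commutator, map_subgroupOf_eq_of_le hXM', MonoidHom.map_zpowers] at this
        obtain ⟨w', hw', he⟩ := h2 h3
        rwa [Subtype.ext he] at hw'
    rw [map_ppOf] at hle
    have hXeq : X.map e.toMonoidHom = X :=
      (eq_of_le_of_card_ge hle (by rw [card_map_of_injective e.injective])).symm
    rw [← hXM]
    exact mem_normalizer_iff_map_conj_eq.2 hXeq
  -- every conjugate of `z` lies in `M`
  have hall : ∀ g : G, g * z * g⁻¹ ∈ M := by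
    intro g
    obtain ⟨H, hH, -, hzH, hgH, -⟩ := h.toQCtx.exists_solvable g
    haveI := hH
    have hzE := (h.good_everywhere h1 hH hzH).1
    have hOM : ppOf q H ≤ M :=
      (h.moved_le_bigMember (coprime_card_ppOf q H) (le_normalizer_ppOf q H hzH)).1.trans hNM
    set π := QuotientGroup.mk' (Cfsg.pPrimeCore q H) with hπdef
    set P := Cfsg.pCore q (H ⧸ Cfsg.pPrimeCore q H) with hP
    set K := M.subgroupOf H ⊓ Cfsg.pPrimePCore q H with hK
    have hOK : Cfsg.pPrimeCore q H ≤ K := fun y hy =>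
      ⟨hOM ⟨y, hy, rfl⟩, PCore.pPrimeCore_le_pPrimePCore hy⟩
    suffices hKP : Cfsg.pPrimePCore q H ≤ K by
      have h2 : (⟨g * z * g⁻¹, mul_mem (mul_mem hgH hzH) (inv_mem hgH)⟩ : H) ∈ Cfsg.pPrimePCore q H :=
        PCore.pPrimePCore_normal.conj_mem _ hzE ⟨g, hgH⟩
      exact (hKP h2).1
    by_contra hlt
    haveI : Group.IsNilpotent P := (PCore.isPGroup_pCore (G := H ⧸ Cfsg.pPrimeCore q H) (p := q)).isNilpotent
    have hKcomap : (K.map π).comap π = K := comap_map_eq_self (by rwa [QuotientGroup.ker_mk'])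
    have hne : (K.map π).subgroupOf P < ⊤ := lt_top_iff_ne_top.2 fun e => hlt fun y hy => by
      have h2 : π y ∈ K.map π := mem_subgroupOf.1 ((eq_top_iff.1 e) (mem_top (⟨π y, hy⟩ : P)))
      rw [← mem_comap, hKcomap] at h2
      exact h2
    obtain ⟨u', hu'N, hu'K⟩ := SetLike.exists_of_lt (Group.normalizerCondition_of_isNilpotent _ hne)
    obtain ⟨u, hu⟩ := QuotientGroup.mk'_surjective (Cfsg.pPrimeCore q H) (u' : H ⧸ Cfsg.pPrimeCore q H)
    have huE : u ∈ Cfsg.pPrimePCore q H := by
      show π u ∈ P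
      rw [hu]; exact u'.2
    have huK : u ∉ K := fun hk => hu'K (mem_subgroupOf.2 ⟨u, hk, hu⟩)
    have huN : ∀ y : H, y ∈ K ↔ u * y * u⁻¹ ∈ K := by
      intro y
      conv_lhs => rw [← hKcomap]
      conv_rhs => rw [← hKcomap]
      simp only [mem_comap, map_mul, map_inv]
      rw [show π u = (u' : H ⧸ Cfsg.pPrimeCore q H) from hu]
      by_cases hy : π y ∈ P
      · exact mem_normalizer_iff.1 hu'N ⟨π y, hy⟩
      · refine iff_of_false (fun hk => hy ?_) (fun hk => hy ?_)
        · obtain ⟨k, hk', he⟩ := hk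
          exact he ▸ (hk'.2 : π k ∈ P)
        · obtain ⟨k, hk', he⟩ := hk
          have h3 := (inferInstance : P.Normal).conj_mem _ (hk'.2 : π k ∈ P) (u' : H ⧸ Cfsg.pPrimeCore q H)⁻¹
          rw [he] at h3
          simpa [mul_assoc] using h3
    have hzK : (⟨z, hzH⟩ : H) ∈ K := ⟨hzM, hzE⟩
    refine huK ⟨claim (u : G) ((huN _).1 hzK).1 ?_, huE⟩
    have h2 : u⁻¹ * ⟨z, hzH⟩ * u ∈ K := (huN _).2 (by simpa [mul_assoc] using hzK)
    exact h2.1
  have hzM1 : normalClosure ({z} : Set G) ≤ M := by
    rw [normalClosure, closure_le]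
    intro y hy
    simp only [Group.mem_conjugatesOfSet_iff, Set.mem_singleton_iff, exists_eq_left, isConj_iff] at hy
    obtain ⟨g, rfl⟩ := hy
    exact hall g
  rcases (normalClosure_normal (s := ({z} : Set G))).eq_bot_or_eq_top with hb | ht
  · exact h.toQCtx.z_ne_one (by simpa [hb] using (subset_normalClosure rfl : z ∈ normalClosure ({z} : Set G)))
  · exact hM.1 (top_le_iff.1 (ht ▸ hzM1))

/-- There is no four-group, or larger elementary group, of good elements. -/
theorem ZCtx.mem_zpowers_of_commute (h : ZCtx p q x z) {z' : G} (hz' : z' ^ q = 1) (hzz' : z * z' = z' * z)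
    (hall : ∀ e ∈ closure ({z, z'} : Set G), e ≠ 1 → ZCtx p q x e) : z' ∈ zpowers z := by
  haveI := Fact.mk h.qprime
  by_contra hno
  have hz'1 : z' ≠ 1 := fun e => hno (e ▸ one_mem _)
  have hqp : q ≠ p := fun e => hno (by
    rw [(hall z' (subset_closure (by simp)) hz'1).z_eq_x e, ← h.z_eq_x e]; exact mem_zpowers z)
  obtain ⟨s, B₀, hB₀⟩ := h.exists_member
  obtain ⟨B, hB, -⟩ := hB₀.exists_max
  set A := closure ({z, z'} : Set G) with hA
  haveI hAc : IsMulCommutative A := isMulCommutative_closure (by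
    rintro a (rfl | rfl) b (rfl | rfl) <;> first | rfl | exact hzz' | exact hzz'.symm)
  have hAN : A ≤ normalizer (B : Set G) := by
    rw [closure_le]
    rintro a (rfl | rfl)
    · exact hB.moved.z_norm
    · exact hB.normalizer_zpowers_le h (centralizer_le_normalizer_zpowers z
        (mem_centralizer_singleton_iff.2 hzz'.symm))
  have hAq : ∀ a ∈ A, a ^ q = 1 := fun a ha => by
    induction ha using closure_induction with
    | mem y hy =>
      rcases hy with rfl | rfl
      · exact h.order_z ▸ pow_orderOf_eq_one _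
      · exact hz'
    | one => exact one_pow _
    | mul a b ha' hb' ha hb =>
      have : Commute a b := congrArg Subtype.val (hAc.is_comm.comm ⟨a, ha'⟩ ⟨b, hb'⟩)
      rw [this.mul_pow, ha, hb, one_mul]
    | inv a _ ha => rw [inv_pow, ha, inv_one]
  have hAp : IsPGroup q A := fun a => ⟨1, Subtype.ext (by simpa using hAq a a.2)⟩
  have hAcyc : ¬ IsCyclic A := by
    intro hc
    obtain ⟨g, hg⟩ := hc.exists_generator
    have hzA : z ∈ A := subset_closure (by simp)
    have hgord : orderOf (g : G) ∣ q := orderOf_dvd_of_pow_eq_one (hAq g g.2)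
    have hle : A ≤ zpowers z := by
      have hcard : Nat.card A ∣ q := by
        rw [← orderOf_eq_card_of_forall_mem_zpowers hg, ← orderOf_submonoid]; exact hgord
      have hzle : zpowers z ≤ A := zpowers_le.2 hzA
      have : zpowers z = A := eq_of_le_of_card_ge hzle
        (by rw [Nat.card_zpowers, h.order_z]; exact Nat.le_of_dvd h.qprime.pos hcard)
      exact this.ge
    exact hno (hle (subset_closure (by simp)))
  have hcopA : (Nat.card A).Coprime (Nat.card B) := by
    obtain ⟨n, hn⟩ := IsPGroup.iff_card.1 hAp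
    rw [hn]
    exact (coprime_of_pgroup hB.sprime h.qprime hB.ne_q hB.pgroup).symm.pow_left n
  obtain ⟨e, heA, he1, hne⟩ : ∃ e ∈ A, e ≠ 1 ∧ ⁅B ⊓ centralizer {e}, zpowers z⁆ ≠ ⊥ := by
    by_contra hnot
    push Not at hnot
    have h2 : B ⊓ centralizer ({z} : Set G) = B :=
      Coprime.eq_of_forall_centralizer_le hAcyc hAN hcopA inf_le_left fun a ha ha1 => le_inf inf_le_left ?_
    · refine hB.ne_bot ?_
      rw [← hB.moved.eq, commutator_eq_bot_iff_le_centralizer]
      exact fun b hb => mem_centralizer_iff.2 fun c ⟨i, hi⟩ =>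
        hi ▸ ((show Commute b z from mem_centralizer_singleton_iff.1 (h2.ge hb).2).symm.zpow_left i).eq
    · intro b hb
      exact mem_centralizer_singleton_iff.2 (mem_centralizer_iff.1
        (commutator_eq_bot_iff_le_centralizer.1 (hnot a ha ha1) hb) z (mem_zpowers z)).symm
  have he := hall e heA he1
  set R := B ⊓ centralizer {e} with hR
  have hez : z * e = e * z := congrArg Subtype.val
    (hAc.is_comm.comm ⟨z, subset_closure (by simp)⟩ ⟨e, heA⟩)
  have hxe : x * e = e * x := he.toQCtx.commute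
  have hcn : ∀ c : G, c * e = e * c → c ∈ normalizer (B : Set G) → c ∈ normalizer (R : Set G) := by
    intro c hce hcB
    have hc1 : c ∈ normalizer (centralizer ({e} : Set G) : Set G) :=
      le_normalizer (mem_centralizer_singleton_iff.2 hce)
    refine mem_normalizer_iff.2 fun y => ?_
    rw [hR, mem_inf, mem_inf, mem_normalizer_iff.1 hcB y, mem_normalizer_iff.1 hc1 y]
  have hzR := hcn z hez hB.moved.z_norm
  have hxR := hcn x hxe hB.moved.x_norm
  have hF : IsMember q x z s ⁅R, zpowers z⁆ :=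
    isMember_commutator h.toQCtx hB.sprime hB.ne_q (hB.pgroup.to_le inf_le_left) hxR hzR hne
  refine he.not_oneCluster (he.oneCluster_of_linkable hB.sprime (hB.toIsMember.ne_p h.toQCtx)
    (F := ⁅R, zpowers z⁆) hF.pgroup hne ((commutator_zpowers_le hzR).trans inf_le_right) hF.moved.x_norm
    (hF.commutator_x h.toQCtx) (Or.inr (Or.inr ⟨z, h.order_z ▸ h.qprime, h.order_z ▸ hqp,
      h.order_z ▸ hB.ne_q.symm, h.toQCtx.commute, hez.symm, hF.moved.z_norm, hF.moved.eq,
      hF.centralizer_x_le h.toQCtx⟩)))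

end Cfsg.Agent.TwoGenSolvable
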