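import Mathlib
import Cfsg.Agent.Lib.TwoGenSolvable.LMain
import Cfsg.Agent.Lib.TwoGenSolvable.DExcept
import Cfsg.Agent.Lib.TwoGenSolvable.Factor
import Cfsg.Agent.Lib.Coprime.Basic

/-!
# The two configurations that cannot occur for an exceptional involution
-/

set_option autoImplicit false
set_option linter.style.haveILetI false
set_option linter.unusedSectionVars false

namespace Cfsg.Agent.TwoGenSolvable

open Subgroup FixedDim
open scoped commutatorElement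

universe uk uV

/-- The trace on `T` of an exceptional factor: `K` is the kernel, `Z` the preimage of the centre. -/
structure ExcLayer {Γ : Type*} [Group Γ] (x : Γ) (Δ : Set Γ) (T K Z : Subgroup Γ) : Prop where
  KZ : K ≤ Z
  ZT : Z ≤ T
  ne : ¬ T ≤ Z
  normK : ∀ g ∈ T ⊔ closure (insert x Δ), g ∈ normalizer (K : Set Γ)
  normZ : ∀ g ∈ T ⊔ closure (insert x Δ), g ∈ normalizer (Z : Set Γ)
  comm : ∀ a ∈ T, ∀ b ∈ T, ⁅a, b⁆ ∈ Z
  central : ∀ g ∈ T ⊔ closure (insert x Δ), ∀ c ∈ Z, ⁅g, c⁆ ∈ K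
  nondeg : ∀ c ∈ T, (∀ a ∈ T, ⁅a, c⁆ ∈ K) → c ∈ Z
  fixed : ∀ w ∈ T, x * w = w * x → w ∈ Z
  top : ∀ Y : Subgroup Γ, Z ≤ Y → Y ≤ T → x ∈ normalizer (Y : Set Γ) → Y = Z ∨ Y = T
  sign : ∀ δ ∈ Δ, (∀ w ∈ T, δ * w * δ⁻¹ * w⁻¹ ∈ Z) ∨ ∀ w ∈ T, δ * w * δ⁻¹ * w ∈ Z

section Layer

variable {Γ : Type*} [Group Γ] [Finite Γ] {x : Γ} {Δ : Set Γ} {T K Z : Subgroup Γ}

theorem ExcLayer.commute_K (h : ExcLayer x Δ T K Z) {b : Γ} (hb : b ∈ T) :
    ∃ S : Subgroup Γ, ∀ g, g ∈ S ↔ g ∈ T ∧ ⁅g, b⁆ ∈ K := by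
  refine ⟨{ carrier := {g | g ∈ T ∧ ⁅g, b⁆ ∈ K}
            one_mem' := ⟨one_mem T, by simp [one_mem]⟩
            mul_mem' := ?_
            inv_mem' := ?_ }, fun g => Iff.rfl⟩
  · rintro g g' ⟨hg, hgb⟩ ⟨hg', hgb'⟩
    refine ⟨mul_mem hg hg', ?_⟩
    rw [commutatorElement_mul_left_eq_conj_mul]
    exact mul_mem ((mem_normalizer_iff.1 (h.normK g (mem_sup_left hg)) _).1 hgb') hgb
  · rintro g ⟨hg, hgb⟩
    refine ⟨inv_mem hg, ?_⟩
    rw [show ⁅g⁻¹, b⁆ = g⁻¹ * ⁅g, b⁆⁻¹ * (g⁻¹)⁻¹ by simp [commutatorElement_def, mul_assoc]]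
    exact (mem_normalizer_iff.1 (h.normK _ (mem_sup_left (inv_mem hg))) _).1 (inv_mem hgb)

/-- Squares modulo `Z` detect commutators outside `K`. -/
theorem ExcLayer.commutator_sq {r : ℕ} [Fact r.Prime] (hr2 : r ≠ 2) (hT : IsPGroup r T) (h : ExcLayer x Δ T K Z)
    {u v a b : Γ} (hu : u ∈ T) (hv : v ∈ T) (hb : b ∈ T) (hau : (u * u)⁻¹ * a ∈ Z)
    (ha : a ∈ T) (hbv : (v * v)⁻¹ * b ∈ Z) (hab : ⁅a, b⁆ ∈ K) : ⁅u, v⁆ ∈ K := by
  have hodd : ∀ w ∈ T, w ∈ zpowers (w * w) := fun w hw => by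
    obtain ⟨e, he⟩ := hT ⟨w, hw⟩
    rw [← pow_two, mem_zpowers_pow_iff]
    have h1 : orderOf w ∣ r ^ e := orderOf_dvd_of_pow_eq_one (congrArg Subtype.val he)
    exact (Nat.Coprime.coprime_dvd_right h1
      (((Nat.coprime_primes Nat.prime_two Fact.out).2 hr2.symm).pow_right e))
  obtain ⟨S, hS⟩ := h.commute_K hb
  have hcK : ∀ c ∈ Z, ∀ g ∈ T, ⁅c, g⁆ ∈ K := fun c hc g hg => by
    rw [← commutatorElement_inv]
    exact inv_mem (h.central g (mem_sup_left hg) c hc)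
  have hu2 : u * u ∈ S := by
    have := mul_mem ((hS a).2 ⟨ha, hab⟩) (inv_mem ((hS _).2 ⟨h.ZT hau, hcK _ hau b hb⟩))
    simpa [mul_assoc] using this
  have hub : ⁅u, b⁆ ∈ K := ((hS u).1 (zpowers_le.2 hu2 (hodd u hu))).2
  obtain ⟨S', hS'⟩ := h.commute_K hu
  have hbu : ⁅b, u⁆ ∈ K := by rw [← commutatorElement_inv]; exact inv_mem hub
  have hv2 : v * v ∈ S' := by
    have := mul_mem ((hS' b).2 ⟨hb, hbu⟩) (inv_mem ((hS' _).2 ⟨h.ZT hbv, hcK _ hbv u hu⟩))
    simpa [mul_assoc] using this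
  rw [← commutatorElement_inv]
  exact inv_mem ((hS' v).1 (zpowers_le.2 hv2 (hodd v hv))).2

theorem ExcLayer.exists_commutator_notMem (h : ExcLayer x Δ T K Z) : ∃ u ∈ T, ∃ v ∈ T, ⁅u, v⁆ ∉ K := by
  by_contra hc
  push Not at hc
  exact h.ne fun c hcT => h.nondeg c hcT fun a ha => hc a ha c hcT

theorem ExcLayer.not_plus_minus {r : ℕ} [Fact r.Prime] (hr2 : r ≠ 2) (hT : IsPGroup r T) (h : ExcLayer x Δ T K Z)
    {g : Γ} (h1 : ∀ w ∈ T, g * w * g⁻¹ * w⁻¹ ∈ Z) (h2 : ∀ w ∈ T, g * w * g⁻¹ * w ∈ Z) : False := by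
  refine h.ne fun w hw => ?_
  have h3 : w ^ 2 ∈ Z := by
    have h5 := mul_mem (inv_mem (h1 w hw)) (h2 w hw)
    simpa [pow_two, mul_assoc] using h5
  obtain ⟨e, he⟩ := hT ⟨w, hw⟩
  have h4 : w ∈ zpowers (w ^ 2) := by
    rw [mem_zpowers_pow_iff]
    exact (Nat.Coprime.coprime_dvd_right (orderOf_dvd_of_pow_eq_one (congrArg Subtype.val he))
      (((Nat.coprime_primes Nat.prime_two Fact.out).2 hr2.symm).pow_right e))
  exact zpowers_le.2 h3 h4

end Layer

/-- Endomorphisms commuting with an irreducible one commute. -/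
theorem commute_of_irreducible {M : Type*} [AddCommGroup M] (θ φ ψ : AddMonoid.End M)
    (hirr : ∀ S : AddSubgroup M, (∀ a ∈ S, θ a ∈ S) → S = ⊥ ∨ S = ⊤) (hφ : Commute φ θ) (hψ : Commute ψ θ)
    (m : M) : φ (ψ m) = ψ (φ m) := by
  rcases eq_or_ne m 0 with rfl | hm
  · simp
  let P : AddMonoid.End M → Prop := fun Q => ∀ f : AddMonoid.End M, Commute f θ → Commute f Q
  let S : AddSubgroup M :=
    { carrier := {a | ∃ Q, P Q ∧ Q m = a}
      zero_mem' := ⟨0, fun f _ => Commute.zero_right f, rfl⟩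
      add_mem' := by
        rintro _ _ ⟨Q, hQ, rfl⟩ ⟨Q', hQ', rfl⟩
        exact ⟨Q + Q', fun f hf => (hQ f hf).add_right (hQ' f hf), rfl⟩
      neg_mem' := by
        rintro _ ⟨Q, hQ, rfl⟩
        exact ⟨-Q, fun f hf => (hQ f hf).neg_right, rfl⟩ }
  have hS : S = ⊤ := by
    refine (hirr S ?_).resolve_left fun e => hm ?_
    · rintro _ ⟨Q, hQ, rfl⟩
      exact ⟨θ * Q, fun f hf => hf.mul_right (hQ f hf), rfl⟩
    · exact AddSubgroup.mem_bot.1 (e ▸ (⟨1, fun f _ => Commute.one_right f, rfl⟩ : m ∈ S))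
  obtain ⟨Q, hQ, eQ⟩ : φ m ∈ S := hS ▸ AddSubgroup.mem_top _
  obtain ⟨R, hR, eR⟩ : ψ m ∈ S := hS ▸ AddSubgroup.mem_top _
  have hRθ : Commute R θ := (hR θ (Commute.refl θ)).symm
  have e1 : φ (R m) = R (φ m) := DFunLike.congr_fun (hR φ hφ).eq m
  have e2 : ψ (Q m) = Q (ψ m) := DFunLike.congr_fun (hQ ψ hψ).eq m
  have e3 : R (Q m) = Q (R m) := DFunLike.congr_fun (hQ R hRθ).eq m
  rw [← eR, e1, ← eQ, e3, e2, ← eR]

/-- A coset of `N` normalised by `x` of coprime order has a fixed element. -/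
theorem exists_fixed_mul {Γ : Type*} [Group Γ] [Finite Γ] {p r : ℕ} [Fact p.Prime] [Fact r.Prime] (hrp : r ≠ p)
    {x : Γ} (hxp : x ^ p = 1) {T N : Subgroup Γ} (hT : IsPGroup r T) (hNT : N ≤ T)
    (hxN : x ∈ normalizer (N : Set Γ)) {c : Γ} (hcN : c ∈ normalizer (N : Set Γ)) (hc : ⁅x, c⁆ ∈ N) :
    ∃ n ∈ N, x * (c * n) = c * n * x := by
  have hpow : ∀ i : ℕ, ⁅x ^ i, c⁆ ∈ N := by
    intro i
    induction i with
    | zero => simp
    | succ i ih =>
      rw [pow_succ', commutatorElement_mul_left_eq_conj_mul]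
      exact mul_mem ((mem_normalizer_iff.1 hxN _).1 ih) hc
  obtain ⟨n, hn, hcn⟩ := Coprime.exists_mul_mem_centralizer (A := zpowers x) (N := N) (k := c)
    (zpowers_le.2 hxN) (by
      obtain ⟨e, he⟩ := (hT.to_le hNT).exists_card_eq
      rw [Nat.card_zpowers, he]
      refine Nat.Coprime.coprime_dvd_left (orderOf_dvd_of_pow_eq_one hxp) ?_
      exact ((Nat.coprime_primes Fact.out Fact.out).2 hrp.symm).pow_right e)
    (Or.inl (Group.isSolvable_of_comm fun a b => mul_comm' a b))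
    (fun a ha => by
      obtain ⟨i, rfl⟩ := (isOfFinOrder_of_finite x).mem_powers_iff_mem_zpowers.mpr ha
      have h1 := (mem_normalizer_iff''.1 hcN _).1 (hpow i)
      simpa [commutatorElement_def, mul_assoc] using h1)
  exact ⟨n, hn, mem_centralizer_iff.1 hcn x (mem_zpowers x)⟩

variable {k : Type uk} [Field k] [IsAlgClosed k] {V : Type uV} [AddCommGroup V] [Module k V]
  [FiniteDimensional k V] {Γ : Type*} [Group Γ] [Finite Γ] {ρ : Γ →* Module.End k V} {p r : ℕ}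
  {T : Subgroup Γ} [T.Normal]

/-- If `T` acts non-trivially, some factor is exceptional. -/
theorem exists_excLayer [Fact p.Prime] [Fact r.Prime] (hp3 : 3 < p) (hr2 : r ≠ 2) (hrp : r ≠ p)
    (hrK : (r : k) ≠ 0) (hpK : (p : k) ≠ 0) {x : Γ} {Δ : Set Γ} (hT : IsPGroup r T) (hxp : x ^ p = 1)
    (hxΔ : ∀ δ ∈ Δ, x * δ = δ * x) (hΔ2 : ∀ δ ∈ Δ, δ ^ 2 = 1) (hmx : Moves x T)
    (hmD : T ≤ closure (⋃ δ ∈ Δ, (fun w => ⁅δ, w⁆) '' (T : Set Γ)))
    (hcent : ∀ w ∈ T, x * w = w * x → ∀ δ ∈ Δ, δ * w = w * δ)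
    (hfix : ∀ δ ∈ Δ, ∀ v, ρ x v = v → ρ δ v = v) {w₀ : Γ} (hw₀ : w₀ ∈ T) (hne : ρ w₀ ≠ 1) :
    ∃ K Z : Subgroup Γ, ExcLayer x Δ T K Z ∧ ∀ w ∈ T, ρ w = 1 → w ∈ K := by
  classical
  haveI : Fact (Nat.Prime 2) := ⟨Nat.prime_two⟩
  set H := T ⊔ closure (insert x Δ) with hH
  have hTH : T ≤ H := le_sup_left
  have hxH : x ∈ H := mem_sup_right (subset_closure (Set.mem_insert x Δ))
  have hΔH : ∀ δ ∈ Δ, δ ∈ H := fun δ hδ => mem_sup_right (subset_closure (Set.mem_insert_of_mem x hδ))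
  set W := T.subgroupOf H
  have hWpg : IsPGroup r W := hT.of_equiv (subgroupOfEquivOfLe hTH).symm
  obtain ⟨U₁, U₂, hU, w', hw', hne'⟩ := exists_factor_nontrivial (ρ := ρ.comp H.subtype) W (by
    obtain ⟨e, he⟩ := hWpg.exists_card_eq
    rw [he, Nat.cast_pow]
    exact pow_ne_zero _ hrK) (w := ⟨w₀, hTH hw₀⟩) hw₀ hne
  haveI := hU.nontrivial
  set τ := hU.rep
  let Γ' := τ.toHomUnits.range
  let π : H →* Γ' := τ.toHomUnits.rangeRestrict
  let ι : Γ' →* Module.End k (↥U₂ ⧸ U₁.comap U₂.subtype) := (Units.coeHom _).comp Γ'.subtype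
  have hπs : Function.Surjective π := τ.toHomUnits.rangeRestrict_surjective
  haveI : Finite Γ' := Finite.of_surjective π hπs
  have hιπ : ∀ g, ι (π g) = τ g := fun g => rfl
  have hinj : Function.Injective ι := fun a b e => Subtype.ext (Units.ext e)
  set W' := W.map π
  haveI : W'.Normal := Subgroup.Normal.map inferInstance π hπs
  have hW' : W' ≠ ⊥ := fun e => hne' (by
    have h1 : π w' ∈ (⊥ : Subgroup Γ') := e ▸ mem_map_of_mem π hw'
    rw [← hιπ, mem_bot.1 h1, map_one])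
  have hxpH : (⟨x, hxH⟩ : H) ^ p = 1 := Subtype.ext hxp
  set Δ' : Set Γ' := π '' ((fun h : H => (h : Γ)) ⁻¹' Δ) with hΔ'
  have hfix' : ∀ δ ∈ Δ', ∀ v, ι (π ⟨x, hxH⟩) v = v → ι δ v = v := by
    rintro _ ⟨δ, hδ, rfl⟩
    exact hU.fixed_le hxpH hpK fun v hv => hfix _ hδ v hv
  have hD : DData ι p 2 r (π ⟨x, hxH⟩) Δ' W' := by
    refine
      { inj := hinj
        irr := fun U hU' => hU.irreducible U fun g => hU' (π g)
        gen := ?_
        comm := ?_
        xp := by rw [← map_pow, hxpH, map_one]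
        dq := ?_
        pgroup := hWpg.map π
        movex := ?_
        moveD := ?_
        central := ?_
        rK := hrK
        pK := hpK
        rp := hrp
        fix := Or.inl ⟨by omega, hfix'⟩ }
    · have h1 : W ⊔ closure (insert (⟨x, hxH⟩ : H) ((fun h : H => (h : Γ)) ⁻¹' Δ)) = ⊤ := by
        refine map_injective H.subtype_injective ?_
        rw [Subgroup.map_sup, map_subgroupOf_eq_of_le hTH, MonoidHom.map_closure, ← MonoidHom.range_eq_map,
          range_subtype, Set.image_insert_eq]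
        show T ⊔ closure (insert x (H.subtype '' ((fun h : H => (h : Γ)) ⁻¹' Δ))) = T ⊔ closure (insert x Δ)
        congr 3
        exact Set.Subset.antisymm (Set.image_preimage_subset _ _) fun δ hδ => ⟨⟨δ, hΔH δ hδ⟩, hδ, rfl⟩
      have h2 := congrArg (Subgroup.map π) h1
      rw [Subgroup.map_sup, MonoidHom.map_closure, map_top_of_surjective π hπs, Set.image_insert_eq] at h2
      exact h2
    · rintro _ ⟨δ, hδ, rfl⟩
      rw [← map_mul, ← map_mul]
      exact congrArg π (Subtype.ext (hxΔ _ hδ))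
    · rintro _ ⟨δ, hδ, rfl⟩
      rw [← map_pow, show δ ^ 2 = 1 from Subtype.ext (hΔ2 _ hδ), map_one]
    · refine (map_mono (f := π) (?_ : W ≤ closure ((fun w : H => ⁅(⟨x, hxH⟩ : H), w⁆) '' (W : Set H)))).trans ?_
      · rw [← map_le_map_iff_of_injective H.subtype_injective, map_subgroupOf_eq_of_le hTH, MonoidHom.map_closure]
        refine hmx.trans (closure_mono ?_)
        rintro _ ⟨w, hw, rfl⟩
        exact ⟨⁅(⟨x, hxH⟩ : H), ⟨w, hTH hw⟩⁆, ⟨⟨w, hTH hw⟩, hw, rfl⟩, map_commutatorElement H.subtype _ _⟩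
      · rw [MonoidHom.map_closure]
        refine closure_mono ?_
        rintro _ ⟨_, ⟨w, hw, rfl⟩, rfl⟩
        exact ⟨π w, mem_map_of_mem π hw, (map_commutatorElement π _ _).symm⟩
    · refine (map_mono (f := π) (?_ : W ≤ closure (⋃ δ ∈ ((fun h : H => (h : Γ)) ⁻¹' Δ),
        (fun w : H => ⁅δ, w⁆) '' (W : Set H)))).trans ?_
      · rw [← map_le_map_iff_of_injective H.subtype_injective, map_subgroupOf_eq_of_le hTH, MonoidHom.map_closure]
        refine hmD.trans (closure_mono ?_)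
        intro g hg
        simp only [Set.mem_iUnion] at hg
        obtain ⟨δ, hδ, w, hw, rfl⟩ := hg
        exact ⟨⁅(⟨δ, hΔH δ hδ⟩ : H), ⟨w, hTH hw⟩⁆, Set.mem_biUnion (x := (⟨δ, hΔH δ hδ⟩ : H)) hδ
          ⟨⟨w, hTH hw⟩, hw, rfl⟩, map_commutatorElement H.subtype _ _⟩
      · rw [MonoidHom.map_closure]
        refine closure_mono ?_
        rintro _ ⟨g, hg, rfl⟩
        simp only [Set.mem_iUnion] at hg
        obtain ⟨δ, hδ, w, hw, rfl⟩ := hg
        exact Set.mem_biUnion (x := π δ) ⟨δ, hδ, rfl⟩ ⟨π w, mem_map_of_mem π hw, (map_commutatorElement π _ _).symm⟩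
    · rintro _ ⟨w, hw, rfl⟩ hc
      rintro _ ⟨δ, hδ, rfl⟩
      haveI : W.Normal := inferInstance
      obtain ⟨n, hn, hwn⟩ := exists_fixed_mul hrp hxpH hWpg (inf_le_left : W ⊓ π.ker ≤ W) (c := w)
        (x := (⟨x, hxH⟩ : H)) (by rw [normalizer_eq_top]; exact mem_top _)
        (by rw [normalizer_eq_top]; exact mem_top _)
        (Subgroup.mem_inf.2 ⟨W.mul_mem ((inferInstance : W.Normal).conj_mem w hw _) (W.inv_mem hw),
          MonoidHom.mem_ker.2 (by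
            rw [map_commutatorElement, commutatorElement_eq_one_iff_mul_comm]; exact hc)⟩)
      have hwn' : w * n ∈ W := mul_mem hw hn.1
      have e : π (w * n) = π w := by rw [map_mul, MonoidHom.mem_ker.1 hn.2, mul_one]
      rw [← e, ← map_mul, ← map_mul]
      exact congrArg π (Subtype.ext (hcent _ hwn' (congrArg Subtype.val hwn) _ hδ))
  have hE := hD.exceptional rfl hp3 hr2 hW' hfix'
  let πT : T →* W' := (π.comp (inclusion hTH)).codRestrict W' fun t => mem_map_of_mem π (by exact t.2)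
  have hπT : ∀ t : T, ((πT t : W') : Γ') = π ⟨t, hTH t.2⟩ := fun t => rfl
  have hπTs : Function.Surjective πT := by
    rintro ⟨_, ⟨w, hw, rfl⟩⟩
    exact ⟨⟨w, hw⟩, rfl⟩
  set K := πT.ker.map T.subtype
  set Z := ((center W').comap πT).map T.subtype
  have hK : ∀ {w} (hw : w ∈ T), w ∈ K ↔ πT ⟨w, hw⟩ = 1 := fun {w} hw =>
    ⟨fun ⟨t, ht, e⟩ => by rwa [show t = ⟨w, hw⟩ from Subtype.ext e] at ht, fun h => ⟨_, h, rfl⟩⟩
  have hZ : ∀ {w} (hw : w ∈ T), w ∈ Z ↔ πT ⟨w, hw⟩ ∈ center W' := fun {w} hw =>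
    ⟨fun ⟨t, ht, e⟩ => by rwa [show t = ⟨w, hw⟩ from Subtype.ext e] at ht, fun h => ⟨_, h, rfl⟩⟩
  have hKT : K ≤ T := map_subtype_le _
  have hZT : Z ≤ T := map_subtype_le _
  have hconjT : ∀ g w, w ∈ T → g * w * g⁻¹ ∈ T := fun g w hw => (inferInstance : T.Normal).conj_mem w hw g
  have hπconj : ∀ g (hg : g ∈ H) w (hw : w ∈ T), πT ⟨g * w * g⁻¹, hconjT g w hw⟩ =
      (MulAut.conjNormal (π ⟨g, hg⟩) : MulAut W') (πT ⟨w, hw⟩) := fun g hg w hw => Subtype.ext (by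
    rw [MulAut.conjNormal_apply, hπT, hπT, ← map_inv, ← map_mul, ← map_mul]
    rfl)
  have hcenK : ∀ g ∈ H, ∀ c ∈ Z, ⁅g, c⁆ ∈ K := fun g hg c hc => by
    have hcT := hZT hc
    have hmem : g * c * g⁻¹ * c⁻¹ ∈ T := mul_mem (hconjT g c hcT) (inv_mem hcT)
    rw [commutatorElement_def, hK hmem, show (⟨g * c * g⁻¹ * c⁻¹, hmem⟩ : T) =
      ⟨g * c * g⁻¹, hconjT g c hcT⟩ * ⟨c, hcT⟩⁻¹ from rfl, map_mul, map_inv, hπconj g hg c hcT,
      hD.conjNormal_center _ ((hZ hcT).1 hc), mul_inv_cancel]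
  refine ⟨K, Z, ?_, fun w hw hρ => (hK hw).2 (Subtype.ext ?_)⟩
  · refine
      { KZ := fun w hw => (hZ (hKT hw)).2 (by rw [(hK (hKT hw)).1 hw]; exact one_mem _)
        ZT := hZT
        ne := ?_
        normK := ?_
        normZ := ?_
        comm := fun a ha b hb => ?_
        central := hcenK
        nondeg := fun c hc h => (hZ hc).2 (mem_center_iff.2 fun u => ?_)
        fixed := fun w hw hxw => (hZ hw).2 (hE.fixed_center _ ?_)
        top := ?_
        sign := ?_ }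
    · intro hle
      refine hW' (hD.movex.eq_bot_of_commute fun u hu => ?_)
      obtain ⟨⟨t, ht⟩, et⟩ := hπTs ⟨u, hu⟩
      have h1 := congrArg Subtype.val (hD.conjNormal_center (π ⟨x, hxH⟩) ((hZ ht).1 (hle ht)))
      rw [et, MulAut.conjNormal_apply] at h1
      exact mul_inv_eq_iff_eq_mul.1 h1
    · intro g hg
      refine mem_normalizer_fintype fun c hc => (hK (hconjT g c (hKT hc))).2 ?_
      rw [hπconj g hg c (hKT hc), (hK (hKT hc)).1 hc, map_one]
    · intro g hg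
      refine mem_normalizer_fintype fun c hc => (hZ (hconjT g c (hZT hc))).2 ?_
      rw [hπconj g hg c (hZT hc), hD.conjNormal_center _ ((hZ (hZT hc)).1 hc)]
      exact (hZ (hZT hc)).1 hc
    · refine (hZ (mul_mem (hconjT a b hb) (inv_mem hb))).2 ?_
      show πT ⁅(⟨a, ha⟩ : T), ⟨b, hb⟩⁆ ∈ center W'
      rw [map_commutatorElement]
      exact hD.commutator_mem_center _ _
    · obtain ⟨⟨a, ha⟩, rfl⟩ := hπTs u
      have hac : ⁅a, c⁆ ∈ T := mul_mem (hconjT a c hc) (inv_mem hc)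
      have h1 := (hK hac).1 (h a ha)
      rw [show (⟨⁅a, c⁆, hac⟩ : T) = ⁅(⟨a, ha⟩ : T), ⟨c, hc⟩⁆ from Subtype.ext rfl,
        map_commutatorElement, commutatorElement_eq_one_iff_mul_comm] at h1
      exact h1
    · rw [← hπconj x hxH w hw]
      refine congrArg πT (Subtype.ext ?_)
      show x * w * x⁻¹ = w
      rw [hxw, mul_inv_cancel_right]
    · intro Y hZY hYT hxY
      rcases hE.top_irr ((Y.subgroupOf T).map πT)
          (fun u hu => by
            obtain ⟨⟨a, ha⟩, rfl⟩ := hπTs u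
            exact ⟨⟨a, ha⟩, hZY ((hZ ha).2 hu), rfl⟩)
          (by
            rintro _ ⟨⟨a, ha⟩, haY, rfl⟩
            exact ⟨⟨x * a * x⁻¹, hconjT x a ha⟩, (mem_normalizer_iff.1 hxY a).1 haY, hπconj x hxH a ha⟩) with e | e
      · refine Or.inl (le_antisymm (fun a ha => (hZ (hYT ha)).2 ?_) hZY)
        rw [← e]
        exact ⟨⟨a, hYT ha⟩, ha, rfl⟩
      · refine Or.inr (le_antisymm hYT fun a ha => ?_)
        obtain ⟨⟨b, hb⟩, hbY, eb⟩ := (show πT ⟨a, ha⟩ ∈ (Y.subgroupOf T).map πT from e ▸ mem_top _)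
        have h1 : b⁻¹ * a ∈ Z := (hZ (mul_mem (inv_mem hb) ha)).2 (by
          rw [show (⟨b⁻¹ * a, mul_mem (inv_mem hb) ha⟩ : T) = ⟨b, hb⟩⁻¹ * ⟨a, ha⟩ from rfl, map_mul, map_inv,
            eb, inv_mul_cancel]
          exact one_mem _)
        simpa using mul_mem (show b ∈ Y from hbY) (hZY h1)
    · intro δ hδ
      refine (hE.sign (π ⟨δ, hΔH δ hδ⟩) ⟨⟨δ, hΔH δ hδ⟩, hδ, rfl⟩).imp (fun h w hw => ?_) fun h w hw => ?_
      · refine (hZ (mul_mem (hconjT δ w hw) (inv_mem hw))).2 ?_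
        rw [show (⟨δ * w * δ⁻¹ * w⁻¹, mul_mem (hconjT δ w hw) (inv_mem hw)⟩ : T) =
          ⟨δ * w * δ⁻¹, hconjT δ w hw⟩ * ⟨w, hw⟩⁻¹ from rfl, map_mul, map_inv, hπconj δ (hΔH δ hδ) w hw]
        exact h _
      · refine (hZ (mul_mem (hconjT δ w hw) hw)).2 ?_
        rw [show (⟨δ * w * δ⁻¹ * w, mul_mem (hconjT δ w hw) hw⟩ : T) =
          ⟨δ * w * δ⁻¹, hconjT δ w hw⟩ * ⟨w, hw⟩ from rfl, map_mul, hπconj δ (hΔH δ hδ) w hw]
        exact h _
  · refine hinj ?_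
    rw [hπT, hιπ, Subgroup.coe_one, map_one]
    refine Submodule.linearMap_qext _ (LinearMap.ext fun u => ?_)
    show τ _ (Submodule.Quotient.mk u) = Submodule.Quotient.mk u
    rw [hU.rep_mk_eq_self]
    show ρ w (u : V) - (u : V) ∈ U₁
    rw [hρ, Module.End.one_apply, sub_self]
    exact zero_mem _

/-- A commutator of two elements cannot act exceptionally. -/
theorem kill_commutator (hp : p.Prime) (hp3 : 3 < p) (hr : r.Prime) (hr2 : r ≠ 2) (hrp : r ≠ p)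
    (hrK : (r : k) ≠ 0) (hpK : (p : k) ≠ 0) {x d d' : Γ} (hT : IsPGroup r T) (hxp : x ^ p = 1)
    (hz2 : ⁅d, d'⁆ ^ 2 = 1) (hxd : x * d = d * x) (hxd' : x * d' = d' * x)
    (hzd : ⁅d, d'⁆ * d = d * ⁅d, d'⁆) (hzd' : ⁅d, d'⁆ * d' = d' * ⁅d, d'⁆)
    (hmx : Moves x T) (hmz : Moves ⁅d, d'⁆ T)
    (hcent : ∀ w ∈ T, x * w = w * x → d * w = w * d ∧ d' * w = w * d')
    (hfix : ∀ v, ρ x v = v → ρ ⁅d, d'⁆ v = v) : ∀ w ∈ T, ρ w = 1 := by
  intro w₀ hw₀
  by_contra hne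
  haveI := Fact.mk hp
  haveI := Fact.mk hr
  set z := ⁅d, d'⁆ with hz
  have hxz : x * z = z * x := by
    rw [hz, commutatorElement_def]
    exact ((((show Commute x d from hxd).mul_right hxd').mul_right (show Commute x d from hxd).inv_right).mul_right
      (show Commute x d' from hxd').inv_right).eq
  obtain ⟨K, Z, hL, -⟩ := exists_excLayer (ρ := ρ) (Δ := {z}) hp3 hr2 hrp hrK hpK hT hxp
    (by rintro δ rfl; exact hxz) (by rintro δ rfl; exact hz2) hmx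
    (hmz.trans (closure_mono (by simp)))
    (by
      rintro w hw hxw δ rfl
      obtain ⟨h1, h2⟩ := hcent w hw hxw
      rw [hz, commutatorElement_def]
      exact ((((show Commute d w from h1).mul_left h2).mul_left (show Commute d w from h1).inv_left).mul_left
        (show Commute d' w from h2).inv_left).eq)
    (by rintro δ rfl; exact hfix) hw₀ hne
  have hKT : K ≤ T := hL.KZ.trans hL.ZT
  have hH : T ≤ T ⊔ closure (insert x ({z} : Set Γ)) := le_sup_left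
  have hxH : x ∈ T ⊔ closure (insert x ({z} : Set Γ)) := mem_sup_right (subset_closure (Set.mem_insert x _))
  have hconjT : ∀ g w, w ∈ T → g * w * g⁻¹ ∈ T := fun g w hw => (inferInstance : T.Normal).conj_mem w hw g
  -- the kernel is invariant under elements centralising `x` and its fixed points
  have hKinv : ∀ g : Γ, x * g = g * x → (∀ w ∈ T, x * w = w * x → g * w = w * g) →
      ∀ w ∈ K, g * w * g⁻¹ ∈ K := by
    intro g hxg hgc
    set N := K ⊓ K.comap (MulAut.conj g).toMonoidHom with hN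
    have hgx : ∀ a : Γ, x * (g * a * g⁻¹) * x⁻¹ = g * (x * a * x⁻¹) * g⁻¹ := fun a => by
      rw [← mul_assoc, ← mul_assoc, hxg, mul_assoc _ g⁻¹ x⁻¹, ← mul_inv_rev, hxg, mul_inv_rev]
      group
    have hNx : x ∈ normalizer (N : Set Γ) := mem_normalizer_fintype fun a ha => by
      refine ⟨(mem_normalizer_iff.1 (hL.normK x hxH) a).1 ha.1, ?_⟩
      show g * (x * a * x⁻¹) * g⁻¹ ∈ K
      rw [← hgx]
      exact (mem_normalizer_iff.1 (hL.normK x hxH) _).1 ha.2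
    have hNT : ∀ c ∈ T, c ∈ normalizer (N : Set Γ) := fun c hc => mem_normalizer_fintype fun a ha => by
      refine ⟨(mem_normalizer_iff.1 (hL.normK c (hH hc)) a).1 ha.1, ?_⟩
      show g * (c * a * c⁻¹) * g⁻¹ ∈ K
      rw [show g * (c * a * c⁻¹) * g⁻¹ = (g * c * g⁻¹) * (g * a * g⁻¹) * (g * c * g⁻¹)⁻¹ by group]
      exact (mem_normalizer_iff.1 (hL.normK _ (hH (hconjT g c hc))) _).1 ha.2
    have key : ∀ c ∈ K, g * c * g⁻¹ ∈ Z → g * c * g⁻¹ ∈ K := by
      intro c hc hgcZ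
      obtain ⟨n, hn, hcn⟩ := exists_fixed_mul hrp hxp hT (inf_le_left.trans hKT : N ≤ T) hNx
        (hNT c (hKT hc)) ⟨hL.central x hxH c (hL.KZ hc), by
          show g * ⁅x, c⁆ * g⁻¹ ∈ K
          have h2 := hL.central x hxH _ hgcZ
          rw [commutatorElement_def, hgx] at h2
          rwa [show g * ⁅x, c⁆ * g⁻¹ = g * (x * c * x⁻¹) * g⁻¹ * (g * c * g⁻¹)⁻¹ by group]⟩
      have hcn' : c * n ∈ K := mul_mem hc hn.1
      have h3 : g * (c * n) * g⁻¹ ∈ K := by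
        rw [hgc _ (hKT hcn') hcn, mul_inv_cancel_right]; exact hcn'
      have h4 : g * n * g⁻¹ ∈ K := hn.2
      rw [show g * c * g⁻¹ = g * (c * n) * g⁻¹ * (g * n * g⁻¹)⁻¹ by group]
      exact mul_mem h3 (inv_mem h4)
    set Y := K.map (MulAut.conj g).toMonoidHom ⊔ Z
    have hmem : ∀ c ∈ K, g * c * g⁻¹ ∈ Y := fun c hc => mem_sup_left ⟨c, hc, rfl⟩
    rcases hL.top Y le_sup_right (sup_le (by rintro _ ⟨c, hc, rfl⟩; exact hconjT g c (hKT hc)) hL.ZT)
        (by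
          rw [mem_normalizer_iff_map_conj_eq]
          refine Subgroup.eq_of_le_of_card_ge ?_ (card_map_of_injective (MulAut.conj x).injective).ge
          rw [Subgroup.map_sup]
          refine sup_le_sup ?_ (le_of_eq (mem_normalizer_iff_map_conj_eq.1 (hL.normZ x hxH)))
          rintro _ ⟨_, ⟨c, hc, rfl⟩, rfl⟩
          exact ⟨x * c * x⁻¹, (mem_normalizer_iff.1 (hL.normK x hxH) c).1 hc, (hgx c).symm⟩) with e | e
    · exact fun c hc => key c hc (e ▸ hmem c hc)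
    · exfalso
      refine hL.ne fun b hb => hL.nondeg b hb fun a ha => ?_
      -- both lie in `g K g⁻¹ Z`
      have hdec : ∀ u ∈ T, ∃ c ∈ K, ∃ c' ∈ Z, u = g * c * g⁻¹ * c' := by
        intro u hu
        rw [← e] at hu
        obtain ⟨_, ⟨c, hc, rfl⟩, c', hc', h5⟩ := (Coprime.mem_sup_iff_of_le_normalizer (show
          K.map (MulAut.conj g).toMonoidHom ≤ normalizer (Z : Set Γ) by
            rintro _ ⟨c, hc, rfl⟩; exact hL.normZ _ (hH (hconjT g c (hKT hc))))).1 hu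
        exact ⟨c, hc, c', hc', h5.symm⟩
      obtain ⟨c, hc, c', hc', rfl⟩ := hdec a ha
      obtain ⟨e', he', e'', he'', rfl⟩ := hdec b hb
      obtain ⟨S, hS⟩ := hL.commute_K hb
      refine ((hS _).1 (mul_mem ((hS _).2 ⟨hconjT g c (hKT hc), ?_⟩) ((hS c').2 ⟨hL.ZT hc', ?_⟩))).2
      · obtain ⟨S', hS'⟩ := hL.commute_K (hconjT g c (hKT hc))
        rw [← commutatorElement_inv]
        refine inv_mem ((hS' _).1 (mul_mem ((hS' _).2 ⟨hconjT g e' (hKT he'), ?_⟩)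
          ((hS' e'').2 ⟨hL.ZT he'', ?_⟩))).2
        · rw [show ⁅g * e' * g⁻¹, g * c * g⁻¹⁆ = g * ⁅e', c⁆ * g⁻¹ from (conjugate_commutatorElement e' c g).symm]
          refine key _ ?_ ?_
          · rw [commutatorElement_def]
            exact mul_mem (mul_mem (mul_mem he' hc) (inv_mem he')) (inv_mem hc)
          · rw [conjugate_commutatorElement]
            exact hL.comm _ (hconjT g e' (hKT he')) _ (hconjT g c (hKT hc))
        · rw [← commutatorElement_inv]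
          exact inv_mem (hL.central _ (hH (hconjT g c (hKT hc))) e'' he'')
      · rw [← commutatorElement_inv]
        exact inv_mem (hL.central _ (hH hb) c' hc')
  have hZinv : ∀ g : Γ, x * g = g * x → (∀ w ∈ T, x * w = w * x → g * w = w * g) →
      ∀ w ∈ Z, g * w * g⁻¹ ∈ Z := by
    intro g hxg hgc c hc
    refine hL.nondeg _ (hconjT g c (hL.ZT hc)) fun a ha => ?_
    have h1 := hKinv g hxg hgc _ (hL.central (g⁻¹ * a * g) (hH (by simpa using hconjT g⁻¹ a ha)) c hc)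
    rw [show ⁅a, g * c * g⁻¹⁆ = g * ⁅g⁻¹ * a * g, c⁆ * g⁻¹ by group]
    exact h1
  -- on `T / Z` they are endomorphisms commuting with `x`
  haveI : (Z.subgroupOf T).Normal := normal_subgroupOf_of_le_normalizer fun t ht => hL.normZ t (hH ht)
  let P := ↥T ⧸ Z.subgroupOf T
  let q : ↥T →* P := QuotientGroup.mk' _
  have hq1 : ∀ t : ↥T, q t = 1 ↔ (t : Γ) ∈ Z := fun t => QuotientGroup.eq_one_iff t
  letI : CommGroup P :=
    { (inferInstance : Group P) with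
      mul_comm := fun a b => by
        obtain ⟨a, rfl⟩ := QuotientGroup.mk'_surjective _ a
        obtain ⟨b, rfl⟩ := QuotientGroup.mk'_surjective _ b
        show q a * q b = q b * q a
        rw [← commutatorElement_eq_one_iff_mul_comm, ← map_commutatorElement, hq1]
        exact hL.comm _ a.2 _ b.2 }
  let op : ∀ g : Γ, (∀ w ∈ Z, g * w * g⁻¹ ∈ Z) → AddMonoid.End (Additive P) := fun g hg =>
    MonoidHom.toAdditive (QuotientGroup.map _ _ (MulAut.conjNormal g : MulAut T).toMonoidHom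
      (fun t ht => by
        show ((MulAut.conjNormal g : MulAut T) t : Γ) ∈ Z
        rw [MulAut.conjNormal_apply]; exact hg _ ht))
  have hop : ∀ g hg (t : ↥T), op g hg (Additive.ofMul (q t)) =
      Additive.ofMul (q ((MulAut.conjNormal g : MulAut T) t)) := fun g hg t => rfl
  have hxZ : ∀ w ∈ Z, x * w * x⁻¹ ∈ Z := fun w hw => (mem_normalizer_iff.1 (hL.normZ x hxH) w).1 hw
  have hdZ := hZinv d hxd fun w hw hxw => (hcent w hw hxw).1
  have hdZ' := hZinv d' hxd' fun w hw hxw => (hcent w hw hxw).2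
  have hall : ∀ v : Additive P, ∃ t : ↥T, Additive.ofMul (q t) = v := fun v => by
    obtain ⟨t, ht⟩ := QuotientGroup.mk'_surjective _ v.toMul
    exact ⟨t, congrArg Additive.ofMul ht⟩
  have hcomm : ∀ g hg, x * g = g * x → Commute (op g hg) (op x hxZ) := fun g hg hxg => by
    refine AddMonoidHom.ext fun v => ?_
    obtain ⟨t, rfl⟩ := hall v
    show op g hg (op x hxZ _) = op x hxZ (op g hg _)
    rw [hop x hxZ, hop g hg, hop g hg, hop x hxZ, ← MulAut.mul_apply, ← MulAut.mul_apply, ← map_mul, ← map_mul,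
      hxg]
  have hirr : ∀ S : AddSubgroup (Additive P), (∀ a ∈ S, op x hxZ a ∈ S) → S = ⊥ ∨ S = ⊤ := by
    intro S hS
    set Y : Subgroup Γ := ((AddSubgroup.toSubgroup S).comap q).map T.subtype
    have hY : ∀ t : ↥T, (t : Γ) ∈ Y ↔ Additive.ofMul (q t) ∈ S := fun t =>
      ⟨fun ⟨t', ht', e⟩ => by rwa [show t' = t from Subtype.ext e] at ht', fun h => ⟨t, h, rfl⟩⟩
    rcases hL.top Y
        (fun c hc => (hY ⟨c, hL.ZT hc⟩).2 (by rw [(hq1 _).2 hc, ofMul_one]; exact zero_mem S))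
        (map_subtype_le _)
        (mem_normalizer_fintype (by
          rintro _ ⟨t, ht, rfl⟩
          exact (hY ((MulAut.conjNormal x : MulAut T) t)).2 (hop x hxZ t ▸ hS _ ht))) with e | e
    · refine Or.inl ((AddSubgroup.eq_bot_iff_forall S).2 fun v hv => ?_)
      obtain ⟨t, rfl⟩ := hall v
      rw [(hq1 t).2 (e ▸ (hY t).2 hv), ofMul_one]
    · refine Or.inr ((AddSubgroup.eq_top_iff' S).2 fun v => ?_)
      obtain ⟨t, rfl⟩ := hall v
      exact (hY t).1 (le_of_eq e.symm t.2)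
  have hplus : ∀ w ∈ T, z * w * z⁻¹ * w⁻¹ ∈ Z := by
    intro w hw
    have hmem : d⁻¹ * (d'⁻¹ * w * d') * d ∈ T := (inferInstance : T.Normal).conj_mem' _
      ((inferInstance : T.Normal).conj_mem' w hw d') d
    have h1 := commute_of_irreducible _ (op d hdZ) (op d' hdZ') hirr (hcomm d hdZ hxd) (hcomm d' hdZ' hxd')
      (Additive.ofMul (q ⟨_, hmem⟩))
    rw [hop d' hdZ', hop d hdZ, hop d hdZ, hop d' hdZ', ← MulAut.mul_apply, ← MulAut.mul_apply, ← map_mul, ← map_mul,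
      Additive.ofMul.injective.eq_iff, ← div_eq_one, ← map_div, hq1] at h1
    have e1 : (((MulAut.conjNormal (d * d') : MulAut T) ⟨_, hmem⟩ /
        (MulAut.conjNormal (d' * d) : MulAut T) ⟨_, hmem⟩ : ↥T) : Γ)
        = z * w * z⁻¹ * w⁻¹ := by
      rw [div_eq_mul_inv, Subgroup.coe_mul, Subgroup.coe_inv, MulAut.conjNormal_apply, MulAut.conjNormal_apply,
        hz, commutatorElement_def]
      group
    rwa [e1] at h1
  rcases hL.sign z rfl with h | h
  · refine hL.ne ((hmz.trans ((closure_le _).2 ?_)))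
    rintro _ ⟨w, hw, rfl⟩
    exact h w hw
  · exact hL.not_plus_minus hr2 hT hplus h

/-- A commutator of an involution with an element of odd order, in an abelian orbit, cannot act exceptionally. -/
theorem kill_orbit (hp : p.Prime) (hp3 : 3 < p) (hr : r.Prime) (hr2 : r ≠ 2) (hrp : r ≠ p)
    (hrK : (r : k) ≠ 0) (hpK : (p : k) ≠ 0) {x d y : Γ} {n : ℕ} (hT : IsPGroup r T) (hxp : x ^ p = 1)
    (hd2 : d ^ 2 = 1) (hxd : x * d = d * x) (hxy : x * y = y * x) (hn : Odd n) (hyn : y ^ n = 1)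
    (hcomm : ∀ i : ℕ, d * (y ^ i * d * (y ^ i)⁻¹) = y ^ i * d * (y ^ i)⁻¹ * d)
    (hmx : Moves x T)
    (hmz : T ≤ closure (⋃ i : ℕ, (fun w => ⁅y ^ i * ⁅d, y⁆ * (y ^ i)⁻¹, w⁆) '' (T : Set Γ)))
    (hcent : ∀ w ∈ T, x * w = w * x → ∀ i : ℕ, y ^ i * d * (y ^ i)⁻¹ * w = w * (y ^ i * d * (y ^ i)⁻¹))
    (hy2 : ∀ w ∈ T, x * w = w * x → ρ ⁅y, ⁅y, w⁆⁆ = 1)
    (hfix : ∀ i : ℕ, ∀ v, ρ x v = v → ρ (y ^ i * d * (y ^ i)⁻¹) v = v) : ∀ w ∈ T, ρ w = 1 := by
  intro w₀ hw₀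
  by_contra hne
  haveI := Fact.mk hp
  haveI := Fact.mk hr
  let dd : ℕ → Γ := fun i => y ^ i * d * (y ^ i)⁻¹
  let zz : ℕ → Γ := fun i => y ^ i * ⁅d, y⁆ * (y ^ i)⁻¹
  set Δ : Set Γ := Set.range dd
  have hxyi : ∀ i : ℕ, Commute x (y ^ i) := fun i => (show Commute x y from hxy).pow_right i
  have hdd2 : ∀ i, dd i * dd i = 1 := fun i => by
    show y ^ i * d * (y ^ i)⁻¹ * (y ^ i * d * (y ^ i)⁻¹) = 1
    rw [← pow_two, conj_pow, hd2, mul_one, mul_inv_cancel]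
  have hzz : ∀ i, zz i = dd i * dd (i + 1) := fun i => by
    have hdinv : d⁻¹ = d := inv_eq_of_mul_eq_one_left (by rw [← pow_two, hd2])
    show y ^ i * ⁅d, y⁆ * (y ^ i)⁻¹ = y ^ i * d * (y ^ i)⁻¹ * (y ^ (i + 1) * d * (y ^ (i + 1))⁻¹)
    rw [commutatorElement_def, hdinv, pow_succ, mul_inv_rev]
    simp [mul_assoc]
  have hnb : ∀ i, dd i * dd (i + 1) = dd (i + 1) * dd i := fun i => by
    have h1 := congrArg (fun g => y ^ i * g * (y ^ i)⁻¹) (hcomm 1)
    simp only [dd, pow_one, pow_succ, mul_inv_rev] at h1 ⊢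
    simpa [mul_assoc] using h1
  have hmD : T ≤ closure (⋃ δ ∈ Δ, (fun w => ⁅δ, w⁆) '' (T : Set Γ)) := by
    refine hmz.trans ((closure_le _).2 ?_)
    intro g hg
    simp only [Set.mem_iUnion] at hg
    obtain ⟨i, w, hw, rfl⟩ := hg
    show ⁅zz i, w⁆ ∈ Subgroup.closure _
    have hc : dd i * dd (i + 1) * (dd i)⁻¹ = dd (i + 1) := by rw [hnb, mul_inv_cancel_right]
    rw [hzz, commutatorElement_mul_left_eq_conj_mul, conjugate_commutatorElement, hc]
    exact mul_mem (subset_closure (Set.mem_biUnion ⟨i + 1, rfl⟩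
        ⟨_, (inferInstance : T.Normal).conj_mem w hw _, rfl⟩))
      (subset_closure (Set.mem_biUnion ⟨i, rfl⟩ ⟨w, hw, rfl⟩))
  obtain ⟨K, Z, hL, hρK⟩ := exists_excLayer (ρ := ρ) (Δ := Δ) hp3 hr2 hrp hrK hpK hT hxp
    (by
      rintro _ ⟨i, rfl⟩
      exact (((hxyi i).mul_right hxd).mul_right (hxyi i).inv_right).eq)
    (by rintro _ ⟨i, rfl⟩; rw [pow_two]; exact hdd2 i) hmx hmD
    (by rintro w hw hxw _ ⟨i, rfl⟩; exact hcent w hw hxw i)
    (by rintro _ ⟨i, rfl⟩; exact hfix i) hw₀ hne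
  set H := T ⊔ closure (insert x Δ)
  have hTH : T ≤ H := le_sup_left
  have hxH : x ∈ H := mem_sup_right (subset_closure (Set.mem_insert x Δ))
  have hddH : ∀ i, dd i ∈ H := fun i => mem_sup_right (subset_closure (Set.mem_insert_of_mem x ⟨i, rfl⟩))
  have hconjT : ∀ g w, w ∈ T → g * w * g⁻¹ ∈ T := fun g w hw => (inferInstance : T.Normal).conj_mem w hw g
  have hswap : ∀ a b, a ∈ T → a * b ∈ Z → b * a ∈ Z := fun a b ha hab => by
    have h1 := (mem_normalizer_iff''.1 (hL.normZ a (hTH ha)) _).1 hab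
    simpa [mul_assoc] using h1
  let Plus : Γ → Prop := fun g => ∀ w ∈ T, g * w * g⁻¹ * w⁻¹ ∈ Z
  let Minus : Γ → Prop := fun g => ∀ w ∈ T, g * w * g⁻¹ * w ∈ Z
  have hexcl : ∀ g, Plus g → Minus g → False := fun g h1 h2 => hL.not_plus_minus hr2 hT h1 h2
  have hnormdd : ∀ i c, c ∈ Z → dd i * c * (dd i)⁻¹ ∈ Z := fun i c hc =>
    (mem_normalizer_iff.1 (hL.normZ _ (hddH i)) c).1 hc
  -- the sign of `zz i`
  have hsame : ∀ i, (Plus (dd i) ∧ Plus (dd (i + 1))) ∨ (Minus (dd i) ∧ Minus (dd (i + 1))) → Plus (zz i) := by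
    rintro i (⟨ha, hb⟩ | ⟨ha, hb⟩) w hw
    · have h1 := mul_mem (hnormdd i _ (hb w hw)) (ha w hw)
      simpa [hzz, mul_assoc] using h1
    · have hA : dd i * w * (dd i)⁻¹ ∈ T := hconjT _ _ hw
      have h1 := mul_mem (hnormdd i _ (hb w hw)) (inv_mem (hswap _ _ hA (ha w hw)))
      simpa [hzz, mul_assoc] using h1
  have hdiff : ∀ i, (Plus (dd i) ∧ Minus (dd (i + 1))) ∨ (Minus (dd i) ∧ Plus (dd (i + 1))) → Minus (zz i) := by
    rintro i (⟨ha, hb⟩ | ⟨ha, hb⟩) w hw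
    · have hA : dd i * w * (dd i)⁻¹ ∈ T := hconjT _ _ hw
      have h1 := mul_mem (hnormdd i _ (hb w hw)) (inv_mem (hswap _ _ hA (ha w hw)))
      simpa [hzz, mul_assoc] using h1
    · have h1 := mul_mem (hnormdd i _ (hb w hw)) (ha w hw)
      simpa [hzz, mul_assoc] using h1
  have hzsign : ∀ i, Plus (zz i) ∨ Minus (zz i) := fun i => by
    rcases hL.sign _ ⟨i, rfl⟩ with a | a <;> rcases hL.sign _ ⟨i + 1, rfl⟩ with b | b
    · exact Or.inl (hsame i (Or.inl ⟨a, b⟩))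
    · exact Or.inr (hdiff i (Or.inl ⟨a, b⟩))
    · exact Or.inr (hdiff i (Or.inr ⟨a, b⟩))
    · exact Or.inl (hsame i (Or.inr ⟨a, b⟩))
  have hper : ∀ i, zz (i + n) = zz i := fun i => by
    show y ^ (i + n) * ⁅d, y⁆ * (y ^ (i + n))⁻¹ = _
    rw [pow_add, hyn, mul_one]
  have hnpos : 1 ≤ n := hn.pos
  -- some sign is `-1`, not all are
  obtain ⟨i₀, hi₀⟩ : ∃ i, Minus (zz i) := by
    by_contra hcon
    push Not at hcon
    refine hL.ne (hmz.trans ((closure_le _).2 ?_))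
    intro g hg
    simp only [Set.mem_iUnion] at hg
    obtain ⟨i, w, hw, rfl⟩ := hg
    exact (hzsign i).resolve_right (hcon i) w hw
  obtain ⟨a₀, ha₀⟩ : ∃ a, Plus (zz a) := by
    by_contra hcon
    push Not at hcon
    have hflip : ∀ i, Plus (dd i) ↔ ¬ Plus (dd (i + 1)) := fun i => by
      constructor
      · exact fun h h' => hcon i (hsame i (Or.inl ⟨h, h'⟩))
      · intro h'
        by_contra h
        exact hcon i (hsame i (Or.inr ⟨(hL.sign _ ⟨i, rfl⟩).resolve_left h,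
          (hL.sign _ ⟨i + 1, rfl⟩).resolve_left h'⟩))
    have key : ∀ P : ℕ → Prop, (∀ i, P i ↔ ¬ P (i + 1)) → P n ≠ P 0 := by
      intro P hP e
      have hpar : ∀ j, P (2 * j) ↔ P 0 := by
        intro j
        induction j with
        | zero => rfl
        | succ j ih => rw [← ih, hP (2 * j), hP (2 * j + 1), not_not]; rfl
      obtain ⟨j, rfl⟩ := hn
      have h1 := hP (2 * j)
      rw [hpar j, e] at h1
      exact iff_not_self h1
    refine key (fun i => Plus (dd i)) hflip ?_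
    rw [show dd n = dd 0 from by simp [dd, hyn]]
  obtain ⟨u₀, hu₀, v₀, hv₀, huv⟩ := hL.exists_commutator_notMem
  -- the test element
  have hzconj : ∀ j b, y ^ j * zz b * (y ^ j)⁻¹ = zz (j + b) := fun j b => by
    simp [zz, pow_add, mul_assoc]
  have hN : ∀ i b, Minus (zz i) → Minus (zz (i + b)) → ∀ j₁ j₂,
      (Plus (zz j₁) ∨ Plus (zz (j₁ + b))) → (Plus (zz j₂) ∨ Plus (zz (j₂ + b))) →
      j₁ + 1 = j₂ ∨ j₁ + 2 = j₂ → False := by
    intro i b hi hib j₁ j₂ hj₁ hj₂ hj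
    set u := (y ^ i)⁻¹ * u₀ * y ^ i
    set v := (y ^ i)⁻¹ * v₀ * y ^ i
    have hu : u ∈ T := (inferInstance : T.Normal).conj_mem' u₀ hu₀ _
    have hv : v ∈ T := (inferInstance : T.Normal).conj_mem' v₀ hv₀ _
    have hmemT : ∀ w g, w ∈ T → ⁅w, g⁆ ∈ T := fun w g hw => by
      rw [commutatorElement_def, mul_assoc, mul_assoc]
      refine mul_mem hw ?_
      simpa [mul_assoc] using hconjT g w⁻¹ (inv_mem hw)
    set c := ⁅⁅u, zz 0⁆, ⁅v, zz b⁆⁆ with hc
    have hcT : c ∈ T := hmemT _ _ (hmemT _ _ hu)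
    have hcj : ∀ j, y ^ j * c * (y ^ j)⁻¹ =
        ⁅⁅y ^ j * u * (y ^ j)⁻¹, zz j⁆, ⁅y ^ j * v * (y ^ j)⁻¹, zz (j + b)⁆⁆ := fun j => by
      rw [hc, conjugate_commutatorElement, conjugate_commutatorElement, conjugate_commutatorElement, hzconj,
        hzconj, Nat.add_zero]
    have hplusZ : ∀ w j, w ∈ T → Plus (zz j) → ⁅w, zz j⁆ ∈ Z := fun w j hw hP => by
      rw [← commutatorElement_inv]
      exact inv_mem (hP w hw)
    have hzero : ∀ j, Plus (zz j) ∨ Plus (zz (j + b)) → y ^ j * c * (y ^ j)⁻¹ ∈ K := by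
      intro j hP
      rw [hcj]
      have hTu := hmemT _ (zz j) (hconjT (y ^ j) u hu)
      have hTv := hmemT _ (zz (j + b)) (hconjT (y ^ j) v hv)
      rcases hP with hP | hP
      · rw [← commutatorElement_inv]
        exact inv_mem (hL.central _ (hTH hTv) _ (hplusZ _ j (hconjT _ u hu) hP))
      · exact hL.central _ (hTH hTu) _ (hplusZ _ _ (hconjT _ v hv) hP)
    have hone : y ^ i * c * (y ^ i)⁻¹ ∉ K := by
      intro hK
      rw [hcj] at hK
      have eu : y ^ i * u * (y ^ i)⁻¹ = u₀ := by simp [u, mul_assoc]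
      have ev : y ^ i * v * (y ^ i)⁻¹ = v₀ := by simp [v, mul_assoc]
      rw [eu, ev] at hK
      have hsq : ∀ w j, w ∈ T → Minus (zz j) → (w * w)⁻¹ * ⁅w, zz j⁆ ∈ Z := fun w j hw hM => by
        have h2 := inv_mem (hM w hw)
        simpa [commutatorElement_def, mul_assoc] using h2
      exact huv (hL.commutator_sq hr2 hT hu₀ hv₀ (hmemT _ _ hv₀) (hsq _ _ hu₀ hi) (hmemT _ _ hu₀)
        (hsq _ _ hv₀ hib) hK)
    let N : Subgroup Γ := T ⊓ ⨅ j : ℕ, K.comap (MulAut.conj (y ^ j)).toMonoidHom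
    have hNmem : ∀ w, w ∈ N ↔ w ∈ T ∧ ∀ j : ℕ, y ^ j * w * (y ^ j)⁻¹ ∈ K := fun w => by
      rw [Subgroup.mem_inf, Subgroup.mem_iInf]; rfl
    have hxj : ∀ j w, y ^ j * (x * w * x⁻¹) * (y ^ j)⁻¹ = x * (y ^ j * w * (y ^ j)⁻¹) * x⁻¹ := fun j w => by
      simp only [← mul_assoc, ← (hxyi j).eq]
      simp only [mul_assoc, ← (hxyi j).inv_inv.eq]
    obtain ⟨m, hm, hcm⟩ := exists_fixed_mul hrp hxp hT (inf_le_left : N ≤ T) (c := c)
      (mem_normalizer_fintype fun w hw => by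
        obtain ⟨hwT, hwK⟩ := (hNmem w).1 hw
        exact (hNmem _).2 ⟨hconjT x w hwT, fun j => hxj j w ▸
          (mem_normalizer_iff.1 (hL.normK x hxH) _).1 (hwK j)⟩)
      (mem_normalizer_fintype fun w hw => by
        obtain ⟨hwT, hwK⟩ := (hNmem w).1 hw
        refine (hNmem _).2 ⟨hconjT c w hwT, fun j => ?_⟩
        rw [show y ^ j * (c * w * c⁻¹) * (y ^ j)⁻¹ =
          (y ^ j * c * (y ^ j)⁻¹) * (y ^ j * w * (y ^ j)⁻¹) * (y ^ j * c * (y ^ j)⁻¹)⁻¹ by group]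
        exact (mem_normalizer_iff.1 (hL.normK _ (hTH (hconjT _ c hcT))) _).1 (hwK j))
      ((hNmem _).2 ⟨by
        rw [commutatorElement_def]; exact mul_mem (hconjT x c hcT) (inv_mem hcT), fun j => by
        rw [conjugate_commutatorElement, show y ^ j * x * (y ^ j)⁻¹ = x by
          rw [← (hxyi j).eq, mul_inv_cancel_right]]
        exact hL.central x hxH _ (hcj j ▸ hL.comm _ (hmemT _ _ (hconjT _ u hu)) _ (hmemT _ _ (hconjT _ v hv)))⟩)
    set t := c * m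
    obtain ⟨hmT, hmK⟩ := (hNmem m).1 hm
    have htT : t ∈ T := mul_mem hcT hmT
    have htc : ∀ j, y ^ j * t * (y ^ j)⁻¹ ∈ K ↔ y ^ j * c * (y ^ j)⁻¹ ∈ K := fun j => by
      rw [show y ^ j * t * (y ^ j)⁻¹ = y ^ j * c * (y ^ j)⁻¹ * (y ^ j * m * (y ^ j)⁻¹) by
        simp [t, mul_assoc]]
      exact Subgroup.mul_mem_cancel_right _ (hmK j)
    set t' := ⁅y, t⁆ with ht'
    have ht'T : t' ∈ T := mul_mem (hconjT y t htT) (inv_mem htT)
    have hρj : ∀ j : ℕ, ρ (y ^ j * t * (y ^ j)⁻¹) = ρ (t' ^ j * t) := by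
      have hyt' : ρ (y * t' * y⁻¹) = ρ t' := by
        have h1 := hy2 t htT hcm
        rw [← ht', commutatorElement_def] at h1
        have h2 := congrArg (· * ρ t') h1
        simpa [← map_mul, mul_assoc] using h2
      intro j
      induction j with
      | zero => simp
      | succ j ih =>
        have hpowj : ∀ l : ℕ, ρ (y * t' ^ l * y⁻¹) = ρ (t' ^ l) := fun l => by
          rw [← conj_pow, map_pow, hyt', map_pow]
        rw [show y ^ (j + 1) * t * (y ^ (j + 1))⁻¹ = y * (y ^ j * t * (y ^ j)⁻¹) * y⁻¹ by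
          rw [pow_succ']; group, map_mul, map_mul, ih, ← map_mul, ← map_mul,
          show y * (t' ^ j * t) * y⁻¹ = (y * t' ^ j * y⁻¹) * (t' * t) by rw [ht']; group, map_mul, hpowj,
          ← map_mul, ← mul_assoc, ← pow_succ]
    have hiffK : ∀ j, y ^ j * t * (y ^ j)⁻¹ ∈ K ↔ t' ^ j * t ∈ K := by
      intro j
      have hmemT' : t' ^ j * t ∈ T := mul_mem (pow_mem ht'T j) htT
      have hd : (y ^ j * t * (y ^ j)⁻¹) * (t' ^ j * t)⁻¹ ∈ K := by
        refine hρK _ (mul_mem (hconjT _ t htT) (inv_mem hmemT')) ?_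
        rw [map_mul, hρj, ← map_mul, mul_inv_cancel, map_one]
      constructor
      · intro h
        simpa [mul_assoc] using mul_mem (inv_mem hd) h
      · intro h
        simpa [mul_assoc] using mul_mem hd h
    have z₁ := (hiffK j₁).1 ((htc j₁).2 (hzero j₁ hj₁))
    have z₂ := (hiffK j₂).1 ((htc j₂).2 (hzero j₂ hj₂))
    have ht'K : t' ∈ K := by
      have h1 := mul_mem z₂ (inv_mem z₁)
      rcases hj with rfl | rfl
      · simpa [pow_succ', mul_assoc] using h1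
      · have h2 : t' ^ 2 ∈ K := by simpa [add_comm j₁, pow_add, mul_assoc] using h1
        obtain ⟨e, he⟩ := hT ⟨t', ht'T⟩
        have h4 : t' ∈ zpowers (t' ^ 2) := by
          rw [mem_zpowers_pow_iff]
          exact (Nat.Coprime.coprime_dvd_right (orderOf_dvd_of_pow_eq_one (congrArg Subtype.val he))
            (((Nat.coprime_primes Nat.prime_two hr).2 hr2.symm).pow_right e))
        exact zpowers_le.2 h2 h4
    have htK : t ∈ K := by simpa using mul_mem (inv_mem (pow_mem ht'K j₁)) z₁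
    exact hone ((htc i).1 ((hiffK i).2 (mul_mem (pow_mem ht'K i) htK)))
  by_cases hcons : ∃ i, Minus (zz i) ∧ Minus (zz (i + 1))
  · obtain ⟨i, hi, hi1⟩ := hcons
    obtain ⟨a, ha⟩ : ∃ a, Plus (zz (a + 1)) := ⟨a₀ + n - 1, by
      rw [show a₀ + n - 1 + 1 = a₀ + n by omega, hper]; exact ha₀⟩
    exact hN i 1 hi hi1 a (a + 1) (Or.inr ha) (Or.inl ha) (Or.inl rfl)
  · push Not at hcons
    obtain ⟨i, hi⟩ : ∃ i, Minus (zz (i + 1)) := ⟨i₀ + n - 1, by
      rw [show i₀ + n - 1 + 1 = i₀ + n by omega, hper]; exact hi₀⟩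
    exact hN (i + 1) 0 hi hi i (i + 2) (Or.inl ((hzsign i).resolve_right fun h => hcons i h hi))
      (Or.inl ((hzsign (i + 2)).resolve_right fun h => hcons (i + 1) hi h)) (Or.inr rfl)

end Cfsg.Agent.TwoGenSolvable
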