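import Mathlib
import Cfsg.Agent.Lib.TwoGenSolvable.Pair
import Cfsg.Agent.Lib.TwoGenSolvable.SectAux
import Cfsg.Agent.Lib.TwoGenSolvable.LBase

/-!
# The image of a kill section over the algebraic closure

From a `KillSect` and a family `zs` of elements like `z`, the subgroup `killN` acts on `killM / L`; in the
image the `r`-group coming from `killT` is moved by `x` and by the family.
-/

set_option autoImplicit false
set_option linter.style.haveILetI false

namespace Cfsg.Agent.TwoGenSolvable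

open Subgroup
open scoped commutatorElement

universe u

/-! ### In the image group -/

section Image

variable {Γ : Type*} [Group Γ]

/-- An element commuting with `g` permutes the commutators of `g` with a normal subgroup. -/
theorem conj_mem_closure_commutator {W : Subgroup Γ} [W.Normal] {g a y : Γ} (hga : g * a = a * g)
    (hy : y ∈ closure ((fun w => ⁅g, w⁆) '' (W : Set Γ))) :
    a * y * a⁻¹ ∈ closure ((fun w => ⁅g, w⁆) '' (W : Set Γ)) := by
  refine (map_le_iff_le_comap (f := (MulAut.conj a).toMonoidHom)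
    (H := closure ((fun w => ⁅g, w⁆) '' (W : Set Γ)))).1 ?_ hy
  rw [MonoidHom.map_closure]
  refine closure_mono ?_
  rintro _ ⟨_, ⟨w, hw, rfl⟩, rfl⟩
  refine ⟨a * w * a⁻¹, (inferInstance : W.Normal).conj_mem w hw a, ?_⟩
  show ⁅g, a * w * a⁻¹⁆ = a * ⁅g, w⁆ * a⁻¹
  rw [conjugate_commutatorElement, ← hga, mul_inv_cancel_right]

/-- The commutator of a normal subgroup with a cyclic group is generated by commutators with the generator. -/
theorem commutator_zpowers_le_closure [Finite Γ] {W : Subgroup Γ} [W.Normal] (g : Γ) :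
    ⁅W, zpowers g⁆ ≤ closure ((fun w => ⁅g, w⁆) '' (W : Set Γ)) := by
  refine commutator_le.2 fun w hw c hc => ?_
  obtain ⟨n, rfl⟩ := (isOfFinOrder_of_finite g).mem_powers_iff_mem_zpowers.mpr hc
  clear hc
  show ⁅w, g ^ n⁆ ∈ _
  rw [← commutatorElement_inv]
  refine inv_mem ?_
  revert w
  show ∀ w ∈ W, ⁅g ^ n, w⁆ ∈ _
  induction n with
  | zero => intro w _; simp
  | succ n ih =>
    intro w hw
    rw [pow_succ', commutatorElement_mul_left_eq_conj_mul]
    exact mul_mem (conj_mem_closure_commutator rfl (ih w hw)) (subset_closure ⟨w, hw, rfl⟩)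

/-- A subgroup generated by commutators with elements centralising the fixed points of `x` is moved by `x`. -/
theorem moves_of_commute_fixed [Finite Γ] {p r : ℕ} [Fact p.Prime] [Fact r.Prime] (hrp : r ≠ p)
    {W : Subgroup Γ} [W.Normal] (hW : IsPGroup r W) {x : Γ} (hxp : x ^ p = 1) {zz : ℕ → Γ}
    (hxz : ∀ i, x * zz i = zz i * x) (hgen : W ≤ closure (⋃ i, (fun w => ⁅zz i, w⁆) '' (W : Set Γ)))
    (hc : ∀ w ∈ W, x * w = w * x → ∀ i, zz i * w = w * zz i) : Moves x W := by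
  refine hgen.trans ((closure_le _).2 ?_)
  intro g hg
  simp only [Set.mem_iUnion] at hg
  obtain ⟨i, w, hw, rfl⟩ := hg
  have hcop : (Nat.card (zpowers x)).Coprime (Nat.card W) := by
    obtain ⟨e, he⟩ := hW.exists_card_eq
    rw [Nat.card_zpowers, he]
    refine Nat.Coprime.coprime_dvd_left (orderOf_dvd_of_pow_eq_one hxp) ?_
    exact ((Nat.coprime_primes Fact.out Fact.out).2 hrp.symm).pow_right e
  obtain ⟨c, hcc, m, hm, rfl⟩ := Coprime.exists_centralizer_mul_commutator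
    (A := zpowers x) (K := W) (by rw [normalizer_eq_top]; exact le_top) hcop
    (Or.inl (Group.isSolvable_of_comm fun a b => mul_comm' a b)) hw
  have hxc : x * c = c * x := mem_centralizer_iff.1 hcc.2 x (mem_zpowers x)
  have hm' := commutator_zpowers_le_closure x hm
  show ⁅zz i, c * m⁆ ∈ Subgroup.closure _
  rw [show ⁅zz i, c * m⁆ = ⁅zz i, c⁆ * (c * ⁅zz i, m⁆ * c⁻¹) by simp [commutatorElement_def, mul_assoc],
    commutatorElement_eq_one_iff_mul_comm.2 (hc c hcc.1 hxc i), one_mul]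
  refine conj_mem_closure_commutator hxc ?_
  rw [commutatorElement_def]
  exact mul_mem (conj_mem_closure_commutator (hxz i) hm') (inv_mem hm')

/-- A coset of a kernel fixed by `x` has a fixed element. -/
theorem exists_fixed_preimage {X : Type*} [Group X] [Finite X] (π : X →* Γ) {x : X} {Y : Subgroup X}
    (hcop : (orderOf x).Coprime (Nat.card Y)) (hxY : x ∈ normalizer (Y : Set X)) {t : X} (ht : t ∈ Y)
    (h : π x * π t = π t * π x) : ∃ c ∈ Y, π c = π t ∧ x * c = c * x := by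
  haveI : π.ker.Normal := π.normal_ker
  obtain ⟨n, hn, hc⟩ := Coprime.exists_mul_mem_centralizer (A := zpowers x) (N := Y ⊓ π.ker) (k := t)
    (Coprime.le_normalizer_inf_of_le (zpowers_le.2 hxY) (by rw [normalizer_eq_top]; exact le_top))
    (by rw [Nat.card_zpowers]; exact hcop.coprime_dvd_right (card_dvd_of_le inf_le_left))
    (Or.inl (Group.isSolvable_of_comm fun a b => mul_comm' a b))
    (fun a ha => by
      refine Subgroup.mem_inf.2 ⟨?_, MonoidHom.mem_ker.2 ?_⟩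
      · rw [mul_assoc, mul_assoc, ← mul_assoc a]
        exact mul_mem (inv_mem ht) ((mem_normalizer_iff.1 (zpowers_le.2 hxY ha) t).1 ht)
      · obtain ⟨j, rfl⟩ := ha
        rw [map_mul, map_mul, map_mul, map_inv, map_inv, map_zpow, mul_assoc (π t)⁻¹,
          ((show Commute (π x) (π t) from h).zpow_left j).eq]
        group)
  exact ⟨t * n, mul_mem ht hn.1, by rw [map_mul, MonoidHom.mem_ker.1 hn.2, mul_one],
    mem_centralizer_iff.1 hc x (mem_zpowers x)⟩

end Image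

variable {G : Type u} [Group G] [Finite G] {p q r s : ℕ} {x z : G} {H T₀ M L : Subgroup G}

theorem mem_normalizer_iSup {ι : Sort*} {g : G} {Y : ι → Subgroup G}
    (h : ∀ i, (Y i).map (MulAut.conj g : G →* G) ≤ ⨆ j, Y j) :
    g ∈ normalizer ((⨆ j, Y j : Subgroup G) : Set G) := by
  refine mem_normalizer_of_conj_mem fun y hy => ?_
  have h1 : (⨆ j, Y j).map (MulAut.conj g : G →* G) ≤ ⨆ j, Y j := by
    rw [Subgroup.map_iSup]
    exact iSup_le h
  exact h1 ⟨y, hy, rfl⟩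

omit [Finite G] in
/-- The conjugate of `z` by an element of `C(x)` is an element like `z`. -/
theorem QCtx.conj_z (h : QCtx p q x z) (hqp : q ≠ p) {c : G} (hc : c ∈ centralizer ({x} : Set G)) :
    QCtx p q x (c * z * c⁻¹) := by
  have hn : c ∈ normalizer (Cfsg.pCoreOf q (centralizer ({x} : Set G)) : Set G) :=
    PCore.le_normalizer_pCoreOf _ hc
  refine ⟨h.toXCtx, h.qprime, ?_, (mem_normalizer_iff.1 hn z).1 h.z_mem, fun d hd => ?_,
    fun e => absurd e hqp⟩
  · rw [show c * z * c⁻¹ = MulAut.conj c z from rfl, MulEquiv.orderOf_eq]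
    exact h.order_z
  · have h1 := congrArg (fun g => c * g * c⁻¹) (h.z_central _ ((mem_normalizer_iff''.1 hn d).1 hd))
    simpa [mul_assoc] using h1

/-! ### The subgroups -/

/-- The subgroup generated by the parts of `T₀` moved by the family `zs`. -/
def killT (T₀ : Subgroup G) (zs : ℕ → G) : Subgroup G :=
  ⨆ i, ⁅T₀, zpowers (zs i)⁆

/-- The part of the section moved by `killT`. -/
def killM (T₀ M L : Subgroup G) (zs : ℕ → G) : Subgroup G :=
  ⨆ i, (⁅M, ⁅T₀, zpowers (zs i)⁆⁆ ⊔ L)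

/-- The elements of `H` acting on `killM / L` and normalising `killT`. -/
def killN (H T₀ M L : Subgroup G) (zs : ℕ → G) : Subgroup G :=
  H ⊓ normalizer (killT T₀ zs : Set G) ⊓ normalizer (killM T₀ M L zs : Set G)

variable {zs : ℕ → G}

theorem KillSect.killT_le (hk : KillSect p q x z H r s T₀ M L) (hzs : ∀ i, zs i ∈ H) : killT T₀ zs ≤ T₀ :=
  iSup_le fun i => Coprime.commutator_le_left_of_le_normalizer (zpowers_le.2 (hk.T_norm (hzs i)))

theorem KillSect.killM_le (hk : KillSect p q x z H r s T₀ M L) (hzs : ∀ i, zs i ∈ H) : killM T₀ M L zs ≤ M := by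
  refine iSup_le fun i => sup_le (Coprime.commutator_le_left_of_le_normalizer ?_) hk.sect.le
  exact (Coprime.commutator_le_left_of_le_normalizer (zpowers_le.2 (hk.T_norm (hzs i)))).trans
    (hk.T_le.trans hk.M_norm)

omit [Finite G] in
theorem le_killM (i : ℕ) : L ≤ killM T₀ M L zs :=
  le_trans le_sup_right (le_iSup (fun i => ⁅M, ⁅T₀, zpowers (zs i)⁆⁆ ⊔ L) i)

theorem KillSect.mem_killN (hk : KillSect p q x z H r s T₀ M L) {g : G} (hg : g ∈ H)
    (hperm : ∀ i, ∃ j, g * zs i * g⁻¹ = zs j) : g ∈ killN H T₀ M L zs := by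
  have e : ∀ i, ∃ j, (⁅T₀, zpowers (zs i)⁆).map (MulAut.conj g : G →* G) = ⁅T₀, zpowers (zs j)⁆ := by
    intro i
    obtain ⟨j, hj⟩ := hperm i
    refine ⟨j, ?_⟩
    rw [map_commutator, mem_normalizer_iff_map_conj_eq.1 (hk.T_norm hg), MonoidHom.map_zpowers,
      show (MulAut.conj g : G →* G) (zs i) = zs j from hj]
  refine ⟨⟨hg, mem_normalizer_iSup fun i => ?_⟩, mem_normalizer_iSup fun i => ?_⟩
  · obtain ⟨j, hj⟩ := e i
    rw [hj]
    exact le_iSup (fun i => ⁅T₀, zpowers (zs i)⁆) j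
  · obtain ⟨j, hj⟩ := e i
    rw [Subgroup.map_sup, map_commutator, hj, mem_normalizer_iff_map_conj_eq.1 (hk.M_norm hg),
      mem_normalizer_iff_map_conj_eq.1 (hk.L_norm hg)]
    exact le_iSup (fun i => ⁅M, ⁅T₀, zpowers (zs i)⁆⁆ ⊔ L) j

theorem KillSect.le_killN (hk : KillSect p q x z H r s T₀ M L) : T₀ ≤ killN H T₀ M L zs := by
  intro t ht
  have htH := hk.T_le ht
  have e : ∀ i, t ∈ normalizer ((⁅T₀, zpowers (zs i)⁆ : Subgroup G) : Set G) :=
    fun i => normalizer_commutator_ge_left T₀ (zpowers (zs i)) ht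
  refine ⟨⟨htH, mem_normalizer_iSup fun i => ?_⟩, mem_normalizer_iSup fun i => ?_⟩
  · rw [mem_normalizer_iff_map_conj_eq.1 (e i)]
    exact le_iSup (fun i => ⁅T₀, zpowers (zs i)⁆) i
  · rw [mem_normalizer_iff_map_conj_eq.1 (mem_normalizer_sup
      (mem_normalizer_commutator_both (hk.M_norm htH) (e i)) (hk.L_norm htH))]
    exact le_iSup (fun i => ⁅M, ⁅T₀, zpowers (zs i)⁆⁆ ⊔ L) i

/-- What `x` fixes in `killM / L` is fixed by the central elements of `O_q(C(x)) ∩ H`. -/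
theorem KillSect.fix_killM (h : QCtx p q x z) (hk : KillSect p q x z H r s T₀ M L) (hxH : x ∈ H)
    (hzs : ∀ i, QCtx p q x (zs i)) (hzsH : ∀ i, zs i ∈ H) {δ : G}
    (hδ : δ ∈ Cfsg.pCoreOf q (centralizer ({x} : Set G))) (hδH : δ ∈ H)
    (hδc : ∀ d ∈ Cfsg.pCoreOf q (centralizer ({x} : Set G)), d ∈ H → δ * d = d * δ)
    {a : G} (ha : a ∈ killM T₀ M L zs) (hxa : ⁅x, a⁆ ∈ L) : ⁅δ, a⁆ ∈ L := by
  haveI := Fact.mk h.prime
  haveI := Fact.mk hk.sprime
  set M' := killM T₀ M L zs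
  have hM'M : M' ≤ M := hk.killM_le hzsH
  have hML : M' ≤ normalizer (L : Set G) := hM'M.trans hk.sect.norm
  have hxM : x ∈ normalizer (M : Set G) := hk.M_norm hxH
  have hxL : x ∈ normalizer (L : Set G) := hk.L_norm hxH
  let F : Subgroup G :=
    { carrier := {a | a ∈ M' ∧ ⁅δ, a⁆ ∈ L ∧ ⁅x, a⁆ ∈ L}
      one_mem' := ⟨one_mem _, by simp, by simp⟩
      mul_mem' := by
        rintro a b ⟨ha, ha1, ha2⟩ ⟨hb, hb1, hb2⟩
        refine ⟨mul_mem ha hb, ?_, ?_⟩
        · rw [show ⁅δ, a * b⁆ = ⁅δ, a⁆ * (a * ⁅δ, b⁆ * a⁻¹) by simp [commutatorElement_def, mul_assoc]]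
          exact mul_mem ha1 ((mem_normalizer_iff.1 (hML ha) _).1 hb1)
        · rw [show ⁅x, a * b⁆ = ⁅x, a⁆ * (a * ⁅x, b⁆ * a⁻¹) by simp [commutatorElement_def, mul_assoc]]
          exact mul_mem ha2 ((mem_normalizer_iff.1 (hML ha) _).1 hb2)
      inv_mem' := by
        rintro a ⟨ha, ha1, ha2⟩
        refine ⟨inv_mem ha, ?_, ?_⟩
        · rw [show ⁅δ, a⁻¹⁆ = a⁻¹ * ⁅δ, a⁆⁻¹ * a by simp [commutatorElement_def, mul_assoc]]
          exact (mem_normalizer_iff''.1 (hML ha) _).1 (inv_mem ha1)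
        · rw [show ⁅x, a⁻¹⁆ = a⁻¹ * ⁅x, a⁆⁻¹ * a by simp [commutatorElement_def, mul_assoc]]
          exact (mem_normalizer_iff''.1 (hML ha) _).1 (inv_mem ha2) }
  set P := ⁅M', zpowers x⁆ ⊔ L
  have hxM' : x ∈ normalizer (M' : Set G) :=
    (hk.mem_killN (zs := zs) hxH fun i => ⟨i, by rw [(hzs i).commute, mul_inv_cancel_right]⟩).2
  have hPM : P ≤ M :=
    sup_le ((Coprime.commutator_le_left_of_le_normalizer (zpowers_le.2 hxM')).trans hM'M) hk.sect.le
  have hFP : F ≤ normalizer (P : Set G) := fun f hf => mem_normalizer_of_conj_mem fun v hv => by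
    rw [show f * v * f⁻¹ = ⁅f, v⁆ * v by group]
    exact mul_mem (mem_sup_right (hk.sect.comm f (hM'M hf.1) v (hPM hv))) hv
  have hgen : M' ≤ F ⊔ P := by
    refine iSup_le fun i => ?_
    have hYM' : ⁅M, ⁅T₀, zpowers (zs i)⁆⁆ ⊔ L ≤ M' := le_iSup (fun i => ⁅M, ⁅T₀, zpowers (zs i)⁆⁆ ⊔ L) i
    set Y := ⁅M, ⁅T₀, zpowers (zs i)⁆⁆ ⊔ L with hY
    have hxY : x ∈ normalizer (Y : Set G) := mem_normalizer_sup (mem_normalizer_commutator_both hxM
      (mem_normalizer_commutator_both (hk.T_norm hxH) (centralizer_le_normalizer _ (mem_centralizer_iff.2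
        (by rintro _ ⟨j, rfl⟩; exact ((show Commute x (zs i) from (hzs i).commute).zpow_right j).eq.symm))))) hxL
    intro u hu
    obtain ⟨c, hc, v, hv, rfl⟩ := Coprime.exists_centralizer_mul_commutator (A := zpowers x) (K := Y)
      (zpowers_le.2 hxY)
      (by rw [Nat.card_zpowers, h.order_x]
          exact (hk.M_cop.coprime_dvd_left (card_dvd_of_le (hYM'.trans hM'M))).symm)
      (Or.inl (Group.isSolvable_of_comm fun a b => mul_comm' a b)) hu
    have hxc : x * c = c * x := mem_centralizer_iff.1 hc.2 x (mem_zpowers x)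
    refine mul_mem (mem_sup_left ⟨hYM' hc.1, hk.fixz _ (hzs i) (hzsH i) c hc.1 hxc δ hδ hδH hδc, ?_⟩) ?_
    · rw [commutatorElement_eq_one_iff_mul_comm.2 hxc]
      exact one_mem L
    · exact mem_sup_right (mem_sup_left (commutator_mono hYM' le_rfl hv))
  obtain ⟨f, hf, v, hv, rfl⟩ := (Coprime.mem_sup_iff_of_le_normalizer hFP).1 (hgen ha)
  obtain ⟨hfM, hf1, hf2⟩ := hf
  have hsect : IsESection s M' L :=
    ⟨le_killM 0, hML, fun a ha b hb => hk.sect.comm a (hM'M ha) b (hM'M hb),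
      fun a ha => hk.sect.exp a (hM'M ha)⟩
  have hxv : ⁅x, v⁆ ∈ L := by
    rw [show ⁅x, f * v⁆ = ⁅x, f⁆ * (f * ⁅x, v⁆ * f⁻¹) by simp [commutatorElement_def, mul_assoc]] at hxa
    exact (mem_normalizer_iff.1 (hML hfM) _).2 ((Subgroup.mul_mem_cancel_left _ hf2).1 hxa)
  have hvL : v ∈ L := by
    refine hsect.mem_of_fixed (A := zpowers x) (zpowers_le.2 hxM') (zpowers_le.2 hxL) ?_ hv ?_
    · rw [Nat.card_zpowers, h.order_x]
      exact (Nat.coprime_primes h.prime hk.sprime).2 hk.s_ne_p.symm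
    · intro g hg
      obtain ⟨n, rfl⟩ := (isOfFinOrder_of_finite x).mem_powers_iff_mem_zpowers.mpr hg
      clear hg
      show ⁅x ^ n, v⁆ ∈ L
      induction n with
      | zero => simp
      | succ n ih =>
        rw [pow_succ', commutatorElement_mul_left_eq_conj_mul]
        exact mul_mem ((mem_normalizer_iff.1 hxL _).1 ih) hxv
  rw [show ⁅δ, f * v⁆ = ⁅δ, f⁆ * (f * ⁅δ, v⁆ * f⁻¹) by simp [commutatorElement_def, mul_assoc]]
  refine mul_mem hf1 ((mem_normalizer_iff.1 (hML hfM) _).1 ?_)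
  rw [commutatorElement_def]
  exact mul_mem ((mem_normalizer_iff.1 (hk.L_norm hδH) v).1 hvL) (inv_mem hvL)

/-! ### The image -/

theorem KillSect.exists_image [Fact s.Prime] (h : QCtx p q x z) (hk : KillSect p q x z H r s T₀ M L)
    (hxH : x ∈ H) (hzs : ∀ i, QCtx p q x (zs i)) (hzsH : ∀ i, zs i ∈ H) (h0 : zs 0 = z) :
    ∃ (m : ℕ) (Γ : Type) (_ : Group Γ) (_ : Finite Γ)
      (ρ : Γ →* Module.End (AlgebraicClosure (ZMod s)) (Fin m → AlgebraicClosure (ZMod s)))
      (π : ↥(killN H T₀ M L zs) →* Γ) (W : Subgroup Γ) (_ : W.Normal)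
      (hxN : x ∈ killN H T₀ M L zs) (hzN : ∀ i, zs i ∈ killN H T₀ M L zs),
      IsPGroup r W ∧
      Moves (π ⟨x, hxN⟩) W ∧
      W ≤ closure (⋃ i, (fun w => ⁅π ⟨zs i, hzN i⟩, w⁆) '' (W : Set Γ)) ∧
      (∀ g : ↥(killN H T₀ M L zs), (g : G) ∈ Cfsg.pCoreOf q (centralizer ({x} : Set G)) →
        (g : G) ∈ killT T₀ zs → π g = 1) ∧
      (∀ w ∈ W, π ⟨x, hxN⟩ * w = w * π ⟨x, hxN⟩ →
        ∃ c : ↥(killN H T₀ M L zs), (c : G) ∈ killT T₀ zs ∧ x * c = c * x ∧ π c = w) ∧
      (∀ δ : ↥(killN H T₀ M L zs), (δ : G) ∈ Cfsg.pCoreOf q (centralizer ({x} : Set G)) →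
        ∀ w ∈ W, π ⟨x, hxN⟩ * w = w * π ⟨x, hxN⟩ → π δ * w = w * π δ) ∧
      (∀ δ : ↥(killN H T₀ M L zs), (δ : G) ∈ Cfsg.pCoreOf q (centralizer ({x} : Set G)) →
        (∀ d ∈ Cfsg.pCoreOf q (centralizer ({x} : Set G)), d ∈ H → (δ : G) * d = d * δ) →
        ∀ v, ρ (π ⟨x, hxN⟩) v = v → ρ (π δ) v = v) ∧
      ¬ ∀ w ∈ W, ρ w = 1 := by
  haveI := Fact.mk h.prime
  haveI := Fact.mk h.qprime
  haveI := Fact.mk hk.rprime
  set N := killN H T₀ M L zs with hN
  set T := killT T₀ zs with hT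
  set M' := killM T₀ M L zs with hM'
  set D := Cfsg.pCoreOf q (centralizer ({x} : Set G)) with hD
  have hxN : x ∈ N := hk.mem_killN hxH fun i => ⟨i, by rw [(hzs i).commute, mul_inv_cancel_right]⟩
  have hzN : ∀ i, zs i ∈ N := fun i => hk.mem_killN (hzsH i) fun j =>
    ⟨j, by rw [(hzs i).z_central _ (hzs j).z_mem, mul_inv_cancel_right]⟩
  have hNH : N ≤ H := inf_le_left.trans inf_le_left
  have hNT : N ≤ normalizer (T : Set G) := inf_le_left.trans inf_le_right
  have hTT₀ : T ≤ T₀ := hk.killT_le hzsH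
  have hT₀N : T₀ ≤ N := hk.le_killN
  have hTN : T ≤ N := hTT₀.trans hT₀N
  have hM'M : M' ≤ M := hk.killM_le hzsH
  have hsect : IsESection s M' L :=
    ⟨le_killM 0, hM'M.trans hk.sect.norm, fun a ha b hb => hk.sect.comm a (hM'M ha) b (hM'M hb),
      fun a ha => hk.sect.exp a (hM'M ha)⟩
  obtain ⟨m, ρ₀, -, h1, -, h4⟩ := hsect.exists_rep
  have hNn : N ≤ normalizer (M' : Set G) ⊓ normalizer (L : Set G) := le_inf inf_le_right (hNH.trans hk.L_norm)
  set σ := ρ₀.comp (inclusion hNn) with hσ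
  let π : N →* σ.toHomUnits.range := σ.toHomUnits.rangeRestrict
  let ρ : σ.toHomUnits.range →* Module.End (AlgebraicClosure (ZMod s)) (Fin m → AlgebraicClosure (ZMod s)) :=
    (Units.coeHom _).comp σ.toHomUnits.range.subtype
  have hπs : Function.Surjective π := σ.toHomUnits.rangeRestrict_surjective
  haveI : Finite σ.toHomUnits.range := Finite.of_surjective π hπs
  have hρπ : ∀ g, ρ (π g) = ρ₀ (inclusion hNn g) := fun g => rfl
  have hinj : Function.Injective ρ := fun a b e => Subtype.ext (Units.ext e)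
  have hker : ∀ g : N, π g = 1 ↔ ∀ a ∈ M', ⁅(g : G), a⁆ ∈ L := fun g => by
    rw [← map_eq_one_iff ρ hinj, hρπ, h1]
    rfl
  haveI : (T.subgroupOf N).Normal := Coprime.normal_subgroupOf_of_le_normalizer hNT
  haveI : (T₀.subgroupOf N).Normal := Coprime.normal_subgroupOf_of_le_normalizer (hNH.trans hk.T_norm)
  set W := (T.subgroupOf N).map π with hW
  set W₀ := (T₀.subgroupOf N).map π with hW₀
  haveI : W.Normal := Subgroup.Normal.map inferInstance π hπs
  haveI : W₀.Normal := Subgroup.Normal.map inferInstance π hπs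
  have hWW₀ : W ≤ W₀ := map_mono fun t ht => hTT₀ ht
  have hW₀r : IsPGroup r W₀ := by
    rintro ⟨_, t, ht, rfl⟩
    obtain ⟨k, hk'⟩ := hk.T_pow t ht
    exact ⟨k, Subtype.ext (by
      rw [SubgroupClass.coe_pow, Subgroup.coe_one, ← map_pow, hker]
      intro a ha
      rw [SubgroupClass.coe_pow]
      exact hk' a (hM'M ha))⟩
  have hWr : IsPGroup r W := hW₀r.to_le hWW₀
  have hkill : ∀ g : N, (g : G) ∈ D → (g : G) ∈ T → π g = 1 := fun g hgD hgT => by
    obtain ⟨i, hi⟩ := PCore.isPGroup_pCoreOf (p := q) (centralizer ({x} : Set G)) ⟨(g : G), hgD⟩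
    have h2 : (g : G) ^ q ^ i = 1 := congrArg Subtype.val hi
    obtain ⟨j, hj⟩ := hWr ⟨π g, mem_map_of_mem π (show g ∈ T.subgroupOf N from hgT)⟩
    have h3 : π g ^ r ^ j = 1 := congrArg Subtype.val hj
    refine orderOf_eq_one_iff.1 (Nat.eq_one_of_dvd_coprimes
      (((Nat.coprime_primes h.qprime hk.rprime).2 hk.r_ne_q.symm).pow i j) (orderOf_dvd_of_pow_eq_one ?_)
      (orderOf_dvd_of_pow_eq_one h3))
    rw [← map_pow, show g ^ q ^ i = 1 from Subtype.ext h2, map_one]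
  have hox : orderOf (⟨x, hxN⟩ : N) = p := by rw [← orderOf_submonoid]; exact h.order_x
  have hxpN : (⟨x, hxN⟩ : N) ^ p = 1 := by rw [← hox, pow_orderOf_eq_one]
  have hlift : ∀ w ∈ W, π ⟨x, hxN⟩ * w = w * π ⟨x, hxN⟩ →
      ∃ c : N, (c : G) ∈ T ∧ x * c = c * x ∧ π c = w := by
    rintro _ ⟨t, ht, rfl⟩ hxw
    obtain ⟨c, hc, e, hxc⟩ := exists_fixed_preimage π (Y := T.subgroupOf N) (x := (⟨x, hxN⟩ : N))
      (by
        rw [hox, Coprime.card_subgroupOf hTN]
        exact (hk.T_cop.coprime_dvd_left (card_dvd_of_le hTT₀)).symm)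
      (by rw [normalizer_eq_top]; exact mem_top _) ht hxw
    exact ⟨c, hc, congrArg Subtype.val hxc, e⟩
  have hcent : ∀ δ : N, (δ : G) ∈ D → ∀ w ∈ W, π ⟨x, hxN⟩ * w = w * π ⟨x, hxN⟩ → π δ * w = w * π δ := by
    intro δ hδ w hw hxw
    obtain ⟨c, hcT, hxc, rfl⟩ := hlift w hw hxw
    have hcC : (c : G) ∈ centralizer ({x} : Set G) := mem_centralizer_singleton_iff.2 hxc.symm
    rw [← commutatorElement_eq_one_iff_mul_comm, ← map_commutatorElement]
    refine hkill _ ?_ ?_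
    · show (δ : G) * c * (δ : G)⁻¹ * (c : G)⁻¹ ∈ D
      rw [mul_assoc, mul_assoc, ← mul_assoc (c : G)]
      exact mul_mem hδ ((mem_normalizer_iff.1 (PCore.le_normalizer_pCoreOf _ hcC) _).1 (inv_mem hδ))
    · exact mul_mem ((mem_normalizer_iff.1 (hNT δ.2) _).1 hcT) (inv_mem hcT)
  have hmovez : W ≤ closure (⋃ i, (fun w => ⁅π ⟨zs i, hzN i⟩, w⁆) '' (W : Set σ.toHomUnits.range)) := by
    have e : T.subgroupOf N = ⨆ i, ⁅T₀.subgroupOf N, zpowers (⟨zs i, hzN i⟩ : N)⁆ := by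
      refine map_injective N.subtype_injective ?_
      rw [map_subgroupOf_eq_of_le hTN, Subgroup.map_iSup, hT, killT]
      refine iSup_congr fun i => ?_
      rw [map_commutator, map_subgroupOf_eq_of_le hT₀N, MonoidHom.map_zpowers]
      rfl
    have e' : W = ⨆ i, ⁅W₀, zpowers (π ⟨zs i, hzN i⟩)⁆ := by
      rw [hW, e, Subgroup.map_iSup]
      simp only [map_commutator, MonoidHom.map_zpowers, hW₀]
    refine e'.le.trans (iSup_le fun i => ?_)
    have hcop : (Nat.card (zpowers (π ⟨zs i, hzN i⟩))).Coprime (Nat.card W₀) := by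
      obtain ⟨n, hn⟩ := hW₀r.exists_card_eq
      rw [Nat.card_zpowers, hn]
      refine Nat.Coprime.coprime_dvd_left ((orderOf_map_dvd π _).trans (dvd_of_eq ?_))
        (((Nat.coprime_primes h.qprime hk.rprime).2 hk.r_ne_q.symm).pow_right n)
      rw [← orderOf_submonoid]
      exact (hzs i).order_z
    rw [← Coprime.commutator_commutator_eq (by rw [normalizer_eq_top]; exact le_top) hcop
      (Or.inl (Group.isSolvable_of_comm fun a b => mul_comm' a b))]
    refine (commutator_mono ((le_iSup (fun i => ⁅W₀, zpowers (π ⟨zs i, hzN i⟩)⁆) i).trans e'.ge) le_rfl).trans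
      ((commutator_zpowers_le_closure _).trans (closure_mono ?_))
    exact Set.subset_iUnion (fun i => (fun w => ⁅π ⟨zs i, hzN i⟩, w⁆) '' (W : Set σ.toHomUnits.range)) i
  refine ⟨m, σ.toHomUnits.range, inferInstance, inferInstance, ρ, π, W, inferInstance, hxN, hzN, hWr, ?_,
    hmovez, hkill, hlift, hcent, ?_, ?_⟩
  · refine moves_of_commute_fixed hk.r_ne_p hWr (by rw [← map_pow, hxpN, map_one]) (fun i => ?_) hmovez
      fun w hw hxw i => hcent _ (hzs i).z_mem w hw hxw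
    rw [← map_mul, ← map_mul]
    exact congrArg π (Subtype.ext (hzs i).commute)
  · intro δ hδ hδc v hv
    rw [hρπ] at hv ⊢
    refine h4 _ (inclusion hNn δ) p ?_ ?_ (fun a ha hxa =>
      hk.fix_killM h hxH hzs hzsH hδ (hNH δ.2) hδc ha hxa) v hv
    · rw [← map_pow, hxpN, map_one]
    · exact fun hd => hk.s_ne_p ((Nat.prime_dvd_prime_iff_eq hk.sprime h.prime).1 hd)
  · intro hall
    have key : ∀ t ∈ ⁅T₀, zpowers z⁆, ∀ a ∈ M, ⁅t, a⁆ ∈ L := by
      intro t ht a ha
      have htT : t ∈ T := le_iSup (fun i => ⁅T₀, zpowers (zs i)⁆) 0 (by rwa [h0])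
      have htH : t ∈ H := hk.T_le (hTT₀ htT)
      have htriv : ∀ b ∈ M', ⁅t, b⁆ ∈ L := (hker ⟨t, hTN htT⟩).1
        (hinj (by rw [hall _ (mem_map_of_mem π (show (⟨t, hTN htT⟩ : N) ∈ T.subgroupOf N from htT)), map_one]))
      set u := ⁅t, a⁆ with hu
      have huM' : u ∈ M' := by
        refine le_iSup (fun i => ⁅M, ⁅T₀, zpowers (zs i)⁆⁆ ⊔ L) 0 (mem_sup_left ?_)
        rw [h0, hu, ← commutatorElement_inv]
        exact inv_mem (commutator_mem_commutator ha ht)
      have huL : ∀ n : ℕ, u ^ n ∈ normalizer (L : Set G) := fun n =>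
        pow_mem (hM'M.trans hk.sect.norm huM') n
      have hpow : ∀ n : ℕ, (u ^ n)⁻¹ * ⁅t ^ n, a⁆ ∈ L := by
        intro n
        induction n with
        | zero => simp
        | succ n ih =>
          rw [pow_succ' t, commutatorElement_mul_left_eq_conj_mul, ← hu,
            show (u ^ (n + 1))⁻¹ * (t * ⁅t ^ n, a⁆ * t⁻¹ * u) = ((u ^ (n + 1))⁻¹ * ⁅t, u ^ n⁆ * u ^ (n + 1)) *
              (u⁻¹ * (t * ((u ^ n)⁻¹ * ⁅t ^ n, a⁆) * t⁻¹) * u) by
              rw [commutatorElement_def t (u ^ n), pow_succ]; group]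
          refine mul_mem ((mem_normalizer_iff''.1 (huL _) _).1 (htriv _ (pow_mem huM' n))) ?_
          exact (mem_normalizer_iff''.1 (pow_one u ▸ huL 1) _).1 ((mem_normalizer_iff.1 (hk.L_norm htH) _).1 ih)
      obtain ⟨k, hk'⟩ := hk.T_pow t (hTT₀ htT)
      have h1' : u ^ r ^ k ∈ L := inv_mem_iff.1 ((Subgroup.mul_mem_cancel_right _ (hk' a ha)).1 (hpow _))
      have h2' : u ^ s ∈ L := hk.sect.exp u (hM'M huM')
      have hg : ((r ^ k).gcd s : ℤ) = (r ^ k : ℕ) * (r ^ k).gcdA s + (s : ℕ) * (r ^ k).gcdB s :=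
        Nat.gcd_eq_gcd_ab _ _
      rw [Nat.Coprime.gcd_eq_one (((Nat.coprime_primes hk.rprime hk.sprime).2 hk.s_ne_r.symm).pow_left k),
        Nat.cast_one] at hg
      rw [← zpow_one u, hg, zpow_add, zpow_mul, zpow_mul, zpow_natCast, zpow_natCast]
      exact mul_mem (zpow_mem h1' _) (zpow_mem h2' _)
    refine hk.nontriv (commutator_le.2 fun a ha t ht => ?_)
    rw [← commutatorElement_inv]
    exact inv_mem (key t ht a ha)

end Cfsg.Agent.TwoGenSolvable
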