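import Mathlib
import Cfsg.Agent.Lib.TwoGenSolvable.JLemma
import Cfsg.Agent.Lib.TwoGenSolvable.GoodAux
import Cfsg.Agent.Lib.TwoGenSolvable.SectAux
import Cfsg.Agent.Lib.TwoGenSolvable.Slot
import Cfsg.Agent.Lib.TwoGenSolvable.PairGen
import Cfsg.Agent.Lib.TwoGenSolvable.MemberBasic

/-!
# Fixed points of `x` on the sections of moved pairs
-/

set_option autoImplicit false
set_option linter.style.haveILetI false

namespace Cfsg.Agent.TwoGenSolvable

open Subgroup
open scoped commutatorElement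

universe u

variable {G : Type u} [Group G] [Finite G] {p q r : ℕ} {x z : G}

/-- An element of a twisted pair that is fixed by `x` lies in `O_q(C(x))`. -/
theorem IsPair.mem_core (h : QCtx p q x z) (hqp : q ≠ p) {S R : Subgroup G} (hP : IsPair q x z r S R)
    (hrp : r ≠ p) {a : G} (ha : a ∈ closure ({x, a * x * a⁻¹} : Set G))
    (hle : S ⊔ R ≤ closure {x, a * x * a⁻¹} ⊔ zpowers z)
    {k : G} (hk : k ∈ ⁅S, R⁆) (hkx : x * k = k * x) :
    k ∈ Cfsg.pCoreOf q (centralizer ({x} : Set G)) := by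
  haveI := Fact.mk h.qprime
  refine mem_pCoreOf_centralizer (mem_centralizer_singleton_iff.2 hkx.symm) fun c hc => ?_
  obtain ⟨H, hH, hx, hz, hac, -⟩ := h.exists_solvable (a * c)
  have hcx : c * x = x * c := mem_centralizer_singleton_iff.1 hc
  have hB : closure ({x, a * x * a⁻¹} : Set G) ≤ H := by
    rw [closure_le]
    rintro y (rfl | rfl)
    · exact hx
    · have := mul_mem (mul_mem hac hx) (inv_mem hac)
      rwa [mul_inv_rev, show a * c * x * (c⁻¹ * a⁻¹) = a * (c * x * c⁻¹) * a⁻¹ by group, hcx,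
        mul_inv_cancel_right] at this
  have hSR : S ⊔ R ≤ H := hle.trans (sup_le hB (zpowers_le.2 hz))
  have hcH : c ∈ H := by
    have := mul_mem (inv_mem (hB ha)) hac
    rwa [inv_mul_cancel_left] at this
  have hkO := hP.commutator_le_core h hqp hH hx hz hrp (le_sup_left.trans hSR) (le_sup_right.trans hSR) hk
  have hn : H ≤ normalizer (Cfsg.pCoreOf q (ppOf p H) : Set G) :=
    FixedDim.le_normalizer_map_char (le_normalizer_ppOf p H) _
  refine (PCore.isPGroup_pCoreOf (p := q) (ppOf p H)).to_le ((closure_le _).2 ?_)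
  rintro y (rfl | rfl)
  · exact hkO
  · exact (mem_normalizer_iff.1 (hn hcH) k).1 hkO

/-- The twisted generation of an irreducible section. -/
theorem IsPair.section_le (h : QCtx p q x z) (hqp : q ≠ p) {H : Subgroup G} (hH : Group.IsSolvable H)
    {S R : Subgroup G} (hP : IsPair q x z r S R) (hrp : r ≠ p) (hSH : S ≤ H) (hRH : R ≤ H) (hxH : x ∈ H)
    {M L : Subgroup G} (hML : IsESection q M L) (hMS : M ≤ S) (hxM : x ∈ normalizer (M : Set G))
    (hxL : x ∈ normalizer (L : Set G)) (hRM : R ≤ normalizer (M : Set G)) (hRL : R ≤ normalizer (L : Set G))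
    (htriv : ∀ a ∈ S, ∀ m ∈ M, ⁅a, m⁆ ∈ L) {v : G} (hv : v ∈ R)
    (hgenR : S ⊔ R ≤ S ⊔ closure (⋃ i : ℕ, (fun y => z ^ i * y * (z ^ i)⁻¹) ''
      ((R ⊓ closure ({x, v * x * v⁻¹} : Set G) : Subgroup G) : Set G))) :
    ∀ U : Subgroup G, L ≤ U → U ≤ ⁅M, R ⊓ closure ({x, v * x * v⁻¹} : Set G)⁆ ⊔ L →
      x ∈ normalizer (U : Set G) → R ⊓ closure ({x, v * x * v⁻¹} : Set G) ≤ normalizer (U : Set G) →
      ∀ m ∈ U, x * m = m * x → m ∈ (Cfsg.pCoreOf q (centralizer ({x} : Set G)) ⊓ M) ⊔ L := by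
  haveI := Fact.mk h.prime
  haveI := Fact.mk h.qprime
  haveI := Fact.mk hP.rprime
  have hp3 : 3 < p := by have := h.five_le; omega
  set R₀ := R ⊓ closure ({x, v * x * v⁻¹} : Set G) with hR₀
  have hR₀R : R₀ ≤ R := inf_le_left
  have hrp' : ∀ K : Subgroup G, IsPGroup r K → (Nat.card K).Coprime p ∧ (Nat.card K).Coprime q := by
    intro K hK
    obtain ⟨n, hn⟩ := IsPGroup.iff_card.1 hK
    rw [hn]
    exact ⟨((Nat.coprime_primes hP.rprime h.prime).2 hrp).pow_left n,
      ((Nat.coprime_primes hP.rprime h.qprime).2 hP.ne_q).pow_left n⟩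
  have hqp' : ∀ K : Subgroup G, IsPGroup q K → (Nat.card K).Coprime p := by
    intro K hK
    obtain ⟨n, hn⟩ := IsPGroup.iff_card.1 hK
    rw [hn]
    exact ((Nat.coprime_primes h.qprime h.prime).2 hqp).pow_left n
  obtain ⟨v₀, hv₀R, hv₀c, hv₀⟩ := exists_conj_mem h.order_x (hrp' R hP.rgroup).1 hP.x_normR hv
  have hgen : closure ({x, v₀ * x * v₀⁻¹} : Set G) = R₀ ⊔ zpowers x := by
    rw [hv₀]
    have hxc : x ∈ closure ({x, v * x * v⁻¹} : Set G) := subset_closure (by simp)
    refine le_antisymm (fun y hy => ?_) (sup_le inf_le_right (zpowers_le.2 hxc))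
    have hXR : zpowers x ≤ normalizer (R : Set G) := zpowers_le.2 hP.x_normR
    have h1 : y ∈ zpowers x ⊔ R := by
      revert y
      show Subgroup.closure _ ≤ _
      rw [closure_le]
      rintro y (rfl | rfl)
      · exact mem_sup_left (mem_zpowers _)
      · exact mul_mem (mul_mem (mem_sup_right hv) (mem_sup_left (mem_zpowers _))) (inv_mem (mem_sup_right hv))
    obtain ⟨a, ha, b, hb, rfl⟩ := (Coprime.mem_sup_iff_of_le_normalizer hXR).1 h1
    refine mul_mem (mem_sup_right ha) (mem_sup_left ⟨hb, ?_⟩)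
    have := mul_mem (inv_mem (zpowers_le.2 hxc ha)) hy
    rwa [inv_mul_cancel_left] at this
  have hxR₀ : x ∈ normalizer (R₀ : Set G) :=
    inf_normalizer_le_normalizer_inf ⟨hP.x_normR, le_normalizer (subset_closure (by simp))⟩
  intro U
  induction U using WellFoundedLT.induction with
  | ind U ih =>
    intro hLU hUle hxU hRU m hm hmx
    rcases eq_or_ne U L with rfl | hne
    · exact mem_sup_right hm
    -- a maximal invariant subgroup below `U`
    obtain ⟨U₁, ⟨h1L, h1U, h1x, h1R⟩, hmax⟩ := wellFounded_gt.has_min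
      {V : Subgroup G | L ≤ V ∧ V < U ∧ x ∈ normalizer (V : Set G) ∧ R₀ ≤ normalizer (V : Set G)}
      ⟨L, le_rfl, lt_of_le_of_ne hLU (Ne.symm hne), hxL, hR₀R.trans hRL⟩
    have hUM : U ≤ M := hUle.trans (sup_le
      (Coprime.commutator_le_left_of_le_normalizer (hR₀R.trans hRM)) hML.le)
    have key : ∀ w ∈ M, ∀ y ∈ U₁, w * y * w⁻¹ ∈ U₁ := fun w hw y hy => by
      rw [show w * y * w⁻¹ = ⁅w, y⁆ * y by rw [commutatorElement_def]; group]
      exact mul_mem (h1L (hML.comm w hw y (hUM (h1U.le hy)))) hy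
    have hU₁M : M ≤ normalizer (U₁ : Set G) := fun w hw => mem_normalizer_iff.2 fun y => ⟨key w hw y, fun hy => by
      have := key w⁻¹ (inv_mem hw) _ hy
      simpa [mul_assoc] using this⟩
    have hsec : IsESection q U U₁ :=
      ⟨h1U.le, hUM.trans hU₁M, fun a ha b hb => h1L (hML.comm a (hUM ha) b (hUM hb)),
        fun a ha => h1L (hML.exp a (hUM ha))⟩
    have hsolA : Group.IsSolvable ↥(R₀ ⊔ zpowers x) := by
      refine Coprime.isSolvable_of_le (sup_le (hR₀R.trans hRH) ?_) hH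
      exact zpowers_le.2 hxH
    have hfixU : ∀ u ∈ U, (∀ r' ∈ R₀, ⁅r', u⁆ ∈ U₁) → u ∈ U₁ := by
      intro u hu hfix
      have hsec' : IsESection q M U₁ := ⟨h1U.le.trans hUM, hU₁M, fun a ha b hb => h1L (hML.comm a ha b hb),
        fun a ha => h1L (hML.exp a ha)⟩
      exact hsec'.mem_of_fixed (hR₀R.trans hRM) h1R (hrp' R₀ (hP.rgroup.to_le hR₀R)).2
        ((sup_le_sup_left h1L _) (hUle hu)) hfix
    obtain ⟨w, hw, hcov⟩ := exists_twist_cover (s := q) hp3 hqp h.order_x hsec h1U.ne' hxU h1x hRU h1R hxR₀ hgen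
      ⟨hv₀R, hv₀c⟩ (hrp' R₀ (hP.rgroup.to_le hR₀R)).2 hsolA hfixU fun U' h1 h2 h3 => by
        rcases eq_or_ne U' U with e | e
        · exact Or.inr e
        refine Or.inl (le_antisymm ?_ h1)
        by_contra hcon
        exact hmax U' ⟨h1L.trans h1, lt_of_le_of_ne h2 e, h3 (mem_sup_right (mem_zpowers x)),
          le_sup_left.trans h3⟩ (lt_of_le_of_ne h1 fun e' => hcon e'.ge)
    set B := closure ({x, w * v₀ * x * (w * v₀)⁻¹} : Set G) with hB
    have hUS : U ≤ S := hUM.trans hMS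
    have hUR : U ⊔ R₀ ≤ S ⊔ R := sup_le_sup hUS hR₀R
    have hSRH : S ⊔ R ≤ H := sup_le hSH hRH
    have hcard : (Nat.card ↥(U ⊔ R₀)).Coprime p := by
      rw [sup_comm]
      exact AbelianPComplement.coprime_card_sup hRU (hrp' R₀ (hP.rgroup.to_le hR₀R)).1
        (hqp' U (hP.qgroup.to_le hUS))
    have hxUR : x ∈ normalizer ((U ⊔ R₀ : Subgroup G) : Set G) := mem_normalizer_sup hxU hxR₀
    have hwv : w * v₀ ∈ U ⊔ R₀ := mul_mem (mem_sup_left hw) (mem_sup_right ⟨hv₀R, hv₀c⟩)
    obtain ⟨a, -, haB, haeq⟩ := exists_conj_mem h.order_x hcard hxUR hwv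
    rw [← hB] at haB
    have hBa : closure ({x, a * x * a⁻¹} : Set G) = B := by rw [haeq]
    have hXUR : zpowers x ≤ normalizer ((U ⊔ R₀ : Subgroup G) : Set G) := zpowers_le.2 hxUR
    have hBle : B ≤ U ⊔ R₀ ⊔ zpowers x := by
      rw [hB, closure_le]
      rintro y (rfl | rfl)
      · exact mem_sup_right (mem_zpowers _)
      · exact mul_mem (mul_mem (mem_sup_left hwv) (mem_sup_right (mem_zpowers _))) (inv_mem (mem_sup_left hwv))
    have hBU₁ : B ≤ normalizer (U₁ : Set G) :=
      hBle.trans (sup_le (sup_le (hUM.trans hU₁M) h1R) (zpowers_le.2 h1x))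
    -- the pair inside `⟨B, z⟩`
    set B' := B ⊔ zpowers z with hB'
    set P' := (S ⊔ R) ⊓ B' with hP'
    set S' := S ⊓ B' with hS'
    have hxB : x ∈ B := subset_closure (by simp)
    have hxB' : x ∈ B' := mem_sup_left hxB
    have hzB' : z ∈ B' := mem_sup_right (mem_zpowers z)
    have hxSR : x ∈ normalizer ((S ⊔ R : Subgroup G) : Set G) := mem_normalizer_sup hP.x_normS hP.x_normR
    have hxP' : x ∈ normalizer (P' : Set G) := inf_normalizer_le_normalizer_inf ⟨hxSR, le_normalizer hxB'⟩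
    have hzP' : z ∈ normalizer (P' : Set G) := inf_normalizer_le_normalizer_inf ⟨hP.z_norm, le_normalizer hzB'⟩
    have hxS' : x ∈ normalizer (S' : Set G) := inf_normalizer_le_normalizer_inf ⟨hP.x_normS, le_normalizer hxB'⟩
    have hzS' : z ∈ normalizer (S' : Set G) := inf_normalizer_le_normalizer_inf ⟨hP.z_normS, le_normalizer hzB'⟩
    have hSRS : S ⊔ R ≤ normalizer (S : Set G) := sup_le le_normalizer hP.normS
    have hS'P' : S' ≤ P' := inf_le_inf_right _ le_sup_left
    have hP'S' : P' ≤ normalizer (S' : Set G) :=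
      Coprime.le_normalizer_inf_of_le (inf_le_left.trans hSRS) (inf_le_right.trans le_normalizer)
    have hP'p : (Nat.card P').Coprime p := by
      refine Nat.Coprime.coprime_dvd_left (card_dvd_of_le inf_le_left) ?_
      rw [sup_comm]
      exact AbelianPComplement.coprime_card_sup hP.normS (hrp' R hP.rgroup).1 (hqp' S hP.qgroup)
    obtain ⟨T, hT⟩ := Coprime.exists_invariant_sylow (A := zpowers x) (zpowers_le.2 hxP')
      (by rw [Nat.card_zpowers, h.order_x]; exact hP'p.symm) (Or.inl inferInstance) r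
    set R' := (T : Subgroup P').map P'.subtype with hR'
    have hR'P' : R' ≤ P' := map_subtype_le _
    have hSR' : S' ⊔ R' = P' := by
      refine le_antisymm (sup_le hS'P' hR'P') (relIndex_eq_one.1 (Nat.dvd_one.1 ?_))
      have h1 : (S' ⊔ R').relIndex P' ∣ S.relIndex (S ⊔ R) := by
        refine (relIndex_dvd_of_le_left P' (le_sup_left : S' ≤ S' ⊔ R')).trans ?_
        rw [hS', show (S ⊓ B').relIndex P' = S.relIndex P' by
          rw [← inf_relIndex_right (S ⊓ B'), ← inf_relIndex_right S, inf_assoc,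
            inf_eq_right.2 (inf_le_right : P' ≤ B')]]
        rw [← Coprime.relIndex_sup_right_of_le_normalizer (inf_le_left.trans hSRS : P' ≤ normalizer (S : Set G))]
        exact Dvd.intro _ (relIndex_mul_relIndex S (P' ⊔ S) (S ⊔ R) le_sup_right (sup_le inf_le_left le_sup_left))
      have h2 : (S' ⊔ R').relIndex P' ∣ R'.relIndex P' := relIndex_dvd_of_le_left P' le_sup_right
      have h3 : ¬ r ∣ R'.relIndex P' := by
        rw [relIndex, subgroupOf, hR', comap_map_eq_self_of_injective P'.subtype_injective]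
        exact T.not_dvd_index
      have h4 : S.relIndex (S ⊔ R) ∣ Nat.card R := by
        rw [sup_comm, Coprime.relIndex_sup_right_of_le_normalizer hP.normS]
        exact relIndex_dvd_card S R
      obtain ⟨n, hn⟩ := IsPGroup.iff_card.1 hP.rgroup
      rw [← ((hP.rprime.coprime_iff_not_dvd.2 h3).pow_left n).gcd_eq_one, ← hn]
      exact Nat.dvd_gcd (h1.trans h4) h2
    have hR₀P : R₀ ≤ S ⊔ P' := by
      intro r₀ hr₀
      obtain ⟨b, hb, l, hl, e⟩ := (Coprime.mem_sup_iff_of_le_normalizer hBU₁).1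
        (hcov (mem_sup_left (mem_sup_right hr₀)))
      have hbSR : b ∈ S ⊔ R := by
        rw [show b = r₀ * l⁻¹ by rw [← e, mul_inv_cancel_right]]
        exact mul_mem (mem_sup_right (hR₀R hr₀)) (inv_mem (mem_sup_left (hUS (h1U.le hl))))
      rw [← e]
      exact mul_mem (mem_sup_right ⟨hbSR, mem_sup_left hb⟩) (mem_sup_left (hUS (h1U.le hl)))
    have hzSP : z ∈ normalizer ((S ⊔ P' : Subgroup G) : Set G) := mem_normalizer_sup hP.z_normS hzP'
    have hSRP : S ⊔ R ≤ S ⊔ P' := by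
      refine hgenR.trans (sup_le le_sup_left ((closure_le _).2 ?_))
      intro y hy
      obtain ⟨i, y', hy', rfl⟩ := by simpa only [Set.mem_iUnion, Set.mem_image] using hy
      exact (mem_normalizer_iff.1 (pow_mem hzSP i) y').1 (hR₀P hy')
    have hP'N : P' ≤ normalizer (S : Set G) := inf_le_left.trans hSRS
    have hpair : IsPair q x z r S' R' :=
      { rprime := hP.rprime
        ne_q := hP.ne_q
        qgroup := hP.qgroup.to_le inf_le_left
        rgroup := T.2.map _
        x_normS := hxS'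
        z_normS := hzS'
        x_normR := hT (mem_zpowers x)
        normS := hR'P'.trans hP'S'
        z_norm := by rw [hSR']; exact hzP'
        move := by
          rw [hSR']
          intro r' hr'
          have h1 : ⁅S ⊔ R, zpowers z⁆ ≤ S ⊔ ⁅P', zpowers z⁆ := by
            rw [commutator_le]
            intro g hg c hc
            obtain ⟨n, hn, b, hb, rfl⟩ := (Coprime.mem_sup_iff_of_le_normalizer hP'N).1
              (by rw [sup_comm]; exact hSRP hg : g ∈ P' ⊔ S)
            rw [show ⁅n * b, c⁆ = n * (b * (c * b⁻¹ * c⁻¹)) * n⁻¹ * ⁅n, c⁆ by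
              simp only [commutatorElement_def]; group]
            refine mul_mem (mem_sup_left ((mem_normalizer_iff.1 (hP'N hn) _).1 (mul_mem hb
              ((mem_normalizer_iff.1 (zpowers_le.2 hP.z_normS hc) _).1 (inv_mem hb)))))
              (mem_sup_right (commutator_mem_commutator hn hc))
          have h2 : r' ∈ S ⊔ R := (hR'P' hr').1
          have h3 : S ⊔ R ≤ ⁅P', zpowers z⁆ ⊔ S := sup_le le_sup_right
            (hP.move.trans (sup_le (h1.trans (sup_comm _ _).le) le_sup_right))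
          have hCP : ⁅P', zpowers z⁆ ≤ P' := commutator_zpowers_le hzP'
          obtain ⟨c, hc, b, hb, e⟩ := (Coprime.mem_sup_iff_of_le_normalizer (hCP.trans hP'N)).1 (h3 h2)
          rw [← e]
          refine mul_mem (mem_sup_left hc) (mem_sup_right ⟨hb, ?_⟩)
          have hb' : b = c⁻¹ * r' := by rw [← e, inv_mul_cancel_left]
          rw [hb']
          exact (mul_mem (inv_mem (hCP hc)) (hR'P' hr')).2 }
    -- `⁅S', R'⁆` covers the section
    set Y := U ⊓ ⁅S', R'⁆ with hY
    have hYN : Y ≤ normalizer (U₁ : Set G) := inf_le_left.trans (hUM.trans hU₁M)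
    have hxY : x ∈ normalizer (Y : Set G) :=
      inf_normalizer_le_normalizer_inf ⟨hxU, mem_normalizer_commutator_both hxS' (hT (mem_zpowers x))⟩
    have hSM : ∀ n ∈ S, ∀ y ∈ M, n * y * n⁻¹ ∈ M ∧ n * y * n⁻¹ * y⁻¹ ∈ U₁ := fun n hn y hy =>
      ⟨by rw [show n * y * n⁻¹ = ⁅n, y⁆ * y by rw [commutatorElement_def]; group]
          exact mul_mem (hML.le (htriv n hn y hy)) hy,
        h1L (by simpa [commutatorElement_def] using htriv n hn y hy)⟩
    have hUY : U ≤ Y ⊔ U₁ := by
      have h5 : ⁅U, R₀⁆ ≤ Y ⊔ U₁ := by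
        rw [commutator_le]
        intro u hu r₀ hr₀
        obtain ⟨u', hu', l, hl, e⟩ := (Coprime.mem_sup_iff_of_le_normalizer hBU₁).1
          (hcov (mem_sup_left (mem_sup_left hu)))
        have hu'U : u' ∈ U := by
          rw [show u' = u * l⁻¹ by rw [← e, mul_inv_cancel_right]]
          exact mul_mem hu (inv_mem (h1U.le hl))
        have hu'S : u' ∈ S' := ⟨hUS hu'U, mem_sup_left hu'⟩
        obtain ⟨b, hb, r', hr', e'⟩ := (Coprime.mem_sup_iff_of_le_normalizer'
          (hR'P'.trans hP'N)).1 (show r₀ ∈ R' ⊔ S from by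
            have := hR₀P hr₀
            rw [← hSR', ← sup_assoc, sup_eq_left.2 (inf_le_left : S' ≤ S)] at this
            rwa [sup_comm])
        have hr'M : r' ∈ normalizer (M : Set G) := by
          rw [show r' = b⁻¹ * r₀ by rw [← e', inv_mul_cancel_left]]
          refine mul_mem (inv_mem (mem_normalizer_iff.2 fun y => ⟨fun hy => (hSM b hb y hy).1, fun hy => ?_⟩))
            (hRM (hR₀R hr₀))
          have := (hSM b⁻¹ (inv_mem hb) _ hy).1
          simpa [mul_assoc] using this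
        have hwM : u' ∈ M := hUM hu'U
        have h6 : r' * u'⁻¹ * r'⁻¹ ∈ M := (mem_normalizer_iff.1 hr'M _).1 (inv_mem hwM)
        -- congruent modulo `U₁`
        have h7 : ⁅u', r'⁆⁻¹ * ⁅u, r₀⁆ ∈ U₁ := by
          have h8 : r₀ * u'⁻¹ * r₀⁻¹ * (r' * u'⁻¹ * r'⁻¹)⁻¹ ∈ U₁ := by
            rw [← e', show b * r' * u'⁻¹ * (b * r')⁻¹ = b * (r' * u'⁻¹ * r'⁻¹) * b⁻¹ by group]
            exact (hSM b hb _ h6).2
          have h9 : r₀ * u⁻¹ * r₀⁻¹ * (r₀ * u'⁻¹ * r₀⁻¹)⁻¹ ∈ U₁ := by
            rw [show r₀ * u⁻¹ * r₀⁻¹ * (r₀ * u'⁻¹ * r₀⁻¹)⁻¹ = r₀ * (u⁻¹ * u') * r₀⁻¹ by group,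
              show u⁻¹ * u' = l⁻¹ by rw [← e]; group]
            exact (mem_normalizer_iff.1 (h1R hr₀) _).1 (inv_mem hl)
          have h10 : ⁅u', r'⁆⁻¹ * ⁅u, r₀⁆ = (r' * u'⁻¹ * r'⁻¹)⁻¹ * (u'⁻¹ * u) *
              ((r₀ * u⁻¹ * r₀⁻¹ * (r₀ * u'⁻¹ * r₀⁻¹)⁻¹) * (r₀ * u'⁻¹ * r₀⁻¹ * (r' * u'⁻¹ * r'⁻¹)⁻¹)) *
              (r' * u'⁻¹ * r'⁻¹) := by
            simp only [commutatorElement_def]; group
          rw [h10]
          have hin : (u'⁻¹ * u) ∈ U₁ := by
            rw [← e, inv_mul_cancel_left]; exact hl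
          have := key _ (inv_mem h6) _ (mul_mem hin (mul_mem h9 h8))
          simpa [mul_assoc] using this
        have h11 : ⁅u, r₀⁆ ∈ U := by
          rw [commutatorElement_def, show u * r₀ * u⁻¹ * r₀⁻¹ = u * (r₀ * u⁻¹ * r₀⁻¹) by group]
          exact mul_mem hu ((mem_normalizer_iff.1 (hRU hr₀) _).1 (inv_mem hu))
        have h12 : ⁅u', r'⁆ ∈ Y := by
          refine ⟨?_, commutator_mem_commutator hu'S hr'⟩
          have := mul_mem h11 (inv_mem (h1U.le h7))
          rwa [show ⁅u, r₀⁆ * (⁅u', r'⁆⁻¹ * ⁅u, r₀⁆)⁻¹ = ⁅u', r'⁆ by group] at this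
        rw [show ⁅u, r₀⁆ = ⁅u', r'⁆ * (⁅u', r'⁆⁻¹ * ⁅u, r₀⁆) by rw [mul_inv_cancel_left]]
        exact mul_mem (mem_sup_left h12) (mem_sup_right h7)
      set U' := ⁅U, R₀⁆ ⊔ U₁ with hU'
      have hU'U : U' ≤ U := sup_le (Coprime.commutator_le_left_of_le_normalizer hRU) h1U.le
      have hinv : R₀ ≤ normalizer (U' : Set G) := by
        have hkey : ∀ g ∈ R₀, ∀ y ∈ U', g * y * g⁻¹ ∈ U' := fun g hg y hy => by
          rw [show g * y * g⁻¹ = ⁅y, g⁆⁻¹ * y by rw [commutatorElement_def]; group]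
          exact mul_mem (inv_mem (mem_sup_left (commutator_mem_commutator (hU'U hy) hg))) hy
        intro g hg
        refine mem_normalizer_iff.2 fun y => ⟨hkey g hg y, fun hy => ?_⟩
        have := hkey g⁻¹ (inv_mem hg) _ hy
        simpa [mul_assoc] using this
      have hxU' : x ∈ normalizer (U' : Set G) := mem_normalizer_sup (mem_normalizer_commutator_both hxU hxR₀) h1x
      by_cases hUU : U' = U
      · exact hUU.symm.le.trans (sup_le h5 le_sup_right)
      · exfalso
        have hle : U' ≤ U₁ := by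
          by_contra hcon
          exact hmax U' ⟨h1L.trans le_sup_right, lt_of_le_of_ne hU'U hUU, hxU', hinv⟩
            (lt_of_le_of_ne le_sup_right fun e => hcon e.ge)
        refine h1U.not_ge fun u hu => hfixU u hu fun r' hr' => ?_
        rw [← commutatorElement_inv]
        exact inv_mem (hle (mem_sup_left (commutator_mem_commutator hu hr')))
    obtain ⟨y, hy, l, hl, e⟩ := (Coprime.mem_sup_iff_of_le_normalizer hYN).1 (hUY hm)
    have hyfix : ⁅x, y⁆ ∈ U₁ := by
      have h1 : ⁅x, m⁆ = 1 := commutatorElement_eq_one_iff_mul_comm.2 hmx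
      rw [← e, commutatorElement_def] at h1
      have h2 : x * l * x⁻¹ ∈ U₁ := (mem_normalizer_iff.1 h1x l).1 hl
      have h3 : ⁅x, y⁆ = y * (l * (x * l * x⁻¹)⁻¹) * y⁻¹ := by
        rw [commutatorElement_def]
        calc x * y * x⁻¹ * y⁻¹
            = (x * (y * l) * x⁻¹ * (y * l)⁻¹) * (y * (l * (x * l * x⁻¹)⁻¹) * y⁻¹) := by group
          _ = _ := by rw [h1, one_mul]
      rw [h3]
      exact key y (hUM hy.1) _ (mul_mem hl (inv_mem h2))
    obtain ⟨k, hk, hkx, hky⟩ := exists_fixed_mem h.order_x (hqp' Y (hP.qgroup.to_le (inf_le_left.trans hUS)))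
      hxY h1x hYN hy hyfix
    have hkD : k ∈ Cfsg.pCoreOf q (centralizer ({x} : Set G)) ⊓ M :=
      ⟨hpair.mem_core h hqp hrp (hBa.symm ▸ haB) (hBa.symm ▸ hSR'.le.trans inf_le_right) hk.2 hkx, hUM hk.1⟩
    have hrest : k⁻¹ * m ∈ U₁ := by
      rw [← e, ← mul_assoc]
      exact mul_mem hky hl
    have hrest' := ih U₁ h1U h1L (h1U.le.trans hUle) h1x h1R _ hrest
      (((show Commute x k from hkx).inv_right).mul_right hmx).eq
    have := mul_mem (mem_sup_left (T := L) hkD) hrest'
    rwa [mul_inv_cancel_left] at this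

/-- The fixed points of `x` on `[M, R] L / L` come from `O_q(C(x))`. -/
theorem IsPair.fixed_mem (h : QCtx p q x z) (hqp : q ≠ p) {H : Subgroup G} (hH : Group.IsSolvable H)
    {S R : Subgroup G} (hP : IsPair q x z r S R) (hrp : r ≠ p) (hSH : S ≤ H) (hRH : R ≤ H) (hxH : x ∈ H)
    {M L : Subgroup G} (hML : IsESection q M L) (hMS : M ≤ S) (hxM : x ∈ normalizer (M : Set G))
    (hxL : x ∈ normalizer (L : Set G)) (hzM : z ∈ normalizer (M : Set G)) (hzL : z ∈ normalizer (L : Set G))
    (hRM : R ≤ normalizer (M : Set G)) (hRL : R ≤ normalizer (L : Set G))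
    (htriv : ∀ a ∈ S, ∀ m ∈ M, ⁅a, m⁆ ∈ L) :
    ∀ m ∈ ⁅M, R⁆ ⊔ L, x * m = m * x → m ∈ (Cfsg.pCoreOf q (centralizer ({x} : Set G)) ⊓ M) ⊔ L := by
  haveI := Fact.mk h.prime
  haveI := Fact.mk h.qprime
  haveI := Fact.mk hP.rprime
  set D := Cfsg.pCoreOf q (centralizer ({x} : Set G))
  set W := (D ⊓ M) ⊔ L with hW
  set X := W ⊔ ⁅M, zpowers x⁆ with hX
  have hcomm : Commute x z := h.commute
  have hzC : z ∈ centralizer ({x} : Set G) := PCore.pCoreOf_le _ h.z_mem
  have hzX : z ∈ normalizer (X : Set G) :=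
    mem_normalizer_sup (mem_normalizer_sup
      (inf_normalizer_le_normalizer_inf ⟨PCore.le_normalizer_pCoreOf _ hzC, hzM⟩) hzL)
      (mem_normalizer_commutator hzM hcomm.symm)
  have hLX : L ≤ X := le_sup_right.trans le_sup_left
  have hqp' : ∀ K : Subgroup G, IsPGroup q K → (Nat.card K).Coprime p := by
    intro K hK
    obtain ⟨n, hn⟩ := IsPGroup.iff_card.1 hK
    rw [hn]
    exact ((Nat.coprime_primes h.qprime h.prime).2 hqp).pow_left n
  have hzI : z ∈ normalizer (commInto M X : Set G) := by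
    refine mem_normalizer_iff_map_conj_eq.2 (le_antisymm ?_ ?_)
    · rintro _ ⟨y, ⟨hy1, hy2⟩, rfl⟩
      refine ⟨mul_mem (mul_mem hzM hy1) (inv_mem hzM), fun m hm => ?_⟩
      have h1 := hy2 _ ((mem_normalizer_iff.1 (inv_mem hzM) m).1 hm)
      have h2 := (mem_normalizer_iff.1 hzX _).1 h1
      convert h2 using 1
      simp [commutatorElement_def, mul_assoc]
    · intro y hy
      refine ⟨z⁻¹ * y * z, ⟨mul_mem (mul_mem (inv_mem hzM) hy.1) hzM, fun m hm => ?_⟩, by simp [mul_assoc]⟩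
      have h1 := hy.2 _ ((mem_normalizer_iff.1 hzM m).1 hm)
      have h2 := (mem_normalizer_iff.1 (inv_mem hzX) _).1 h1
      convert h2 using 1
      simp [commutatorElement_def, mul_assoc]
  have hSI : S ≤ commInto M X := by
    intro a ha
    have key : ∀ b ∈ S, ∀ y ∈ M, b * y * b⁻¹ ∈ M := fun b hb y hy => by
      rw [show b * y * b⁻¹ = ⁅b, y⁆ * y by rw [commutatorElement_def]; group]
      exact mul_mem (hML.le (htriv b hb y hy)) hy
    refine ⟨mem_normalizer_iff.2 fun y => ⟨key a ha y, fun hy => ?_⟩, fun m hm => hLX ?_⟩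
    · have := key a⁻¹ (inv_mem ha) _ hy
      simpa [mul_assoc] using this
    · rw [← commutatorElement_inv]
      exact inv_mem (htriv a ha m hm)
  suffices hall : ∀ n, ∀ R₁ : Subgroup G, Nat.card R₁ = n → R₁ ≤ R → IsPair q x z r S R₁ →
      R₁ ≤ commInto M X by
    intro m hm hmx
    have hle : ⁅M, R⁆ ⊔ L ≤ X := sup_le (commutator_le.2 fun a ha b hb =>
      ((hall _ R rfl le_rfl hP) hb).2 a ha) hLX
    have hCM : ⁅M, zpowers x⁆ ≤ M := commutator_zpowers_le hxM
    have hMW : M ≤ normalizer (W : Set G) := by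
      have key : ∀ g ∈ M, ∀ y ∈ W, g * y * g⁻¹ ∈ W := fun g hg y hy => by
        rw [show g * y * g⁻¹ = ⁅g, y⁆ * y by rw [commutatorElement_def]; group]
        exact mul_mem (mem_sup_right (hML.comm g hg y (sup_le inf_le_right hML.le hy))) hy
      intro g hg
      refine mem_normalizer_iff.2 fun y => ⟨key g hg y, fun hy => ?_⟩
      have := key g⁻¹ (inv_mem hg) _ hy
      simpa [mul_assoc] using this
    obtain ⟨w, hw, c, hc, e⟩ := (Coprime.mem_sup_iff_of_le_normalizer' (hCM.trans hMW)).1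
      (by rw [sup_comm]; exact hle hm : m ∈ ⁅M, zpowers x⁆ ⊔ W)
    have hxw : ⁅x, w⁆ ∈ L := by
      obtain ⟨d, hd, l, hl, e'⟩ := (Coprime.mem_sup_iff_of_le_normalizer
        (inf_le_right.trans hML.norm : D ⊓ M ≤ normalizer (L : Set G))).1 hw
      have hxd : x * d = d * x := (mem_centralizer_singleton_iff.1 (PCore.pCoreOf_le _ hd.1)).symm
      rw [← e', show ⁅x, d * l⁆ = x * d * x⁻¹ * (x * l * x⁻¹ * l⁻¹) * d⁻¹ by
        rw [commutatorElement_def]; group, hxd, mul_inv_cancel_right]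
      exact (mem_normalizer_iff.1 (hML.norm hd.2) _).1
        (mul_mem ((mem_normalizer_iff.1 hxL l).1 hl) (inv_mem hl))
    have hc' : c ∈ L := by
      refine hML.mem_of_fixed (A := zpowers x) (zpowers_le.2 hxM) (zpowers_le.2 hxL)
        (by rw [Nat.card_zpowers, h.order_x]; exact (Nat.coprime_primes h.prime h.qprime).2 hqp.symm)
        (mem_sup_left hc) ?_
      have hwM : w ∈ M := sup_le inf_le_right hML.le hw
      have h1 : ⁅x, c⁆ ∈ L := by
        have h2 : ⁅x, c⁆ = w⁻¹ * (⁅x, w⁆⁻¹ * ⁅x, w * c⁆) * w := by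
          simp only [commutatorElement_def]; group
        rw [h2, e, commutatorElement_eq_one_iff_mul_comm.2 hmx, mul_one]
        have := (mem_normalizer_iff.1 (inv_mem (hML.norm hwM)) _).1 (inv_mem hxw)
        simpa using this
      have hcN : c ∈ normalizer (L : Set G) := hML.norm (hCM hc)
      intro a ha
      obtain ⟨i, rfl⟩ := (isOfFinOrder_of_finite x).mem_powers_iff_mem_zpowers.2 ha
      show ⁅x ^ i, c⁆ ∈ L
      clear ha
      induction i with
      | zero => simp
      | succ i ih =>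
        rw [pow_succ, show ⁅x ^ i * x, c⁆ = x ^ i * ⁅x, c⁆ * (x ^ i)⁻¹ * ⁅x ^ i, c⁆ by
          simp only [commutatorElement_def]; group]
        exact mul_mem ((mem_normalizer_iff.1 (pow_mem hxL i) _).1 h1) ih
    rw [← e]
    exact mul_mem hw (mem_sup_right hc')
  intro n
  induction n using Nat.strong_induction_on with
  | _ n ih =>
    intro R₁ hn hR₁R hP₁
    subst hn
    have hRM₁ := hR₁R.trans hRM
    have hRL₁ := hR₁R.trans hRL
    set orb : G → Subgroup G := fun v => S ⊔ closure (⋃ i : ℕ, (fun y => z ^ i * y * (z ^ i)⁻¹) ''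
      ((R₁ ⊓ closure ({x, v * x * v⁻¹} : Set G) : Subgroup G) : Set G)) with horb
    by_cases hex : ∃ v ∈ R₁, S ⊔ R₁ ≤ orb v
    · obtain ⟨v, hv, hgen⟩ := hex
      set R₀ := R₁ ⊓ closure ({x, v * x * v⁻¹} : Set G) with hR₀
      have hxR₀ : x ∈ normalizer (R₀ : Set G) :=
        inf_normalizer_le_normalizer_inf ⟨hP₁.x_normR, le_normalizer (subset_closure (by simp))⟩
      set U := ⁅M, R₀⁆ ⊔ L with hU
      have hR₀M : R₀ ≤ normalizer (M : Set G) := inf_le_left.trans hRM₁
      have hCM : ⁅M, R₀⁆ ≤ M := Coprime.commutator_le_left_of_le_normalizer hR₀M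
      have hxU : x ∈ normalizer (U : Set G) :=
        mem_normalizer_sup (mem_normalizer_commutator_both hxM hxR₀) hxL
      have hRU : R₀ ≤ normalizer (U : Set G) := by
        have key : ∀ g ∈ R₀, ∀ y ∈ U, g * y * g⁻¹ ∈ U := fun g hg y hy => by
          rw [show g * y * g⁻¹ = ⁅y, g⁆⁻¹ * y by rw [commutatorElement_def]; group]
          exact mul_mem (inv_mem (mem_sup_left (commutator_mem_commutator (sup_le hCM hML.le hy) hg))) hy
        intro g hg
        refine mem_normalizer_iff.2 fun y => ⟨key g hg y, fun hy => ?_⟩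
        have := key g⁻¹ (inv_mem hg) _ hy
        simpa [mul_assoc] using this
      have hfix := hP₁.section_le h hqp hH hrp hSH (hR₁R.trans hRH) hxH hML hMS hxM hxL hRM₁ hRL₁ htriv hv hgen U
        le_sup_right le_rfl hxU hRU
      have hUS : U ≤ S := (sup_le hCM hML.le).trans hMS
      have hUX : U ≤ X := by
        intro u hu
        obtain ⟨c, hc, c', hc', rfl⟩ := Coprime.exists_centralizer_mul_commutator (A := zpowers x)
          (zpowers_le.2 hxU) (by rw [Nat.card_zpowers, h.order_x]; exact (hqp' U (hP.qgroup.to_le hUS)).symm)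
          (Or.inl inferInstance) hu
        exact mul_mem (mem_sup_left (hfix c hc.1 (mem_centralizer_iff.1 hc.2 x (mem_zpowers x))))
          (mem_sup_right (commutator_mono (sup_le hCM hML.le) le_rfl hc'))
      have hR₀I : R₀ ≤ commInto M X := fun b hb =>
        ⟨hR₀M hb, fun m hm => hUX (mem_sup_left (commutator_mem_commutator hm hb))⟩
      refine le_sup_right.trans (hgen.trans (sup_le hSI ((closure_le _).2 ?_)))
      intro y hy
      obtain ⟨i, y', hy', rfl⟩ := by simpa only [Set.mem_iUnion, Set.mem_image] using hy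
      exact (mem_normalizer_iff.1 (pow_mem hzI i) y').1 (hR₀I hy')
    · push Not at hex
      exact hP₁.le_of_subpairs h (hP₁.commutator_x h hqp hrp) hSI
        (fun R'' hR'' hlt hpair => ih _ hlt R'' rfl (hR''.trans hR₁R) hpair) hex

end Cfsg.Agent.TwoGenSolvable
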