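import Mathlib
import Cfsg.Agent.Lib.TwoGenSolvable.TLift
import Cfsg.Agent.Lib.TwoGenSolvable.SectAux
import Cfsg.Agent.Lib.PCore.UpperSeries
import Cfsg.Agent.Lib.PCore.HallHigman
import Cfsg.Agent.Lib.PGroup.Frattini

/-!
# Elementary abelian sections cut out by cores

`exists_core_or_section`: for a normal subgroup `K` of the solvable `Θ`, every `r`-subgroup lies in the preimage
of `O_r(Θ / K)` or moves an elementary abelian section above `K` of another prime.
-/

set_option autoImplicit false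
set_option linter.style.haveILetI false
set_option linter.unusedSectionVars false

namespace Cfsg.Agent.TwoGenSolvable

open Subgroup
open scoped commutatorElement

universe u

variable {G : Type u} [Group G] [Finite G]

/-- The elements normalising `M` and `L` that act trivially on `M / L`. -/
def sectCentralizer (M L : Subgroup G) : Subgroup G where
  carrier := {g | g ∈ normalizer (M : Set G) ∧ g ∈ normalizer (L : Set G) ∧ ∀ m ∈ M, ⁅g, m⁆ ∈ L}
  one_mem' := ⟨one_mem _, one_mem _, fun m _ => by rw [commutatorElement_one_left]; exact one_mem _⟩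
  mul_mem' := fun {a b} ha hb => ⟨mul_mem ha.1 hb.1, mul_mem ha.2.1 hb.2.1, fun m hm => by
    rw [show ⁅a * b, m⁆ = a * ⁅b, m⁆ * a⁻¹ * ⁅a, m⁆ by simp only [commutatorElement_def]; group]
    exact mul_mem ((mem_normalizer_iff.1 ha.2.1 _).1 (hb.2.2 m hm)) (ha.2.2 m hm)⟩
  inv_mem' := fun {a} ha => ⟨inv_mem ha.1, inv_mem ha.2.1, fun m hm => by
    rw [show ⁅a⁻¹, m⁆ = a⁻¹ * ⁅a, m⁆⁻¹ * (a⁻¹)⁻¹ by simp only [commutatorElement_def]; group]
    exact (mem_normalizer_iff.1 (inv_mem ha.2.1) _).1 (inv_mem (ha.2.2 m hm))⟩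

theorem mem_sectCentralizer {M L : Subgroup G} {g : G} :
    g ∈ sectCentralizer M L ↔ g ∈ normalizer (M : Set G) ∧ g ∈ normalizer (L : Set G) ∧ ∀ m ∈ M, ⁅g, m⁆ ∈ L :=
  Iff.rfl

theorem le_sectCentralizer_of_commutator_le {M L A : Subgroup G} (hM : A ≤ normalizer (M : Set G))
    (hL : A ≤ normalizer (L : Set G)) (h : ⁅M, A⁆ ≤ L) : A ≤ sectCentralizer M L := fun a ha =>
  ⟨hM ha, hL ha, fun m hm => by
    rw [← commutatorElement_inv]
    exact inv_mem (h (commutator_mem_commutator hm ha))⟩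

theorem commutator_le_of_le_sectCentralizer {M L A : Subgroup G} (h : A ≤ sectCentralizer M L) : ⁅M, A⁆ ≤ L :=
  commutator_le.2 fun m hm a ha => by
    rw [← commutatorElement_inv]
    exact inv_mem ((h ha).2.2 m hm)

theorem IsESection.le_sectCentralizer {s : ℕ} {M L : Subgroup G} (h : IsESection s M L) :
    M ≤ sectCentralizer M L := fun a ha => ⟨le_normalizer ha, h.norm ha, fun m hm => h.comm a ha m hm⟩

theorem le_normalizer_sectCentralizer {A M L : Subgroup G} (hM : A ≤ normalizer (M : Set G))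
    (hL : A ≤ normalizer (L : Set G)) : A ≤ normalizer (sectCentralizer M L : Set G) := by
  intro a ha
  refine mem_normalizer_of_conj_mem fun g hg => ⟨?_, ?_, fun m hm => ?_⟩
  · exact mul_mem (mul_mem (hM ha) hg.1) (inv_mem (hM ha))
  · exact mul_mem (mul_mem (hL ha) hg.2.1) (inv_mem (hL ha))
  · have hm' : a⁻¹ * m * a ∈ M := by simpa using (mem_normalizer_iff.1 (inv_mem (hM ha)) m).1 hm
    have := (mem_normalizer_iff.1 (hL ha) _).1 (hg.2.2 _ hm')
    rwa [show a * ⁅g, a⁻¹ * m * a⁆ * a⁻¹ = ⁅a * g * a⁻¹, m⁆ by simp only [commutatorElement_def]; group] at this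

/-- A characteristic subgroup of a characteristic subgroup is characteristic. -/
theorem characteristic_map_subtype {J : Type u} [Group J] {Q : Subgroup J} [hQ : Q.Characteristic] (C : Subgroup Q)
    [hC : C.Characteristic] : (C.map Q.subtype).Characteristic := by
  refine characteristic_iff_map_le.2 fun φ => ?_
  rintro _ ⟨_, ⟨a, ha, rfl⟩, rfl⟩
  have hφQ : Q.map φ.toMonoidHom = Q := characteristic_iff_map_eq.1 hQ φ
  let ψ : Q ≃* Q := (Q.equivMapOfInjective φ.toMonoidHom φ.injective).trans (MulEquiv.subgroupCongr hφQ)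
  exact ⟨ψ a, (characteristic_iff_map_eq.1 hC ψ).le ⟨a, ha, rfl⟩, rfl⟩

/-- The preimage of a characteristic subgroup of `Θ / K` is normalised by `N(Θ) ∩ N(K)`. -/
theorem mem_normalizer_map_comap_mk' {Θ : Subgroup G} {K : Subgroup Θ} [K.Normal] {g : G}
    (hg : g ∈ normalizer (Θ : Set G)) (hK : g ∈ normalizer ((K.map Θ.subtype : Subgroup G) : Set G))
    (C : Subgroup (Θ ⧸ K)) [hC : C.Characteristic] :
    g ∈ normalizer (((C.comap (QuotientGroup.mk' K)).map Θ.subtype : Subgroup G) : Set G) := by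
  refine mem_normalizer_of_conj_mem ?_
  rintro _ ⟨a, ha, rfl⟩
  let ψ : MulAut Θ := Θ.normalizerMonoidHom ⟨g, hg⟩
  have hψ : ∀ b : Θ, ((ψ b : Θ) : G) = g * b * g⁻¹ := fun b => rfl
  have hKψ : K.map ψ.toMonoidHom = K := by
    refine map_injective Θ.subtype_injective ?_
    rw [map_map, show Θ.subtype.comp ψ.toMonoidHom = (MulAut.conj g).toMonoidHom.comp Θ.subtype from
      MonoidHom.ext fun b => hψ b, ← map_map]
    exact mem_normalizer_iff_map_conj_eq.1 hK
  refine ⟨ψ a, ?_, hψ a⟩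
  exact characteristic_iff_map_le.1 hC (QuotientGroup.congr K K ψ hKψ) ⟨_, ha, rfl⟩

/-- A preimage of `Q / Φ(Q)` is an elementary abelian section, and what is trivial on it is trivial on
`Q / Φ(Q)`. -/
theorem isESection_preimage_frattini {Θ : Subgroup G} {J : Type u} [Group J] [Finite J] {t : ℕ} [Fact t.Prime]
    (f : Θ →* J) (hf : Function.Surjective f) (Q : Subgroup J) (hQ : IsPGroup t Q) :
    IsESection t ((Q.comap f).map Θ.subtype) ((((frattini Q).map Q.subtype).comap f).map Θ.subtype) ∧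
      ∀ a : Θ, (∀ m ∈ (Q.comap f).map Θ.subtype, ⁅(a : G), m⁆ ∈ (((frattini Q).map Q.subtype).comap f).map Θ.subtype) →
        ∀ v ∈ Q, ⁅f a, v⁆ ∈ (frattini Q).map Q.subtype := by
  set Φ := (frattini Q).map Q.subtype
  have hmemΦ : ∀ a : Θ, (a : G) ∈ (Φ.comap f).map Θ.subtype ↔ f a ∈ Φ := fun a =>
    ⟨fun ⟨b, hb, e⟩ => Subtype.ext e ▸ hb, fun ha => ⟨a, ha, rfl⟩⟩
  refine ⟨⟨map_mono (comap_mono (map_subtype_le _)), ?_, ?_, ?_⟩, fun a ha v hv => ?_⟩
  · rintro _ ⟨a, ha, rfl⟩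
    refine mem_normalizer_of_conj_mem ?_
    rintro _ ⟨b, ⟨c, hc, hcb⟩, rfl⟩
    show ((a * b * a⁻¹ : Θ) : G) ∈ _
    rw [hmemΦ, map_mul, map_mul, map_inv, ← hcb]
    exact ⟨⟨f a, ha⟩ * c * ⟨f a, ha⟩⁻¹, (inferInstance : (frattini Q).Normal).conj_mem c hc _, rfl⟩
  · rintro _ ⟨a, ha, rfl⟩ _ ⟨b, hb, rfl⟩
    show ((⁅a, b⁆ : Θ) : G) ∈ _
    rw [hmemΦ, map_commutatorElement]
    exact ⟨⁅(⟨f a, ha⟩ : Q), ⟨f b, hb⟩⁆,
      PGroup.commutator_le_frattini hQ (commutator_mem_commutator (mem_top _) (mem_top _)), rfl⟩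
  · rintro _ ⟨a, ha, rfl⟩
    show ((a ^ t : Θ) : G) ∈ _
    rw [hmemΦ, map_pow]
    exact ⟨⟨f a, ha⟩ ^ t, PGroup.pow_mem_frattini hQ _, rfl⟩
  · obtain ⟨b, rfl⟩ := hf v
    have := ha b ⟨b, hv, rfl⟩
    rw [show ⁅(a : G), (b : G)⁆ = ((⁅a, b⁆ : Θ) : G) from rfl, hmemΦ, map_commutatorElement] at this
    exact this

/-- In a solvable group with `O_{q'} = 1`, what is trivial on `O_q / Φ(O_q)` lies in `O_q`. -/
theorem mem_pCore_of_trivial_frattini {J : Type u} [Group J] [Finite J] [Group.IsSolvable J] {q : ℕ} [Fact q.Prime]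
    (h : Cfsg.pPrimeCore q J = ⊥) {a : J}
    (ha : ∀ v ∈ Cfsg.pCore q J, ⁅a, v⁆ ∈ (frattini ↥(Cfsg.pCore q J)).map (Cfsg.pCore q J).subtype) :
    a ∈ Cfsg.pCore q J := by
  set Q := Cfsg.pCore q J
  set Φ := (frattini Q).map Q.subtype with hΦ
  haveI hΦc : Φ.Characteristic := characteristic_map_subtype _
  set N := sectCentralizer Q Φ
  haveI hNn : N.Normal := normalizer_eq_top_iff.1 (top_le_iff.1 (le_normalizer_sectCentralizer
    (by rw [normalizer_eq_top_iff.2 inferInstance]) (by rw [normalizer_eq_top_iff.2 inferInstance])))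
  have hN : ∀ y ∈ N, (orderOf y).Coprime q → y = 1 := by
    intro y hy hyq
    have hcop : (Nat.card (zpowers y)).Coprime (Nat.card (frattini Q)) := by
      obtain ⟨n, hn⟩ := IsPGroup.iff_card.1 ((PCore.isPGroup_pCore : IsPGroup q Q).to_subgroup (frattini Q))
      rw [hn, Nat.card_zpowers]
      exact hyq.pow_right n
    have hc := Coprime.le_centralizer_of_frattini (A := zpowers y) (K := Q)
      (zpowers_le.2 hy.1) hcop fun b hb k hk => by
        have := (zpowers_le.2 hy hb).2.2 k hk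
        rw [commutatorElement_def] at this
        exact this
    have hyQ : y ∈ Q := PCore.centralizer_pCore_le_of_isSolvable h (hc (mem_zpowers y))
    obtain ⟨n, hn⟩ := IsPGroup.iff_card.1 (PCore.isPGroup_pCore : IsPGroup q Q)
    have h1 : orderOf y ∣ q ^ n := hn ▸ Q.orderOf_dvd_natCard hyQ
    exact orderOf_eq_one_iff.1 (Nat.Coprime.eq_one_of_dvd (hyq.pow_right n) h1)
  have hNq : IsPGroup q N := by
    intro y
    obtain ⟨k, m, hqm, hm⟩ := Nat.exists_eq_pow_mul_and_not_dvd (orderOf_pos (y : J)).ne' q (Fact.out : q.Prime).ne_one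
    refine ⟨k, Subtype.ext ?_⟩
    rw [SubgroupClass.coe_pow, OneMemClass.coe_one]
    refine hN _ (pow_mem y.2 _) ?_
    rw [orderOf_pow' _ (pow_ne_zero k (Fact.out : q.Prime).ne_zero), hm, Nat.gcd_eq_right (Dvd.intro m rfl),
      Nat.mul_div_cancel_left _ (pow_pos (Fact.out : q.Prime).pos k)]
    exact ((Fact.out : q.Prime).coprime_iff_not_dvd.2 hqm).symm
  exact PCore.le_pCore hNq ⟨by rw [normalizer_eq_top_iff.2 inferInstance]; exact mem_top _,
    by rw [normalizer_eq_top_iff.2 inferInstance]; exact mem_top _, ha⟩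

/-- Over a normal subgroup `K` of the solvable `Θ`: an `r`-subgroup lies over `O_r(Θ/K)` or moves a section. -/
theorem exists_core_or_section {Θ K : Subgroup G} (hΘ : Group.IsSolvable Θ) (hKΘ : K ≤ Θ)
    (hK : Θ ≤ normalizer (K : Set G)) {r : ℕ} (hr : r.Prime) :
    ∃ T : Subgroup G, T ≤ Θ ∧ (∀ g ∈ normalizer (Θ : Set G), g ∈ normalizer (K : Set G) → g ∈ normalizer (T : Set G)) ∧
      (∀ t ∈ T, ∃ k : ℕ, t ^ r ^ k ∈ K) ∧
      ∀ W : Subgroup G, IsPGroup r W → W ≤ Θ → W ≤ T ∨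
        ∃ (s : ℕ) (M L : Subgroup G), s.Prime ∧ s ≠ r ∧ K ≤ L ∧ M ≤ Θ ∧ IsESection s M L ∧
          (∀ g ∈ normalizer (Θ : Set G), g ∈ normalizer (K : Set G) →
            g ∈ normalizer (M : Set G) ∧ g ∈ normalizer (L : Set G)) ∧
          ¬ ⁅M, W⁆ ≤ L := by
  classical
  haveI := Fact.mk hr
  haveI := hΘ
  haveI := Coprime.normal_subgroupOf_of_le_normalizer hK
  set f := QuotientGroup.mk' (K.subgroupOf Θ) with hf
  have hfs : Function.Surjective f := QuotientGroup.mk'_surjective _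
  have hKmap : (K.subgroupOf Θ).map Θ.subtype = K := map_subgroupOf_eq_of_le hKΘ
  set J := Θ ⧸ K.subgroupOf Θ
  set O := Cfsg.pCore r J
  refine ⟨(O.comap f).map Θ.subtype, map_subtype_le _,
    fun g hg hgK => mem_normalizer_map_comap_mk' hg (hKmap.symm ▸ hgK) O, ?_, fun W hW hWΘ => ?_⟩
  · rintro _ ⟨a, ha, rfl⟩
    obtain ⟨k, hk⟩ := (PCore.isPGroup_pCore : IsPGroup r O) ⟨f a, ha⟩
    refine ⟨k, ?_⟩
    have h1 : f (a ^ r ^ k) = 1 := (map_pow f a _).trans (congrArg Subtype.val hk)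
    exact mem_subgroupOf.1 ((QuotientGroup.eq_one_iff _).1 h1)
  by_cases hWO : (W.subgroupOf Θ).map f ≤ O
  · exact Or.inl fun w hw => ⟨⟨w, hWΘ hw⟩, hWO ⟨⟨w, hWΘ hw⟩, hw, rfl⟩, rfl⟩
  right
  set π₂ := QuotientGroup.mk' O
  set g₂ := π₂.comp f with hg₂
  have hgs : Function.Surjective g₂ := (QuotientGroup.mk'_surjective O).comp hfs
  haveI : Group.IsSolvable J := Group.isSolvable_of_surjective (f := f) hfs
  haveI : Group.IsSolvable (J ⧸ O) := Group.isSolvable_of_surjective (f := π₂) (QuotientGroup.mk'_surjective _)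
  set Wb := (W.subgroupOf Θ).map g₂
  have hWbr : IsPGroup r Wb := (IsPGroup.comap_subtype hW).map g₂
  have hWb : Wb ≠ ⊥ := fun e => hWO <| by
    rintro _ ⟨a, ha, rfl⟩
    have h1 : g₂ a ∈ Wb := ⟨a, ha, rfl⟩
    rw [e, mem_bot] at h1
    exact (QuotientGroup.eq_one_iff _).1 h1
  obtain ⟨t, ht, htr, v, hv, w, hw, hne⟩ : ∃ t : ℕ, t.Prime ∧ t ≠ r ∧ ∃ v ∈ Cfsg.pCore t (J ⧸ O),
      ∃ w ∈ Wb, w * v ≠ v * w := by
    by_contra hc
    push Not at hc
    exact hWb (eq_bot_of_centralizes_cores hr PCore.pCore_quotient_self_eq_bot hWbr hc)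
  haveI := Fact.mk ht
  set Q := Cfsg.pCore t (J ⧸ O)
  set Φ := (frattini Q).map Q.subtype
  obtain ⟨hsec, htriv⟩ := isESection_preimage_frattini g₂ hgs Q PCore.isPGroup_pCore
  haveI : (Q.comap π₂).Characteristic := PCore.comap_mk'_characteristic O Q
  haveI : Φ.Characteristic := characteristic_map_subtype _
  haveI : (Φ.comap π₂).Characteristic := PCore.comap_mk'_characteristic O Φ
  refine ⟨t, _, _, ht, htr, ?_, map_subtype_le _, hsec, fun g hg hgK => ⟨?_, ?_⟩, fun hle => hne ?_⟩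
  · intro a ha
    refine ⟨⟨a, hKΘ ha⟩, ?_, rfl⟩
    show g₂ ⟨a, hKΘ ha⟩ ∈ Φ
    have h1 : f ⟨a, hKΘ ha⟩ = 1 :=
      (QuotientGroup.eq_one_iff _).2 (mem_subgroupOf.2 ha : (⟨a, hKΘ ha⟩ : Θ) ∈ K.subgroupOf Θ)
    rw [hg₂, MonoidHom.comp_apply, h1, map_one]
    exact one_mem _
  · exact mem_normalizer_map_comap_mk' hg (hKmap.symm ▸ hgK) (Q.comap π₂)
  · exact mem_normalizer_map_comap_mk' hg (hKmap.symm ▸ hgK) (Φ.comap π₂)
  · have hcop : (Nat.card Wb).Coprime (Nat.card (frattini Q)) := IsPGroup.coprime_card_of_ne r t htr.symm Wb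
      (frattini Q) hWbr ((PCore.isPGroup_pCore : IsPGroup t Q).to_subgroup _)
    have hc := Coprime.le_centralizer_of_frattini (A := Wb) (K := Q)
      (by rw [normalizer_eq_top_iff.2 inferInstance]; exact le_top) hcop (by
        rintro _ ⟨a, ha, rfl⟩ k hk
        have := htriv a (fun m hm => by
          rw [← commutatorElement_inv]
          exact inv_mem (hle (commutator_mem_commutator hm ha))) k hk
        rw [commutatorElement_def] at this
        exact this)
    exact (mem_centralizer_iff.1 (hc hw) v hv).symm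

end Cfsg.Agent.TwoGenSolvable
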