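import Mathlib
import Cfsg.Agent.Lib.TwoGenSolvable.Pair
import Cfsg.Agent.Lib.TwoGenSolvable.MemberBasic
import Cfsg.Agent.Lib.TwoGenSolvable.SectionTools
import Cfsg.Agent.Lib.SylowCount.Basic

/-!
# A moved pair covering a layer of `O_{p'}(H)`
-/

set_option autoImplicit false
set_option linter.style.haveILetI false
set_option linter.unusedSectionVars false

namespace Cfsg.Agent.TwoGenSolvable

open Subgroup
open scoped commutatorElement Pointwise

universe u

variable {G : Type u} [Group G] [Finite G] {p q r : ℕ} {x z : G} {H : Subgroup G}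

/-- For `O ≤ E ≤ T` normalised by `H`, `O` a `q'`-group, `E / O` a `q`-group and `T / E` an `r`-group, a pair
`S, R` with `E = O S` and `[T, z] ≤ R E`. -/
theorem exists_layer_pair (h : QCtx p q x z) (hqp : q ≠ p) (hH : Group.IsSolvable H) (hx : x ∈ H) (hz : z ∈ H)
    (hr : r.Prime) (hrq : r ≠ q) (hrp : r ≠ p) {O E T : Subgroup G} (hTΘ : T ≤ ppOf p H) (hET : E ≤ T)
    (hnO : H ≤ normalizer (O : Set G)) (hnE : H ≤ normalizer (E : Set G))
    (hnT : H ≤ normalizer (T : Set G))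
    (hEq : ∀ e ∈ E, ∃ k : ℕ, e ^ q ^ k ∈ O) (hTr : ∀ t ∈ T, ∃ k : ℕ, t ^ r ^ k ∈ E) :
    ∃ S R : Subgroup G, IsPair q x z r S R ∧ S ≤ E ∧ R ≤ T ∧ E ≤ O ⊔ S ∧ ⁅T, zpowers z⁆ ≤ R ⊔ E := by
  classical
  haveI := Fact.mk hr
  haveI := Fact.mk h.qprime
  haveI := Fact.mk h.prime
  set Θ := ppOf p H
  have hΘH : Θ ≤ H := ppOf_le p H
  have hEΘ : E ≤ Θ := hET.trans hTΘ
  have hzΘ : z ∈ Θ := h.pCoreOf_inf_le hqp hH hx ⟨h.z_mem, hz⟩
  have hΘp : (Nat.card Θ).Coprime p := coprime_card_ppOf p H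
  have hxz : Commute x z := h.commute
  -- the Sylow subgroup
  obtain ⟨Q, hzQ, hxQ⟩ := Coprime.exists_invariant_sylow_ge (A := zpowers x) (K := Θ) (U := zpowers z) (p := q)
    (zpowers_le.2 (le_normalizer_ppOf p H hx)) (by rw [Nat.card_zpowers, h.order_x]; exact hΘp.symm)
    (Or.inl inferInstance) (zpowers_le.2 hzΘ)
    (IsPGroup.of_card (n := 1) (by rw [Nat.card_zpowers, pow_one, h.order_z]))
    (zpowers_le.2 (centralizer_le_normalizer _ (by
      rw [zpowers_eq_closure, centralizer_closure]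
      exact mem_centralizer_singleton_iff.2 hxz.eq)))
  set Q' := (Q : Subgroup Θ).map Θ.subtype
  set S := Q' ⊓ E with hS
  have hSE : S ≤ E := inf_le_right
  have hSs : IsPGroup q S := (Q.2.map Θ.subtype).to_le inf_le_left
  haveI : (E.subgroupOf Θ).Normal := Coprime.normal_subgroupOf_of_le_normalizer (hΘH.trans hnE)
  obtain ⟨R₀, hR₀⟩ := SylowCount.exists_sylow_inf Q (E.subgroupOf Θ)
  set eE := subgroupOfEquivOfLe hEΘ
  set SE : Sylow q E := R₀.mapSurjective (f := eE.toMonoidHom) eE.surjective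
  have hSEeq : (SE : Subgroup E) = S.subgroupOf E := by
    rw [show (SE : Subgroup E) = (R₀ : Subgroup _).map eE.toMonoidHom from Sylow.coe_mapSurjective _ _, hR₀]
    ext a
    constructor
    · rintro ⟨b, hb, rfl⟩
      exact ⟨⟨_, hb, rfl⟩, (eE b).2⟩
    · intro ha
      obtain ⟨⟨c, hc, hca⟩, -⟩ := ha
      exact ⟨⟨⟨a, hEΘ a.2⟩, a.2⟩, show (⟨(a : G), hEΘ a.2⟩ : Θ) ∈ (Q : Subgroup Θ) from
        (show c = ⟨(a : G), hEΘ a.2⟩ from Subtype.ext hca) ▸ hc, rfl⟩
  have hSEmap : (SE : Subgroup E).map E.subtype = S := by rw [hSEeq, map_subgroupOf_eq_of_le hSE]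
  have hxN : x ∈ normalizer (S : Set G) :=
    inf_normalizer_le_normalizer_inf ⟨hxQ (mem_zpowers x), hnE hx⟩
  have hzN : z ∈ normalizer (S : Set G) :=
    inf_normalizer_le_normalizer_inf ⟨le_normalizer (hzQ (mem_zpowers z)), hnE hz⟩
  -- `E = O S`
  have hEOS : E ≤ O ⊔ S := by
    haveI : (O.subgroupOf E).Normal := Coprime.normal_subgroupOf_of_le_normalizer ((hEΘ.trans hΘH).trans hnO)
    have hq' : IsPGroup q (E ⧸ O.subgroupOf E) := by
      intro y
      obtain ⟨a, rfl⟩ := QuotientGroup.mk'_surjective (O.subgroupOf E) y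
      obtain ⟨k, hk⟩ := hEq a a.2
      refine ⟨k, ?_⟩
      rw [← map_pow]
      exact (QuotientGroup.eq_one_iff _).2 (mem_subgroupOf.2 hk)
    set M := SE.mapSurjective (f := QuotientGroup.mk' (O.subgroupOf E)) (QuotientGroup.mk'_surjective _)
    have htop : (M : Subgroup (E ⧸ O.subgroupOf E)) = ⊤ := (M.is_maximal' (hq'.to_subgroup ⊤) le_top).symm
    intro e he
    have h1 : QuotientGroup.mk' (O.subgroupOf E) ⟨e, he⟩ ∈ (M : Subgroup (E ⧸ O.subgroupOf E)) := htop ▸ mem_top _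
    rw [Sylow.coe_mapSurjective] at h1
    obtain ⟨a, ha, hae⟩ := h1
    have ha' : (a : G) ∈ S := hSEmap ▸ ⟨a, ha, rfl⟩
    have h2 : a⁻¹ * ⟨e, he⟩ ∈ O.subgroupOf E := QuotientGroup.eq.1 hae
    rw [show e = (a : G) * ((a : G)⁻¹ * e) by group]
    exact mul_mem (mem_sup_right ha') (mem_sup_left (mem_subgroupOf.1 h2))
  -- the quotient `N(S) / S`
  set N := normalizer (S : Set G) with hN
  set Y := T ⊓ N with hY
  have hSY : S ≤ Y := le_inf (hSE.trans hET) le_normalizer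
  haveI : (S.subgroupOf N).Normal := normal_in_normalizer
  set π := QuotientGroup.mk' (S.subgroupOf N) with hπ
  have hker : π.ker = S.subgroupOf N := QuotientGroup.ker_mk' _
  have hkerq : IsPGroup q π.ker := hker.symm ▸ IsPGroup.comap_subtype hSs
  set Y' := Y.subgroupOf N
  set Yb := Y'.map π
  have hmemY : ∀ a : N, π a ∈ Yb → (a : G) ∈ Y := by
    rintro a ⟨b, hb, hba⟩
    have h1 : b⁻¹ * a ∈ S.subgroupOf N := QuotientGroup.eq.1 hba
    rw [show (a : G) = (b : G) * ((b : G)⁻¹ * a) by group]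
    exact mul_mem hb (hSY (mem_subgroupOf.1 h1))
  have hYbq : (Nat.card Yb).Coprime q := by
    refine ((h.qprime.coprime_iff_not_dvd).2 fun hd => ?_).symm
    obtain ⟨y, hy⟩ := exists_prime_orderOf_dvd_card' q hd
    set U := ((zpowers (y : N ⧸ S.subgroupOf N)).comap π).map N.subtype
    have hyq : IsPGroup q (zpowers (y : N ⧸ S.subgroupOf N)) :=
      IsPGroup.of_card (n := 1) (by rw [Nat.card_zpowers, orderOf_submonoid, hy, pow_one])
    have hUq : IsPGroup q U := (hyq.comap_of_ker_isPGroup π hkerq).map N.subtype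
    have hUE : U ≤ E := by
      rintro _ ⟨a, ha, rfl⟩
      have haY : (a : G) ∈ Y := hmemY a (zpowers_le.2 y.2 ha)
      obtain ⟨k, hk⟩ := hTr a haY.1
      obtain ⟨i, hi⟩ := hUq ⟨(a : G), ⟨a, ha, rfl⟩⟩
      have hcop : (orderOf (a : G)).Coprime (r ^ k) :=
        (Nat.Coprime.coprime_dvd_left (orderOf_dvd_of_pow_eq_one (congrArg Subtype.val hi))
          (((Nat.coprime_primes h.qprime hr).2 hrq.symm).pow_left i)).pow_right k
      obtain ⟨m, hm⟩ := exists_pow_eq_self_of_coprime hcop.symm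
      show (a : G) ∈ E
      rw [← hm]
      exact pow_mem hk m
    have hSU : S ≤ U := fun a ha => by
      have h1 : π ⟨a, le_normalizer ha⟩ = 1 :=
        (QuotientGroup.eq_one_iff _).2 (mem_subgroupOf.2 ha : (⟨a, le_normalizer ha⟩ : N) ∈ S.subgroupOf N)
      exact ⟨⟨a, le_normalizer ha⟩, mem_comap.2 (h1 ▸ one_mem _), rfl⟩
    have hUS : U.subgroupOf E = (SE : Subgroup E) :=
      SE.is_maximal' (IsPGroup.comap_subtype hUq) (hSEeq ▸ fun a ha => hSU ha)
    obtain ⟨a, ha⟩ := QuotientGroup.mk'_surjective (S.subgroupOf N) (y : N ⧸ S.subgroupOf N)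
    have haU : (a : G) ∈ U := ⟨a, mem_comap.2 (by rw [ha]; exact mem_zpowers _), rfl⟩
    have haS : (a : G) ∈ S := by
      have h1 : (⟨(a : G), hUE haU⟩ : E) ∈ (SE : Subgroup E) := hUS ▸ mem_subgroupOf.2 haU
      rw [hSEeq] at h1
      exact h1
    have h2 : π a = 1 := (QuotientGroup.eq_one_iff _).2 (mem_subgroupOf.2 haS : a ∈ S.subgroupOf N)
    rw [h2] at ha
    rw [← orderOf_submonoid, ← ha, orderOf_one] at hy
    exact h.qprime.ne_one hy.symm
  have hcardY : Nat.card Yb ∣ Nat.card Θ :=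
    ((card_map_dvd _ _).trans (dvd_of_eq (Coprime.card_subgroupOf inf_le_right))).trans
      (card_dvd_of_le (inf_le_left.trans hTΘ))
  -- the invariant Sylow subgroup
  set A := closure ({x, z} : Set G)
  have hAN : A ≤ N := by
    rw [closure_le]
    rintro y (rfl | rfl)
    · exact hxN
    · exact hzN
  have hAH : A ≤ H := by
    rw [closure_le]
    rintro y (rfl | rfl)
    · exact hx
    · exact hz
  set Ab := (A.subgroupOf N).map π
  have hAbY : Ab ≤ normalizer (Yb : Set _) := by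
    refine le_trans (map_mono fun a ha => ?_) (le_normalizer_map π)
    refine mem_normalizer_iff.2 fun b => ?_
    exact mem_normalizer_iff.1 (inf_normalizer_le_normalizer_inf ⟨hnT (hAH ha), le_normalizer (hAN ha)⟩) (b : G)
  have hAbcop : (Nat.card Ab).Coprime (Nat.card Yb) :=
    (h.coprime_pq (hΘp.coprime_dvd_left hcardY) hYbq).coprime_dvd_left
      ((card_map_dvd _ _).trans (dvd_of_eq (Coprime.card_subgroupOf hAN)))
  haveI := h.closure_pair_solvable
  obtain ⟨P, hP⟩ := Coprime.exists_invariant_sylow hAbY hAbcop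
    (Or.inl (Coprime.isSolvable_map π _ (Coprime.isSolvable_subgroupOf hAN inferInstance))) r
  set PB := (P : Subgroup Yb).map Yb.subtype
  set x' : N := ⟨x, hxN⟩
  set z' : N := ⟨z, hzN⟩
  have hxPB : π x' ∈ normalizer (PB : Set _) := hP ⟨x', subset_closure (by simp [x']), rfl⟩
  have hzPB : π z' ∈ normalizer (PB : Set _) := hP ⟨z', subset_closure (by simp [z']), rfl⟩
  have hPBr : IsPGroup r PB := P.2.map _
  obtain ⟨F, hFr, hxF, hFP, hinj⟩ := exists_lift h.qprime hr hrq π hkerq (a := x')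
    (by rw [← orderOf_submonoid, h.order_x]; exact (Nat.coprime_primes h.prime h.qprime).2 hqp.symm)
    (by rw [← orderOf_submonoid, h.order_x]; exact (Nat.coprime_primes h.prime hr).2 hrp.symm) hPBr
    (by rw [MonoidHom.range_eq_top.2 (QuotientGroup.mk'_surjective _)]; exact le_top) hxPB
  have hFY : F ≤ Y' := fun a ha => hmemY a (map_subtype_le _ (hFP.le ⟨a, ha, rfl⟩))
  set P1 := ⁅PB, zpowers (π z')⁆ with hP1
  have hP1le : P1 ≤ PB := commutator_zpowers_le hzPB
  have hP1eq : ⁅P1, zpowers (π z')⁆ = P1 := Coprime.commutator_commutator_eq (zpowers_le.2 hzPB) (by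
    rw [Nat.card_zpowers]
    refine Nat.Coprime.coprime_dvd_left ((orderOf_map_dvd π z').trans (dvd_of_eq
      ((orderOf_submonoid z').symm.trans h.order_z))) ?_
    exact (coprime_of_pgroup hr h.qprime hrq hPBr).symm) (Or.inl inferInstance)
  set R' := F ⊓ P1.comap π
  have hR'map : R'.map π = P1 := by
    refine le_antisymm (map_le_iff_le_comap.2 inf_le_right) fun y hy => ?_
    obtain ⟨a, ha, hay⟩ := hFP.ge (hP1le hy)
    exact ⟨a, ⟨ha, mem_comap.2 (by rw [hay]; exact hy)⟩, hay⟩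
  set R := R'.map N.subtype with hR
  have hRN : R ≤ N := map_subtype_le _
  have hSR : (S ⊔ R : Subgroup G) = (P1.comap π).map N.subtype := by
    rw [← hR'map, comap_map_eq, hker, Subgroup.map_sup, map_subgroupOf_eq_of_le le_normalizer, sup_comm]
  refine ⟨S, R, ⟨hr, hrq, hSs, (hFr.to_le inf_le_left).map _, hxN, hzN, ?_, hRN, ?_, ?_⟩, hSE, ?_, hEOS, ?_⟩
  · refine le_normalizer_map N.subtype ⟨x', inf_normalizer_le_normalizer_inf ⟨hxF, ?_⟩, rfl⟩
    refine mem_normalizer_iff.2 fun a => ?_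
    simp only [mem_comap, map_mul, map_inv]
    refine mem_normalizer_iff.1 (mem_normalizer_commutator hxPB ?_) (π a)
    exact (show Commute x' z' from Subtype.ext hxz.eq).map π
  · rw [hSR]
    refine le_normalizer_map N.subtype ⟨z', ?_, rfl⟩
    refine mem_normalizer_iff.2 fun a => ?_
    simp only [mem_comap, map_mul, map_inv]
    exact mem_normalizer_iff.1 (mem_normalizer_commutator hzPB rfl) (π a)
  · rintro _ ⟨a, ha, rfl⟩
    have h1 : π a ∈ ⁅R', zpowers z'⁆.map π := by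
      rw [map_commutator, hR'map, MonoidHom.map_zpowers, hP1eq, ← hR'map]
      exact ⟨a, ha, rfl⟩
    obtain ⟨b, hb, hba⟩ := h1
    have h2 : b⁻¹ * a ∈ S.subgroupOf N := QuotientGroup.eq.1 hba
    have hbm : (b : G) ∈ ⁅R, zpowers z⁆ := by
      rw [show ⁅R, zpowers z⁆ = (⁅R', zpowers z'⁆).map N.subtype by
        rw [map_commutator, MonoidHom.map_zpowers]; rfl]
      exact ⟨b, hb, rfl⟩
    show (a : G) ∈ _
    rw [show (a : G) = (b : G) * ((b : G)⁻¹ * a) by group]
    exact mul_mem (mem_sup_left (commutator_mono le_sup_right le_rfl hbm)) (mem_sup_right (mem_subgroupOf.1 h2))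
  · rintro _ ⟨a, ha, rfl⟩
    exact (hFY ha.1).1
  -- `Y = F (Y ∩ E)`
  set EY := (E.subgroupOf N).subgroupOf Y'
  haveI : EY.Normal := Coprime.normal_subgroupOf_of_le_normalizer fun a ha => mem_normalizer_iff.2 fun b =>
    mem_normalizer_iff.1 (hnE (hΘH (hTΘ (mem_inf.1 ha).1))) (b : G)
  have hFcard : Nat.card F = r ^ (Nat.card Y').factorization r := by
    have h1 : Nat.card F = Nat.card PB := by
      rw [← hFP]
      let g : F →* F.map π := π.subgroupMap F
      exact Nat.card_congr (Equiv.ofBijective g ⟨fun a b hab => Subtype.ext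
        (hinj a.2 b.2 (congrArg Subtype.val hab)), π.subgroupMap_surjective F⟩)
    have hkY : π.ker ≤ Y' := hker.le.trans fun a ha => hSY ha
    have h2 : Nat.card Y' = Nat.card π.ker * Nat.card Yb := by
      rw [← card_mul_index (π.ker.subgroupOf Y'), Coprime.card_subgroupOf hkY]
      congr 1
      rw [← relIndex, hker]
      exact PCore.relIndex_eq_card_map_mk' _ _
    rw [h1, show PB = (P : Subgroup Yb).map Yb.subtype from rfl, card_map_of_injective Yb.subtype_injective,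
      P.card_eq_multiplicity, h2, Nat.factorization_mul Nat.card_pos.ne' Nat.card_pos.ne', Finsupp.add_apply]
    obtain ⟨n, hn⟩ := IsPGroup.iff_card.1 hkerq
    rw [hn, Nat.factorization_eq_zero_of_not_dvd (n := q ^ n) (p := r)
      (fun hd => hrq ((Nat.prime_dvd_prime_iff_eq hr h.qprime).1 (hr.dvd_of_dvd_pow hd))), zero_add]
  set FS : Sylow r Y' := Sylow.ofCard (F.subgroupOf Y') (by rw [Coprime.card_subgroupOf hFY, hFcard])
  have hdec : ∀ y ∈ Y, ∃ f ∈ F.map N.subtype, ∃ e ∈ E, y = f * e := by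
    intro y hy
    have hq' : IsPGroup r (Y' ⧸ EY) := by
      intro b
      obtain ⟨a, rfl⟩ := QuotientGroup.mk'_surjective EY b
      obtain ⟨k, hk⟩ := hTr _ (mem_inf.1 a.2).1
      refine ⟨k, ?_⟩
      rw [← map_pow]
      exact (QuotientGroup.eq_one_iff _).2 hk
    set M := FS.mapSurjective (f := QuotientGroup.mk' EY) (QuotientGroup.mk'_surjective _)
    have htop : (M : Subgroup (Y' ⧸ EY)) = ⊤ := (M.is_maximal' (hq'.to_subgroup ⊤) le_top).symm
    have h1 : QuotientGroup.mk' EY ⟨⟨y, hy.2⟩, hy⟩ ∈ (M : Subgroup (Y' ⧸ EY)) := htop ▸ mem_top _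
    rw [Sylow.coe_mapSurjective, Sylow.coe_ofCard] at h1
    obtain ⟨a, ha, hae⟩ := h1
    have h2 : a⁻¹ * ⟨⟨y, hy.2⟩, hy⟩ ∈ EY := QuotientGroup.eq.1 hae
    exact ⟨((a : N) : G), ⟨a, ha, rfl⟩, ((a : N) : G)⁻¹ * y, h2, by group⟩
  have hEn : ∀ g ∈ H, ∀ e ∈ E, g * e * g⁻¹ ∈ E := fun g hg e he => (mem_normalizer_iff.1 (hnE hg) e).1 he
  rw [commutator_le]
  intro t ht c hc
  obtain ⟨k, hk, hkt⟩ := Coprime.exists_mem_conj_sylow_eq SE (a := t) (hnE (hΘH (hTΘ ht)))
  rw [hSEmap] at hkt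
  have hkN : k⁻¹ * t ∈ N := Coprime.mem_normalizer_of_conj_smul_eq (by
    rw [map_mul, mul_smul, ← hkt, ← mul_smul, ← map_mul, inv_mul_cancel, map_one, one_smul])
  obtain ⟨f, hf, e, he, hfe⟩ := hdec (k⁻¹ * t) (mem_inf.2 ⟨mul_mem (inv_mem (hET hk)) ht, hkN⟩)
  obtain ⟨f₀, hf₀, rfl⟩ := hf
  have hfH : (f₀ : G) ∈ H := hΘH (hTΘ (hFY hf₀).1)
  have hcH : c ∈ H := zpowers_le.2 hz hc
  set e' := (f₀ : G)⁻¹ * k * f₀ * e
  have he' : e' ∈ E := mul_mem (by simpa using hEn _ (inv_mem hfH) k hk) he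
  have hte : t = (f₀ : G) * e' := by
    rw [show t = k * (k⁻¹ * t) by group, hfe]
    simp only [e', Subgroup.coe_subtype]
    group
  rw [hte, show ⁅(f₀ : G) * e', c⁆ = f₀ * ⁅e', c⁆ * (f₀ : G)⁻¹ * ⁅(f₀ : G), c⁆ by
    simp only [commutatorElement_def]; group]
  refine mul_mem (mem_sup_right (hEn _ hfH _ ?_)) ?_
  · rw [commutatorElement_def, show e' * c * e'⁻¹ * c⁻¹ = e' * (c * e'⁻¹ * c⁻¹) by group]
    exact mul_mem he' (hEn _ hcH _ (inv_mem he'))
  · have hcN : c ∈ N := zpowers_le.2 hzN hc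
    have h1 : π ⁅f₀, (⟨c, hcN⟩ : N)⁆ ∈ P1 := by
      rw [map_commutatorElement]
      refine commutator_mem_commutator (hFP.le ⟨f₀, hf₀, rfl⟩) ?_
      obtain ⟨i, rfl⟩ := mem_zpowers_iff.1 hc
      exact ⟨i, (map_zpow π z' i).symm.trans (congrArg π (Subtype.ext (SubgroupClass.coe_zpow _ _)))⟩
    have h2 : ⁅(f₀ : G), c⁆ ∈ (S ⊔ R : Subgroup G) := hSR.symm ▸ ⟨⁅f₀, (⟨c, hcN⟩ : N)⁆, h1, rfl⟩
    exact sup_le (hSE.trans le_sup_right) le_sup_left h2

end Cfsg.Agent.TwoGenSolvable
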