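import Mathlib
import Cfsg.Agent.Lib.TwoGenSolvable.SectionPair
import Cfsg.Agent.Lib.TwoGenSolvable.GoodAux
import Cfsg.Agent.Lib.TwoGenSolvable.Sect

/-!
# A failure of goodness shows in a section
-/

set_option autoImplicit false
set_option linter.style.haveILetI false
set_option linter.unusedSectionVars false

namespace Cfsg.Agent.TwoGenSolvable

open Subgroup
open scoped commutatorElement

universe u

variable {G : Type u} [Group G] [Finite G] {p q : ℕ} {x z : G} {H : Subgroup G}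

/-- A moved subgroup of `O_{q'}(O_{p'}(H))` with a section it moves. -/
structure MovedSect (p q : ℕ) (x z : G) (H : Subgroup G) (r s : ℕ) (W M L : Subgroup G) : Prop where
  rprime : r.Prime
  r_ne_q : r ≠ q
  W_le : W ≤ ppOf q (ppOf p H)
  moved : IsMoved x z W
  rgroup : IsPGroup r W
  sprime : s.Prime
  s_ne_r : s ≠ r
  M_le : M ≤ ppOf q (ppOf p H)
  sect : IsESection s M L
  M_norm : H ≤ normalizer (M : Set G)
  L_norm : H ≤ normalizer (L : Set G)
  nontriv : ¬ ⁅M, W⁆ ≤ L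

theorem ppOf_ppOf_le (p q : ℕ) (H : Subgroup G) : ppOf q (ppOf p H) ≤ H := (ppOf_le q _).trans (ppOf_le p H)

theorem le_normalizer_ppOf_ppOf (p q : ℕ) (H : Subgroup G) :
    H ≤ normalizer (ppOf q (ppOf p H) : Set G) :=
  FixedDim.le_normalizer_map_char (le_normalizer_ppOf p H) (Cfsg.pPrimeCore q ↥(ppOf p H))

theorem IsESection.prime_ne {s t : ℕ} (hs : s.Prime) {M L : Subgroup G} (h : IsESection s M L) (hne : ¬ M ≤ L)
    (hcop : (Nat.card M).Coprime t) : s ≠ t := by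
  rintro rfl
  refine hne fun m hm => ?_
  obtain ⟨k, hk⟩ := exists_pow_eq_self_of_coprime (x := m) (n := s)
    (hcop.coprime_dvd_left (M.orderOf_dvd_natCard hm)).symm
  rw [← hk]
  exact pow_mem (h.exp m hm) k

/-- Inside a `q'`-group, the part fixed by `x` is fixed by `O_q(C(x))` modulo everything. -/
theorem commutator_mem_of_fixed [Fact q.Prime] {M L : Subgroup G} (hM : (Nat.card M).Coprime q) {m δ : G}
    (hm : m ∈ M) (hxm : x * m = m * x) (hδ : δ ∈ Cfsg.pCoreOf q (centralizer ({x} : Set G)))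
    (hδM : δ ∈ normalizer (M : Set G)) : ⁅δ, m⁆ ∈ L := by
  have hmC : m ∈ centralizer ({x} : Set G) := mem_centralizer_singleton_iff.2 hxm.symm
  have h1 : ⁅δ, m⁆ ∈ Cfsg.pCoreOf q (centralizer ({x} : Set G)) := by
    rw [commutatorElement_def, show δ * m * δ⁻¹ * m⁻¹ = δ * (m * δ⁻¹ * m⁻¹) by group]
    exact mul_mem hδ ((mem_normalizer_iff.1 (PCore.le_normalizer_pCoreOf _ hmC) _).1 (inv_mem hδ))
  have h2 : ⁅δ, m⁆ ∈ M := by
    rw [commutatorElement_def]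
    exact mul_mem ((mem_normalizer_iff.1 hδM m).1 hm) (inv_mem hm)
  have h3 := (PCore.disjoint_of_isPGroup_of_coprime (A := Cfsg.pCoreOf q (centralizer ({x} : Set G))) (B := M)
    (PCore.isPGroup_pCoreOf _) hM).le_bot ⟨h1, h2⟩
  rw [mem_bot.1 h3]
  exact one_mem _

theorem MovedSect.not_le {r s : ℕ} {W M L : Subgroup G} (hc : MovedSect p q x z H r s W M L) : ¬ M ≤ L :=
  fun hle => hc.nontriv ((Coprime.commutator_le_left_of_le_normalizer
    ((hc.W_le.trans (ppOf_ppOf_le p q H)).trans hc.M_norm)).trans hle)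

theorem MovedSect.r_ne_p {r s : ℕ} {W M L : Subgroup G} (hc : MovedSect p q x z H r s W M L) : r ≠ p := by
  rintro rfl
  refine hc.nontriv ?_
  rw [PCore.eq_bot_of_isPGroup_of_coprime hc.rgroup ((coprime_card_ppOf r H).coprime_dvd_left
    (card_dvd_of_le (hc.W_le.trans (ppOf_le q _)))), commutator_bot_right]
  exact bot_le

theorem MovedSect.badSect (h : QCtx p q x z) (hz : z ∈ H) (hx : x ∈ H) {r s : ℕ} {W M L : Subgroup G}
    (hc : MovedSect p q x z H r s W M L) : BadSect p q x z H r s ⊥ W M L := by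
  haveI := Fact.mk h.qprime
  have hMH : M ≤ H := hc.M_le.trans (ppOf_ppOf_le p q H)
  have hMp : (Nat.card M).Coprime p :=
    (coprime_card_ppOf p H).coprime_dvd_left (card_dvd_of_le (hc.M_le.trans (ppOf_le q _)))
  have hMq : (Nat.card M).Coprime q := (coprime_card_ppOf q _).coprime_dvd_left (card_dvd_of_le hc.M_le)
  have hWH : W ≤ H := hc.W_le.trans (ppOf_ppOf_le p q H)
  have hbot : ∀ g : G, g ∈ normalizer ((⊥ : Subgroup G) : Set G) := fun g => by
    rw [normalizer_eq_top]; exact mem_top g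
  refine ⟨⟨hc.rprime, hc.r_ne_q, IsPGroup.of_bot, hc.rgroup, hbot _, hbot _, hc.moved.x_norm, fun g _ => hbot g,
    ?_, ?_⟩, hc.sprime, hc.sect.prime_ne hc.sprime hc.not_le hMp, hc.s_ne_r, hc.r_ne_p, bot_le, hWH, hMH, hc.sect,
    hMp, Or.inr ⟨hc.sect.prime_ne hc.sprime hc.not_le hMq, rfl, hMq⟩, hc.M_norm hx, hc.L_norm hx, hc.M_norm hz,
    hc.L_norm hz, hWH.trans hc.M_norm, hWH.trans hc.L_norm, ?_, hc.nontriv, fun _ m hm hxm => ?_⟩
  · rw [bot_sup_eq]; exact hc.moved.z_norm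
  · rw [bot_sup_eq, sup_bot_eq, hc.moved.eq]
  · intro a ha m _
    rw [mem_bot.1 ha, commutatorElement_one_left]
    exact one_mem _
  · have hmM : m ∈ M := sup_le (Coprime.commutator_le_left_of_le_normalizer (hWH.trans hc.M_norm)) hc.sect.le hm
    exact commutator_mem_of_fixed hMq hmM hxm h.z_mem (hc.M_norm hz)

theorem MovedSect.exists_killSect (h : QCtx p q x z) (hH : Group.IsSolvable H) {r s : ℕ} {W M L : Subgroup G}
    (hc : MovedSect p q x z H r s W M L) : ∃ (r s : ℕ) (T M L : Subgroup G), KillSect p q x z H r s T M L := by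
  suffices ∀ n (r s : ℕ) (W M L : Subgroup G), MovedSect p q x z H r s W M L → Nat.card G - Nat.card L = n →
      ∃ (r s : ℕ) (T M L : Subgroup G), KillSect p q x z H r s T M L from this _ r s W M L hc rfl
  clear hc r s W M L
  intro n
  induction n using Nat.strong_induction_on with
  | _ n ih =>
    intro r s W M L hc hn
    haveI := Fact.mk h.qprime
    set Θ₁ := ppOf q (ppOf p H) with hΘ₁
    have hΘH : Θ₁ ≤ H := ppOf_ppOf_le p q H
    have hHΘ : H ≤ normalizer (Θ₁ : Set G) := le_normalizer_ppOf_ppOf p q H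
    set K := Θ₁ ⊓ sectCentralizer M L with hK
    have hHK : H ≤ normalizer (K : Set G) :=
      Coprime.le_normalizer_inf_of_le hHΘ (le_normalizer_sectCentralizer hc.M_norm hc.L_norm)
    obtain ⟨T, hTΘ, hTn, hTpow, hT⟩ :=
      exists_core_or_section (Coprime.isSolvable_of_le hΘH hH) (inf_le_left : K ≤ Θ₁) (hΘH.trans hHK) hc.rprime
    rcases hT W hc.rgroup hc.W_le with hWT | ⟨s', M', L', hs', hsr', hKL', hM', hsec', hinv', hnt'⟩
    · have hMp : (Nat.card M).Coprime p :=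
        (coprime_card_ppOf p H).coprime_dvd_left (card_dvd_of_le (hc.M_le.trans (ppOf_le q _)))
      have hMq : (Nat.card M).Coprime q := (coprime_card_ppOf q _).coprime_dvd_left (card_dvd_of_le hc.M_le)
      refine ⟨r, s, T, M, L, hc.rprime, hc.sprime, hc.sect.prime_ne hc.sprime hc.not_le hMp, hc.s_ne_r, hc.r_ne_p,
        hc.r_ne_q, hTΘ.trans hΘH,
        (coprime_card_ppOf p H).coprime_dvd_left (card_dvd_of_le (hTΘ.trans (ppOf_le q _))),
        fun g hg => hTn g (hHΘ hg) (hHK hg), fun t ht => ?_, hc.M_le.trans hΘH, hc.M_norm, hc.L_norm, hc.sect, hMp,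
        fun hle => hc.nontriv (le_trans (commutator_mono le_rfl ?_) hle),
        fun z' _ hz' m hm hxm δ hδ hδH _ => ?_⟩
      · obtain ⟨k, hk⟩ := hTpow t ht
        exact ⟨k, hk.2.2.2⟩
      · exact hc.moved.eq.ge.trans (commutator_mono hWT le_rfl)
      · have hW' : ⁅T, zpowers z'⁆ ≤ H :=
          commutator_le.2 fun a ha b hb => by
            have ha' : a ∈ H := hΘH (hTΘ ha)
            have hb' : b ∈ H := zpowers_le.2 hz' hb
            exact mul_mem (mul_mem (mul_mem ha' hb') (inv_mem ha')) (inv_mem hb')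
        exact commutator_mem_of_fixed hMq
          (sup_le (Coprime.commutator_le_left_of_le_normalizer (hW'.trans hc.M_norm)) hc.sect.le hm) hxm hδ
          (hc.M_norm hδH)
    · have hMK : M ≤ K := le_inf hc.M_le hc.sect.le_sectCentralizer
      have hlt : Nat.card L < Nat.card L' := by
        refine lt_of_lt_of_le ?_ (card_le_of_le (hMK.trans hKL'))
        exact lt_of_le_of_ne (card_le_of_le hc.sect.le) fun e =>
          hc.not_le (eq_of_le_of_card_ge hc.sect.le e.ge).ge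
      have hle := card_le_of_le (le_top : L' ≤ ⊤)
      rw [card_top] at hle
      exact ih (Nat.card G - Nat.card L') (by omega) r s' W M' L'
        ⟨hc.rprime, hc.r_ne_q, hc.W_le, hc.moved, hc.rgroup, hs', hsr', hM', hsec',
          fun g hg => (hinv' g (hHΘ hg) (hHK hg)).1, fun g hg => (hinv' g (hHΘ hg) (hHK hg)).2, hnt'⟩ rfl

/-- The second half of goodness, when the first half holds. -/
theorem exists_movedSect (h : QCtx p q x z) (hH : Group.IsSolvable H) (hx : x ∈ H) (hz : z ∈ H)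
    (h1 : q ≠ p → z ∈ (Cfsg.pPrimePCore q (ppOf p H)).map (ppOf p H).subtype) (hbad : ¬ Good p q x z H) :
    ∃ (r s : ℕ) (W M L : Subgroup G), MovedSect p q x z H r s W M L := by
  haveI := Fact.mk h.qprime
  set Θ := ppOf p H with hΘ
  set Θ₁ := ppOf q Θ with hΘ₁
  obtain ⟨r, hr, hrq, W, hWΘ, hm, hWr, hWn⟩ : ∃ r : ℕ, r.Prime ∧ r ≠ q ∧ ∃ W : Subgroup G, W ≤ Θ ∧ IsMoved x z W ∧
      IsPGroup r W ∧ ¬ W ≤ Cfsg.pCoreOf r Θ := by
    by_contra hcon
    push Not at hcon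
    exact hbad ⟨h1, fun r hr hrq W hW hm hWr => hcon r hr hrq W hW hm hWr⟩
  haveI := Fact.mk hr
  have hWΘ₁ : W ≤ Θ₁ := by
    by_cases hqp : q = p
    · subst hqp
      exact hWΘ.trans (le_ppOf le_rfl (coprime_card_ppOf q H) le_normalizer)
    set N := (Cfsg.pPrimePCore q Θ).map Θ.subtype
    have hHN : H ≤ normalizer (N : Set G) := FixedDim.le_normalizer_map_char (le_normalizer_ppOf p H) _
    intro w hw
    have hwN : w ∈ N := by
      have hle : W ≤ N := by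
        conv_lhs => rw [← hm.eq]
        rw [commutator_le]
        rintro b hb c hc
        have hcN : c ∈ N := zpowers_le.2 (h1 hqp) hc
        rw [commutatorElement_def]
        exact mul_mem ((mem_normalizer_iff.1 (hHN (ppOf_le p H (hWΘ hb))) c).1 hcN) (inv_mem hcN)
      exact hle hw
    obtain ⟨n, hn, rfl⟩ := hwN
    obtain ⟨k, hk⟩ := pow_mem_of_mem_pPrimePCore hn
    obtain ⟨m, hm'⟩ := exists_pow_eq_self_of_coprime (x := (n : G))
      (Nat.Coprime.pow_left k (coprime_orderOf_of_mem (coprime_of_pgroup hr h.qprime hrq hWr) hw).symm)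
    show (n : G) ∈ Θ₁
    rw [← hm']
    exact pow_mem (show (n : G) ^ q ^ k ∈ Θ₁ from ⟨n ^ q ^ k, hk, map_pow _ _ _⟩) m
  have hΘ₁H : Θ₁ ≤ H := ppOf_ppOf_le p q H
  have hHΘ₁ : H ≤ normalizer (Θ₁ : Set G) := le_normalizer_ppOf_ppOf p q H
  have hbot : ∀ g : G, g ∈ normalizer ((⊥ : Subgroup G) : Set G) := fun g => by
    rw [normalizer_eq_top]; exact mem_top g
  obtain ⟨T, hTΘ, hTn, hTpow, hT⟩ :=
    exists_core_or_section (Coprime.isSolvable_of_le hΘ₁H hH) (bot_le : ⊥ ≤ Θ₁) (fun g _ => hbot g) hr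
  rcases hT W hWr hWΘ₁ with hWT | ⟨s, M, L, hs, hsr, -, hM, hsec, hinv, hnt⟩
  · refine absurd (hWT.trans (PCore.le_pCoreOf (hTΘ.trans (ppOf_le q _)) ?_ ?_)) hWn
    · intro t
      obtain ⟨k, hk⟩ := hTpow t t.2
      exact ⟨k, Subtype.ext (by simpa using mem_bot.1 hk)⟩
    · exact fun g hg => hTn g (hHΘ₁ (ppOf_le p H hg)) (hbot g)
  · exact ⟨r, s, W, M, L, hr, hrq, hWΘ₁, hm, hWr, hs, hsr, hM, hsec,
      fun g hg => (hinv g (hHΘ₁ hg) (hbot g)).1, fun g hg => (hinv g (hHΘ₁ hg) (hbot g)).2, hnt⟩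

/-- The layers when the first half of goodness fails. -/
theorem exists_layers (h : QCtx p q x z) (hqp : q ≠ p) (hH : Group.IsSolvable H) (hx : x ∈ H) (hz : z ∈ H)
    (hzE : z ∉ (Cfsg.pPrimePCore q (ppOf p H)).map (ppOf p H).subtype) :
    ∃ (r : ℕ) (T E L : Subgroup G), r.Prime ∧ r ≠ q ∧ r ≠ p ∧ T ≤ ppOf p H ∧ E ≤ T ∧
      ppOf q (ppOf p H) ≤ L ∧ H ≤ normalizer (T : Set G) ∧ H ≤ normalizer (E : Set G) ∧
      H ≤ normalizer (L : Set G) ∧ IsESection q E L ∧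
      (∀ e ∈ E, ∃ k : ℕ, e ^ q ^ k ∈ ppOf q (ppOf p H)) ∧ (∀ t ∈ T, ∃ k : ℕ, t ^ r ^ k ∈ E) ∧
      ¬ ⁅E, ⁅T, zpowers z⁆⁆ ≤ L := by
  classical
  haveI := Fact.mk h.qprime
  haveI := Fact.mk h.prime
  set Θ := ppOf p H with hΘdef
  have hΘH : Θ ≤ H := ppOf_le p H
  have hzΘ : z ∈ Θ := h.pCoreOf_inf_le hqp hH hx ⟨h.z_mem, hz⟩
  haveI : Group.IsSolvable Θ := Coprime.isSolvable_of_le hΘH hH
  set f := QuotientGroup.mk' (Cfsg.pPrimeCore q Θ) with hf
  have hfs : Function.Surjective f := QuotientGroup.mk'_surjective _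
  set Q := Cfsg.pCore q (Θ ⧸ Cfsg.pPrimeCore q Θ) with hQ
  haveI : Group.IsSolvable (Θ ⧸ Cfsg.pPrimeCore q Θ) := Group.isSolvable_of_surjective (f := f) hfs
  set π₂ := QuotientGroup.mk' Q
  haveI : Group.IsSolvable ((Θ ⧸ Cfsg.pPrimeCore q Θ) ⧸ Q) :=
    Group.isSolvable_of_surjective (f := π₂) (QuotientGroup.mk'_surjective _)
  set a : Θ := ⟨z, hzΘ⟩
  have ha1 : π₂ (f a) ≠ 1 := fun e => hzE ⟨a, (QuotientGroup.eq_one_iff (f a)).1 e, rfl⟩
  obtain ⟨r, hr, hrq, v, hv, w, hw, hne⟩ : ∃ r : ℕ, r.Prime ∧ r ≠ q ∧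
      ∃ v ∈ Cfsg.pCore r ((Θ ⧸ Cfsg.pPrimeCore q Θ) ⧸ Q), ∃ w ∈ zpowers (π₂ (f a)), w * v ≠ v * w := by
    by_contra hc
    push Not at hc
    refine ha1 (zpowers_eq_bot.1 (eq_bot_of_centralizes_cores h.qprime PCore.pCore_quotient_self_eq_bot ?_ hc))
    rw [← MonoidHom.map_zpowers, ← MonoidHom.map_zpowers]
    exact ((IsPGroup.of_card (n := 1) (by rw [Nat.card_zpowers, pow_one, ← orderOf_submonoid]; exact h.order_z) :
      IsPGroup q (zpowers a)).map f).map π₂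
  haveI := Fact.mk hr
  set O := Cfsg.pCore r ((Θ ⧸ Cfsg.pPrimeCore q Θ) ⧸ Q)
  obtain ⟨hsec, htriv⟩ := isESection_preimage_frattini f hfs Q PCore.isPGroup_pCore
  haveI : (O.comap π₂).Characteristic := PCore.comap_mk'_characteristic Q O
  haveI : ((frattini Q).map Q.subtype).Characteristic := characteristic_map_subtype _
  have hnor : ∀ C : Subgroup (Θ ⧸ Cfsg.pPrimeCore q Θ), C.Characteristic →
      H ≤ normalizer (((C.comap f).map Θ.subtype : Subgroup G) : Set G) := fun C hC g hg =>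
    mem_normalizer_map_comap_mk' (hC := hC) (le_normalizer_ppOf p H hg) (le_normalizer_ppOf_ppOf p q H hg) C
  have hrp : r ≠ p := by
    rintro rfl
    have hO : O = ⊥ := by
      refine PCore.eq_bot_of_isPGroup_of_coprime PCore.isPGroup_pCore ((coprime_card_ppOf r H).coprime_dvd_left ?_)
      exact (O.card_subgroup_dvd_card).trans ((Q.card_quotient_dvd_card).trans
        ((Cfsg.pPrimeCore q Θ).card_quotient_dvd_card))
    have hv' : v = 1 := mem_bot.1 (hO ▸ hv)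
    exact hne (by rw [hv', mul_one, one_mul])
  refine ⟨r, ((O.comap π₂).comap f).map Θ.subtype, (Q.comap f).map Θ.subtype,
    (((frattini Q).map Q.subtype).comap f).map Θ.subtype, hr, hrq, hrp, map_subtype_le _, ?_, ?_, hnor _ inferInstance,
    hnor _ inferInstance, hnor _ inferInstance, hsec, ?_, ?_, ?_⟩
  · refine map_mono (comap_mono fun b hb => mem_comap.2 ?_)
    have h1 : π₂ b = 1 := (QuotientGroup.eq_one_iff b).2 hb
    rw [h1]
    exact one_mem _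
  · refine map_mono fun b hb => mem_comap.2 ?_
    have h1 : f b = 1 := (QuotientGroup.eq_one_iff b).2 hb
    rw [h1]
    exact one_mem _
  · rintro _ ⟨b, hb, rfl⟩
    obtain ⟨k, hk⟩ := (PCore.isPGroup_pCore : IsPGroup q Q) ⟨f b, hb⟩
    exact ⟨k, b ^ q ^ k, (QuotientGroup.eq_one_iff _).1 ((map_pow f b _).trans (congrArg Subtype.val hk)),
      map_pow _ _ _⟩
  · rintro _ ⟨b, hb, rfl⟩
    obtain ⟨k, hk⟩ := (PCore.isPGroup_pCore : IsPGroup r O) ⟨π₂ (f b), hb⟩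
    refine ⟨k, b ^ r ^ k, mem_comap.2 ((QuotientGroup.eq_one_iff _).1 ?_), map_pow _ _ _⟩
    show π₂ (f (b ^ r ^ k)) = 1
    rw [map_pow, map_pow]
    exact congrArg Subtype.val hk
  · intro hle
    obtain ⟨b, rfl⟩ := QuotientGroup.mk'_surjective Q v
    obtain ⟨b, rfl⟩ := hfs b
    obtain ⟨i, rfl⟩ := mem_zpowers_iff.1 hw
    refine hne (Eq.symm ?_)
    have hbT : (b : G) ∈ ((O.comap π₂).comap f).map Θ.subtype := ⟨b, hv, rfl⟩
    have h1 : f ⁅b, a ^ i⁆ ∈ Q := by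
      refine mem_pCore_of_trivial_frattini PCore.pPrimeCore_quotient_self_eq_bot (htriv _ fun m hm => ?_)
      rw [← commutatorElement_inv]
      exact inv_mem (hle (commutator_mem_commutator hm (commutator_mem_commutator hbT ⟨i, by simp [a]⟩)))
    have h2 : π₂ (f ⁅b, a ^ i⁆) = 1 := (QuotientGroup.eq_one_iff _).2 h1
    rw [map_commutatorElement, map_commutatorElement, map_zpow, map_zpow, commutatorElement_eq_one_iff_mul_comm] at h2
    exact h2

/-- A pair in the layers, and the fixed points on the section it moves. -/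
theorem exists_layer_fixed (h : QCtx p q x z) (hqp : q ≠ p) (hH : Group.IsSolvable H) (hx : x ∈ H) (hz : z ∈ H)
    {r : ℕ} {T E L : Subgroup G} (hr : r.Prime) (hrq : r ≠ q) (hrp : r ≠ p) (hTΘ : T ≤ ppOf p H) (hET : E ≤ T)
    (hOL : ppOf q (ppOf p H) ≤ L) (hnT : H ≤ normalizer (T : Set G)) (hnE : H ≤ normalizer (E : Set G))
    (hnL : H ≤ normalizer (L : Set G)) (hsec : IsESection q E L)
    (hEq : ∀ e ∈ E, ∃ k : ℕ, e ^ q ^ k ∈ ppOf q (ppOf p H)) (hTr : ∀ t ∈ T, ∃ k : ℕ, t ^ r ^ k ∈ E) :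
    ∃ S R : Subgroup G, IsPair q x z r S R ∧ S ≤ E ∧ R ≤ T ∧ IsESection q S (S ⊓ L) ∧
      ⁅E, ⁅T, zpowers z⁆⁆ ⊔ L ≤ ⁅S, R⁆ ⊔ L ∧
      ∀ m ∈ ⁅S, R⁆ ⊔ L, x * m = m * x → ∀ δ ∈ Cfsg.pCoreOf q (centralizer ({x} : Set G)), δ ∈ H →
        (∀ d ∈ Cfsg.pCoreOf q (centralizer ({x} : Set G)), d ∈ H → δ * d = d * δ) → ⁅δ, m⁆ ∈ L := by
  haveI := Fact.mk h.qprime
  set Θ₁ := ppOf q (ppOf p H) with hΘ₁
  have hΘH : ppOf p H ≤ H := ppOf_le p H
  have hTH : T ≤ H := hTΘ.trans hΘH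
  have hEH : E ≤ H := hET.trans hTH
  have hnO : H ≤ normalizer (Θ₁ : Set G) := le_normalizer_ppOf_ppOf p q H
  obtain ⟨S, R, hP, hSE, hRT, hEOS, hTz⟩ :=
    exists_layer_pair h hqp hH hx hz hr hrq hrp hTΘ hET hnO hnE hnT hEq hTr
  have hSH : S ≤ H := hSE.trans hEH
  have hRH : R ≤ H := hRT.trans hTH
  have hSsec : IsESection q S (S ⊓ L) := ⟨inf_le_left,
    Coprime.le_normalizer_inf_of_le le_normalizer (hSE.trans hsec.norm),
    fun a ha b hb => mem_inf.2 ⟨mul_mem (mul_mem (mul_mem ha hb) (inv_mem ha)) (inv_mem hb),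
      hsec.comm a (hSE ha) b (hSE hb)⟩,
    fun a ha => mem_inf.2 ⟨pow_mem ha _, hsec.exp a (hSE ha)⟩⟩
  refine ⟨S, R, hP, hSE, hRT, hSsec, sup_le ?_ le_sup_right, ?_⟩
  · rw [commutator_le]
    intro e he w hw
    obtain ⟨r₀, hr₀, e', he', rfl⟩ := (Coprime.mem_sup_iff_of_le_normalizer (hRH.trans hnE)).1 (hTz hw)
    obtain ⟨θ, hθ, σ, hσ, rfl⟩ := (Coprime.mem_sup_iff_of_le_normalizer' (hSH.trans hnO)).1 ((le_of_eq (sup_comm Θ₁ S)) (hEOS he))
    have hr₀H : r₀ ∈ H := hRH hr₀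
    have hθL : θ ∈ L := hOL hθ
    have hcl : ∀ c ∈ H, ∀ l ∈ L, c * l * c⁻¹ ∈ L := fun c hc l hl => (mem_normalizer_iff.1 (hnL hc) l).1 hl
    rw [show ⁅θ * σ, r₀ * e'⁆ = θ * ⁅σ, r₀⁆ * θ⁻¹ * ⁅θ, r₀⁆ * (r₀ * ⁅θ * σ, e'⁆ * r₀⁻¹) by
      simp only [commutatorElement_def]; group]
    refine mul_mem (mul_mem (mul_mem (mul_mem (mem_sup_right hθL) (mem_sup_left (commutator_mem_commutator hσ hr₀)))
      (inv_mem (mem_sup_right hθL))) (mem_sup_right ?_)) (mem_sup_right (hcl _ hr₀H _ (hsec.comm _ he e' he')))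
    rw [commutatorElement_def, show θ * r₀ * θ⁻¹ * r₀⁻¹ = θ * (r₀ * θ⁻¹ * r₀⁻¹) by group]
    exact mul_mem hθL (hcl _ hr₀H _ (inv_mem hθL))
  intro m hm hxm δ hδ hδH hδc
  set W := ⁅S, R⁆ ⊔ (S ⊓ L) with hW
  have hWS : W ≤ S := sup_le (Coprime.commutator_le_left_of_le_normalizer hP.normS) inf_le_left
  have hxW : x ∈ normalizer (W : Set G) :=
    mem_normalizer_sup (mem_normalizer_commutator_both hP.x_normS hP.x_normR)
      (inf_normalizer_le_normalizer_inf ⟨hP.x_normS, hnL hx⟩)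
  have hWO : W ≤ normalizer (Θ₁ : Set G) := (hWS.trans hSH).trans hnO
  have hm' : m ∈ W ⊔ Θ₁ := by
    refine (sup_le (le_sup_left.trans le_sup_left) (fun l hl => ?_) : ⁅S, R⁆ ⊔ L ≤ W ⊔ Θ₁) hm
    obtain ⟨θ, hθ, σ, hσ, rfl⟩ := (Coprime.mem_sup_iff_of_le_normalizer' (hSH.trans hnO)).1 ((le_of_eq (sup_comm Θ₁ S)) (hEOS (hsec.le hl)))
    refine mul_mem (mem_sup_right hθ) (mem_sup_left (mem_sup_right (mem_inf.2 ⟨hσ, ?_⟩)))
    have := mul_mem (inv_mem (hOL hθ)) hl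
    rwa [inv_mul_cancel_left] at this
  obtain ⟨w, hw, θ, hθ, rfl⟩ := (Coprime.mem_sup_iff_of_le_normalizer hWO).1 hm'
  -- `x` fixes `w`
  have hxw : x * w = w * x := by
    have hw' : x * w * x⁻¹ ∈ W := (mem_normalizer_iff.1 hxW w).1 hw
    have hθ' : x * θ * x⁻¹ ∈ Θ₁ := (mem_normalizer_iff.1 (hnO hx) θ).1 hθ
    have h1 : x * w * x⁻¹ * (x * θ * x⁻¹) = w * θ := by
      rw [show x * w * x⁻¹ * (x * θ * x⁻¹) = x * (w * θ) * x⁻¹ by group, hxm, mul_inv_cancel_right]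
    have h2 : w⁻¹ * (x * w * x⁻¹) = θ * (x * θ * x⁻¹)⁻¹ := by
      rw [eq_mul_inv_iff_mul_eq, mul_assoc, h1, inv_mul_cancel_left]
    have h3 := (PCore.disjoint_of_isPGroup_of_coprime (A := W) (B := Θ₁) (hP.qgroup.to_le hWS)
      (coprime_card_ppOf q _)).le_bot (mem_inf.2 ⟨mul_mem (inv_mem hw) hw', h2 ▸ mul_mem hθ (inv_mem hθ')⟩)
    rw [mem_bot, inv_mul_eq_one, eq_mul_inv_iff_mul_eq] at h3
    exact h3.symm
  have hfix := hP.fixed_mem h hqp hH hrp hSH hRH hx hSsec le_rfl hP.x_normS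
    (inf_normalizer_le_normalizer_inf ⟨hP.x_normS, hnL hx⟩) hP.z_normS
    (inf_normalizer_le_normalizer_inf ⟨hP.z_normS, hnL hz⟩) hP.normS
    (Coprime.le_normalizer_inf_of_le hP.normS (hRH.trans hnL)) hSsec.comm w hw hxw
  obtain ⟨d, hd, φ, hφ, rfl⟩ := (Coprime.mem_sup_iff_of_le_normalizer (inf_le_right.trans hSsec.norm)).1 hfix
  have hdH : d ∈ H := hSH hd.2
  have hl : φ * θ ∈ L := mul_mem hφ.2 (hOL hθ)
  rw [show ⁅δ, d * φ * θ⁆ = ⁅δ, d⁆ * (d * ⁅δ, φ * θ⁆ * d⁻¹) by simp only [commutatorElement_def]; group,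
    commutatorElement_eq_one_iff_mul_comm.2 (hδc d hd.1 hdH), one_mul]
  refine (mem_normalizer_iff.1 (hnL hdH) _).1 ?_
  rw [commutatorElement_def]
  exact mul_mem ((mem_normalizer_iff.1 (hnL hδH) _).1 hl) (inv_mem hl)

theorem exists_badSect (h : QCtx p q x z) {H : Subgroup G} (hH : Group.IsSolvable H) (hx : x ∈ H) (hz : z ∈ H)
    (hbad : ¬ Good p q x z H) : ∃ (r s : ℕ) (S R M L : Subgroup G), BadSect p q x z H r s S R M L := by
  by_cases h1 : q ≠ p → z ∈ (Cfsg.pPrimePCore q (ppOf p H)).map (ppOf p H).subtype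
  · obtain ⟨r, s, W, M, L, hc⟩ := exists_movedSect h hH hx hz h1 hbad
    exact ⟨r, s, ⊥, W, M, L, hc.badSect h hz hx⟩
  rw [_root_.not_imp] at h1
  obtain ⟨hqp, hzE⟩ := h1
  obtain ⟨r, T, E, L, hr, hrq, hrp, hTΘ, hET, hOL, hnT, hnE, hnL, hsec, hEq, hTr, hnt⟩ :=
    exists_layers h hqp hH hx hz hzE
  obtain ⟨S, R, hP, hSE, hRT, hSsec, hle, hfix⟩ :=
    exists_layer_fixed h hqp hH hx hz hr hrq hrp hTΘ hET hOL hnT hnE hnL hsec hEq hTr
  have hTH : T ≤ H := hTΘ.trans (ppOf_le p H)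
  have hSH : S ≤ H := hSE.trans (hET.trans hTH)
  refine ⟨r, q, S, R, S, S ⊓ L, hP, h.qprime, hqp, hrq.symm, hrp, hSH, hRT.trans hTH, hSH, hSsec,
    (coprime_card_ppOf p H).coprime_dvd_left (card_dvd_of_le (hSE.trans (hET.trans hTΘ))), Or.inl ⟨rfl, le_rfl⟩,
    hP.x_normS, inf_normalizer_le_normalizer_inf ⟨hP.x_normS, hnL hx⟩, hP.z_normS,
    inf_normalizer_le_normalizer_inf ⟨hP.z_normS, hnL hz⟩, hP.normS,
    Coprime.le_normalizer_inf_of_le hP.normS ((hRT.trans hTH).trans hnL), hSsec.comm, fun hle' => hnt ?_,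
    fun _ m hm hxm => ?_⟩
  · exact (le_sup_left.trans hle).trans (sup_le (hle'.trans inf_le_right) le_rfl)
  · have hmS : m ∈ S := sup_le (Coprime.commutator_le_left_of_le_normalizer hP.normS) inf_le_left hm
    refine mem_inf.2 ⟨?_, hfix m ((sup_le_sup le_rfl inf_le_right : ⁅S, R⁆ ⊔ (S ⊓ L) ≤ _) hm) hxm z h.z_mem hz
      fun d hd _ => h.z_central d hd⟩
    rw [commutatorElement_def]
    exact mul_mem ((mem_normalizer_iff.1 hP.z_normS m).1 hmS) (inv_mem hmS)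

theorem exists_killSect (h : QCtx p q x z) (hqp : q ≠ p) {H : Subgroup G} (hH : Group.IsSolvable H) (hx : x ∈ H)
    (hz : z ∈ H) (hbad : ¬ Good p q x z H) :
    ∃ (r s : ℕ) (T M L : Subgroup G), KillSect p q x z H r s T M L := by
  by_cases h1 : q ≠ p → z ∈ (Cfsg.pPrimePCore q (ppOf p H)).map (ppOf p H).subtype
  · obtain ⟨r, s, W, M, L, hc⟩ := exists_movedSect h hH hx hz h1 hbad
    exact hc.exists_killSect h hH
  rw [_root_.not_imp] at h1
  obtain ⟨-, hzE⟩ := h1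
  obtain ⟨r, T, E, L, hr, hrq, hrp, hTΘ, hET, hOL, hnT, hnE, hnL, hsec, hEq, hTr, hnt⟩ :=
    exists_layers h hqp hH hx hz hzE
  have hTH : T ≤ H := hTΘ.trans (ppOf_le p H)
  refine ⟨r, q, T, E, L, hr, h.qprime, hqp, hrq.symm, hrp, hrq, hTH,
    (coprime_card_ppOf p H).coprime_dvd_left (card_dvd_of_le hTΘ), hnT, fun t ht => ?_, hET.trans hTH, hnE, hnL,
    hsec, (coprime_card_ppOf p H).coprime_dvd_left (card_dvd_of_le (hET.trans hTΘ)), hnt,
    fun z' h' hz' m hm hxm δ hδ hδH hδc => ?_⟩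
  · obtain ⟨k, hk⟩ := hTr t ht
    exact ⟨k, fun m hm => hsec.comm _ hk m hm⟩
  · obtain ⟨S, R, -, -, -, -, hle, hfix⟩ :=
      exists_layer_fixed h' hqp hH hx hz' hr hrq hrp hTΘ hET hOL hnT hnE hnL hsec hEq hTr
    exact hfix m (hle hm) hxm δ hδ hδH hδc

end Cfsg.Agent.TwoGenSolvable
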