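import Mathlib
import Cfsg.Agent.Lib.TwoGenSolvable.Pair
import Cfsg.Agent.Lib.TwoGenSolvable.MemberBasic
import Cfsg.Agent.Lib.TwoGenSolvable.Kill
import Cfsg.Agent.Lib.TwoGenSolvable.SectAux
import Cfsg.Agent.Lib.TwoGenSolvable.Slot
import Cfsg.Agent.Lib.TwoGenSolvable.KillImage
import Cfsg.Agent.Lib.TwoGenSolvable.Sections
import Cfsg.Agent.Lib.TwoGenSolvable.BadLocal
import Cfsg.Agent.Lib.TwoGenSolvable.BadTwist

/-!
# Goodness in the five cases
-/

set_option autoImplicit false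
set_option linter.style.haveILetI false

namespace Cfsg.Agent.TwoGenSolvable

open Subgroup
open scoped commutatorElement

universe u

variable {G : Type u} [Group G] [Finite G] {p q : ℕ} {x z : G}

theorem allGood_of_ne_two (h : QCtx p q x z) (hqp : q ≠ p) (hq2 : q ≠ 2) : AllGood p q x z := by
  intro H hH hx hz
  by_contra hbad
  obtain ⟨r, s, S, R, M, L, hb⟩ := exists_badSect h hH hx hz hbad
  exact hq2 (hb.q_eq_two h hqp).1

theorem allGood_of_eq (h : QCtx p q x z) (hqp : q = p) (hK : ppOf p (centralizer ({x} : Set G)) = ⊥) :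
    AllGood p q x z := by
  intro H hH hx hz
  by_contra hbad
  obtain ⟨r, s, S, R, M, L, hb⟩ := exists_badSect h hH hx hz hbad
  exact hb.false_of_eq h hqp hK

theorem allGood_of_qgroup (h : QCtx p q x z) (hqp : q ≠ p)
    (hK : IsPGroup q (ppOf p (centralizer ({x} : Set G)))) : AllGood p q x z := by
  intro H hH hx hz
  by_contra hbad
  obtain ⟨r, s, S, R, M, L, hb⟩ := exists_badSect h hH hx hz hbad
  obtain ⟨a, haR, haA, e, heRA, hex, he⟩ := hb.exists_fixed h hqp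
  haveI := Fact.mk h.qprime
  haveI := Fact.mk hb.pair.rprime
  have hR : (Nat.card (R ⊓ closure ({x, a * x * a⁻¹} : Set G) : Subgroup G)).Coprime p :=
    (coprime_of_pgroup hb.pair.rprime h.prime hb.r_ne_p hb.pair.rgroup).coprime_dvd_left
      (card_dvd_of_le inf_le_left)
  have hA : closure ({x, a * x * a⁻¹} : Set G) ≤ normalizer (R : Set G) := by
    rw [closure_le]
    rintro g (rfl | rfl)
    · exact hb.pair.x_normR
    · exact mul_mem (mul_mem (le_normalizer haR) hb.pair.x_normR) (inv_mem (le_normalizer haR))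
  have hmem := h.toXCtx.inf_centralizer_le haA
    ⟨le_ppOf inf_le_right hR (Coprime.le_normalizer_inf_of_le hA le_normalizer) heRA,
      mem_centralizer_singleton_iff.2 hex⟩
  obtain ⟨i, hi⟩ := hK ⟨e, hmem⟩
  obtain ⟨j, hj⟩ := hb.pair.rgroup ⟨e, heRA.1⟩
  exact he (orderOf_eq_one_iff.1 (Nat.eq_one_of_dvd_coprimes
    (((Nat.coprime_primes h.qprime hb.pair.rprime).2 hb.pair.ne_q.symm).pow i j)
    (orderOf_dvd_of_pow_eq_one (congrArg Subtype.val hi)) (orderOf_dvd_of_pow_eq_one (congrArg Subtype.val hj))))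

/-- An element of `O_q(C(x))` and an arbitrary one lie in a solvable subgroup in which `z` stays bad. -/
theorem exists_bad_overgroup (h : QCtx p q x z) (hqp : q ≠ p) {H : Subgroup G} (hH : Group.IsSolvable H)
    (hx : x ∈ H) (hz : z ∈ H) (hbad : ¬ Good p q x z H) {c e : G}
    (hc : c ∈ Cfsg.pCoreOf q (centralizer ({x} : Set G))) (he : e ∈ centralizer ({x} : Set G))
    (hze : ∀ H' : Subgroup G, c ∈ H' → e ∈ H' → z ∈ H') :
    ∃ H' : Subgroup G, Group.IsSolvable H' ∧ x ∈ H' ∧ z ∈ H' ∧ c ∈ H' ∧ e ∈ H' ∧ ¬ Good p q x z H' := by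
  obtain ⟨r, s, S, R, M, L, hb⟩ := exists_badSect h hH hx hz hbad
  obtain ⟨a, ha, hbad'⟩ := hb.exists_twist_bad h hqp hH hx
  haveI := Fact.mk h.qprime
  obtain ⟨H', -, hs, hxH', hcH', hg⟩ := h.toXCtx.exists_solvable_of_commute
    (mem_centralizer_singleton_iff.1 (PCore.pCoreOf_le _ hc)).symm
    (coprime_orderOf_of_mem (coprime_of_pgroup h.qprime h.prime hqp (PCore.isPGroup_pCoreOf _)) hc) (a * e)
  have hA : closure ({x, a * x * a⁻¹} : Set G) ≤ H' := by
    rw [closure_le]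
    rintro g (rfl | rfl)
    · exact hxH'
    · have := mul_mem (mul_mem hg hxH') (inv_mem hg)
      rwa [mul_inv_rev, show a * e * x * (e⁻¹ * a⁻¹) = a * (e * x * e⁻¹) * a⁻¹ by group,
        mem_centralizer_singleton_iff.1 he, mul_inv_cancel_right] at this
  have heH' : e ∈ H' := by
    have := mul_mem (inv_mem (hA ha)) hg
    rwa [inv_mul_cancel_left] at this
  have hzH' := hze H' hcH' heH'
  exact ⟨H', hs, hxH', hzH', hcH', heH', hbad' H' hs hxH' hzH' hA⟩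

theorem cast_ne_zero_closure {s n : ℕ} [Fact s.Prime] (hn : n.Prime) (hne : s ≠ n) :
    (n : AlgebraicClosure (ZMod s)) ≠ 0 := by
  haveI : CharP (AlgebraicClosure (ZMod s)) s :=
    charP_of_injective_algebraMap (algebraMap (ZMod s) (AlgebraicClosure (ZMod s))).injective s
  exact fun e => hne ((Nat.prime_dvd_prime_iff_eq Fact.out hn).1
    ((CharP.cast_eq_zero_iff (AlgebraicClosure (ZMod s)) s n).1 e))

theorem allGood_of_commutator (h : QCtx p 2 x z) {d d' : G}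
    (hd : d ∈ Cfsg.pCoreOf 2 (centralizer ({x} : Set G))) (hd' : d' ∈ Cfsg.pCoreOf 2 (centralizer ({x} : Set G)))
    (hz : z = ⁅d, d'⁆) : AllGood p 2 x z := by
  intro H₀ hH₀ hx₀ hz₀
  by_contra hbad₀
  have hp3 : 3 < p := by have := h.five_le; omega
  have hqp : (2 : ℕ) ≠ p := by omega
  have hd'C := PCore.pCoreOf_le _ hd'
  obtain ⟨H, hH, hxH, hzH, hdH, hd'H, hbad⟩ := exists_bad_overgroup h hqp hH₀ hx₀ hz₀ hbad₀ hd hd'C
    (fun H' h1 h2 => by
      rw [hz, commutatorElement_def]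
      exact mul_mem (mul_mem (mul_mem h1 h2) (inv_mem h1)) (inv_mem h2))
  obtain ⟨r, s, T₀, M, L, hk⟩ := exists_killSect h hqp hH hxH hzH hbad
  haveI := Fact.mk hk.sprime
  obtain ⟨m, Γ, i1, i2, ρ, π, W, i3, hxN, hzN, hWr, hmx, hmz, hkill, hlift, hcent, hfix, hne⟩ :=
    hk.exists_image (zs := fun _ => z) h hxH (fun _ => h) (fun _ => hzH) rfl
  have hperm : ∀ c ∈ Cfsg.pCoreOf 2 (centralizer ({x} : Set G)), c ∈ H →
      c ∈ killN H T₀ M L (fun _ => z) := fun c hc hcH =>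
    hk.mem_killN hcH fun _ => ⟨0, by rw [← h.z_central c hc, mul_inv_cancel_right]⟩
  have hdN := hperm d hd hdH
  have hd'N := hperm d' hd' hd'H
  have ez : ∀ i, (⟨z, hzN i⟩ : ↥(killN H T₀ M L fun _ => z)) = ⁅(⟨d, hdN⟩ : ↥(killN H T₀ M L fun _ => z)), ⟨d', hd'N⟩⁆ :=
    fun i => Subtype.ext hz
  have hxd : x * d = d * x := (mem_centralizer_singleton_iff.1 (PCore.pCoreOf_le _ hd)).symm
  have hxd' : x * d' = d' * x := (mem_centralizer_singleton_iff.1 hd'C).symm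
  have hox : (⟨x, hxN⟩ : ↥(killN H T₀ M L fun _ => z)) ^ p = 1 := by
    refine Subtype.ext ?_
    rw [SubgroupClass.coe_pow]
    exact h.order_x ▸ pow_orderOf_eq_one x
  refine hne (kill_commutator (ρ := ρ) (x := π ⟨x, hxN⟩) (d := π ⟨d, hdN⟩) (d' := π ⟨d', hd'N⟩)
    h.prime hp3 hk.rprime hk.r_ne_q hk.r_ne_p (cast_ne_zero_closure hk.rprime hk.s_ne_r)
    (cast_ne_zero_closure h.prime hk.s_ne_p) hWr ?_ ?_ ?_ ?_ ?_ ?_ hmx ?_ ?_ ?_)
  · rw [← map_pow, hox, map_one]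
  · rw [← map_commutatorElement, ← ez 0, ← map_pow, ← map_one π]
    refine congrArg π (Subtype.ext ?_)
    rw [SubgroupClass.coe_pow]
    exact h.order_z ▸ pow_orderOf_eq_one z
  · rw [← map_mul, ← map_mul]; exact congrArg π (Subtype.ext hxd)
  · rw [← map_mul, ← map_mul]; exact congrArg π (Subtype.ext hxd')
  · rw [← map_commutatorElement, ← ez 0, ← map_mul, ← map_mul]
    exact congrArg π (Subtype.ext (h.z_central d hd))
  · rw [← map_commutatorElement, ← ez 0, ← map_mul, ← map_mul]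
    exact congrArg π (Subtype.ext (h.z_central d' hd'))
  · refine hmz.trans (closure_mono (Set.iUnion_subset fun i => ?_))
    rw [ez i, map_commutatorElement]
  · exact fun w hw hxw => ⟨hcent ⟨d, hdN⟩ hd w hw hxw, hcent ⟨d', hd'N⟩ hd' w hw hxw⟩
  · rw [← map_commutatorElement, ← ez 0]
    exact hfix ⟨z, hzN 0⟩ h.z_mem fun d hd _ => h.z_central d hd

theorem allGood_of_orbit (h : QCtx p 2 x z)
    (hab : ∀ a ∈ Cfsg.pCoreOf 2 (centralizer ({x} : Set G)), ∀ b ∈ Cfsg.pCoreOf 2 (centralizer ({x} : Set G)),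
      a * b = b * a) {d y : G} (hd : d ∈ Cfsg.pCoreOf 2 (centralizer ({x} : Set G))) (hd2 : d ^ 2 = 1)
    (hy : y ∈ centralizer ({x} : Set G)) (hodd : Odd (orderOf y)) (hyp : (orderOf y).Coprime p)
    (hz : z = ⁅d, y⁆)
    (hy2 : ∀ c ∈ centralizer ({x} : Set G), ⁅y, ⁅y, c⁆⁆ ∈ Cfsg.pCoreOf 2 (centralizer ({x} : Set G))) :
    AllGood p 2 x z := by
  intro H₀ hH₀ hx₀ hz₀
  by_contra hbad₀
  have hp3 : 3 < p := by have := h.five_le; omega
  have hqp : (2 : ℕ) ≠ p := by omega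
  set D := Cfsg.pCoreOf 2 (centralizer ({x} : Set G))
  obtain ⟨H, hH, hxH, hzH, hdH, hyH, hbad⟩ := exists_bad_overgroup h hqp hH₀ hx₀ hz₀ hbad₀ hd hy
    (fun H' h1 h2 => by
      rw [hz, commutatorElement_def]
      exact mul_mem (mul_mem (mul_mem h1 h2) (inv_mem h1)) (inv_mem h2))
  obtain ⟨r, s, T₀, M, L, hk⟩ := exists_killSect h hqp hH hxH hzH hbad
  haveI := Fact.mk hk.sprime
  let zs : ℕ → G := fun i => y ^ i * z * (y ^ i)⁻¹
  have hzs : ∀ i, QCtx p 2 x (zs i) := fun i => h.conj_z hqp (pow_mem hy i)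
  have hzsH : ∀ i, zs i ∈ H := fun i => mul_mem (mul_mem (pow_mem hyH i) hzH) (inv_mem (pow_mem hyH i))
  obtain ⟨m, Γ, i1, i2, ρ, π, W, i3, hxN, hzN, hWr, hmx, hmz, hkill, hlift, hcent, hfix, hne⟩ :=
    hk.exists_image (zs := zs) h hxH hzs hzsH (by simp [zs])
  have hdN : d ∈ killN H T₀ M L zs := hk.mem_killN hdH fun i =>
    ⟨i, by rw [hab d hd _ (hzs i).z_mem, mul_inv_cancel_right]⟩
  have hyN : y ∈ killN H T₀ M L zs := hk.mem_killN hyH fun i =>
    ⟨i + 1, by simp only [zs, pow_succ', mul_inv_rev, mul_assoc]⟩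
  have hdiN : ∀ i : ℕ, (⟨y, hyN⟩ : ↥(killN H T₀ M L zs)) ^ i * ⟨d, hdN⟩ * ((⟨y, hyN⟩ : ↥(killN H T₀ M L zs)) ^ i)⁻¹ =
      ⟨y ^ i * d * (y ^ i)⁻¹, mul_mem (mul_mem (pow_mem hyN i) hdN) (inv_mem (pow_mem hyN i))⟩ :=
    fun i => Subtype.ext (by simp)
  have hdiD : ∀ i : ℕ, y ^ i * d * (y ^ i)⁻¹ ∈ D := fun i =>
    (mem_normalizer_iff.1 (PCore.le_normalizer_pCoreOf _ (pow_mem hy i)) d).1 hd
  have ez : ∀ i, (⟨zs i, hzN i⟩ : ↥(killN H T₀ M L zs)) = (⟨y, hyN⟩ : ↥(killN H T₀ M L zs)) ^ i * ⁅(⟨d, hdN⟩ : ↥(killN H T₀ M L zs)), (⟨y, hyN⟩ : ↥(killN H T₀ M L zs))⁆ * ((⟨y, hyN⟩ : ↥(killN H T₀ M L zs)) ^ i)⁻¹ :=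
    fun i => Subtype.ext (by simp [zs, hz, commutatorElement_def])
  have hxy : x * y = y * x := (mem_centralizer_singleton_iff.1 hy).symm
  have hxd : x * d = d * x := (mem_centralizer_singleton_iff.1 (PCore.pCoreOf_le _ hd)).symm
  refine hne (kill_orbit (ρ := ρ) (x := π ⟨x, hxN⟩) (d := π ⟨d, hdN⟩) (y := π ⟨y, hyN⟩) (n := orderOf y)
    h.prime hp3 hk.rprime hk.r_ne_q hk.r_ne_p (cast_ne_zero_closure hk.rprime hk.s_ne_r)
    (cast_ne_zero_closure h.prime hk.s_ne_p) hWr ?_ ?_ ?_ ?_ hodd ?_ ?_ hmx ?_ ?_ ?_ ?_)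
  · rw [← map_pow, ← map_one π]
    refine congrArg π (Subtype.ext ?_)
    rw [SubgroupClass.coe_pow]
    exact h.order_x ▸ pow_orderOf_eq_one x
  · rw [← map_pow, ← map_one π]
    exact congrArg π (Subtype.ext hd2)
  · rw [← map_mul, ← map_mul]; exact congrArg π (Subtype.ext hxd)
  · rw [← map_mul, ← map_mul]; exact congrArg π (Subtype.ext hxy)
  · rw [← map_pow, ← map_one π]
    refine congrArg π (Subtype.ext ?_)
    rw [SubgroupClass.coe_pow]
    exact pow_orderOf_eq_one y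
  · intro i
    rw [← map_pow, ← map_inv, ← map_mul, ← map_mul, ← map_mul, ← map_mul, hdiN]
    exact congrArg π (Subtype.ext (hab d hd _ (hdiD i)))
  · refine hmz.trans (closure_mono (Set.iUnion_mono fun i => ?_))
    rw [ez i, map_mul, map_mul, map_inv, map_pow, map_commutatorElement]
  · intro w hw hxw i
    rw [← map_pow, ← map_inv, ← map_mul, ← map_mul, hdiN]
    exact hcent _ (hdiD i) w hw hxw
  · intro w hw hxw
    obtain ⟨c, hcT, hxc, rfl⟩ := hlift w hw hxw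
    have hyT : y ∈ normalizer (killT T₀ zs : Set G) := hyN.1.2
    have hcom : ∀ t ∈ killT T₀ zs, ⁅y, t⁆ ∈ killT T₀ zs := fun t ht => by
      rw [commutatorElement_def]
      exact mul_mem ((mem_normalizer_iff.1 hyT t).1 ht) (inv_mem ht)
    rw [← map_commutatorElement, ← map_commutatorElement]
    exact (congrArg ρ (hkill _ (hy2 _ (mem_centralizer_singleton_iff.2 hxc.symm))
      (hcom _ (hcom _ hcT)))).trans (map_one ρ)
  · intro i
    rw [← map_pow, ← map_inv, ← map_mul, ← map_mul, hdiN]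
    exact hfix _ (hdiD i) fun b hb _ => hab _ (hdiD i) b hb

end Cfsg.Agent.TwoGenSolvable
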