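import Mathlib
import Cfsg.Agent.Lib.TwoGenSolvable.ClusterTools
import Cfsg.Agent.Lib.TwoGenSolvable.MaxMember
import Cfsg.Agent.Lib.PGroup.UniqueOrderP
import Cfsg.Agent.Lib.ZStar.Main

/-!
# Several clusters are impossible

With several clusters `N := N(⟨z⟩)` acts semiregularly on the elements of members that are moved by `z`, hence
without fixed points on each member; its Sylow subgroup for the least prime is then one of `G` and transfer
(or the Z*-theorem) contradicts simplicity.
-/

set_option autoImplicit false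
set_option linter.style.haveILetI false
set_option linter.unusedSectionVars false

namespace Cfsg.Agent.TwoGenSolvable

open Subgroup
open scoped commutatorElement Pointwise

universe u

variable {G : Type u} [Group G] [Finite G] {p q r s t : ℕ} {x z : G} {B Y : Subgroup G}

/-- The standing hypotheses. -/
structure SCtx (p q : ℕ) (x z : G) : Prop extends ZCtx p q x z where
  cent : centralizer ({x} : Set G) ≤ normalizer (zpowers z : Set G)
  core : q = 2 → ∀ s : ℕ, s.Prime → s ≠ 2 → s ≠ p → Cfsg.pCoreOf s (centralizer ({x} : Set G)) = ⊥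
  several : ¬ OneCluster q x z

theorem SCtx.conj (h : SCtx p q x z) (g : G) : SCtx p q (g * x * g⁻¹) (g * z * g⁻¹) := by
  set e := MulAut.conj g
  have hC : centralizer ({g * x * g⁻¹} : Set G) = (centralizer ({x} : Set G)).map e.toMonoidHom := by
    ext y
    constructor
    · intro hy
      have hy' := mem_centralizer_singleton_iff.1 hy
      refine ⟨g⁻¹ * y * g, mem_centralizer_singleton_iff.2 ?_, by simp [e, mul_assoc]⟩
      calc g⁻¹ * y * g * x = g⁻¹ * (y * (g * x * g⁻¹)) * g := by group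
        _ = g⁻¹ * (g * x * g⁻¹ * y) * g := by rw [hy']
        _ = _ := by group
    · rintro ⟨c, hc, rfl⟩
      refine mem_centralizer_singleton_iff.2 ?_
      show e c * e x = e x * e c
      rw [← map_mul, ← map_mul, mem_centralizer_singleton_iff.1 hc]
  refine ⟨h.toZCtx.conj g, ?_, fun hq s hs hs2 hsp => ?_, fun h1 => h.several ?_⟩
  · rw [hC, show zpowers (g * z * g⁻¹) = (zpowers z).map e.toMonoidHom by rw [MonoidHom.map_zpowers]; rfl]
    exact (map_mono h.cent).trans (le_normalizer_map _)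
  · rw [hC, eq_bot_iff]
    intro y hy
    have h2 := map_pCoreOf_le (e⁻¹) _ ⟨y, hy, rfl⟩
    rw [map_map, show (e⁻¹ : MulAut G).toMonoidHom.comp e.toMonoidHom = MonoidHom.id G from
      MonoidHom.ext fun a => e.symm_apply_apply a, map_id, h.core hq s hs hs2 hsp, mem_bot] at h2
    exact mem_bot.2 ((e⁻¹ : MulAut G).injective (h2.trans (map_one _).symm))
  · have h2 := h1.conj g⁻¹
    simpa [mul_assoc] using h2

/-! ### Pieces and classes -/

theorem QCtx.conj' (h : SCtx p q x z) (g : G) : QCtx p q (g * x * g⁻¹) (g * z * g⁻¹) :=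
  (h.toZCtx.conj g).toQCtx

theorem IsMember.exists_piece (h : QCtx p q x z) (hB : IsMember q x z s B) {v : G} (hv : v ∈ B)
    (hvz : v * z ≠ z * v) {L : Subgroup G} (hx : x ∈ L) (hz : z ∈ L) (hzv : v * z * v⁻¹ ∈ L) :
    ∃ E, IsMember q x z s E ∧ E ≤ B ∧ E ≤ L := by
  have hxR : x ∈ normalizer ((B ⊓ L : Subgroup G) : Set G) :=
    mem_normalizer_iff.2 fun y => by
      rw [mem_inf, mem_inf, mem_normalizer_iff.1 hB.moved.x_norm y, mem_normalizer_iff.1 (le_normalizer hx) y]
  have hzR : z ∈ normalizer ((B ⊓ L : Subgroup G) : Set G) :=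
    mem_normalizer_iff.2 fun y => by
      rw [mem_inf, mem_inf, mem_normalizer_iff.1 hB.moved.z_norm y, mem_normalizer_iff.1 (le_normalizer hz) y]
  refine ⟨⁅B ⊓ L, zpowers z⁆, isMember_commutator h hB.sprime hB.ne_q (hB.pgroup.to_le inf_le_left) hxR hzR
    fun hbot => hvz ?_, (commutator_zpowers_le hzR).trans inf_le_left,
    (commutator_zpowers_le hzR).trans inf_le_right⟩
  have hc : ⁅v, z⁆ ∈ B ⊓ L := by
    refine ⟨(commutator_zpowers_le hB.moved.z_norm) (commutator_mem_commutator hv (mem_zpowers z)), ?_⟩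
    rw [commutatorElement_def]
    show v * z * v⁻¹ * z⁻¹ ∈ L
    exact L.mul_mem hzv (L.inv_mem hz)
  have h1 : ⁅⁅v, z⁆, z⁆ ∈ ⁅B ⊓ L, zpowers z⁆ := commutator_mem_commutator hc (mem_zpowers z)
  rw [hbot, mem_bot, commutatorElement_eq_one_iff_mul_comm] at h1
  refine commute_of_commutator_commute h1.symm ?_
  rw [h.order_z]
  exact coprime_orderOf_of_mem (coprime_of_pgroup hB.sprime h.qprime hB.ne_q hB.pgroup) hc.1

/-- The join of the maximal members linked to `B`. -/
def linkJoin (q : ℕ) (x z : G) (s : ℕ) (B : Subgroup G) : Subgroup G :=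
  ⨆ (t : ℕ) (Y : Subgroup G) (_ : IsMaxMember q x z t Y ∧ Linked s t B Y), Y

theorem le_linkJoin (hY : IsMaxMember q x z t Y) (hl : Linked s t B Y) : Y ≤ linkJoin q x z s B :=
  le_iSup_of_le t (le_iSup_of_le Y (le_iSup_of_le ⟨hY, hl⟩ le_rfl))

theorem self_le_linkJoin (hB : IsMaxMember q x z s B) : B ≤ linkJoin q x z s B :=
  le_linkJoin hB (Or.inl rfl)

theorem ZCtx.normalizer_zpowers_le_linkJoin (h : ZCtx p q x z) :
    normalizer (zpowers z : Set G) ≤ normalizer (linkJoin q x z s B : Set G) := by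
  intro c hc
  refine mem_normalizer_iff_map_conj_eq.2 (eq_of_le_of_card_ge ?_ (by rw [card_map_of_injective
    (MulAut.conj c).injective]))
  rw [map_le_iff_le_comap]
  exact iSup_le fun t => iSup_le fun Y => iSup_le fun hY => map_le_iff_le_comap.1
    ((mem_normalizer_iff_map_conj_eq.1 (hY.1.normalizer_zpowers_le h hc)).le.trans (le_linkJoin hY.1 hY.2))

theorem ZCtx.solvable_linkJoin (h : ZCtx p q x z) (hB : IsMaxMember q x z s B) :
    Group.IsSolvable ↥(normalizer (linkJoin q x z s B : Set G)) := by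
  have hco : (Nat.card (linkJoin q x z s B)).Coprime q := by
    refine coprime_of_le_of_normalize (iSup_le fun t => iSup_le fun Y => iSup_le fun hY => ?_)
    refine le_iSup₂_of_le Y ⟨le_linkJoin hY.1 hY.2, coprime_of_pgroup hY.1.sprime h.qprime hY.1.ne_q hY.1.pgroup,
      iSup_le fun r => iSup_le fun W => iSup_le fun hW => ?_⟩ le_rfl
    rcases hY.1.linked_trans h hB hW.1 hY.2.symm hW.2 with rfl | ⟨-, hc⟩
    · exact le_normalizer
    · exact le_trans (fun w hw => mem_centralizer_iff.2 fun y hy => hc y hy w hw)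
        (centralizer_le_normalizer _)
  exact (h.toMinCE.solvable_normalizer_of_ne (fun e => hB.ne_bot (le_bot_iff.1 ((self_le_linkJoin hB).trans e.le)))
    (h.toMinCE.ne_top_of_coprime h.order_z h.qprime hco)).2

/-- Members in a solvable subgroup containing a piece of `B` lie in the class of `B`. -/
theorem ZCtx.members_le_linkJoin (h : ZCtx p q x z) (hB : IsMaxMember q x z s B) {H E : Subgroup G}
    (hH : Group.IsSolvable H) (hx : x ∈ H) (hz : z ∈ H) (hE : IsMember q x z s E) (hEB : E ≤ B) (hEH : E ≤ H) :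
    ∀ (t : ℕ) (F : Subgroup G), IsMember q x z t F → F ≤ H →
      F ≤ normalizer (linkJoin q x z s B : Set G) := by
  intro t F hF hFH
  obtain ⟨Y, hY, hFY⟩ := hF.exists_max
  exact hFY.trans ((le_linkJoin hY (hB.linked_of_pieces h hY hH hx hz hE hF hEB hFY hEH hFH)).trans le_normalizer)

/-! ### `O_{p'}` of solvable subgroups containing `x` and `z` -/

/-- `x` centralises the abelian or odd `t`-subgroups of `C(z)` it normalises. -/
theorem SCtx.le_centralizer_x (h : SCtx p q x z) (ht : t.Prime) (htp : t ≠ p) {R : Subgroup G}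
    (hR : IsPGroup t R) (hRz : R ≤ centralizer ({z} : Set G)) (hxR : x ∈ normalizer (R : Set G))
    (hcase : t ≠ 2 ∨ ∀ a ∈ R, ∀ b ∈ R, a * b = b * a) : R ≤ centralizer ({x} : Set G) := by
  haveI := Fact.mk ht
  have hle : ⁅R, zpowers x⁆ ≤ R := commutator_zpowers_le hxR
  by_cases hne : ⁅R, zpowers x⁆ = ⊥
  · exact (commutator_eq_bot_iff_le_centralizer.1 hne).trans
      (centralizer_le (Set.singleton_subset_iff.2 (mem_zpowers x)))
  · refine absurd (h.toZCtx.oneCluster_of_linkable ht htp (hR.to_le hle) hne (hle.trans hRz)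
      (mem_normalizer_commutator hxR rfl) ?_ ?_) h.several
    · refine Coprime.commutator_commutator_eq (zpowers_le.2 hxR) ?_ (Or.inl inferInstance)
      rw [Nat.card_zpowers, h.order_x]
      exact (coprime_of_pgroup ht h.prime htp hR).symm
    · exact hcase.imp id fun hc => Or.inl fun a ha b hb => hc a (hle ha) b (hle hb)

/-- (`q = 2`) `z` is its only conjugate commuting with `x` and `z`. -/
theorem SCtx.conj_eq (h : SCtx p q x z) (hq : q = 2) {g : G} (hgx : x * (g * z * g⁻¹) = g * z * g⁻¹ * x)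
    (hgz : z * (g * z * g⁻¹) = g * z * g⁻¹ * z) : g * z * g⁻¹ = z := by
  subst hq
  haveI := Fact.mk Nat.prime_two
  by_contra hne
  set z' := g * z * g⁻¹ with hz'
  have hqp : 2 ≠ p := by have := h.five_le; omega
  have h' := h.conj g
  have hord : orderOf z' = 2 := h'.order_z
  have hzz : z * z = 1 := by rw [← pow_two, ← h.order_z]; exact pow_orderOf_eq_one z
  have hz'z' : z' * z' = 1 := by rw [← pow_two, ← hord]; exact pow_orderOf_eq_one z'
  have hH := h'.toQCtx.solvable_centralizer_z.1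
  set H := centralizer ({z'} : Set G) with hHdef
  set w := z * z' with hw
  have hw1 : w ≠ 1 := fun e => hne (mul_left_cancel (hzz.trans e.symm)).symm
  -- `z z'` centralises every maximal member
  have key : ∀ (r : ℕ) (B' : Subgroup G), IsMaxMember 2 x z r B' → B' ≤ centralizer ({w} : Set G) := by
    intro r B' hB'
    haveI := Fact.mk hB'.sprime
    have hz'B : z' ∈ normalizer (B' : Set G) := hB'.normalizer_zpowers_le h.toZCtx
      (centralizer_le_normalizer_zpowers z (mem_centralizer_singleton_iff.2 hgz.symm))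
    have hcn : ∀ c a : G, c * a = a * c → c ∈ normalizer (B' : Set G) →
        c ∈ normalizer ((B' ⊓ centralizer {a} : Subgroup G) : Set G) := by
      intro c a hca hcB
      refine mem_normalizer_iff.2 fun y => ?_
      rw [mem_inf, mem_inf, mem_normalizer_iff.1 hcB y,
        mem_normalizer_iff.1 (le_normalizer (mem_centralizer_singleton_iff.2 hca)) y]
    have hzn := hcn z z' hgz hB'.moved.z_norm
    have hxn := hcn x z' hgx hB'.moved.x_norm
    -- `z` centralises `C_B(z')`
    have hfix : B' ⊓ centralizer {z'} ≤ centralizer ({z} : Set G) := by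
      by_contra hnot
      have hne0 : ⁅B' ⊓ centralizer {z'}, zpowers z⁆ ≠ ⊥ := fun e => hnot
        ((commutator_eq_bot_iff_le_centralizer.1 e).trans (centralizer_le (Set.singleton_subset_iff.2 (mem_zpowers z))))
      have hF := isMember_commutator h.toQCtx hB'.sprime hB'.ne_q (hB'.pgroup.to_le inf_le_left) hxn hzn hne0
      have hxH : x ∈ H := mem_centralizer_singleton_iff.2 hgx
      have hzH : z ∈ H := mem_centralizer_singleton_iff.2 hgz
      have hcore := h.toZCtx.le_core_of_zmoved hB'.sprime hB'.ne_q hH hxH hzH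
        ((commutator_zpowers_le hzn).trans inf_le_right) hF.pgroup hF.moved.z_norm hF.moved.eq
      set R := Cfsg.pCoreOf r (ppOf p H) with hR
      have hHR : H ≤ normalizer (R : Set G) := FixedDim.le_normalizer_map_char (le_normalizer_ppOf p H) _
      have hRH : R ≤ H := (PCore.pCoreOf_le _).trans (ppOf_le p H)
      have hxH' : g * x * g⁻¹ ∈ H := mem_centralizer_singleton_iff.2 h'.toQCtx.commute
      have hRx : R ≤ centralizer ({g * x * g⁻¹} : Set G) :=
        h'.le_centralizer_x hB'.sprime (hB'.toIsMember.ne_p h.toQCtx) (PCore.isPGroup_pCoreOf _) hRH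
          (hHR hxH') (Or.inl hB'.ne_q)
      have hCH : centralizer ({g * x * g⁻¹} : Set G) ≤ H := fun c hc =>
        mem_centralizer_singleton_iff.2 (by
          obtain ⟨k, hk⟩ := mem_zpowers_iff.1 ((mem_normalizer_iff.1 (h'.cent hc) z').1 (mem_zpowers z'))
          have h1 : c * z' * c⁻¹ ≠ 1 := fun e => by
            have : z' = 1 := conj_eq_one_iff.1 e
            rw [this, orderOf_one] at hord; omega
          rcases Int.even_or_odd k with ⟨j, rfl⟩ | ⟨j, rfl⟩
          · exact absurd (by rw [← hk, ← two_mul, zpow_mul, zpow_two, hz'z', one_zpow]) h1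
          · rw [zpow_add, zpow_mul, zpow_two, hz'z', one_zpow, one_mul, zpow_one] at hk
            exact mul_inv_eq_iff_eq_mul.1 hk.symm)
      have h0 : R ≤ Cfsg.pCoreOf r (centralizer ({g * x * g⁻¹} : Set G)) :=
        PCore.le_pCoreOf hRx (PCore.isPGroup_pCoreOf _) (hCH.trans hHR)
      rw [h'.core rfl r hB'.sprime hB'.ne_q (hB'.toIsMember.ne_p h.toQCtx)] at h0
      exact hF.ne_bot (le_bot_iff.1 (hcore.trans h0))
    have hwB : w ∈ normalizer (B' : Set G) := mul_mem hB'.moved.z_norm hz'B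
    have hzw : z * w = w * z := by rw [hw, mul_assoc z z' z, ← hgz]
    have hwn := hcn z w hzw hB'.moved.z_norm
    have hsup : B' ≤ (B' ⊓ centralizer {w}) ⊔ B' ⊓ centralizer ({z} : Set G) := by
      set A := closure ({z, z'} : Set G) with hA
      haveI hAc : IsMulCommutative A := isMulCommutative_closure (by
        rintro a (rfl | rfl) b (rfl | rfl) <;> first | rfl | exact hgz | exact hgz.symm)
      have hAmem : ∀ a ∈ A, a = 1 ∨ a = z ∨ a = z' ∨ a = w := by
        have hz'z : z' * z = w := by rw [hw]; exact hgz.symm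
        have e1 : z * w = z' := by rw [hw, ← mul_assoc, hzz, one_mul]
        have e2 : w * z = z' := by rw [← hzw, e1]
        have e3 : w * z' = z := by rw [hw, mul_assoc, hz'z', mul_one]
        have e4 : z' * w = z := by rw [← hz'z, ← mul_assoc, hz'z', one_mul]
        have e5 : w * w = 1 := by nth_rw 2 [hw]; rw [← mul_assoc, e2, hz'z']
        intro a ha
        induction ha using closure_induction with
        | mem y hy => rcases hy with rfl | rfl <;> simp
        | one => simp
        | mul a b _ _ ha hb =>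
          rcases ha with rfl | rfl | rfl | rfl <;> rcases hb with rfl | rfl | rfl | rfl <;>
            simp [hzz, hz'z', hz'z, e1, e2, e3, e4, e5, ← hw]
        | inv a _ ha =>
          rcases ha with rfl | rfl | rfl | rfl <;>
            simp [inv_eq_of_mul_eq_one_right hzz, inv_eq_of_mul_eq_one_right hz'z', inv_eq_of_mul_eq_one_right e5]
      have hAN : A ≤ normalizer (B' : Set G) := by
        rw [closure_le]; rintro a (rfl | rfl)
        · exact hB'.moved.z_norm
        · exact hz'B
      have hAp : IsPGroup 2 A := fun a => ⟨1, Subtype.ext (by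
        show (a : G) ^ (2 ^ 1) = 1
        rw [pow_one, pow_two]
        rcases hAmem a a.2 with e | e | e | e <;> rw [e]
        · exact mul_one 1
        · exact hzz
        · exact hz'z'
        · rw [hw, mul_assoc, ← mul_assoc z' z, ← hgz, mul_assoc z z', hz'z', mul_one, hzz])⟩
      have hAcyc : ¬ IsCyclic A := by
        intro hc
        obtain ⟨a, ha⟩ := hc.exists_generator
        have hzA : z ∈ A := subset_closure (by simp)
        have hcard : Nat.card A ∣ 2 := by
          rw [← orderOf_eq_card_of_forall_mem_zpowers ha]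
          refine orderOf_dvd_of_pow_eq_one (Subtype.ext ?_)
          show (a : G) ^ 2 = 1
          rcases hAmem a a.2 with e | e | e | e <;> rw [e, pow_two]
          · exact mul_one 1
          · exact hzz
          · exact hz'z'
          · rw [hw, mul_assoc, ← mul_assoc z' z, ← hgz, mul_assoc z z', hz'z', mul_one, hzz]
        have heq : zpowers z = A := eq_of_le_of_card_ge (zpowers_le.2 hzA)
          (by rw [Nat.card_zpowers, h.order_z]; exact Nat.le_of_dvd two_pos hcard)
        obtain ⟨k, hk⟩ := mem_zpowers_iff.1 (heq.ge (subset_closure (by simp) : z' ∈ A))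
        rcases Int.even_or_odd k with ⟨j, rfl⟩ | ⟨j, rfl⟩
        · rw [← two_mul, zpow_mul, zpow_two, hzz, one_zpow] at hk
          rw [← hk, orderOf_one] at hord; omega
        · rw [zpow_add, zpow_mul, zpow_two, hzz, one_zpow, one_mul, zpow_one] at hk
          exact hne hk.symm
      have hcop : (Nat.card A).Coprime (Nat.card B') := by
        obtain ⟨n, hn⟩ := IsPGroup.iff_card.1 hAp
        rw [hn]
        exact (coprime_of_pgroup hB'.sprime Nat.prime_two hB'.ne_q hB'.pgroup).symm.pow_left n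
      refine (Coprime.eq_of_forall_centralizer_le hAcyc hAN hcop (sup_le inf_le_left inf_le_left)
        fun a ha ha1 => ?_).ge
      rcases hAmem a ha with e | e | e | e
      · exact absurd e ha1
      · rw [e]; exact le_sup_right
      · rw [e]; exact le_sup_of_le_right (le_inf inf_le_left hfix)
      · rw [e]; exact le_sup_left
    exact (hB'.toIsMember.eq_of_le_sup inf_le_left hwn hsup).ge.trans inf_le_right
  have hLs : Group.IsSolvable ↥(centralizer ({w} : Set G)) := by
    refine h.toMinCE.proper _ fun ht => ?_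
    haveI := h.simple
    have hwc : w ∈ center G := mem_center_iff.2 fun y =>
      mem_centralizer_singleton_iff.1 (ht ▸ mem_top y : y ∈ centralizer ({w} : Set G))
    rcases (inferInstance : (center G).Normal).eq_bot_or_eq_top with hb | he
    · exact hw1 (mem_bot.1 (hb ▸ hwc))
    · exact h.not_solvable (Group.isSolvable_of_comm fun a b => mem_center_iff.1 (he ▸ mem_top b) a)
  refine h.several (h.toZCtx.oneCluster_of_pieces hLs ?_ ?_ fun r B' hB' =>
    ⟨B', hB'.toIsMember, le_rfl, key r B' hB'⟩)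
  · exact mem_centralizer_singleton_iff.2 ((show Commute x z from h.toQCtx.commute).mul_right hgx).eq
  · exact mem_centralizer_singleton_iff.2 ((Commute.refl z).mul_right hgz).eq

/-- (c): `O_{p'}(H)` lies in any subgroup containing `N(⟨z⟩)` and all members inside `H`. -/
theorem SCtx.ppOf_le_sub (h : SCtx p q x z) {H K : Subgroup G} (hH : Group.IsSolvable H) (hx : x ∈ H) (hz : z ∈ H)
    (hK : normalizer (zpowers z : Set G) ≤ K)
    (hmem : ∀ (s : ℕ) (F : Subgroup G), IsMember q x z s F → F ≤ H → F ≤ K) : ppOf p H ≤ K := by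
  haveI := Fact.mk h.qprime
  have hCK : centralizer ({z} : Set G) ≤ K := (centralizer_le_normalizer_zpowers z).trans hK
  have hxK : centralizer ({x} : Set G) ≤ K := h.cent.trans hK
  set Θ := ppOf p H with hΘ
  set O := ppOf q Θ with hO
  have hHΘ : H ≤ normalizer (Θ : Set G) := le_normalizer_ppOf p H
  have hHO : H ≤ normalizer (O : Set G) := FixedDim.le_normalizer_map_char hHΘ (Cfsg.pPrimeCore q Θ)
  have hOH : O ≤ H := (ppOf_le q Θ).trans (ppOf_le p H)
  have hcop : ∀ W : Subgroup G, W ≤ O → (Nat.card (zpowers z)).Coprime (Nat.card W) := fun W hW => by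
    rw [Nat.card_zpowers, h.order_z]
    exact ((coprime_card_ppOf q Θ).coprime_dvd_left (card_dvd_of_le hW)).symm
  have hOK : O ≤ K := by
    refine le_of_le_of_eq ?_ (rfl : K = K)
    refine le_trans (Coprime.eq_of_forall_invariant_pgroup_le (S := O ⊓ K) (zpowers_le.2 (hHO hz))
      (hcop O le_rfl) (Or.inl inferInstance) inf_le_left fun r W hr hW hWO hzW => le_inf hWO ?_).ge inf_le_right
    by_cases hW1 : W = ⊥
    · rw [hW1]; exact bot_le
    have hrq : r ≠ q := by
      rintro rfl
      exact hW1 (PCore.eq_bot_of_isPGroup_of_coprime hW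
        ((coprime_card_ppOf r Θ).coprime_dvd_left (card_dvd_of_le hWO)))
    have hzW' : z ∈ normalizer (W : Set G) := hzW (mem_zpowers z)
    rw [← Coprime.commutator_sup_centralizer hzW (hcop W hWO) (Or.inl inferInstance)]
    refine sup_le ?_ (inf_le_right.trans ((centralizer_le (Set.singleton_subset_iff.2 (mem_zpowers z))).trans hCK))
    have heq : ⁅⁅W, zpowers z⁆, zpowers z⁆ = ⁅W, zpowers z⁆ :=
      Coprime.commutator_commutator_eq hzW (hcop W hWO) (Or.inl inferInstance)
    have hle : ⁅W, zpowers z⁆ ≤ ⁅Cfsg.pCoreOf r Θ, zpowers z⁆ := by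
      rw [← heq]
      exact commutator_mono (h.toZCtx.le_core_of_zmoved hr hrq hH hx hz
        ((commutator_zpowers_le hzW').trans (hWO.trans hOH)) (hW.to_le (commutator_zpowers_le hzW'))
        (mem_normalizer_commutator hzW' rfl) heq) le_rfl
    by_cases hne : ⁅Cfsg.pCoreOf r Θ, zpowers z⁆ = ⊥
    · exact hle.trans (hne.le.trans bot_le)
    have hn : H ≤ normalizer (Cfsg.pCoreOf r Θ : Set G) := FixedDim.le_normalizer_map_char hHΘ _
    exact hle.trans (hmem r _ (isMember_commutator h.toQCtx hr hrq (PCore.isPGroup_pCoreOf _) (hn hx) (hn hz) hne)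
      ((commutator_zpowers_le (hn hz)).trans ((PCore.pCoreOf_le _).trans (ppOf_le p H))))
  by_cases hqp : q = p
  · exact (le_ppOf le_rfl (hqp ▸ coprime_card_ppOf p H) le_normalizer).trans hOK
  set E := (Cfsg.pPrimePCore q Θ).map Θ.subtype with hE
  have hzE : z ∈ E := (h.good H hH hx hz).1 hqp
  have hEΘ : E ≤ Θ := map_subtype_le _
  have hHE : H ≤ normalizer (E : Set G) := FixedDim.le_normalizer_map_char hHΘ _
  have hOE : O ≤ E := map_mono PCore.pPrimeCore_le_pPrimePCore
  have hxcop : ∀ W : Subgroup G, W ≤ Θ → (Nat.card (zpowers x)).Coprime (Nat.card W) := fun W hW => by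
    rw [Nat.card_zpowers, h.order_x]
    exact ((coprime_card_ppOf p H).coprime_dvd_left (card_dvd_of_le hW)).symm
  have hzq : IsPGroup q (zpowers z) := IsPGroup.of_card (n := 1) (by rw [Nat.card_zpowers, pow_one, h.order_z])
  obtain ⟨T, hzT, hxT⟩ := Coprime.exists_invariant_sylow_ge (A := zpowers x) (zpowers_le.2 (hHE hx))
    (hxcop E hEΘ) (Or.inl inferInstance) (zpowers_le.2 hzE) hzq (zpowers_le.2
      (centralizer_le_normalizer_zpowers z (mem_centralizer_singleton_iff.2 h.toQCtx.commute)))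
  set Q := (T : Subgroup E).map E.subtype with hQ
  have hzQ : z ∈ Q := hzT (mem_zpowers z)
  have hQq : IsPGroup q Q := T.2.map _
  have hxQ : x ∈ normalizer (Q : Set G) := hxT (mem_zpowers x)
  have hQE : Q ≤ E := map_subtype_le _
  obtain ⟨m, hm⟩ := PCore.relIndex_pPrimePCore (G := Θ) (p := q)
  haveI hOn : (O.subgroupOf E).Normal :=
    Coprime.normal_subgroupOf_of_le_normalizer ((hEΘ.trans (ppOf_le p H)).trans hHO)
  have hEOQ : E ≤ O ⊔ Q := by
    have hidx : (O.subgroupOf E).index = q ^ m := by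
      rw [← hm, hO, ppOf, hE]
      show ((Cfsg.pPrimeCore q Θ).map Θ.subtype).relIndex ((Cfsg.pPrimePCore q Θ).map Θ.subtype) = _
      exact relIndex_map_map_of_injective _ _ Θ.subtype_injective
    have htop := PCore.sylow_sup_eq_top T (O.subgroupOf E) hidx
    intro e he
    have h1 : (⟨e, he⟩ : E) ∈ (T : Subgroup E) ⊔ O.subgroupOf E := htop ▸ mem_top _
    have h2 := mem_map_of_mem E.subtype h1
    rw [Subgroup.map_sup, map_subgroupOf_eq_of_le hOE, sup_comm] at h2
    exact h2
  -- `Q` and `N_Θ(Q)` lie in `K`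
  obtain ⟨hQK, hRK⟩ : Q ≤ K ∧ Θ ⊓ normalizer (Q : Set G) ≤ K := by
    by_cases hq2 : q = 2
    · set Q1 := Q ⊓ centralizer ({z} : Set G) with hQ1
      have hzQ1 : z ∈ Q1 := ⟨hzQ, mem_centralizer_singleton_iff.2 rfl⟩
      have hxQ1 : x ∈ normalizer (Q1 : Set G) := mem_normalizer_iff.2 fun y => by
        rw [hQ1, mem_inf, mem_inf, mem_normalizer_iff.1 hxQ y, mem_normalizer_iff.1
          (le_normalizer (mem_centralizer_singleton_iff.2 h.toQCtx.commute)) y]
      set Z := Q1 ⊓ centralizer (Q1 : Set G) with hZ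
      have hxZ : x ∈ normalizer (Z : Set G) := mem_normalizer_iff.2 fun y => by
        rw [hZ, Subgroup.mem_inf (p := Q1), Subgroup.mem_inf (p := Q1), mem_normalizer_iff.1 hxQ1 y]
        refine and_congr_right fun _ => mem_normalizer_iff.1 ?_ y
        exact (AbelianCent.le_normalizer_centralizer' (le_refl (normalizer (Q1 : Set G)))) hxQ1
      have hZx : Z ≤ centralizer ({x} : Set G) := h.le_centralizer_x h.qprime hqp
        (hQq.to_le (inf_le_left.trans inf_le_left)) (inf_le_left.trans inf_le_right) hxZ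
        (Or.inr fun a ha b hb => (mem_centralizer_iff.1 hb.2 a ha.1))
      have hfixn : ∀ n ∈ normalizer (Q1 : Set G), n ∈ centralizer ({z} : Set G) := by
        intro n hn
        have hnz : n * z * n⁻¹ ∈ Z := by
          refine ⟨(mem_normalizer_iff.1 hn z).1 hzQ1, mem_centralizer_iff.2 fun y hy => ?_⟩
          have hy' : n⁻¹ * y * n ∈ Q1 := by simpa using (mem_normalizer_iff.1 (inv_mem hn) y).1 hy
          have h1 := mem_centralizer_singleton_iff.1 hy'.2
          calc y * (n * z * n⁻¹) = n * ((n⁻¹ * y * n) * z) * n⁻¹ := by group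
            _ = n * (z * (n⁻¹ * y * n)) * n⁻¹ := by rw [h1]
            _ = n * z * n⁻¹ * y := by group
        have h1 := h.conj_eq hq2 (g := n) (mem_centralizer_singleton_iff.1 (hZx hnz)).symm
          (mem_centralizer_singleton_iff.1 hnz.1.2).symm
        exact mem_centralizer_singleton_iff.2 (mul_inv_eq_iff_eq_mul.1 h1)
      have hQQ1 : Q ≤ Q1 := by
        by_contra hlt
        haveI : Group.IsNilpotent Q := hQq.isNilpotent
        obtain ⟨u, huN, hu⟩ := SetLike.exists_of_lt (Group.normalizerCondition_of_isNilpotent (Q1.subgroupOf Q)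
          (lt_top_iff_ne_top.2 fun e => hlt fun y hy => (mem_subgroupOf.1 (e ▸ mem_top (⟨y, hy⟩ : Q)))))
        refine hu ⟨u.2, hfixn (u : G) (mem_normalizer_iff.2 fun y => ?_)⟩
        by_cases hy : y ∈ Q
        · exact mem_normalizer_iff.1 huN ⟨y, hy⟩
        · refine iff_of_false (fun hk => hy hk.1) (fun hk => hy ?_)
          simpa [mul_assoc] using mul_mem (mul_mem (inv_mem u.2) hk.1) u.2
      refine ⟨fun y hy => hCK (hQQ1 hy).2, fun n hn => hCK (hfixn n ?_)⟩
      rw [show Q1 = Q from le_antisymm inf_le_left hQQ1]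
      exact hn.2
    · have hQ1x : Q ⊓ centralizer ({z} : Set G) ≤ centralizer ({x} : Set G) :=
        h.le_centralizer_x h.qprime hqp (hQq.to_le inf_le_left) inf_le_right (mem_normalizer_iff.2 fun y => by
          rw [mem_inf, mem_inf, mem_normalizer_iff.1 hxQ y, mem_normalizer_iff.1
            (le_normalizer (mem_centralizer_singleton_iff.2 h.toQCtx.commute)) y]) (Or.inl hq2)
      have hxall := Balance.commute_of_commute_fixed (R := zpowers z) hQq hzq
        ((zpowers_le.2 hzQ).trans le_normalizer) hxQ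
        (by rw [h.order_x]; exact (Nat.coprime_primes h.prime h.qprime).2 (Ne.symm hqp))
        (by rintro _ ⟨i, rfl⟩; exact (show Commute x z from h.toQCtx.commute).zpow_right i)
        (fun c hc hcz => (mem_centralizer_singleton_iff.1 (hQ1x ⟨hc, mem_centralizer_singleton_iff.2
          (hcz z (mem_zpowers z)).eq.symm⟩)).symm)
      have hQx : Q ≤ centralizer ({x} : Set G) := fun y hy => mem_centralizer_singleton_iff.2 (hxall y hy).eq.symm
      refine ⟨hQx.trans hxK, ?_⟩
      set R := Θ ⊓ normalizer (Q : Set G) with hR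
      have hxR : x ∈ normalizer (R : Set G) := mem_normalizer_iff.2 fun y => by
        rw [hR, mem_inf, mem_inf, mem_normalizer_iff.1 (hHΘ hx) y, mem_normalizer_iff.1 (le_normalizer hxQ) y]
      rw [← Coprime.commutator_sup_centralizer (zpowers_le.2 hxR) (hxcop R inf_le_left) (Or.inl inferInstance)]
      refine sup_le (le_trans ?_ ((sup_le hOK (hQx.trans hxK) : O ⊔ Q ≤ K)))
        (inf_le_right.trans ((centralizer_le (Set.singleton_subset_iff.2 (mem_zpowers x))).trans hxK))
      refine le_trans ?_ hEOQ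
      haveI : Group.IsSolvable Θ := by
        haveI := hH
        exact Group.isSolvable_of_isSolvable_injective (f := Subgroup.inclusion (ppOf_le p H)) (inclusion_injective _)
      rw [commutator_le]
      rintro n hn _ ⟨i, rfl⟩
      have hcR : ⁅n, x ^ i⁆ ∈ R :=
        commutator_zpowers_le hxR (commutator_mem_commutator hn ⟨i, rfl⟩)
      have hcen : ∀ y ∈ Q, ⁅n, x ^ i⁆ * y = y * ⁅n, x ^ i⁆ := by
        intro y hy
        have hxy : ∀ y ∈ Q, Commute (x ^ i) y := fun y hy => (hxall y hy).zpow_left i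
        have hy' : n⁻¹ * y * n ∈ Q := by simpa using (mem_normalizer_iff.1 (inv_mem hn.2) y).1 hy
        have h1 : Commute (n * x ^ i * n⁻¹) y := by
          show n * x ^ i * n⁻¹ * y = y * (n * x ^ i * n⁻¹)
          calc n * x ^ i * n⁻¹ * y = n * (x ^ i * (n⁻¹ * y * n)) * n⁻¹ := by group
            _ = n * ((n⁻¹ * y * n) * x ^ i) * n⁻¹ := by rw [(hxy _ hy').eq]
            _ = _ := by group
        rw [commutatorElement_def]
        exact (h1.mul_left (hxy y hy).inv_left).eq
      refine ⟨⟨⁅n, x ^ i⁆, hcR.1⟩, mem_pPrimePCore_of_forall fun c hc => ?_, rfl⟩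
      obtain ⟨o, ho, u, hu, hou⟩ : ∃ o ∈ O, ∃ u ∈ Q, o * u = (c : G) := by
        have h1 : (c : G) ∈ O ⊔ Q := hEOQ ⟨c, hc, rfl⟩
        rw [← SetLike.mem_coe, coe_mul_of_right_le_normalizer_left O Q
          ((hQE.trans (hEΘ.trans (ppOf_le p H))).trans hHO)] at h1
        exact h1
      set a := ⁅n, x ^ i⁆ with ha
      have hval : a * (c : G) * a⁻¹ * (c : G)⁻¹ = a * o * a⁻¹ * o⁻¹ := by
        rw [← hou]
        calc a * (o * u) * a⁻¹ * (o * u)⁻¹ = a * o * a⁻¹ * ((a * u) * a⁻¹ * u⁻¹) * o⁻¹ := by group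
          _ = a * o * a⁻¹ * ((u * a) * a⁻¹ * u⁻¹) * o⁻¹ := by rw [hcen u hu]
          _ = _ := by group
      have hin : a * (c : G) * a⁻¹ * (c : G)⁻¹ ∈ O := hval ▸ mul_mem
        ((mem_normalizer_iff.1 (hHO (ppOf_le p H hcR.1)) o).1 ho) (inv_mem ho)
      obtain ⟨y, hy, hye⟩ := hin
      rwa [show (⟨a, hcR.1⟩ : Θ) * c * (⟨a, hcR.1⟩ : Θ)⁻¹ * c⁻¹ = y from Subtype.ext hye.symm]
  intro g hg
  obtain ⟨k, hk, hkg⟩ := Coprime.exists_mem_conj_sylow_eq T (hHE (ppOf_le p H hg))
  have hkK : k ∈ K := (sup_le hOK hQK) (hEOQ hk)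
  have hn : k⁻¹ * g ∈ normalizer (Q : Set G) := Coprime.mem_normalizer_of_conj_smul_eq (by
    rw [map_mul, mul_smul, hQ, ← hkg, smul_smul, ← map_mul, inv_mul_cancel, map_one, one_smul])
  have hnK := hRK (⟨Θ.mul_mem (Θ.inv_mem (hEΘ hk)) hg, hn⟩ : k⁻¹ * g ∈ Θ ⊓ normalizer (Q : Set G))
  simpa using mul_mem hkK hnK

/-- Conjugates of `x` and `z` in `H` lie in such a subgroup. -/
theorem SCtx.conj_mem (h : SCtx p q x z) {H K : Subgroup G} (hH : Group.IsSolvable H) (hx : x ∈ H) (hz : z ∈ H)
    (hK : normalizer (zpowers z : Set G) ≤ K)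
    (hmem : ∀ (s : ℕ) (F : Subgroup G), IsMember q x z s F → F ≤ H → F ≤ K) {g : G}
    (hgx : g * x * g⁻¹ ∈ H) (hgz : g * z * g⁻¹ ∈ H) : g * x * g⁻¹ ∈ K ∧ g * z * g⁻¹ ∈ K := by
  have hΘ := h.ppOf_le_sub hH hx hz hK hmem
  have hgxK : g * x * g⁻¹ ∈ K := by
    obtain ⟨θ, hθ, hc⟩ := h.toXCtx.exists_conj_commute hH hx hgx
    have h1 : θ * g * x * (θ * g)⁻¹ ∈ K := hK (h.cent (mem_centralizer_singleton_iff.2 hc))
    have h2 := mul_mem (mul_mem (inv_mem (hΘ hθ)) h1) (hΘ hθ)
    simpa [mul_assoc] using h2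
  refine ⟨hgxK, ?_⟩
  by_cases hqp : q = p
  · rwa [h.z_eq_x hqp]
  · exact hΘ ((QCtx.conj' h g).pCoreOf_inf_le hqp hH hgx ⟨(QCtx.conj' h g).z_mem, hgz⟩)

/-! ### Semiregularity -/

theorem SCtx.conj_mem_normalizer (h : SCtx p q x z) {t' : ℕ} (hB : IsMaxMember q x z s B)
    (hY : IsMaxMember q x z t' Y) (hnl : ¬ Linked s t' B Y) {v : G} (hv : v ∈ B) (hvz : v * z ≠ z * v)
    {c : G} (hc : c ∈ normalizer (zpowers z : Set G)) (hcv : c ∈ normalizer (zpowers (v * z * v⁻¹) : Set G))
    {w : G} (hw : w ∈ Y) : w⁻¹ * c * w ∈ normalizer (zpowers z : Set G) := by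
  set J := normalizer (linkJoin q x z t' Y : Set G) with hJ
  have hJs : Group.IsSolvable J := h.toZCtx.solvable_linkJoin hY
  have hNJ : normalizer (zpowers z : Set G) ≤ J := h.toZCtx.normalizer_zpowers_le_linkJoin
  have hxN : x ∈ normalizer (zpowers z : Set G) := h.cent (mem_centralizer_singleton_iff.2 rfl)
  have hzN : z ∈ normalizer (zpowers z : Set G) := le_normalizer (mem_zpowers z)
  have hYJ : Y ≤ J := (self_le_linkJoin hY).trans le_normalizer
  -- `v z v⁻¹` must not normalise the class of `Y`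
  have hout : v * z * v⁻¹ ∉ J := by
    intro hvJ
    obtain ⟨E, hE, hEB, hEJ⟩ := hB.toIsMember.exists_piece h.toQCtx hv hvz (hNJ hxN) (hNJ hzN) hvJ
    exact hnl (hB.linked_of_pieces h.toZCtx hY hJs (hNJ hxN) (hNJ hzN) hE hY.toIsMember hEB le_rfl hEJ hYJ)
  have h' := h.conj v
  set x' := v * x * v⁻¹ with hx'
  set z' := v * z * v⁻¹ with hz'
  have hx'N : x' ∈ normalizer (zpowers z' : Set G) := h'.cent (mem_centralizer_singleton_iff.2 rfl)
  have hz'N : z' ∈ normalizer (zpowers z' : Set G) := le_normalizer (mem_zpowers z')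
  obtain ⟨H, hH, hxH, hzH, hgH, -⟩ := h'.toQCtx.exists_solvable (w * v⁻¹)
  have ex : w * v⁻¹ * x' * (w * v⁻¹)⁻¹ = w * x * w⁻¹ := by rw [hx']; group
  have ez : w * v⁻¹ * z' * (w * v⁻¹)⁻¹ = w * z * w⁻¹ := by rw [hz']; group
  have hwx : w * v⁻¹ * x' * (w * v⁻¹)⁻¹ ∈ H := mul_mem (mul_mem hgH hxH) (inv_mem hgH)
  have hwz : w * v⁻¹ * z' * (w * v⁻¹)⁻¹ ∈ H := mul_mem (mul_mem hgH hzH) (inv_mem hgH)
  by_cases hnone : ∀ (r : ℕ) (F : Subgroup G), IsMember q x' z' r F → ¬ F ≤ H
  · have h1 := (h'.conj_mem hH hxH hzH le_rfl (fun r F hF hFH => absurd hFH (hnone r F hF)) hwx hwz).2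
    rw [ez] at h1
    have h2 : w * z * w⁻¹ * z' = z' * (w * z * w⁻¹) := commute_of_pow_prime h.qprime
      (by rw [conj_pow, ← h.order_z, pow_orderOf_eq_one, mul_one, mul_inv_cancel]) h'.order_z h1
    have h3 : w⁻¹ * z' * w ∈ J := hNJ (centralizer_le_normalizer_zpowers z (mem_centralizer_singleton_iff.2 (by
      calc w⁻¹ * z' * w * z = w⁻¹ * (z' * (w * z * w⁻¹)) * w := by group
        _ = w⁻¹ * (w * z * w⁻¹ * z') * w := by rw [h2]
        _ = _ := by group)))
    have h4 := mul_mem (mul_mem (hYJ hw) h3) (inv_mem (hYJ hw))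
    exact absurd (by simpa [mul_assoc] using h4) hout
  push Not at hnone
  obtain ⟨r, F, hF, hFH⟩ := hnone
  obtain ⟨C, hC, hFC⟩ := hF.exists_max
  set K := normalizer (linkJoin q x' z' r C : Set G) with hKdef
  have hKs : Group.IsSolvable K := h'.toZCtx.solvable_linkJoin hC
  have hNK : normalizer (zpowers z' : Set G) ≤ K := h'.toZCtx.normalizer_zpowers_le_linkJoin
  obtain ⟨hwxK, hwzK⟩ := h'.conj_mem hH hxH hzH hNK
    (h'.toZCtx.members_le_linkJoin hC hH hxH hzH hF hFC hFH) hwx hwz
  rw [ex] at hwxK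
  rw [ez] at hwzK
  set L := K.map (MulAut.conj w⁻¹).toMonoidHom with hL
  haveI := hKs
  have hLs : Group.IsSolvable L := Group.isSolvable_of_surjective
    (f := (K.equivMapOfInjective (MulAut.conj w⁻¹).toMonoidHom (MulAut.conj w⁻¹).injective).toMonoidHom)
    (K.equivMapOfInjective (MulAut.conj w⁻¹).toMonoidHom (MulAut.conj w⁻¹).injective).surjective
  have hmapL : ∀ k ∈ K, w⁻¹ * k * w ∈ L := fun k hk => ⟨k, hk, by simp⟩
  have hxL : x ∈ L := by simpa [mul_assoc] using hmapL _ hwxK
  have hzL : z ∈ L := by simpa [mul_assoc] using hmapL _ hwzK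
  have hcL : w⁻¹ * c * w ∈ L := hmapL _ (hNK hcv)
  by_contra hnot
  set y := w⁻¹ * c * w * c⁻¹ with hy
  have hyY : y ∈ Y := by
    rw [hy, show w⁻¹ * c * w * c⁻¹ = w⁻¹ * (c * w * c⁻¹) by group]
    exact mul_mem (inv_mem hw) ((mem_normalizer_iff.1 (hY.normalizer_zpowers_le h.toZCtx hc) w).1 hw)
  have hyz : y * z ≠ z * y := fun e => hnot (by
    have := mul_mem (centralizer_le_normalizer_zpowers z (mem_centralizer_singleton_iff.2 e)) hc
    simpa [hy, mul_assoc] using this)
  have hyzL : y * z * y⁻¹ ∈ L := by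
    have hzc : z ∈ (zpowers z).map (MulAut.conj c).toMonoidHom := by
      exact (mem_normalizer_iff_map_conj_eq.1 hc).ge (mem_zpowers z)
    obtain ⟨_, ⟨k, rfl⟩, hk⟩ := hzc
    have hk' : c * z ^ k * c⁻¹ = z := hk
    have h1 := mul_mem (mul_mem hcL (zpow_mem hzL k)) (inv_mem hcL)
    rwa [show w⁻¹ * c * w * z ^ k * (w⁻¹ * c * w)⁻¹ = y * (c * z ^ k * c⁻¹) * y⁻¹ by rw [hy]; group, hk'] at h1
  obtain ⟨E, hE, hEY, hEL⟩ := hY.toIsMember.exists_piece h.toQCtx hyY hyz hxL hzL hyzL
  have hgx : w⁻¹ * v * x * (w⁻¹ * v)⁻¹ ∈ L := by simpa [hx', mul_assoc] using hmapL _ (hNK hx'N)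
  have hgz : w⁻¹ * v * z * (w⁻¹ * v)⁻¹ ∈ L := by simpa [hz', mul_assoc] using hmapL _ (hNK hz'N)
  have h1 := (h.conj_mem hLs hxL hzL hNJ (h.toZCtx.members_le_linkJoin hY hLs hxL hzL hE hEY hEL) hgx hgz).2
  have h4 := mul_mem (mul_mem (hYJ hw) h1) (inv_mem (hYJ hw))
  exact hout (by simpa [hz', mul_assoc] using h4)

/-- Such an element centralises the unlinked member. -/
theorem SCtx.centralizes (h : SCtx p q x z) {t' : ℕ} (hB : IsMaxMember q x z s B)
    (hY : IsMaxMember q x z t' Y) (hnl : ¬ Linked s t' B Y) {v : G} (hv : v ∈ B) (hvz : v * z ≠ z * v)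
    {c : G} (hc : c ∈ normalizer (zpowers z : Set G)) (hcv : c ∈ normalizer (zpowers (v * z * v⁻¹) : Set G)) :
    ∀ w ∈ Y, c * w = w * c := by
  haveI := Fact.mk h.qprime
  have hcop : (Nat.card Y).Coprime (orderOf z) := by
    rw [h.order_z]; exact coprime_of_pgroup hY.sprime h.qprime hY.ne_q hY.pgroup
  have hcY := hY.normalizer_zpowers_le h.toZCtx hc
  let f : G → G := fun w => w⁻¹ * c * w * c⁻¹
  have hf : ∀ w ∈ Y, f w * z = z * f w := by
    intro w hw
    refine commute_of_mem_normalizer hY.moved.z_norm hcop ?_ ?_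
    · show w⁻¹ * c * w * c⁻¹ ∈ Y
      rw [show w⁻¹ * c * w * c⁻¹ = w⁻¹ * (c * w * c⁻¹) by group]
      exact mul_mem (inv_mem hw) ((mem_normalizer_iff.1 hcY w).1 hw)
    · exact mul_mem (h.conj_mem_normalizer hB hY hnl hv hvz hc hcv hw) (inv_mem hc)
  obtain ⟨k, hk⟩ := mem_zpowers_iff.1 ((mem_normalizer_iff.1 hc z).1 (mem_zpowers z))
  -- `c` commutes with `z`
  have hcz : Commute c z := by
    by_contra hne
    set u := z ^ (k - 1) with hu
    have hu1 : u ≠ 1 := fun e => hne (mul_inv_eq_iff_eq_mul.1 (by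
      rw [← hk, show z ^ k = z ^ (k - 1) * z by rw [← zpow_add_one, sub_add_cancel], ← hu, e, one_mul]))
    have huord : orderOf u = q := by
      have hd : orderOf u ∣ q := h.order_z ▸ orderOf_dvd_of_mem_zpowers (zpow_mem (mem_zpowers z) _)
      exact ((Nat.dvd_prime h.qprime).1 hd).resolve_left fun e => hu1 (orderOf_eq_one_iff.1 e)
    have hzu : z ∈ zpowers u := by
      rw [eq_of_le_of_card_ge (zpowers_le.2 (zpow_mem (mem_zpowers z) _) : zpowers u ≤ zpowers z)
        (by rw [Nat.card_zpowers, Nat.card_zpowers, huord, h.order_z])]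
      exact mem_zpowers z
    have hall : ∀ w ∈ Y, w * z = z * w := by
      intro w hw
      set a := z * w * z⁻¹ with ha
      have haY : a ∈ Y := (mem_normalizer_iff.1 hY.moved.z_norm w).1 hw
      have hfw : Commute (f w) z := hf w hw
      have e1 : c * w * c⁻¹ = w * f w := by simp only [f]; group
      have e2 : c * z * c⁻¹ = z * u := by rw [← hk, hu, ← zpow_one_add, add_sub_cancel]
      have e3 : f a = z * ⁅w⁻¹, u⁆ * z⁻¹ * f w := by
        have hfu : Commute (f w) (z * u) := hfw.mul_right (hfw.zpow_right _)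
        calc f a = a⁻¹ * ((c * z * c⁻¹) * (c * w * c⁻¹) * (c * z * c⁻¹)⁻¹) := by simp only [f, ha]; group
          _ = a⁻¹ * ((z * u) * (w * f w) * (z * u)⁻¹) := by rw [e1, e2]
          _ = a⁻¹ * ((z * u) * w * (f w * (z * u)⁻¹)) := by group
          _ = a⁻¹ * ((z * u) * w * ((z * u)⁻¹ * f w)) := by rw [hfu.inv_right.eq]
          _ = z * ⁅w⁻¹, u⁆ * z⁻¹ * f w := by
            rw [commutatorElement_def, ha]
            group
      have h1 : Commute (z * ⁅w⁻¹, u⁆ * z⁻¹) z := by
        have : z * ⁅w⁻¹, u⁆ * z⁻¹ = f a * (f w)⁻¹ := by rw [e3]; group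
        rw [this]
        exact (show Commute (f a) z from hf a haY).mul_left hfw.inv_left
      have h2 : Commute ⁅w⁻¹, u⁆ z := by
        have h3 : Commute (z⁻¹ * (z * ⁅w⁻¹, u⁆ * z⁻¹) * z) z :=
          ((Commute.refl z).inv_left.mul_left h1).mul_left (Commute.refl z)
        simpa [mul_assoc] using h3
      have hcy : ⁅w⁻¹, u⁆ ∈ Y := commutator_zpowers_le hY.moved.z_norm
        (commutator_mem_commutator (inv_mem hw) (zpow_mem (mem_zpowers z) _))
      have h4 : w⁻¹ * u = u * w⁻¹ := commute_of_commutator_commute (h2.zpow_right _).symm (by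
        rw [huord]; exact coprime_orderOf_of_mem (coprime_of_pgroup hY.sprime h.qprime hY.ne_q hY.pgroup) hcy)
      obtain ⟨j, hj⟩ := mem_zpowers_iff.1 hzu
      rw [← hj]
      exact ((show Commute w⁻¹ u from h4).inv_left.zpow_right j).eq |> fun e => by simpa using e
    refine hY.ne_bot ?_
    rw [← hY.moved.eq, commutator_eq_bot_iff_le_centralizer]
    intro w hw
    exact mem_centralizer_iff.2 fun d ⟨i, hi⟩ => hi ▸ ((show Commute z w from (hall w hw).symm).zpow_left i).eq
  have hgen : ⁅Y, zpowers z⁆ ≤ centralizer ({c} : Set G) := by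
    rw [commutator_le]
    rintro w hw _ ⟨i, rfl⟩
    have hzi : z ^ i ∈ normalizer (Y : Set G) := zpow_mem hY.moved.z_norm i
    have hci : Commute c (z ^ i) := hcz.zpow_right i
    have hfi : Commute (f w) (z ^ i) := (show Commute (f w) z from hf w hw).zpow_right i
    set a := z ^ i * w * (z ^ i)⁻¹ with ha
    have e1 : f a = f w := by
      have e0 : c * (z ^ i) * c⁻¹ = z ^ i := by rw [hci.eq, mul_inv_cancel_right]
      calc f a = z ^ i * w⁻¹ * (z ^ i)⁻¹ *
            ((c * z ^ i * c⁻¹) * (c * w * c⁻¹) * (c * z ^ i * c⁻¹)⁻¹) := by simp only [f, ha]; group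
        _ = z ^ i * w⁻¹ * (z ^ i)⁻¹ * (z ^ i * (c * w * c⁻¹) * (z ^ i)⁻¹) := by rw [e0]
        _ = z ^ i * f w * (z ^ i)⁻¹ := by simp only [f]; group
        _ = f w := by rw [← hfi.eq, mul_inv_cancel_right]
    have e2 : f a = w⁻¹ * f (a * w⁻¹) * w * f w := by simp only [f]; group
    rw [e1] at e2
    have e3 : f (a * w⁻¹) = 1 := by
      have h5 : w⁻¹ * f (a * w⁻¹) * w = 1 := mul_eq_right.1 e2.symm
      have h6 : f (a * w⁻¹) = w * (w⁻¹ * f (a * w⁻¹) * w) * w⁻¹ := by group
      rw [h6, h5, mul_one, mul_inv_cancel]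
    have e4 : c * (a * w⁻¹) = a * w⁻¹ * c := by
      have := congrArg (fun g => (a * w⁻¹) * g * c) e3
      simpa [f, mul_assoc] using this
    refine mem_centralizer_singleton_iff.2 ?_
    rw [show ⁅w, z ^ i⁆ = (a * w⁻¹)⁻¹ by simp [ha, commutatorElement_def, mul_assoc]]
    exact ((show Commute c (a * w⁻¹) from e4).inv_right).symm.eq
  intro w hw
  rw [← hY.moved.eq] at hw
  exact (mem_centralizer_singleton_iff.1 (hgen hw)).symm

theorem exists_moved (hB : IsMember q x z s B) : ∃ v ∈ B, v * z ≠ z * v := by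
  by_contra hnot
  push Not at hnot
  refine hB.ne_bot ?_
  rw [← hB.moved.eq, commutator_eq_bot_iff_le_centralizer]
  intro w hw
  exact mem_centralizer_iff.2 fun d ⟨i, hi⟩ => hi ▸ ((show Commute z w from (hnot w hw).symm).zpow_left i).eq

theorem SCtx.exists_unlinked (h : SCtx p q x z) (hB : IsMaxMember q x z s B) :
    ∃ (t' : ℕ) (Y : Subgroup G), IsMaxMember q x z t' Y ∧ ¬ Linked s t' B Y := by
  by_contra hnot
  push Not at hnot
  exact h.several fun a b A C hA hC => hA.linked_trans h.toZCtx hB hC (hnot a A hA).symm (hnot b C hC)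

/-- `N(⟨z⟩)` is semiregular on the moved elements. -/
theorem SCtx.semiregular (h : SCtx p q x z) (hB : IsMaxMember q x z s B) {v : G} (hv : v ∈ B)
    (hvz : v * z ≠ z * v) {c : G} (hc : c ∈ normalizer (zpowers z : Set G))
    (hcv : c ∈ normalizer (zpowers (v * z * v⁻¹) : Set G)) : c = 1 := by
  set N := normalizer (zpowers z : Set G) with hN
  set U : Subgroup G := ⨆ (r : ℕ) (W : Subgroup G) (_ : IsMaxMember q x z r W), W with hU
  have hWU : ∀ (r : ℕ) (W : Subgroup G), IsMaxMember q x z r W → W ≤ U := fun r W hW =>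
    le_iSup_of_le r (le_iSup_of_le W (le_iSup_of_le hW le_rfl))
  obtain ⟨t', Y, hY, hnl⟩ := h.exists_unlinked hB
  have hYc := h.centralizes hB hY hnl hv hvz hc hcv
  obtain ⟨v', hv', hv'z⟩ := exists_moved hY.toIsMember
  have hcv' : c ∈ normalizer (zpowers (v' * z * v'⁻¹) : Set G) := by
    refine mem_normalizer_iff_map_conj_eq.2 ?_
    rw [show zpowers (v' * z * v'⁻¹) = (zpowers z).map (MulAut.conj v').toMonoidHom by
      rw [MonoidHom.map_zpowers]; rfl, map_map]
    conv_rhs => rw [← mem_normalizer_iff_map_conj_eq.1 hc, map_map]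
    congr 1
    refine MonoidHom.ext fun a => ?_
    show c * (v' * a * v'⁻¹) * c⁻¹ = v' * (c * a * c⁻¹) * v'⁻¹
    calc c * (v' * a * v'⁻¹) * c⁻¹ = (c * v') * a * (c * v')⁻¹ := by group
      _ = (v' * c) * a * (v' * c)⁻¹ := by rw [hYc v' hv']
      _ = _ := by group
  have hcU : c ∈ centralizer (U : Set G) := by
    have hle : U ≤ centralizer ({c} : Set G) := iSup_le fun r => iSup_le fun W => iSup_le fun hW => by
      intro w hw
      refine mem_centralizer_singleton_iff.2 (Eq.symm ?_)
      by_cases hl : Linked s r B W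
      · exact h.centralizes hY hW (fun hl' => hnl (hB.linked_trans h.toZCtx hW hY hl hl'.symm)) hv' hv'z hc hcv'
          w hw
      · exact h.centralizes hB hW hl hv hvz hc hcv w hw
    exact mem_centralizer_iff.2 fun w hw => mem_centralizer_singleton_iff.1 (hle hw)
  by_contra hc1
  set K := N ⊓ centralizer (U : Set G) with hK
  have hK1 : K ≠ ⊥ := fun e => hc1 (mem_bot.1 (e ▸ (⟨hc, hcU⟩ : c ∈ K)))
  have hKtop : K ≠ ⊤ := by
    intro e
    exact hvz (mem_centralizer_iff.1 ((e ▸ mem_top z : z ∈ K)).2 v (hWU s B hB hv))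
  have hNU : N ≤ normalizer (U : Set G) := fun d hd => by
    refine mem_normalizer_iff_map_conj_eq.2 (eq_of_le_of_card_ge ?_ (by rw [card_map_of_injective
      (MulAut.conj d).injective]))
    rw [map_le_iff_le_comap]
    exact iSup_le fun r => iSup_le fun W => iSup_le fun hW => map_le_iff_le_comap.1
      ((mem_normalizer_iff_map_conj_eq.1 (hW.normalizer_zpowers_le h.toZCtx hd)).le.trans (hWU r W hW))
  have hNK : N ≤ normalizer (K : Set G) := fun d hd => mem_normalizer_iff.2 fun y => by
    rw [hK, mem_inf, mem_inf, mem_normalizer_iff.1 (le_normalizer hd) y,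
      mem_normalizer_iff.1 (AbelianCent.le_normalizer_centralizer' hNU hd) y]
  obtain ⟨-, hLs⟩ := h.toMinCE.solvable_normalizer_of_ne hK1 hKtop
  refine h.several (h.toZCtx.oneCluster_of_pieces hLs (hNK (h.cent (mem_centralizer_singleton_iff.2 rfl)))
    (hNK (le_normalizer (mem_zpowers z))) fun r W hW => ⟨W, hW.toIsMember, le_rfl,
      le_trans (fun w hw => mem_centralizer_iff.2 fun d hd => ?_) (centralizer_le_normalizer _)⟩)
  exact (mem_centralizer_iff.1 hd.2 w (hWU r W hW hw)).symm

/-- `N(⟨z⟩)` acts without fixed points on every maximal member. -/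
theorem SCtx.isFpf (h : SCtx p q x z) (hB : IsMaxMember q x z s B) :
    IsFpf (normalizer (zpowers z : Set G)) B := by
  haveI := Fact.mk hB.sprime
  have key : ∀ c ∈ normalizer (zpowers z : Set G), ∀ v ∈ B, v * z ≠ z * v → c * v = v * c → c = 1 := by
    intro c hc v hv hvz hcv
    refine h.semiregular hB hv hvz hc (mem_normalizer_iff_map_conj_eq.2 ?_)
    rw [show zpowers (v * z * v⁻¹) = (zpowers z).map (MulAut.conj v).toMonoidHom by
      rw [MonoidHom.map_zpowers]; rfl, map_map]
    conv_rhs => rw [← mem_normalizer_iff_map_conj_eq.1 hc, map_map]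
    congr 1
    refine MonoidHom.ext fun a => ?_
    show c * (v * a * v⁻¹) * c⁻¹ = v * (c * a * c⁻¹) * v⁻¹
    calc c * (v * a * v⁻¹) * c⁻¹ = (c * v) * a * (c * v)⁻¹ := by group
      _ = (v * c) * a * (v * c)⁻¹ := by rw [hcv]
      _ = _ := by group
  have hCB : ∀ a ∈ B, a * z = z * a → a = 1 := by
    intro a ha haz
    have haN : a ∈ normalizer (zpowers z : Set G) :=
      centralizer_le_normalizer_zpowers z (mem_centralizer_singleton_iff.2 haz)
    haveI : Nontrivial B := by rw [nontrivial_iff_ne_bot]; exact hB.ne_bot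
    haveI := hB.pgroup.center_nontrivial
    obtain ⟨u, hu⟩ := exists_ne (1 : center B)
    have huB : ((u : B) : G) ∈ B := (u : B).2
    have hcomm : ∀ b ∈ B, ((u : B) : G) * b = b * ((u : B) : G) := fun b hb =>
      (congrArg Subtype.val (mem_center_iff.1 u.2 ⟨b, hb⟩)).symm
    have hu1 : ((u : B) : G) ≠ 1 := fun e => hu (Subtype.ext (Subtype.ext e))
    have huz : ((u : B) : G) * z ≠ z * ((u : B) : G) := by
      intro e
      obtain ⟨v, hv, hvz⟩ := exists_moved hB.toIsMember
      exact hu1 (key _ (centralizer_le_normalizer_zpowers z (mem_centralizer_singleton_iff.2 e)) v hv hvz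
        (hcomm v hv))
    exact key a haN _ huB huz (hcomm a ha).symm
  intro c hc hc1 v hv hcv
  by_contra hv1
  exact hc1 (key c hc v hv (fun e => hv1 (hCB v hv e)) hcv)

/-- In an `r`-subgroup of a fixed-point-free group there is one subgroup of order `r`. -/
theorem IsFpf.mem_zpowers_of_pgroup {N : Subgroup G} (hf : IsFpf N B) [Fact s.Prime] (hB : IsPGroup s B)
    (hne : B ≠ ⊥) (hNB : N ≤ normalizer (B : Set G)) [Fact r.Prime] {P : Subgroup G} (hP : IsPGroup r P)
    (hPN : P ≤ N) {a b : G} (ha : a ∈ P) (hb : b ∈ P) (hao : orderOf a = r) (hbo : orderOf b = r) :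
    b ∈ zpowers a := by
  haveI : Nontrivial P := by
    rw [nontrivial_iff_ne_bot]
    intro e
    rw [e, mem_bot] at ha
    rw [ha, orderOf_one] at hao
    exact (Fact.out : r.Prime).ne_one hao.symm
  haveI := hP.center_nontrivial
  obtain ⟨d, hd⟩ := exists_prime_orderOf_dvd_card' (G := center P) r (by
    obtain ⟨n, hn⟩ := IsPGroup.iff_card.1 (hP.to_subgroup (center P))
    rw [hn]
    refine dvd_pow_self r fun h0 => ?_
    have := Finite.one_lt_card (α := center P)
    rw [hn, h0, pow_zero] at this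
    exact lt_irrefl 1 this)
  set e := ((d : P) : G) with he
  have heo : orderOf e = r := by rw [he, orderOf_submonoid, orderOf_submonoid, hd]
  have hec : ∀ y ∈ P, e * y = y * e := fun y hy =>
    (congrArg Subtype.val (mem_center_iff.1 d.2 ⟨y, hy⟩)).symm
  have key : ∀ y ∈ P, orderOf y = r → zpowers y = zpowers e := fun y hy hyo => by
    have h1 := hf.mem_zpowers_of_commute hB hne hNB (Fact.out : r.Prime) (hPN (d : P).2) (hPN hy) heo
      (hyo ▸ pow_orderOf_eq_one y) (hec y hy)
    exact eq_of_le_of_card_ge (zpowers_le.2 h1) (by rw [Nat.card_zpowers, Nat.card_zpowers, hyo, heo])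
  rw [key a ha hao, ← key b hb hbo]
  exact mem_zpowers b

/-- `N(⟨y⟩) ≤ N(⟨z⟩)` for `y` of prime order commuting with `x` and `z`. -/
theorem SCtx.normalizer_le (h : SCtx p q x z) {y : G} (hyo : (orderOf y).Prime) (hyx : y * x = x * y)
    (hyz : y * z = z * y) : normalizer (zpowers y : Set G) ≤ normalizer (zpowers z : Set G) := by
  set N := normalizer (zpowers z : Set G) with hN
  set L := normalizer (zpowers y : Set G) with hL
  have hy1 : y ≠ 1 := fun e => hyo.ne_one (by rw [e, orderOf_one])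
  haveI := h.simple
  have hLs : Group.IsSolvable L := by
    refine (h.toMinCE.solvable_normalizer_of_ne (fun e => hy1 (zpowers_eq_bot.1 e)) fun e => ?_).2
    refine h.not_solvable (Group.isSolvable_of_comm fun a b => ?_)
    obtain ⟨i, rfl⟩ := mem_zpowers_iff.1 (e ▸ mem_top a : a ∈ zpowers y)
    obtain ⟨j, rfl⟩ := mem_zpowers_iff.1 (e ▸ mem_top b : b ∈ zpowers y)
    rw [← zpow_add, ← zpow_add, add_comm]
  have hxL : x ∈ L := centralizer_le_normalizer_zpowers y (mem_centralizer_singleton_iff.2 hyx.symm)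
  have hzL : z ∈ L := centralizer_le_normalizer_zpowers y (mem_centralizer_singleton_iff.2 hyz.symm)
  have hyN : y ∈ N := centralizer_le_normalizer_zpowers z (mem_centralizer_singleton_iff.2 hyz)
  have hnone : ∀ (r : ℕ) (F : Subgroup G), IsMember q x z r F → ¬ F ≤ L := by
    intro r F hF hFL
    haveI := Fact.mk hF.sprime
    obtain ⟨hle, hM⟩ := hF.le_core h.toZCtx hLs hxL hzL hFL
    set M := ⁅Cfsg.pCoreOf r (ppOf p L), zpowers z⁆ with hMdef
    obtain ⟨C, hC, hMC⟩ := hM.exists_max
    have hf := h.isFpf hC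
    have hn : L ≤ normalizer (Cfsg.pCoreOf r (ppOf p L) : Set G) :=
      FixedDim.le_normalizer_map_char (le_normalizer_ppOf p L) _
    have hML : M ≤ L := (commutator_zpowers_le (hn hzL)).trans ((PCore.pCoreOf_le _).trans (ppOf_le p L))
    have hyM : y ∈ normalizer (M : Set G) := mem_normalizer_commutator (hn (le_normalizer (mem_zpowers y))) hyz
    obtain ⟨v, hv, hv1⟩ : ∃ v ∈ M, v ≠ 1 := by
      obtain ⟨⟨v, hv⟩, hv1⟩ := Subgroup.ne_bot_iff_exists_ne_one.1 hM.ne_bot
      exact ⟨v, hv, fun e => hv1 (Subtype.ext e)⟩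
    refine hv1 (hf y hyN hy1 v (hMC hv) (commute_of_mem_normalizer hyM ?_ hv (hML hv)).symm)
    obtain ⟨n, hn'⟩ := IsPGroup.iff_card.1 hM.pgroup
    rw [hn']
    refine (Nat.Coprime.coprime_dvd_left ?_ (hf.coprime hC.pgroup hC.ne_bot
      (hC.normalizer_zpowers_le h.toZCtx))).symm.pow_left n
    exact N.orderOf_dvd_natCard hyN
  intro g hg
  have h1 := (h.conj_mem hLs hxL hzL le_rfl (fun r F hF hFL => absurd hFL (hnone r F hF))
    (g := g) (mul_mem (mul_mem hg hxL) (inv_mem hg)) (mul_mem (mul_mem hg hzL) (inv_mem hg))).2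
  have hpow : (g * z * g⁻¹) ^ q = 1 := by
    rw [conj_pow, ← h.order_z, pow_orderOf_eq_one, mul_one, mul_inv_cancel]
  have h2 := commute_of_pow_prime h.qprime hpow h.order_z h1
  obtain ⟨r, F₀, hF₀⟩ := h.toZCtx.exists_member
  obtain ⟨C, hC, -⟩ := hF₀.exists_max
  haveI := Fact.mk hC.sprime
  have h3 := (h.isFpf hC).mem_zpowers_of_commute hC.pgroup hC.ne_bot (hC.normalizer_zpowers_le h.toZCtx)
    h.qprime (le_normalizer (mem_zpowers z)) h1 h.order_z hpow h2.symm
  refine mem_normalizer_iff_map_conj_eq.2 (eq_of_le_of_card_ge ?_ (by rw [card_map_of_injective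
    (MulAut.conj g).injective]))
  rw [MonoidHom.map_zpowers]
  exact zpowers_le.2 h3

/-- A Sylow subgroup meeting `N` in a `y` whose normaliser is in `N` lies in `N`. -/
theorem SCtx.sylow_le (h : SCtx p q x z) [Fact r.Prime] {y : G} (hyo : orderOf y = r) (hyx : y * x = x * y)
    (hyz : y * z = z * y) (S : Sylow r G) (hyS : y ∈ (S : Subgroup G)) :
    (S : Subgroup G) ≤ normalizer (zpowers z : Set G) := by
  set N := normalizer (zpowers z : Set G) with hN
  have hyN : y ∈ N := centralizer_le_normalizer_zpowers z (mem_centralizer_singleton_iff.2 hyz)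
  obtain ⟨s₀, F₀, hF₀⟩ := h.toZCtx.exists_member
  obtain ⟨C, hC, -⟩ := hF₀.exists_max
  haveI := Fact.mk hC.sprime
  set P := (S : Subgroup G) ⊓ N with hP
  by_contra hlt
  haveI : Group.IsNilpotent (S : Subgroup G) := S.2.isNilpotent
  obtain ⟨u, huN, hu⟩ := SetLike.exists_of_lt (Group.normalizerCondition_of_isNilpotent
    (P.subgroupOf (S : Subgroup G))
    (lt_top_iff_ne_top.2 fun e => hlt fun g hg => ((e ▸ mem_top _ : (⟨g, hg⟩ : (S : Subgroup G)) ∈ P.subgroupOf _)).2))
  have h1 : (u : G) * y * (u : G)⁻¹ ∈ P :=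
    (mem_normalizer_iff.1 huN ⟨y, hyS⟩).1 (⟨hyS, hyN⟩ : y ∈ P)
  have h2 := (h.isFpf hC).mem_zpowers_of_pgroup hC.pgroup hC.ne_bot (hC.normalizer_zpowers_le h.toZCtx)
    (r := r) (S.2.to_le inf_le_left) inf_le_right (⟨hyS, hyN⟩ : y ∈ P) h1 hyo
    (by rw [← MulAut.conj_apply, MulEquiv.orderOf_eq, hyo])
  refine hu ⟨u.2, h.normalizer_le (hyo ▸ Fact.out) hyx hyz (mem_normalizer_iff_map_conj_eq.2
    (eq_of_le_of_card_ge ?_ (by rw [card_map_of_injective (MulAut.conj (u : G)).injective])))⟩
  rw [MonoidHom.map_zpowers]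
  exact zpowers_le.2 h2

theorem SCtx.false (h : SCtx p q x z) : False := by
  haveI := h.simple
  set N := normalizer (zpowers z : Set G) with hN
  obtain ⟨s, F₀, hF₀⟩ := h.toZCtx.exists_member
  obtain ⟨B, hB, -⟩ := hF₀.exists_max
  haveI := Fact.mk hB.sprime
  have hf := h.isFpf hB
  have hNB := hB.normalizer_zpowers_le h.toZCtx
  have hxN : x ∈ N := h.cent (mem_centralizer_singleton_iff.2 rfl)
  have hzN : z ∈ N := le_normalizer (mem_zpowers z)
  have hxz := h.toQCtx.commute
  haveI := Fact.mk h.prime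
  by_cases h2 : 2 ∣ Nat.card N
  · haveI := Fact.mk Nat.prime_two
    obtain ⟨y₀, hy₀⟩ := exists_prime_orderOf_dvd_card' (G := N) 2 h2
    set y := (y₀ : G) with hy
    have hyo : orderOf y = 2 := by rw [hy, orderOf_submonoid, hy₀]
    have hcen : ∀ n ∈ N, y * n = n * y := by
      intro n hn
      have h1 := hf.involution_unique hB.ne_bot hNB y₀.2
        (mul_mem (mul_mem hn y₀.2) (inv_mem hn)) hyo (by rw [← MulAut.conj_apply, MulEquiv.orderOf_eq]; exact hyo)
      exact eq_mul_inv_iff_mul_eq.1 h1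
    obtain ⟨S, hS⟩ := (IsPGroup.of_card (n := 1) (by rw [Nat.card_zpowers, hyo, pow_one]) :
      IsPGroup 2 (zpowers y)).exists_le_sylow
    have hSN := h.sylow_le hyo (hcen x hxN) (hcen z hzN) S (hS (mem_zpowers y))
    have huniq : ∀ w ∈ (S : Subgroup G), w ^ 2 = 1 → w = 1 ∨ w = y := by
      intro w hw hw2
      refine (em (w = 1)).imp id fun hw1 => ?_
      exact hf.involution_unique hB.ne_bot hNB (hSN hw) y₀.2 (orderOf_eq_prime hw2 hw1) hyo
    have heven : Even (Nat.card G) := even_iff_two_dvd.2 (hyo ▸ orderOf_dvd_natCard y)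
    obtain ⟨i, hio, M, hMn, hModd, hMc⟩ := ZStar.exists_central_involution_mod_oddCore ZStar.zStarThm heven
      (ZStar.no_kleinFour_of_unique huniq)
    have hM : M = ⊥ := hMn.eq_bot_or_eq_top.resolve_right fun e => by
      rw [e, card_top] at hModd
      exact Nat.not_odd_iff_even.2 heven hModd
    have hicen : i ∈ center G := mem_center_iff.2 fun g => by
      have h1 := hMc g
      rw [hM, mem_bot, mul_inv_eq_one, mul_inv_eq_iff_eq_mul] at h1
      exact h1.symm
    rcases (inferInstance : (center G).Normal).eq_bot_or_eq_top with hb | he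
    · rw [hb, mem_bot] at hicen
      rw [hicen, orderOf_one] at hio
      omega
    · exact h.not_solvable (Group.isSolvable_of_comm fun a b => mem_center_iff.1 (he ▸ mem_top b) a)
  -- odd order
  have hN1 : Nat.card N ≠ 1 := fun e => h.toQCtx.z_ne_one
    (mem_bot.1 ((Subgroup.card_eq_one.1 e) ▸ hzN))
  set l := (Nat.card N).minFac with hl
  have hlp : l.Prime := Nat.minFac_prime hN1
  haveI := Fact.mk hlp
  have hl2 : l ≠ 2 := fun e => h2 (e ▸ Nat.minFac_dvd _)
  -- `l`-subgroups of `N` are cyclic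
  have hcyc : ∀ P : Subgroup G, IsPGroup l P → P ≤ N → IsCyclic P := by
    intro P hP hPN
    refine (PGroup.cyclic_or_quaternion_of_unique hP fun H K hH hK => ?_).resolve_right fun e => hl2 e.1
    obtain ⟨a, ha⟩ := exists_prime_orderOf_dvd_card' (G := H) l (hH ▸ dvd_rfl)
    obtain ⟨b, hb⟩ := exists_prime_orderOf_dvd_card' (G := K) l (hK ▸ dvd_rfl)
    have hao : orderOf (((a : P) : G)) = l := by rw [orderOf_submonoid, orderOf_submonoid, ha]
    have hbo : orderOf (((b : P) : G)) = l := by rw [orderOf_submonoid, orderOf_submonoid, hb]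
    have h1 := hf.mem_zpowers_of_pgroup hB.pgroup hB.ne_bot hNB hP hPN (a : P).2 (b : P).2 hao hbo
    have hH' : zpowers (a : P) = H := eq_of_le_of_card_ge (zpowers_le.2 a.2)
      (by rw [Nat.card_zpowers, orderOf_submonoid, ha, hH])
    have hK' : zpowers (b : P) = K := eq_of_le_of_card_ge (zpowers_le.2 b.2)
      (by rw [Nat.card_zpowers, orderOf_submonoid, hb, hK])
    rw [← hH', ← hK']
    obtain ⟨i, hi⟩ := mem_zpowers_iff.1 h1
    refine (eq_of_le_of_card_ge (zpowers_le.2 (mem_zpowers_iff.2 ⟨i, Subtype.ext (by simpa using hi)⟩))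
      (by rw [Nat.card_zpowers, Nat.card_zpowers, orderOf_submonoid, orderOf_submonoid, ha, hb])).symm
  -- an element of order `l` centralising `x` and `z`
  obtain ⟨y, hyo, hyx, hyz⟩ : ∃ y : G, orderOf y = l ∧ y * x = x * y ∧ y * z = z * y := by
    by_cases hlx : l = p
    · exact ⟨x, hlx ▸ h.order_x, rfl, hxz⟩
    by_cases hlz : l = q
    · exact ⟨z, hlz ▸ h.order_z, hxz.symm, rfl⟩
    obtain ⟨P₀⟩ : Nonempty (Sylow l N) := inferInstance
    have hP₀ : IsCyclic (P₀ : Subgroup N) := by
      haveI := hcyc ((P₀ : Subgroup N).map N.subtype) (P₀.2.map _) (map_subtype_le _)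
      exact isCyclic_of_surjective ((P₀ : Subgroup N).equivMapOfInjective N.subtype N.subtype_injective).symm
        ((P₀ : Subgroup N).equivMapOfInjective N.subtype N.subtype_injective).symm.surjective
    have hcompl := IsCyclic.isComplement' (p := l) rfl hP₀
    set M := (MonoidHom.transferSylow P₀ (hP₀.normalizer_le_centralizer rfl)).ker with hM
    haveI : M.Normal := MonoidHom.normal_ker _
    have hMl : ¬ l ∣ Nat.card M := fun hd => by
      have h1 := hcompl.card_mul_card
      refine P₀.not_dvd_index ?_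
      have h2 := (P₀ : Subgroup N).card_mul_index
      rw [← h1, mul_comm] at h2
      exact (Nat.eq_of_mul_eq_mul_right Nat.card_pos h2) ▸ hd
    have hidx : ∀ a : N, orderOf (a : G) = p → a ∈ M := by
      intro a ha
      have hd : orderOf (QuotientGroup.mk' M a) ∣ p := by
        rw [← ha, orderOf_submonoid]; exact orderOf_map_dvd _ _
      have hd2 : orderOf (QuotientGroup.mk' M a) ∣ Nat.card (P₀ : Subgroup N) := by
        refine (_root_.orderOf_dvd_natCard _).trans ?_
        rw [← Subgroup.index_eq_card, hcompl.symm.index_eq_card]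
      obtain ⟨n, hn⟩ := IsPGroup.iff_card.1 P₀.2
      rw [hn] at hd2
      have h3 : orderOf (QuotientGroup.mk' M a) = 1 := Nat.eq_one_of_dvd_coprimes
        (((Nat.coprime_primes h.prime hlp).2 (Ne.symm hlx)).pow_right n) hd hd2
      exact (QuotientGroup.eq_one_iff a).1 (orderOf_eq_one_iff.1 h3)
    set x₀ : N := ⟨x, hxN⟩
    set xM : M := ⟨x₀, hidx x₀ h.order_x⟩
    have hxp : IsPGroup p (zpowers xM) := IsPGroup.of_card (n := 1) (by
      rw [Nat.card_zpowers, pow_one, ← orderOf_submonoid xM, ← orderOf_submonoid]; exact h.order_x)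
    obtain ⟨P₁, hP₁⟩ := hxp.exists_le_sylow
    have htop := Sylow.normalizer_sup_eq_top P₁
    set W := normalizer (zpowers x₀ : Set N) with hW
    have hle : normalizer (((P₁ : Subgroup M).map M.subtype : Subgroup N) : Set N) ≤ W := by
      intro n hn
      refine mem_normalizer_iff_map_conj_eq.2 (eq_of_le_of_card_ge ?_ (by rw [card_map_of_injective
        (MulAut.conj n).injective]))
      rw [MonoidHom.map_zpowers, zpowers_le]
      have hmemP : x₀ ∈ (P₁ : Subgroup M).map M.subtype := ⟨xM, hP₁ (mem_zpowers _), rfl⟩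
      have h1 := hf.mem_zpowers_of_pgroup hB.pgroup hB.ne_bot hNB (r := p)
        ((P₁.2.map M.subtype).map N.subtype) (map_subtype_le _) (a := x)
        (b := ((n * x₀ * n⁻¹ : N) : G)) ⟨x₀, hmemP, rfl⟩ ⟨_, (mem_normalizer_iff.1 hn x₀).1 hmemP, rfl⟩ h.order_x
        (by rw [orderOf_submonoid, ← MulAut.conj_apply, MulEquiv.orderOf_eq, ← orderOf_submonoid]; exact h.order_x)
      obtain ⟨i, hi⟩ := mem_zpowers_iff.1 h1
      exact ⟨i, Subtype.ext (by simpa using hi)⟩
    have hWM : W ⊔ M = ⊤ := top_le_iff.1 (htop ▸ sup_le_sup_right hle _)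
    have hlW : l ∣ Nat.card W := by
      refine ((Nat.Prime.dvd_mul hlp).1 ?_).resolve_right hMl
      refine (Nat.minFac_dvd _).trans ?_
      have h1 := PCore.card_sup_dvd M W
      rw [sup_comm, hWM, card_top, mul_comm] at h1
      exact h1
    obtain ⟨y', hy'⟩ := exists_prime_orderOf_dvd_card' (G := W) l hlW
    set y := ((y' : N) : G) with hy
    have hyo : orderOf y = l := by rw [hy, orderOf_submonoid, orderOf_submonoid, hy']
    have hxnorm : y ∈ normalizer (zpowers x : Set G) := by
      have h1 := mem_map_of_mem N.subtype y'.2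
      have h2 : y ∈ normalizer (((zpowers x₀).map N.subtype : Subgroup G) : Set G) := le_normalizer_map N.subtype h1
      rwa [MonoidHom.map_zpowers] at h2
    refine ⟨y, hyo, ?_, ?_⟩
    · exact hf.commute_of_normalize hB.pgroup hB.ne_bot hNB hxN (y' : N).2 h.toXCtx.ne_one
        (by rw [h.order_x]; exact h.prime) (hyo ▸ hlp) hxnorm
    · exact hf.commute_of_normalize hB.pgroup hB.ne_bot hNB hzN (y' : N).2 h.toQCtx.z_ne_one
        (by rw [h.order_z]; exact h.qprime) (hyo ▸ hlp) (y' : N).2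
  obtain ⟨S, hS⟩ := (IsPGroup.of_card (n := 1) (by rw [Nat.card_zpowers, hyo, pow_one]) :
    IsPGroup l (zpowers y)).exists_le_sylow
  have hyS := hS (mem_zpowers y)
  have hSN := h.sylow_le hyo hyx hyz S hyS
  have hScyc := hcyc S S.2 hSN
  have hNS : normalizer ((S : Subgroup G) : Set G) ≤ N := by
    intro g hg
    refine h.normalizer_le (hyo ▸ hlp) hyx hyz (mem_normalizer_iff_map_conj_eq.2 (eq_of_le_of_card_ge ?_
      (by rw [card_map_of_injective (MulAut.conj g).injective])))
    rw [MonoidHom.map_zpowers, zpowers_le]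
    exact hf.mem_zpowers_of_pgroup hB.pgroup hB.ne_bot hNB S.2 hSN hyS ((mem_normalizer_iff.1 hg y).1 hyS) hyo
      (by rw [← hyo]; exact MulEquiv.orderOf_eq (MulAut.conj g) y)
  have hSC : normalizer ((S : Subgroup G) : Set G) ≤ centralizer ((S : Subgroup G) : Set G) := by
    have hS' : IsCyclic (S.subtype hSN : Subgroup N) :=
      isCyclic_of_surjective (subgroupOfEquivOfLe hSN).symm (subgroupOfEquivOfLe hSN).symm.surjective
    have h1 := hS'.normalizer_le_centralizer (p := l) rfl
    intro g hg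
    refine mem_centralizer_iff.2 fun a ha => ?_
    have h2 : (⟨g, hNS hg⟩ : N) ∈ normalizer ((S.subtype hSN : Subgroup N) : Set N) :=
      mem_normalizer_iff.2 fun a => mem_normalizer_iff.1 hg (a : G)
    exact congrArg Subtype.val (mem_centralizer_iff.1 (h1 h2) ⟨a, hSN ha⟩ ha)
  have hcompl := MonoidHom.ker_transferSylow_isComplement' S hSC
  rcases (MonoidHom.normal_ker (MonoidHom.transferSylow S hSC)).eq_bot_or_eq_top with hb | ht
  · rw [hb, isComplement'_bot_left] at hcompl
    haveI : Group.IsNilpotent G := (S.2.of_equiv ((MulEquiv.subgroupCongr hcompl).trans topEquiv)).isNilpotent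
    exact h.not_solvable inferInstance
  · rw [ht, isComplement'_top_left] at hcompl
    rw [hcompl, mem_bot] at hyS
    rw [hyS, orderOf_one] at hyo
    exact hlp.ne_one hyo.symm

theorem ZCtx.several_false (h : ZCtx p q x z)
    (hC : centralizer ({x} : Set G) ≤ normalizer (zpowers z : Set G))
    (hK : q = 2 → ∀ s : ℕ, s.Prime → s ≠ 2 → s ≠ p → Cfsg.pCoreOf s (centralizer ({x} : Set G)) = ⊥)
    (hno : ¬ OneCluster q x z) : False :=
  SCtx.false ⟨h, hC, hK, hno⟩

end Cfsg.Agent.TwoGenSolvable
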