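import Mathlib
import Cfsg.Agent.Lib.TwoGenSolvable.Choice
import Cfsg.Agent.Lib.TwoGenSolvable.Closure
import Cfsg.Agent.Lib.TwoGenSolvable.Slot
import Cfsg.Agent.Lib.TwoGenSolvable.Sections
import Cfsg.Agent.Lib.TwoGenSolvable.BadTwist
import Cfsg.Agent.Lib.TwoGenSolvable.GoodCases
import Cfsg.Agent.Lib.TwoGenSolvable.Finale
import Cfsg.Agent.Lib.TwoGenSolvable.Several

/-!
# Two-generated solvability implies solvability
-/

set_option autoImplicit false
set_option linter.style.haveILetI false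

namespace Cfsg.Agent.TwoGenSolvable

open Subgroup
open scoped commutatorElement

universe u

variable {G : Type u} [Group G] [Finite G] {p q : ℕ} {x z : G}

theorem ZChoice.allGood (h : ZChoice p q x z) : AllGood p q x z := by
  rcases h.kind with ⟨hqp, hK⟩ | ⟨hqp, hq2⟩ | ⟨rfl, hqp, -, hK⟩
  · exact allGood_of_eq h.toQCtx hqp hK
  · exact allGood_of_ne_two h.toQCtx hqp hq2
  · rcases hK with hK | ⟨d, hd, d', hd', hz⟩ | ⟨hab, d, hd, hd2, y, hy, hodd, hyp, hz, hy2⟩
    · exact allGood_of_qgroup h.toQCtx hqp hK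
    · exact allGood_of_commutator h.toQCtx hd hd' hz
    · exact allGood_of_orbit h.toQCtx hab hd hd2 hy hodd hyp hz hy2

theorem XCtx.false (h : XCtx p x) : False := by
  obtain ⟨q, z, hc⟩ := h.exists_choice
  have hz : ZCtx p q x z := ⟨hc.toQCtx, hc.allGood⟩
  haveI := Fact.mk hc.qprime
  set C := centralizer ({x} : Set G) with hC
  have hK : q = 2 → ∀ s : ℕ, s.Prime → s ≠ 2 → s ≠ p → Cfsg.pCoreOf s C = ⊥ := by
    intro hq
    rcases hc.kind with ⟨hqp, -⟩ | ⟨-, hq2⟩ | ⟨-, -, hfull, -⟩
    · have := h.five_le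
      omega
    · exact absurd hq hq2
    · exact hfull
  by_cases hCN : C ≤ normalizer (zpowers z : Set G)
  · exact hz.several_false hCN hK hz.not_oneCluster
  obtain ⟨c, hcC, hcN⟩ := SetLike.not_le_iff_exists.1 hCN
  have hqp : q ≠ p := by
    intro e
    refine hcN ?_
    rw [hc.z_eq_x e, zpowers_eq_closure]
    refine centralizer_le_normalizer _ ?_
    rw [centralizer_closure]
    exact hcC
  set z' := c * z * c⁻¹ with hz'
  have hD : ∀ g ∈ C, ∀ d ∈ Cfsg.pCoreOf q C, g * d * g⁻¹ ∈ Cfsg.pCoreOf q C := fun g hg d hd =>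
    (mem_normalizer_iff.1 (PCore.le_normalizer_pCoreOf _ hg) d).1 hd
  have hzz : z * z' = z' * z := hc.z_central _ (hD c hcC z hc.z_mem)
  have hxc : c * x * c⁻¹ = x := by
    rw [mem_centralizer_singleton_iff.1 hcC, mul_inv_cancel_right]
  have hz'Z : ZCtx p q x z' := by
    have := hz.conj c
    rwa [hxc] at this
  have hQ : ∀ e ∈ closure ({z, z'} : Set G), e ≠ 1 → QCtx p q x e := by
    intro e he he1
    have hall : e ∈ Cfsg.pCoreOf q C ∧ (∀ d ∈ Cfsg.pCoreOf q C, e * d = d * e) ∧ e ^ q = 1 := by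
      clear he1
      induction he using closure_induction with
      | mem y hy =>
        rcases hy with rfl | rfl
        · exact ⟨hc.z_mem, hc.z_central, hc.order_z ▸ pow_orderOf_eq_one y⟩
        · exact ⟨hz'Z.z_mem, hz'Z.z_central, hz'Z.order_z ▸ pow_orderOf_eq_one z'⟩
      | one => simp
      | mul a b _ _ ha hb =>
        refine ⟨mul_mem ha.1 hb.1, fun d hd => ((show Commute a d from ha.2.1 d hd).mul_left (hb.2.1 d hd)).eq, ?_⟩
        rw [(show Commute a b from ha.2.1 b hb.1).mul_pow, ha.2.2, hb.2.2, one_mul]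
      | inv a _ ha =>
        exact ⟨inv_mem ha.1, fun d hd => ((show Commute a d from ha.2.1 d hd).inv_left).eq,
          by rw [inv_pow, ha.2.2, inv_one]⟩
    exact ⟨h, hc.qprime, orderOf_eq_prime hall.2.2 he1, hall.1, hall.2.1, fun e => absurd e hqp⟩
  have hall : ∀ e ∈ closure ({z, z'} : Set G), e ≠ 1 → ZCtx p q x e := by
    intro e he he1
    refine ⟨hQ e he he1, ?_⟩
    by_cases hq2 : q = 2
    · subst hq2
      have hzq : z ^ 2 = 1 := hc.order_z ▸ pow_orderOf_eq_one z
      have hzq' : z' ^ 2 = 1 := hz'Z.order_z ▸ pow_orderOf_eq_one z'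
      have hzi : z⁻¹ = z := inv_eq_of_mul_eq_one_right (by rw [← pow_two]; exact hzq)
      have hzi' : z'⁻¹ = z' := inv_eq_of_mul_eq_one_right (by rw [← pow_two]; exact hzq')
      have hfour : e = 1 ∨ e = z ∨ e = z' ∨ e = z * z' := by
        have hzC : Commute z z' := hzz
        obtain ⟨i, j, rfl⟩ : ∃ i j : ℕ, e = z ^ i * z' ^ j := by
          clear he1
          induction he using closure_induction with
          | mem y hy =>
            rcases hy with rfl | rfl
            · exact ⟨1, 0, by simp⟩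
            · exact ⟨0, 1, by simp⟩
          | one => exact ⟨0, 0, by simp⟩
          | mul a b _ _ ha hb =>
            obtain ⟨i, j, rfl⟩ := ha
            obtain ⟨k, l, rfl⟩ := hb
            refine ⟨i + k, j + l, ?_⟩
            rw [mul_assoc, ← mul_assoc (z' ^ j), ((hzC.pow_pow k j).symm).eq, pow_add, pow_add]
            group
          | inv a _ ha =>
            obtain ⟨i, j, rfl⟩ := ha
            refine ⟨i, j, ?_⟩
            rw [mul_inv_rev, ← inv_pow, ← inv_pow, hzi, hzi', ((hzC.pow_pow i j).symm).eq]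
        rw [pow_eq_pow_mod i hzq, pow_eq_pow_mod j hzq']
        rcases Nat.mod_two_eq_zero_or_one i with hi | hi <;> rcases Nat.mod_two_eq_zero_or_one j with hj | hj <;>
          simp [hi, hj]
      rcases hfour with rfl | rfl | rfl | rfl
      · exact absurd rfl he1
      · exact hz.good
      · exact hz'Z.good
      · intro H hH hx hzzH
        by_contra hbad
        have hQe := hQ _ he he1
        obtain ⟨r, s, S, R, M, L, hb⟩ := exists_badSect hQe hH hx hzzH hbad
        obtain ⟨a, ha, hall'⟩ := hb.exists_twist_bad hQe hqp hH hx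
        have hz'C : Commute x z' := hz'Z.commute
        obtain ⟨H₁, -, hH₁, hxH₁, hzH₁, hg⟩ := h.exists_solvable_of_commute hc.commute
          (by rw [hc.order_z]; exact (Nat.coprime_primes hc.qprime h.prime).2 hqp) (a * z')
        have hAH₁ : closure ({x, a * x * a⁻¹} : Set G) ≤ H₁ := by
          rw [closure_le]
          rintro y (rfl | rfl)
          · exact hxH₁
          · have h1 := mul_mem (mul_mem hg hxH₁) (inv_mem hg)
            rwa [mul_inv_rev, show a * z' * x * (z'⁻¹ * a⁻¹) = a * (z' * x * z'⁻¹) * a⁻¹ by group,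
              hz'C.symm.eq, mul_inv_cancel_right] at h1
        have hz'H₁ : z' ∈ H₁ := by
          have h1 := mul_mem (inv_mem (hAH₁ ha)) hg
          rwa [inv_mul_cancel_left] at h1
        exact hall' H₁ hH₁ hxH₁ (mul_mem hzH₁ hz'H₁) hAH₁
          (hz.mul_good hz'Z hqp hzz he1 hH₁ hxH₁ hzH₁ hz'H₁)
    · exact allGood_of_ne_two (hQ e he he1) hqp hq2
  refine hcN ?_
  have hmem := hz.mem_zpowers_of_commute (hz'Z.order_z ▸ pow_orderOf_eq_one z') hzz hall
  refine mem_normalizer_of_conj_mem fun y hy => ?_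
  obtain ⟨i, rfl⟩ := hy
  rw [← conj_zpow]
  exact zpow_mem hmem i

theorem MinCE.false (h : MinCE G) : False := by
  obtain ⟨p, x, hx⟩ := h.exists_xCtx
  exact hx.false

end Cfsg.Agent.TwoGenSolvable
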